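import Mathlib
import Groth.Prelude.Def_EtBase
import Groth.Prelude.Def_EtCore
import Groth.Prelude.Def_EtLim
import Groth.Agent.Helper6.LimCohA
import Groth.Agent.Helper6.LimCohB
import Groth.Agent.Helper6.LimCohF
import Groth.Agent.Lead.LimFEt

set_option autoImplicit false
set_option linter.style.haveILetI false
set_option linter.unusedSectionVars false
set_option linter.unusedVariables false
set_option linter.unusedSimpArgs false

/-!
# Limit theorem for étale cohomology, part I: the geometric input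
-/

namespace Groth.Agent.Helper6.LimCohI

open CategoryTheory CategoryTheory.Limits AlgebraicGeometry Opposite
open Groth.Agent.Helper6.LimCohA Groth.Agent.Helper6.LimCohB Groth.Agent.Helper6.LimCohF
open Groth.Agent.Lead.LimPullback Groth.Agent.Lead.LimHom

universe u

variable {ι : Type u} [Preorder ι] [IsDirected ι (· ≤ ·)] [Nonempty ι]
  (Xs : ιᵒᵖ ⥤ Scheme.{u})
  (haff : ∀ ⦃a b : ιᵒᵖ⦄ (h : a ⟶ b), IsAffineHom (Xs.map h))
  (c : Cone Xs) (hc : IsLimit c)

include haff hc in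
set_option backward.isDefEq.respectTransparency false in
theorem geo_top {i : ι} (V : (Xs.obj (op i)).Etale) [CompactSpace V.left] (O : Set V.left)
    (hO : IsOpen O) (hx : ∀ x, prj (pm Xs c i) V x ∈ O) :
    ∃ (m : ι) (h : i ≤ m), ∀ x, prj (fm Xs h) V x ∈ O := by
  have hA0 : ∀ {a b : ιᵒᵖ} (f : a ⟶ b), IsAffineHom (Xs.map f) := fun f => haff f
  let T : Scheme.{u} := V.left
  let g : T ⟶ Xs.obj (op i) := V.hom
  have hT : CompactSpace T := ‹CompactSpace V.left›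
  let D' := pbDiag Xs (op i) g
  let c' := pbCone Xs c (op i) g
  have hc' : IsLimit c' := pbConeIsLimit (op i) g hc
  have hA : ∀ {j k : Over (op i)} (f : j ⟶ k), IsAffineHom (D'.map f) :=
    fun f => isAffineHom_pbDiag_map (op i) g f
  have hC : ∀ j : Over (op i), CompactSpace (D'.obj j) :=
    fun j => compactSpace_pbDiag Xs (op i) g j
  let i' : Over (op i) := Over.mk (𝟙 (op i))
  let U' : (D'.obj i').Opens := (pullback.snd (Xs.map (𝟙 (op i))) g) ⁻¹ᵁ ⟨O, hO⟩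
  have hU' : c'.π.app i' ⁻¹ᵁ U' = ⊤ := by
    ext y
    simp only [TopologicalSpace.Opens.coe_top, Set.mem_univ, iff_true]
    show (pullback.snd (Xs.map (𝟙 (op i))) g) (c'.π.app i' y) ∈ O
    have h1 : c'.π.app i' ≫ pullback.snd (Xs.map (𝟙 (op i))) g =
        pullback.snd (c.π.app (op i)) g :=
      (pullback.lift_snd _ _ _).trans (Category.comp_id _)
    have h2 := hx ((pullbackSymmetry (c.π.app (op i)) g).hom y)
    have h3 : prj (pm Xs c i) V ((pullbackSymmetry (c.π.app (op i)) g).hom y) =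
        pullback.snd (c.π.app (op i)) g y := by
      show ((pullbackSymmetry (c.π.app (op i)) g).hom ≫ pullback.fst g (c.π.app (op i))) y = _
      rw [pullbackSymmetry_hom_comp_fst]
    have h4 : (c'.π.app i' ≫ pullback.snd (Xs.map (𝟙 (op i))) g) y ∈ O := by
      rw [h1]
      exact Eq.mp (congrArg (· ∈ O) h3) h2
    exact h4
  obtain ⟨j, fji, hj⟩ := exists_map_eq_top D' c' hc' U' hU'
  obtain ⟨⟨m⟩, ⟨⟨⟩⟩, hm⟩ := j
  have h : i ≤ m := leOfHom hm.unop
  obtain rfl : hm = (homOfLE h).op := Subsingleton.elim _ _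
  refine ⟨m, h, fun x => ?_⟩
  have h4 : (pullbackSymmetry g (fm Xs h)).hom x ∈ (D'.map fji ⁻¹ᵁ U') := by
    rw [hj]; trivial
  have h5 : D'.map fji ≫ pullback.snd (Xs.map (𝟙 (op i))) g =
      pullback.snd (Xs.map (homOfLE h).op) g :=
    (pullback.lift_snd _ _ _).trans (Category.comp_id _)
  have h6 : (D'.map fji ≫ pullback.snd (Xs.map (𝟙 (op i))) g)
      ((pullbackSymmetry g (fm Xs h)).hom x) ∈ O := h4
  rw [h5] at h6
  have h7 : pullback.snd (Xs.map (homOfLE h).op) g ((pullbackSymmetry g (fm Xs h)).hom x) =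
      prj (fm Xs h) V x := by
    show ((pullbackSymmetry g (fm Xs h)).hom ≫ pullback.snd (fm Xs h) g) x = _
    rw [pullbackSymmetry_hom_comp_snd]
    rfl
  exact Eq.mp (congrArg (· ∈ O) h7) h6

include haff hc in
set_option backward.isDefEq.respectTransparency false in
theorem geo_obj₀ (W : c.pt.Etale) [CompactSpace W.left] [QuasiSeparatedSpace W.left] :
    ∃ (m : ι) (W' : (Xs.obj (op m)).Etale), CompactSpace W'.left ∧ QuasiSeparatedSpace W'.left ∧
      Nonempty (W ≅ (EtCoh.bc (pm Xs c m)).obj W') := by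
  have hA0 : ∀ {a b : ιᵒᵖ} (f : a ⟶ b), IsAffineHom (Xs.map f) := fun f => haff f
  obtain ⟨i₀⟩ := ‹Nonempty ι›
  have hW : Etale W.hom := W.prop
  obtain ⟨j, t, M, hM⟩ := Groth.Agent.Lead.LimExist.exists_model_prop_over hc @Etale (op i₀)
    (fun k s X₀ f₀ _ _ _ h => Groth.Agent.Lead.LimSmooth.etale_descends hc k (𝟙 _) f₀ h)
    (X := W.left) (f := W.hom) hW
  obtain ⟨m⟩ := j
  let W' : (Xs.obj (op m)).Etale := MorphismProperty.Over.mk ⊤ M.fi hM
  refine ⟨m, W', M.cpt, M.qsep, ⟨?_⟩⟩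
  exact MorphismProperty.Over.isoMk M.sq.isoPullback (M.sq.isoPullback_hom_snd)

include haff hc in
set_option backward.isDefEq.respectTransparency false in
theorem geo_hom {m l : ι} (W' : (Xs.obj (op m)).Etale) [CompactSpace W'.left]
    [QuasiSeparatedSpace W'.left] (Z : (Xs.obj (op l)).Etale)
    (b : ((EtCoh.bc (pm Xs c m)).obj W').left ⟶ Z.left)
    (hb : b ≫ Z.hom = ((EtCoh.bc (pm Xs c m)).obj W').hom ≫ pm Xs c l) :
    ∃ (m' : ι) (h : m ≤ m') (h' : l ≤ m') (b' : ((EtCoh.bc (fm Xs h)).obj W').left ⟶ Z.left),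
      b' ≫ Z.hom = ((EtCoh.bc (fm Xs h)).obj W').hom ≫ fm Xs h' ∧
        cn (fm Xs h) (pm Xs c m') (pm Xs c m) (pm_comp Xs c h) W' ≫ b' = b := by
  have hA0 : ∀ {a b : ιᵒᵖ} (f : a ⟶ b), IsAffineHom (Xs.map f) := fun f => haff f
  obtain ⟨k, hmk, hlk⟩ := exists_ge_ge m l
  have : IsAffineHom (fm Xs hmk) := haff _
  let Xi : Scheme.{u} := ((EtCoh.bc (fm Xs hmk)).obj W').left
  let xi : Xi ⟶ Xs.obj (op k) := ((EtCoh.bc (fm Xs hmk)).obj W').hom
  have hXi1 : CompactSpace Xi := compactSpace_bc (fm Xs hmk) W'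
  have hXi2 : QuasiSeparatedSpace Xi := quasiSeparatedSpace_bc (fm Xs hmk) W'
  let Z₁ : Scheme.{u} := ((EtCoh.bc (fm Xs hlk)).obj Z).left
  let z : Z₁ ⟶ Xs.obj (op k) := ((EtCoh.bc (fm Xs hlk)).obj Z).hom
  have hz : Etale z := ((EtCoh.bc (fm Xs hlk)).obj Z).prop
  -- the comparison `X ×_{X_k} Xi ⟶ W' ×_{X_m} X`
  let φ : pullback (c.π.app (op k)) xi ⟶ ((EtCoh.bc (pm Xs c m)).obj W').left :=
    pullback.lift (pullback.snd (c.π.app (op k)) xi ≫ prj (fm Xs hmk) W')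
      (pullback.fst (c.π.app (op k)) xi) (by
        rw [Category.assoc, prj_w, ← Category.assoc]
        show (pullback.snd (c.π.app (op k)) xi ≫ xi) ≫ fm Xs hmk = _
        rw [← pullback.condition, Category.assoc]
        exact congrArg (_ ≫ ·) (pm_comp Xs c hmk))
  have hφ1 : φ ≫ prj (pm Xs c m) W' = pullback.snd (c.π.app (op k)) xi ≫ prj (fm Xs hmk) W' :=
    pullback.lift_fst _ _ _
  have hφ2 : φ ≫ ((EtCoh.bc (pm Xs c m)).obj W').hom = pullback.fst (c.π.app (op k)) xi :=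
    pullback.lift_snd _ _ _
  let a : pullback (c.π.app (op k)) xi ⟶ Z₁ :=
    pullback.lift (φ ≫ b) (pullback.snd (c.π.app (op k)) xi ≫ xi) (by
      rw [Category.assoc, hb, ← Category.assoc, hφ2, ← pullback.condition, Category.assoc]
      exact (congrArg (_ ≫ ·) (pm_comp Xs c hlk)).symm)
  have ha1 : a ≫ prj (fm Xs hlk) Z = φ ≫ b := pullback.lift_fst _ _ _
  have ha : a ≫ z = pullback.snd (c.π.app (op k)) xi ≫ xi := pullback.lift_snd _ _ _
  obtain ⟨j, g, h1, h2⟩ := exists_hom_descend Xs c hc (op k) xi z a ha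
  obtain ⟨⟨m'⟩, ⟨⟨⟩⟩, hm⟩ := j
  have hk : k ≤ m' := leOfHom hm.unop
  obtain rfl : hm = (homOfLE hk).op := Subsingleton.elim _ _
  -- `g : X_{m'} ×_{X_k} Xi ⟶ Z₁`
  have h2' : g ≫ z = pullback.snd (fm Xs hk) xi ≫ xi := h2
  let ψ₀ : ((EtCoh.bc (fm Xs (hmk.trans hk))).obj W').left ⟶ Xi :=
    pullback.lift (prj (fm Xs (hmk.trans hk)) W')
      (((EtCoh.bc (fm Xs (hmk.trans hk))).obj W').hom ≫ fm Xs hk) (by
        rw [prj_w, Category.assoc, fm_comp])
  have hψ₀1 : ψ₀ ≫ prj (fm Xs hmk) W' = prj (fm Xs (hmk.trans hk)) W' := pullback.lift_fst _ _ _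
  have hψ₀2 : ψ₀ ≫ xi = ((EtCoh.bc (fm Xs (hmk.trans hk))).obj W').hom ≫ fm Xs hk :=
    pullback.lift_snd _ _ _
  let ψ : ((EtCoh.bc (fm Xs (hmk.trans hk))).obj W').left ⟶ pullback (fm Xs hk) xi :=
    pullback.lift (((EtCoh.bc (fm Xs (hmk.trans hk))).obj W').hom) ψ₀ hψ₀2.symm
  have hψ1 : ψ ≫ pullback.fst (fm Xs hk) xi = ((EtCoh.bc (fm Xs (hmk.trans hk))).obj W').hom :=
    pullback.lift_fst _ _ _
  have hψ2 : ψ ≫ pullback.snd (fm Xs hk) xi = ψ₀ := pullback.lift_snd _ _ _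
  -- the inverse of `φ`
  let φ₀ : ((EtCoh.bc (pm Xs c m)).obj W').left ⟶ Xi :=
    pullback.lift (prj (pm Xs c m) W') (((EtCoh.bc (pm Xs c m)).obj W').hom ≫ pm Xs c k) (by
      rw [prj_w, Category.assoc, pm_comp])
  have hφ₀1 : φ₀ ≫ prj (fm Xs hmk) W' = prj (pm Xs c m) W' := pullback.lift_fst _ _ _
  have hφ₀2 : φ₀ ≫ xi = ((EtCoh.bc (pm Xs c m)).obj W').hom ≫ pm Xs c k := pullback.lift_snd _ _ _
  let φ' : ((EtCoh.bc (pm Xs c m)).obj W').left ⟶ pullback (c.π.app (op k)) xi :=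
    pullback.lift (((EtCoh.bc (pm Xs c m)).obj W').hom) φ₀ hφ₀2.symm
  have hφ'1 : φ' ≫ pullback.fst (c.π.app (op k)) xi = ((EtCoh.bc (pm Xs c m)).obj W').hom :=
    pullback.lift_fst _ _ _
  have hφ'2 : φ' ≫ pullback.snd (c.π.app (op k)) xi = φ₀ := pullback.lift_snd _ _ _
  have hφφ : φ' ≫ φ = 𝟙 _ := by
    apply pullback.hom_ext
    · show (φ' ≫ φ) ≫ prj (pm Xs c m) W' = 𝟙 _ ≫ prj (pm Xs c m) W'
      rw [Category.assoc, hφ1, ← Category.assoc, hφ'2, hφ₀1, Category.id_comp]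
    · show (φ' ≫ φ) ≫ ((EtCoh.bc (pm Xs c m)).obj W').hom = 𝟙 _ ≫ ((EtCoh.bc (pm Xs c m)).obj W').hom
      rw [Category.assoc, hφ2, hφ'1, Category.id_comp]
  let j : Over (op k) := Over.mk (homOfLE hk).op
  have hπ1 : (pbCone Xs c (op k) xi).π.app j ≫ pullback.fst (fm Xs hk) xi =
      pullback.fst (c.π.app (op k)) xi ≫ pm Xs c m' := pullback.lift_fst _ _ _
  have hπ2 : (pbCone Xs c (op k) xi).π.app j ≫ pullback.snd (fm Xs hk) xi =
      pullback.snd (c.π.app (op k)) xi := (pullback.lift_snd _ _ _).trans (Category.comp_id _)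
  have key : cn (fm Xs (hmk.trans hk)) (pm Xs c m') (pm Xs c m) (pm_comp Xs c _) W' ≫ ψ =
      φ' ≫ (pbCone Xs c (op k) xi).π.app j := by
    apply pullback.hom_ext
    · rw [Category.assoc, hψ1, cn_hom, Category.assoc, hπ1, ← Category.assoc, hφ'1]
    · rw [Category.assoc, hψ2, Category.assoc, hπ2, hφ'2]
      apply pullback.hom_ext
      · show (_ ≫ ψ₀) ≫ prj (fm Xs hmk) W' = φ₀ ≫ prj (fm Xs hmk) W'
        rw [Category.assoc, hψ₀1, cn_prj, hφ₀1]
      · show (_ ≫ ψ₀) ≫ xi = φ₀ ≫ xi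
        rw [Category.assoc, hψ₀2, ← Category.assoc, cn_hom, Category.assoc, pm_comp, hφ₀2]
  refine ⟨m', hmk.trans hk, hlk.trans hk, ψ ≫ g ≫ prj (fm Xs hlk) Z, ?_, ?_⟩
  · rw [Category.assoc, Category.assoc, prj_w, ← Category.assoc g]
    show ψ ≫ (g ≫ z) ≫ _ = _
    rw [h2', Category.assoc, ← Category.assoc ψ, hψ2, ← Category.assoc, hψ₀2, Category.assoc,
      fm_comp]
  · have h1' : (pbCone Xs c (op k) xi).π.app j ≫ g = a := h1
    have e1 : (φ' ≫ (pbCone Xs c (op k) xi).π.app j) ≫ g ≫ prj (fm Xs hlk) Z =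
        φ' ≫ ((pbCone Xs c (op k) xi).π.app j ≫ g) ≫ prj (fm Xs hlk) Z := by
      simp only [Category.assoc]
    refine (Category.assoc _ _ _).symm.trans ?_
    refine (congrArg (· ≫ g ≫ prj (fm Xs hlk) Z) key).trans ?_
    refine e1.trans ?_
    refine (congrArg (fun t => φ' ≫ t ≫ prj (fm Xs hlk) Z) h1').trans ?_
    show φ' ≫ a ≫ prj (fm Xs hlk) Z = b
    rw [ha1, ← Category.assoc, hφφ, Category.id_comp]

include haff hc in
/-- the geometric input holds for a limit of a directed system with affine transition maps -/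
theorem geo : Geo Xs c where
  affine i := by
    have hA0 : ∀ {a b : ιᵒᵖ} (f : a ⟶ b), IsAffineHom (Xs.map f) := fun f => haff f
    exact isAffineHom_π_app Xs c hc (op i)
  affine' h := haff _
  top V hV O hO hx := geo_top Xs haff c hc V O hO hx
  hom W' h1 h2 Z b hb := geo_hom Xs haff c hc W' Z b hb
  obj₀ W h1 h2 := geo_obj₀ Xs haff c hc W

end Groth.Agent.Helper6.LimCohI
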