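import Mathlib
import Groth.Prelude.Def_EtBase
import Groth.Prelude.Def_EtCore
import Groth.Prelude.Def_EtLim
import Groth.Prelude.Def_EtCech
import Groth.Agent.Helper6.LimCohA
import Groth.Agent.Helper6.LimCohB
import Groth.Agent.Helper6.LimCohF
import Groth.Agent.Helper6.LimCohG
import Groth.Agent.Helper6.LimCohH
import Groth.Agent.Helper4.CechGenB
import Groth.Agent.Helper4.EtCartan

set_option autoImplicit false
set_option linter.style.haveILetI false
set_option linter.unusedSectionVars false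
set_option linter.unusedVariables false
set_option linter.unusedSimpArgs false

/-!
# Limit theorem for étale cohomology, part J: Čech cohomology of the colimit sheaf at a finite level
-/

namespace Groth.Agent.Helper6.LimCohJ

open CategoryTheory CategoryTheory.Limits AlgebraicGeometry Opposite
open Groth.Agent.Helper6.LimCohA Groth.Agent.Helper6.LimCohB Groth.Agent.Helper6.LimCohF
  Groth.Agent.Helper6.LimCohG Groth.Agent.Helper6.LimCohH
open Groth.Agent.Helper1.Cech Groth.Agent.Helper4.CechGenA Groth.Agent.Helper4.CechGenB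

universe u

variable {ι : Type u} [Preorder ι] {Xs : ιᵒᵖ ⥤ Scheme.{u}} {c : Cone Xs}
  (S : PSys Xs) (C : PCone c S)

/-- the presheaf `W' ↦ F_k(W' ×_{X_l} X_k)` on the small étale site of `X_l` -/
noncomputable abbrev Pk {l k : ι} (h : l ≤ k) : (Xs.obj (op l)).Etaleᵒᵖ ⥤ AddCommGrpCat.{u + 1} :=
  (EtCoh.bc (fm Xs h)).op ⋙ (S.F k).obj

variable {S} in
/-- the presheaf `W' ↦ F_∞(W' ×_{X_l} X)` on the small étale site of `X_l` -/
noncomputable abbrev Pinf (l : ι) : (Xs.obj (op l)).Etaleᵒᵖ ⥤ AddCommGrpCat.{u + 1} :=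
  (EtCoh.bc (pm Xs c l)).op ⋙ C.pt.obj

/-- the comparison maps as a morphism of presheaves -/
noncomputable def ΘN {l k : ι} (h : l ≤ k) : Pk S h ⟶ Pinf C l where
  app W := Θ S C h W.unop
  naturality W₁ W₂ g := Θ_nat S C h g.unop

/-- the transition maps as a morphism of presheaves -/
noncomputable def RN {l k k' : ι} (h : l ≤ k) (h' : k ≤ k') : Pk S h ⟶ Pk S (h.trans h') where
  app W := R S h h' W.unop
  naturality W₁ W₂ g := R_nat S h h' g.unop

lemma RN_ΘN {l k k' : ι} (h : l ≤ k) (h' : k ≤ k') :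
    RN S h h' ≫ ΘN S C (h.trans h') = ΘN S C h := by
  ext W : 2
  exact R_Θ S C h h' W.unop

lemma RN_RN {l k k' k'' : ι} (h : l ≤ k) (h' : k ≤ k') (h'' : k' ≤ k'') :
    RN S h h' ≫ RN S (h.trans h') h'' = RN S h (h'.trans h'') := by
  ext W : 2
  exact R_R S h h' h'' W.unop

lemma R_eq_rapp {m k k' : ι} (h : m ≤ k) (h' : k ≤ k') (W' : (Xs.obj (op m)).Etale) :
    R S h h' W' = rapp (fm Xs h') (S.r h') ((EtCoh.bc (fm Xs h)).obj W') ≫
      (S.F k').obj.map (tr (fm Xs h) (fm Xs h') (fm Xs (h.trans h')) (fm_comp Xs h h') W').op := by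
  unfold R
  rw [← res_prj, res_map]
  apply res_congr
  exact (tr_prj _ _ _ _ W').symm

section

variable [IsDirected ι (· ≤ ·)] [Nonempty ι]

/-- a section at a finite level dying in the limit dies at a later level -/
theorem Θ_inj (G : Geo Xs c) (hC : C.IsColim) {m k : ι} (h : m ≤ k)
    (W' : (Xs.obj (op m)).Etale) [CompactSpace W'.left]
    (s : (S.F k).obj.obj (op ((EtCoh.bc (fm Xs h)).obj W'))) (hs : Θ S C h W' s = 0) :
    ∃ (k' : ι) (h' : k ≤ k'), R S h h' W' s = 0 := by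
  have : IsAffineHom (fm Xs h) := G.affine' h
  have : CompactSpace ((EtCoh.bc (fm Xs h)).obj W').left := compactSpace_bc _ W'
  have h1 := ConcreteCategory.congr_hom (rapp_eq_Θ_kq S C h W') s
  rw [ConcreteCategory.comp_apply, hs, map_zero] at h1
  obtain ⟨k', h', hk'⟩ := inj_of_geo S G C hC ((EtCoh.bc (fm Xs h)).obj W') s h1
  refine ⟨k', h', ?_⟩
  have h2 := ConcreteCategory.congr_hom (R_eq_rapp S h h' W') s
  rw [ConcreteCategory.comp_apply, hk', map_zero] at h2
  exact h2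

variable {l : ι} {V' : (Xs.obj (op l)).Etale} {I : Type (u + 1)} [Finite I] (Y' : I → Over V')
  (hQ : ∀ (n : ℕ) (x : Fin (n + 1) → I),
    CompactSpace (prodU Y' x).left.left ∧ QuasiSeparatedSpace (prodU Y' x).left.left)

lemma mapC_comp {P P' P'' : (Xs.obj (op l)).Etaleᵒᵖ ⥤ AddCommGrpCat.{u + 1}} (φ : P ⟶ P')
    (ψ : P' ⟶ P'') (n : ℕ) (z : (cx Y' (Q P)).X n) :
    (mapC Y' (φ ≫ ψ)).f n z = (mapC Y' ψ).f n ((mapC Y' φ).f n z) := by
  apply Groth.Agent.Helper1.Cech.ext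
  intro x
  rw [comp_mapC, comp_mapC, comp_mapC, NatTrans.comp_app, ConcreteCategory.comp_apply]

include hQ in
theorem cochain_inj (G : Geo Xs c) (hC : C.IsColim) {k : ι} (h : l ≤ k) (n : ℕ)
    (z : (cx Y' (Q (Pk S h))).X n) (hz : (mapC Y' (ΘN S C h)).f n z = 0) :
    ∃ (k' : ι) (h' : k ≤ k'), (mapC Y' (RN S h h')).f n z = 0 := by
  have hx : ∀ x : Fin (n + 1) → I, ∃ (k' : ι) (h' : k ≤ k'),
      R S h h' (prodU Y' x).left (comp Y' (Q (Pk S h)) n x z) = 0 := by
    intro x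
    have := (hQ n x).1
    apply Θ_inj S C G hC h (prodU Y' x).left
    have h1 := comp_mapC Y' (ΘN S C h) n x z
    rw [hz, map_zero] at h1
    exact h1.symm
  choose kx hkx hx' using hx
  obtain ⟨k₀, hk₀⟩ := Finite.exists_le kx
  obtain ⟨k', hkk', hk₀k'⟩ := exists_ge_ge k k₀
  refine ⟨k', hkk', ?_⟩
  apply Groth.Agent.Helper1.Cech.ext
  intro x
  rw [comp_mapC, map_zero]
  have h2 := ConcreteCategory.congr_hom (R_R S h (hkx x) ((hk₀ x).trans hk₀k') (prodU Y' x).left)
    (comp Y' (Q (Pk S h)) n x z)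
  rw [ConcreteCategory.comp_apply, hx' x, map_zero] at h2
  exact h2.symm

include hQ in
theorem cochain_surj (G : Geo Xs c) (hC : C.IsColim) (n : ℕ) (z : (cx Y' (Q (Pinf C l))).X n) :
    ∃ (k : ι) (h : l ≤ k) (z' : (cx Y' (Q (Pk S h))).X n), (mapC Y' (ΘN S C h)).f n z' = z := by
  have hx : ∀ x : Fin (n + 1) → I, comp Y' (Q (Pinf C l)) n x z ∈ Im S C l (prodU Y' x).left := by
    intro x
    have := (hQ n x).1
    have := (hQ n x).2
    exact surj_of_geo S C G hC (prodU Y' x).left _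
  choose kx hkx sx hsx using hx
  obtain ⟨k₀, hk₀⟩ := Finite.exists_le kx
  obtain ⟨k, hlk, hk₀k⟩ := exists_ge_ge l k₀
  have hk : ∀ x, kx x ≤ k := fun x => (hk₀ x).trans hk₀k
  refine ⟨k, hlk, mk (fun x => R S (hkx x) (hk x) (prodU Y' x).left (sx x)), ?_⟩
  apply Groth.Agent.Helper1.Cech.ext
  intro x
  rw [comp_mapC, comp_mk]
  have h2 := ConcreteCategory.congr_hom (R_Θ S C (hkx x) (hk x) (prodU Y' x).left) (sx x)
  rw [ConcreteCategory.comp_apply] at h2
  exact h2.trans (hsx x)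

include hQ in
/-- Čech-acyclicity of the colimit sheaf at a finite level -/
theorem isZero_cechH (G : Geo Xs c) (hC : C.IsColim) (p : ℕ)
    (hD : ∀ (k : ι) (h : l ≤ k), IsZero (EtCech.cechH Y' (Pk S h) (p + 1))) :
    IsZero (EtCech.cechH Y' (Pinf C l) (p + 1)) := by
  apply isZero_homology_of_exists
  intro z hz
  obtain ⟨k, h, z', rfl⟩ := cochain_surj S C Y' hQ G hC (p + 1) z
  rw [← mapC_d] at hz
  obtain ⟨k', h', ha⟩ := cochain_inj S C Y' hQ G hC h (p + 2) _ hz
  rw [mapC_d] at ha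
  obtain ⟨b, hb⟩ := exists_of_isZero_homology _ p (hD k' (h.trans h')) _ ha
  refine ⟨(mapC Y' (ΘN S C (h.trans h'))).f p b, ?_⟩
  rw [← mapC_d, hb, ← mapC_comp, RN_ΘN]

end

end Groth.Agent.Helper6.LimCohJ
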