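import Mathlib
import Groth.Prelude.Def_EtBase
import Groth.Prelude.Def_EtCore
import Groth.Prelude.Def_EtLim
import Groth.Prelude.Def_EtCech
import Groth.Agent.Helper6.LimCohA
import Groth.Agent.Helper6.LimCohB
import Groth.Agent.Helper6.LimCohF
import Groth.Agent.Helper6.LimCohG
import Groth.Agent.Helper6.LimCohH
import Groth.Agent.Helper6.LimCohJ
import Groth.Agent.Helper6.CechIsoGen
import Groth.Agent.Helper4.EtCartan

set_option autoImplicit false
set_option linter.style.haveILetI false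
set_option linter.unusedSectionVars false
set_option linter.unusedVariables false
set_option linter.unusedSimpArgs false

/-!
# Limit theorem for étale cohomology, part K: Čech-acyclicity of the colimit sheaf
-/

namespace Groth.Agent.Helper6.LimCohK

open CategoryTheory CategoryTheory.Limits AlgebraicGeometry Opposite
open Groth.Agent.Helper6.LimCohA Groth.Agent.Helper6.LimCohB Groth.Agent.Helper6.LimCohF
  Groth.Agent.Helper6.LimCohG Groth.Agent.Helper6.LimCohH Groth.Agent.Helper6.LimCohJ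
open Groth.Agent.Helper1.Cech Groth.Agent.Helper4.CechGenA Groth.Agent.Helper4.CechGenB

universe u

variable {ι : Type u} [Preorder ι] [IsDirected ι (· ≤ ·)] [Nonempty ι]
  {Xs : ιᵒᵖ ⥤ Scheme.{u}} {c : Cone Xs}

/-- the isomorphism `V ×_Y Z ≅ (V ×_Y X) ×_X Z` -/
noncomputable def trIso {X₁ X₂ Y : Scheme.{u}} (f : X₁ ⟶ Y) (g : X₂ ⟶ X₁) (h : X₂ ⟶ Y)
    (w : g ≫ f = h) (V : Y.Etale) :
    (EtCoh.bc h).obj V ≅ (EtCoh.bc g).obj ((EtCoh.bc f).obj V) :=
  ⟨tr f g h w V, kq f g h w V, tr_kq f g h w V, kq_tr f g h w V⟩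

/-- descent of a finite family of quasi-compact quasi-separated objects to a finite level -/
theorem descend_family (G : Geo Xs c) (V : c.pt.Etale) [CompactSpace V.left]
    [QuasiSeparatedSpace V.left] {I : Type (u + 1)} [Finite I] (Y : I → Over V)
    (hY : ∀ a, CompactSpace (Y a).left.left ∧ QuasiSeparatedSpace (Y a).left.left) :
    ∃ (l : ι) (V' : (Xs.obj (op l)).Etale) (Y' : I → Over V')
      (e : V ≅ (EtCoh.bc (pm Xs c l)).obj V')
      (ε : ∀ a, (Y a).left ≅ (EtCoh.bc (pm Xs c l)).obj (Y' a).left),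
      (CompactSpace V'.left ∧ QuasiSeparatedSpace V'.left) ∧
      (∀ a, CompactSpace (Y' a).left.left ∧ QuasiSeparatedSpace (Y' a).left.left) ∧
      ∀ a, (ε a).hom ≫ (EtCoh.bc (pm Xs c l)).map (Y' a).hom = (Y a).hom ≫ e.hom := by
  classical
  obtain ⟨m₀, V₀, hV1, hV2, ⟨e₀⟩⟩ := G.obj₀ V inferInstance inferInstance
  have hobj : ∀ a : I, ∃ (m : ι) (h : m₀ ≤ m) (W' : (Xs.obj (op m)).Etale)
      (g : W' ⟶ (EtCoh.bc (fm Xs h)).obj V₀)
      (e : (Y a).left ≅ (EtCoh.bc (pm Xs c m)).obj W'), CompactSpace W'.left ∧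
        QuasiSeparatedSpace W'.left ∧
        e.hom ≫ (EtCoh.bc (pm Xs c m)).map g ≫
          kq (fm Xs h) (pm Xs c m) (pm Xs c m₀) (pm_comp Xs c h) V₀ = (Y a).hom ≫ e₀.hom := by
    intro a
    have := (hY a).1
    have := (hY a).2
    exact G.obj V₀ (Y a).left ((Y a).hom ≫ e₀.hom)
  choose ma hma W' g ea hW1 hW2 hea using hobj
  obtain ⟨l₀, hl₀⟩ := Finite.exists_le ma
  obtain ⟨l, hm₀l, hl₀l⟩ := exists_ge_ge m₀ l₀
  have hl : ∀ a, ma a ≤ l := fun a => (hl₀ a).trans hl₀l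
  have : IsAffineHom (fm Xs hm₀l) := G.affine' _
  refine ⟨l, (EtCoh.bc (fm Xs hm₀l)).obj V₀,
    fun a => Over.mk ((EtCoh.bc (fm Xs (hl a))).map (g a) ≫
      kq (fm Xs (hma a)) (fm Xs (hl a)) (fm Xs hm₀l) (fm_comp Xs (hma a) (hl a)) V₀),
    e₀ ≪≫ trIso (fm Xs hm₀l) (pm Xs c l) (pm Xs c m₀) (pm_comp Xs c hm₀l) V₀,
    fun a => ea a ≪≫ trIso (fm Xs (hl a)) (pm Xs c l) (pm Xs c (ma a)) (pm_comp Xs c (hl a)) (W' a),
    ⟨compactSpace_bc _ V₀, quasiSeparatedSpace_bc _ V₀⟩, ?_, ?_⟩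
  · intro a
    have : IsAffineHom (fm Xs (hl a)) := G.affine' _
    have := hW1 a
    have := hW2 a
    exact ⟨compactSpace_bc _ (W' a), quasiSeparatedSpace_bc _ (W' a)⟩
  · intro a
    apply bc_bc_hom_ext
    have h1 := congrArg (fun t => lf t ≫ prj (pm Xs c m₀) V₀) (hea a)
    simp only [lf_comp] at h1
    rw [Category.assoc, Category.assoc, kq_prj, ← Category.assoc (lf ((EtCoh.bc _).map (g a))),
      bcMap_prj] at h1
    simp only [Category.assoc] at h1
    let yh : (EtCoh.bc (fm Xs (hl a))).obj (W' a) ⟶ (EtCoh.bc (fm Xs hm₀l)).obj V₀ :=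
      (EtCoh.bc (fm Xs (hl a))).map (g a) ≫
        kq (fm Xs (hma a)) (fm Xs (hl a)) (fm Xs hm₀l) (fm_comp Xs (hma a) (hl a)) V₀
    have s1 : lf ((EtCoh.bc (pm Xs c l)).map yh) ≫ prj (pm Xs c l) _ =
        prj (pm Xs c l) _ ≫ lf yh := bcMap_prj (pm Xs c l) yh
    have s2 : lf (tr (fm Xs (hl a)) (pm Xs c l) (pm Xs c (ma a)) (pm_comp Xs c (hl a)) (W' a)) ≫
        prj (pm Xs c l) _ = cn (fm Xs (hl a)) (pm Xs c l) (pm Xs c (ma a)) (pm_comp Xs c (hl a))
          (W' a) := tr_prj _ _ _ _ (W' a)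
    have s3 : lf yh ≫ prj (fm Xs hm₀l) V₀ =
        prj (fm Xs (hl a)) (W' a) ≫ lf (g a) ≫ prj (fm Xs (hma a)) V₀ := by
      show (lf ((EtCoh.bc (fm Xs (hl a))).map (g a)) ≫ lf (kq _ _ _ _ V₀)) ≫ _ = _
      rw [Category.assoc, kq_prj, ← Category.assoc, bcMap_prj, Category.assoc]
    have s4 : cn (fm Xs (hl a)) (pm Xs c l) (pm Xs c (ma a)) (pm_comp Xs c (hl a)) (W' a) ≫
        prj (fm Xs (hl a)) (W' a) = prj (pm Xs c (ma a)) (W' a) := cn_prj _ _ _ _ (W' a)
    have s5 : lf (tr (fm Xs hm₀l) (pm Xs c l) (pm Xs c m₀) (pm_comp Xs c hm₀l) V₀) ≫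
        prj (pm Xs c l) _ ≫ prj (fm Xs hm₀l) V₀ = prj (pm Xs c m₀) V₀ := by
      rw [← Category.assoc, tr_prj, cn_prj]
    have L : (lf (ea a).hom ≫ lf (tr (fm Xs (hl a)) (pm Xs c l) (pm Xs c (ma a))
          (pm_comp Xs c (hl a)) (W' a))) ≫ lf ((EtCoh.bc (pm Xs c l)).map yh) ≫
        prj (pm Xs c l) _ ≫ prj (fm Xs hm₀l) V₀ =
        lf (ea a).hom ≫ prj (pm Xs c (ma a)) (W' a) ≫ lf (g a) ≫ prj (fm Xs (hma a)) V₀ := by
      rw [← Category.assoc (lf ((EtCoh.bc (pm Xs c l)).map yh)), s1]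
      simp only [Category.assoc]
      rw [s3, ← Category.assoc (lf (tr _ _ _ _ (W' a))), s2, ← Category.assoc (cn _ _ _ _ (W' a)),
        s4]
    have Rr : (lf (Y a).hom ≫ lf e₀.hom ≫ lf (tr (fm Xs hm₀l) (pm Xs c l) (pm Xs c m₀)
          (pm_comp Xs c hm₀l) V₀)) ≫ prj (pm Xs c l) _ ≫ prj (fm Xs hm₀l) V₀ =
        lf (Y a).hom ≫ lf e₀.hom ≫ prj (pm Xs c m₀) V₀ := by
      simp only [Category.assoc]
      rw [s5]
    exact L.trans (h1.trans Rr.symm)

variable (S : PSys Xs) (C : PCone c S)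

/-- the colimit sheaf of a system of Čech-acyclic sheaves (with Čech-acyclic direct images) is
Čech-acyclic -/
theorem cechAcyc (G : Geo Xs c) (hC : C.IsColim)
    (hinj : ∀ (l k : ι) (h : l ≤ k) (V' : (Xs.obj (op l)).Etale) (I : Type (u + 1))
      (Y' : I → Over V') (p : ℕ), IsZero (EtCech.cechH Y' (Pk S h) (p + 1))) :
    Groth.Agent.Helper4.CechGenC.CechAcyc (J := c.pt.smallEtaleTopology)
      (Groth.Agent.Helper4.EtCartan.Cov c.pt) C.pt := by
  intro V I Y hY p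
  obtain ⟨hfin, ⟨hV1, hV2⟩, hYB, -⟩ := hY
  haveI := hfin
  obtain ⟨l, V', Y', e, ε, ⟨hV'1, hV'2⟩, hY', hcomp⟩ := descend_family G V Y hYB
  let Φ : Over V' ⥤ Over V := Over.post (EtCoh.bc (pm Xs c l)) ⋙ Over.map e.inv
  haveI : PreservesFiniteLimits (Over.post (X := V') (EtCoh.bc (pm Xs c l))) := inferInstance
  haveI : PreservesFiniteProducts Φ := by
    dsimp only [Φ]
    infer_instance
  let ε' : ∀ a, Φ.obj (Y' a) ≅ Y a := fun a => Over.isoMk (ε a).symm (by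
    show (ε a).inv ≫ (Y a).hom = (EtCoh.bc (pm Xs c l)).map (Y' a).hom ≫ e.inv
    rw [Iso.inv_comp_eq, ← Category.assoc, hcomp a, Category.assoc, Iso.hom_inv_id,
      Category.comp_id])
  have hz : IsZero (EtCech.cechH Y' (Pinf C l) (p + 1)) :=
    isZero_cechH S C Y' (fun n x => Groth.Agent.Helper4.EtGeom.pi_qcqs V' (n + 1)
      (fun k => Y' (x k)) (fun k => hY' (x k))) G hC p (fun k h => hinj l k h V' I Y' p)
  exact Groth.Agent.Helper6.CechIsoGen.isZero_homology Φ Y' Y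
    ((Over.forget V).op ⋙ C.pt.obj) ε' (p + 1) hz

/-- direct images of injective sheaves have injective underlying presheaves -/
lemma injective_push_obj {X Y : Scheme.{u}} (f : X ⟶ Y) [PreservesFiniteLimits (EtCoh.pull f)]
    (A : EtCoh.Ab X) [Injective A] :
    Injective ((EtCoh.bc f).op ⋙ A.obj : Y.Etaleᵒᵖ ⥤ AddCommGrpCat.{u + 1}) := by
  haveI : (EtCoh.pull f).PreservesMonomorphisms := inferInstance
  haveI : Injective ((EtCoh.push f).obj A) :=
    Injective.injective_of_adjoint (EtCoh.pullPushAdj f) A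
  haveI : (presheafToSheaf Y.smallEtaleTopology AddCommGrpCat.{u + 1}).PreservesMonomorphisms :=
    inferInstance
  exact Injective.injective_of_adjoint (sheafificationAdjunction Y.smallEtaleTopology
    AddCommGrpCat.{u + 1}) ((EtCoh.push f).obj A)

/-- the colimit sheaf of a system of injective sheaves is acyclic -/
theorem H_eq_zero_of_injective [CompactSpace c.pt] [QuasiSeparatedSpace c.pt] (G : Geo Xs c)
    (hC : C.IsColim) [∀ {l k : ι} (h : l ≤ k), PreservesFiniteLimits (EtCoh.pull (fm Xs h))]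
    (hS : ∀ k, Injective (S.F k)) (p : ℕ) (x : EtCoh.H c.pt C.pt (p + 1)) : x = 0 := by
  refine Groth.Agent.Helper4.EtCartan.cartan p C.pt (cechAcyc S C G hC ?_) x
  intro l k h V' I Y' q
  haveI := hS k
  haveI := injective_push_obj (fm Xs h) (S.F k)
  exact Groth.Agent.S0665.result Y' (Pk S h) q

end Groth.Agent.Helper6.LimCohK
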