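import Mathlib
import Groth.Prelude.Def_EtBase
import Groth.Prelude.Def_EtCore
import Groth.Prelude.Def_EtLim
import Groth.Agent.Helper6.LimCohA
import Groth.Agent.Helper6.LimCohB
import Groth.Agent.Helper6.HofPushBC2
import Groth.Agent.Helper9.HpullLES
import Groth.Agent.Helper9.HpullComp

set_option autoImplicit false
set_option linter.style.haveILetI false
set_option linter.unusedSectionVars false
set_option linter.unusedVariables false
set_option linter.unusedSimpArgs false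

/-!
# Limit theorem for étale cohomology, part L: the maps on cohomology attached to `F ⟶ f_* M`
-/

namespace Groth.Agent.Helper6.LimCohL

open CategoryTheory CategoryTheory.Limits AlgebraicGeometry Opposite Abelian
open Groth.Agent.Helper6.LimCohA Groth.Agent.Helper6.LimCohB Groth.Agent.Helper6.HofPushBC

universe u

variable {X Y Z : Scheme.{u}}

/-- the adjoint morphism `f⁻¹ F ⟶ M` of `r : F ⟶ f_* M` -/
noncomputable def adjL (f : X ⟶ Y) {F : EtCoh.Ab Y} {M : EtCoh.Ab X}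
    (r : F ⟶ (EtCoh.push f).obj M) : (EtCoh.pull f).obj F ⟶ M :=
  ((EtCoh.pullPushAdj f).homEquiv F M).symm r

/-- the adjoint morphism `F ⟶ f_* M` of `φ : f⁻¹ F ⟶ M` -/
noncomputable def adjR (f : X ⟶ Y) {F : EtCoh.Ab Y} {M : EtCoh.Ab X}
    (φ : (EtCoh.pull f).obj F ⟶ M) : F ⟶ (EtCoh.push f).obj M :=
  (EtCoh.pullPushAdj f).homEquiv F M φ

@[simp]
lemma adjR_adjL (f : X ⟶ Y) {F : EtCoh.Ab Y} {M : EtCoh.Ab X}
    (r : F ⟶ (EtCoh.push f).obj M) : adjR f (adjL f r) = r :=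
  Equiv.apply_symm_apply _ _

@[simp]
lemma adjL_adjR (f : X ⟶ Y) {F : EtCoh.Ab Y} {M : EtCoh.Ab X}
    (φ : (EtCoh.pull f).obj F ⟶ M) : adjL f (adjR f φ) = φ :=
  Equiv.symm_apply_apply _ _

lemma adjL_eq (f : X ⟶ Y) {F : EtCoh.Ab Y} {M : EtCoh.Ab X}
    (r : F ⟶ (EtCoh.push f).obj M) :
    adjL f r = (EtCoh.pull f).map r ≫ (EtCoh.pullPushAdj f).counit.app M :=
  Adjunction.homEquiv_counit _ _ _ _

lemma adjR_comp (f : X ⟶ Y) {F : EtCoh.Ab Y} {M M' : EtCoh.Ab X}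
    (φ : (EtCoh.pull f).obj F ⟶ M) (b : M ⟶ M') :
    adjR f (φ ≫ b) = adjR f φ ≫ (EtCoh.push f).map b :=
  Adjunction.homEquiv_naturality_right _ _ _

lemma adjR_map_comp (f : X ⟶ Y) {F F' : EtCoh.Ab Y} {M : EtCoh.Ab X} (a : F ⟶ F')
    (φ : (EtCoh.pull f).obj F' ⟶ M) :
    adjR f ((EtCoh.pull f).map a ≫ φ) = a ≫ adjR f φ :=
  Adjunction.homEquiv_naturality_left _ _ _

lemma adjL_comp (f : X ⟶ Y) {F : EtCoh.Ab Y} {M M' : EtCoh.Ab X}
    (r : F ⟶ (EtCoh.push f).obj M) (b : M ⟶ M') :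
    adjL f (r ≫ (EtCoh.push f).map b) = adjL f r ≫ b :=
  Adjunction.homEquiv_naturality_right_symm _ _ _

lemma comp_adjL (f : X ⟶ Y) {F F' : EtCoh.Ab Y} {M : EtCoh.Ab X} (a : F ⟶ F')
    (r : F' ⟶ (EtCoh.push f).obj M) :
    adjL f (a ≫ r) = (EtCoh.pull f).map a ≫ adjL f r :=
  Adjunction.homEquiv_naturality_left_symm _ _ _

section

variable (f : X ⟶ Y) [PreservesFiniteLimits (EtCoh.pull f)]

/-- the map `H^n(Y, F) → H^n(X, M)` attached to `r : F ⟶ f_* M` -/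
noncomputable def Tm {F : EtCoh.Ab Y} {M : EtCoh.Ab X} (r : F ⟶ (EtCoh.push f).obj M) (n : ℕ) :
    EtCoh.H Y F n →+ EtCoh.H X M n :=
  (EtLim.HofPush f M n).comp ((EtCoh.HF Y n).map r).hom

lemma Tm_apply {F : EtCoh.Ab Y} {M : EtCoh.Ab X} (r : F ⟶ (EtCoh.push f).obj M) (n : ℕ)
    (x : EtCoh.H Y F n) : Tm f r n x = EtLim.HofPush f M n (Sheaf.H.map r n x) := rfl

lemma Tm_eq {F : EtCoh.Ab Y} {M : EtCoh.Ab X} (r : F ⟶ (EtCoh.push f).obj M) (n : ℕ)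
    (x : EtCoh.H Y F n) :
    Tm f r n x = Sheaf.H.map (adjL f r) n (EtCore.Hpull f F n x) := by
  rw [Tm_apply, HofPush_apply, Hpull_natural, ← Sheaf.H.map_comp_apply, adjL_eq]

lemma Tm_eq_HpullThen {F : EtCoh.Ab Y} {M : EtCoh.Ab X} (φ : (EtCoh.pull f).obj F ⟶ M) (n : ℕ)
    (x : EtCoh.H Y F n) : Tm f (adjR f φ) n x = EtLim.HpullThen f F φ n x := by
  rw [Tm_eq, adjL_adjR]
  rfl

lemma Tm_nat {F F' : EtCoh.Ab Y} {M M' : EtCoh.Ab X} (r : F ⟶ (EtCoh.push f).obj M)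
    (r' : F' ⟶ (EtCoh.push f).obj M') (a : F ⟶ F') (b : M ⟶ M')
    (h : r ≫ (EtCoh.push f).map b = a ≫ r') (n : ℕ) (x : EtCoh.H Y F n) :
    Sheaf.H.map b n (Tm f r n x) = Tm f r' n (Sheaf.H.map a n x) := by
  rw [Tm_eq, Tm_eq, Hpull_natural, ← Sheaf.H.map_comp_apply, ← Sheaf.H.map_comp_apply,
    ← adjL_comp, h, comp_adjL]

lemma map_δ {S₁ S₂ : ShortComplex (EtCoh.Ab X)} (h₁ : S₁.ShortExact) (h₂ : S₂.ShortExact)
    (φ : S₁ ⟶ S₂) (p : ℕ) (x : EtCoh.H X S₁.X₃ p) :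
    Sheaf.H.map φ.τ₁ (p + 1) (x.comp h₁.extClass rfl) =
      (Sheaf.H.map φ.τ₃ p x).comp h₂.extClass rfl := by
  rw [Sheaf.H.map_apply, Sheaf.H.map_apply, Ext.comp_assoc_of_third_deg_zero,
    h₁.extClass_naturality h₂ φ]
  exact (Ext.comp_assoc_of_second_deg_zero _ _ _ _).symm

/-- compatibility with the connecting homomorphisms -/
lemma Tm_delta {SY : ShortComplex (EtCoh.Ab Y)} (hY : SY.ShortExact)
    {SX : ShortComplex (EtCoh.Ab X)} (hX : SX.ShortExact)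
    (r₁ : SY.X₁ ⟶ (EtCoh.push f).obj SX.X₁) (r₂ : SY.X₂ ⟶ (EtCoh.push f).obj SX.X₂)
    (r₃ : SY.X₃ ⟶ (EtCoh.push f).obj SX.X₃)
    (c₁ : r₁ ≫ (EtCoh.push f).map SX.f = SY.f ≫ r₂)
    (c₂ : r₂ ≫ (EtCoh.push f).map SX.g = SY.g ≫ r₃) (n : ℕ) (x : EtCoh.H Y SY.X₃ n) :
    Tm f r₁ (n + 1) (x.comp hY.extClass rfl) = (Tm f r₃ n x).comp hX.extClass rfl := by
  rw [Tm_eq, Tm_eq, Groth.Agent.Helper9.HpullLES.Hpull_delta f hY x rfl]
  let φ : SY.map (EtCoh.pull f) ⟶ SX :=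
    { τ₁ := adjL f r₁
      τ₂ := adjL f r₂
      τ₃ := adjL f r₃
      comm₁₂ := by
        show adjL f r₁ ≫ SX.f = (EtCoh.pull f).map SY.f ≫ adjL f r₂
        rw [← adjL_comp, c₁, comp_adjL]
      comm₂₃ := by
        show adjL f r₂ ≫ SX.g = (EtCoh.pull f).map SY.g ≫ adjL f r₃
        rw [← adjL_comp, c₂, comp_adjL] }
  exact map_δ (hY.map_of_exact (EtCoh.pull f)) hX φ n (EtCore.Hpull f SY.X₃ n x)

end

section Comp

lemma pushCongr_rfl_hom_app (f : X ⟶ Y) (N : EtCoh.Ab X) :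
    (EtCoh.pushCongr (rfl : f = f)).hom.app N = 𝟙 _ := by
  have h := (EtCoh.pushCongr (rfl : f = f)).hom_inv_id_app N
  rw [pushCongr_rfl_inv_app, Category.comp_id] at h
  exact h

/-- the mate of the composition isomorphism of inverse images -/
lemma adjR_pullComp (f : X ⟶ Y) (g : Z ⟶ X) {F : EtCoh.Ab Y} {M₂ : EtCoh.Ab Z}
    (ψ : (EtCoh.pull g).obj ((EtCoh.pull f).obj F) ⟶ M₂) :
    adjR (g ≫ f) ((EtCore.pullComp g f).hom.app F ≫ ψ) =
      adjR f (adjR g ψ) ≫ (EtCoh.pushComp f g).hom.app M₂ := by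
  let A := EtCoh.pullPushAdj (g ≫ f)
  let B := ((EtCoh.pullPushAdj f).comp (EtCoh.pullPushAdj g)).ofNatIsoRight (EtCoh.pushComp f g)
  have h1 : A.homEquiv _ _ ((EtCore.pullComp g f).hom.app F ≫ ψ) =
      A.homEquiv _ _ ((EtCore.pullComp g f).hom.app F) ≫ (EtCoh.push (g ≫ f)).map ψ :=
    Adjunction.homEquiv_naturality_right _ _ _
  have h2 : A.homEquiv _ _ ((EtCore.pullComp g f).hom.app F) = B.unit.app F :=
    Adjunction.homEquiv_leftAdjointUniq_hom_app A B F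
  have h3 : B.unit.app F ≫ (EtCoh.push (g ≫ f)).map ψ = B.homEquiv _ _ ψ :=
    (Adjunction.homEquiv_unit B _ _ _).symm
  have h4 : B.homEquiv _ _ ψ = ((EtCoh.pullPushAdj f).comp (EtCoh.pullPushAdj g)).homEquiv _ _ ψ ≫
      (EtCoh.pushComp f g).hom.app M₂ := Adjunction.homEquiv_ofNatIsoRight_apply _ _ _
  have h5 : ((EtCoh.pullPushAdj f).comp (EtCoh.pullPushAdj g)).homEquiv _ _ ψ =
      adjR f (adjR g ψ) := by
    rw [Adjunction.comp_homEquiv]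
    rfl
  show A.homEquiv _ _ _ = _
  rw [h1, h2, h3, h4, h5]

variable (f : X ⟶ Y) (g : Z ⟶ X) (h : Z ⟶ Y) (w : g ≫ f = h)
  [PreservesFiniteLimits (EtCoh.pull f)] [PreservesFiniteLimits (EtCoh.pull g)]
  [PreservesFiniteLimits (EtCoh.pull h)]

/-- the maps on cohomology compose -/
theorem Tm_comp {F : EtCoh.Ab Y} {M₁ : EtCoh.Ab X} {M₂ : EtCoh.Ab Z}
    (r : F ⟶ (EtCoh.push f).obj M₁) (r' : M₁ ⟶ (EtCoh.push g).obj M₂)
    (r'' : F ⟶ (EtCoh.push h).obj M₂) (hc : Cocycle f g h w r r' r'') (n : ℕ)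
    (x : EtCoh.H Y F n) : Tm g r' n (Tm f r n x) = Tm h r'' n x := by
  subst w
  have key : (EtCore.pullComp g f).hom.app F ≫ (EtCoh.pull g).map (adjL f r) ≫ adjL g r' =
      adjL (g ≫ f) r'' := by
    have h1 := adjR_pullComp f g ((EtCoh.pull g).map (adjL f r) ≫ adjL g r')
    have e1 : adjR g ((EtCoh.pull g).map (adjL f r) ≫ adjL g r') = adjL f r ≫ r' := by
      rw [adjR_map_comp, adjR_adjL]
    have e2 : adjR f (adjL f r ≫ r') = r ≫ (EtCoh.push f).map r' := by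
      rw [adjR_comp, adjR_adjL]
    rw [e1, e2] at h1
    have h2 : r ≫ (EtCoh.push f).map r' = r'' ≫ pk f g (g ≫ f) rfl M₂ := hc
    rw [h2] at h1
    have e3 : pk f g (g ≫ f) rfl M₂ ≫ (EtCoh.pushComp f g).hom.app M₂ = 𝟙 _ := by
      unfold pk
      rw [pushCongr_rfl_hom_app, Category.id_comp, Iso.inv_hom_id_app]
    rw [Category.assoc, e3, Category.comp_id] at h1
    have h3 := congrArg (adjL (g ≫ f)) h1
    rw [adjL_adjR] at h3
    exact h3
  rw [Tm_eq, Tm_eq, Tm_eq, Hpull_natural, Hpull_comp', ← Sheaf.H.map_comp_apply,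
    ← Sheaf.H.map_comp_apply, key]

end Comp

section Zero

variable (f : X ⟶ Y) [PreservesFiniteLimits (EtCoh.pull f)]

/-- global sections attached to a class of degree zero, as a morphism from the integers -/
noncomputable def gs (X : Scheme.{u}) (F : EtCoh.Ab X)
    (a : (constantSheaf X.smallEtaleTopology AddCommGrpCat.{u + 1}).obj
      (AddCommGrpCat.of (ULift.{u + 1} ℤ)) ⟶ F) :
    AddCommGrpCat.of (ULift.{u + 1} ℤ) ⟶ F.obj.obj (op (EtCoh.top X)) :=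
  (EtCore.constAdj X).homEquiv _ F a

lemma equiv₀_mk₀ (X : Scheme.{u}) (F : EtCoh.Ab X)
    (a : (constantSheaf X.smallEtaleTopology AddCommGrpCat.{u + 1}).obj
      (AddCommGrpCat.of (ULift.{u + 1} ℤ)) ⟶ F) :
    Sheaf.H.equiv₀ F (EtCore.topIsTerminal X) (Ext.mk₀ a) =
      AddCommGrpCat.uliftZMultiplesAddEquiv _ (gs X F a) := by
  unfold Sheaf.H.equiv₀
  simp only [AddEquiv.trans_apply]
  have h : Ext.addEquiv₀ (Ext.mk₀ a) = a := Ext.addEquiv₀.apply_symm_apply a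
  rw [h]
  rfl

lemma gs_mate (M : EtCoh.Ab X)
    (a : (constantSheaf Y.smallEtaleTopology AddCommGrpCat.{u + 1}).obj
      (AddCommGrpCat.of (ULift.{u + 1} ℤ)) ⟶ (EtCoh.push f).obj M) :
    gs X M ((EtCore.pullConst f ℤ).inv ≫ adjL f a) =
      gs Y ((EtCoh.push f).obj M) a ≫ M.obj.map (EtCore.bcTopIso f).inv.op := by
  let A := ((EtCore.constAdj Y).comp (EtCoh.pullPushAdj f)).ofNatIsoRight (EtCore.pushGsecIso f)
  let B := EtCore.constAdj X
  let x : AddCommGrpCat.{u + 1} := AddCommGrpCat.of (ULift.{u + 1} ℤ)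
  have h1 : B.homEquiv _ _ ((EtCore.pullConst f ℤ).inv ≫ adjL f a) =
      B.homEquiv _ _ (EtCore.pullConst f ℤ).inv ≫ (EtCore.gsec X).map (adjL f a) :=
    Adjunction.homEquiv_naturality_right _ _ _
  have h2 : B.homEquiv _ _ (EtCore.pullConst f ℤ).inv = A.unit.app x :=
    Adjunction.homEquiv_leftAdjointUniq_hom_app B A x
  have h3 : A.unit.app x ≫ (EtCore.gsec X).map (adjL f a) = A.homEquiv _ _ (adjL f a) :=
    (Adjunction.homEquiv_unit A _ _ _).symm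
  have h4 : A.homEquiv _ _ (adjL f a) =
      ((EtCore.constAdj Y).comp (EtCoh.pullPushAdj f)).homEquiv _ _ (adjL f a) ≫
        (EtCore.pushGsecIso f).hom.app M := Adjunction.homEquiv_ofNatIsoRight_apply _ _ _
  have h5 : ((EtCore.constAdj Y).comp (EtCoh.pullPushAdj f)).homEquiv _ _ (adjL f a) =
      gs Y ((EtCoh.push f).obj M) a := by
    rw [Adjunction.comp_homEquiv]
    show (EtCore.constAdj Y).homEquiv _ _ (adjR f (adjL f a)) = _
    rw [adjR_adjL]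
    rfl
  show B.homEquiv _ _ _ = _
  rw [h1, h2, h3, h4, h5]
  rfl

lemma uliftZ_comp {A B : AddCommGrpCat.{u + 1}} (φ : AddCommGrpCat.of (ULift.{u + 1} ℤ) ⟶ A)
    (ψ : A ⟶ B) :
    AddCommGrpCat.uliftZMultiplesAddEquiv B (φ ≫ ψ) =
      ψ (AddCommGrpCat.uliftZMultiplesAddEquiv A φ) := rfl

/-- in degree zero, `H^0(Y, f_* M) → H^0(X, M)` is the identity on global sections -/
theorem equiv₀_HofPush (M : EtCoh.Ab X) (y : EtCoh.H Y ((EtCoh.push f).obj M) 0) :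
    Sheaf.H.equiv₀ M (EtCore.topIsTerminal X) (EtLim.HofPush f M 0 y) =
      M.obj.map (EtCore.bcTopIso f).inv.op
        (Sheaf.H.equiv₀ ((EtCoh.push f).obj M) (EtCore.topIsTerminal Y) y) := by
  obtain ⟨a, rfl⟩ := (Ext.mk₀_bijective _ _).2 y
  have h1 : EtLim.HofPush f M 0 (Ext.mk₀ a) =
      Ext.mk₀ ((EtCore.pullConst f ℤ).inv ≫ adjL f a) := by
    rw [HofPush_apply, adjL_eq]
    simp only [EtCore.Hpull, AddMonoidHom.coe_comp, AddMonoidHom.mk'_apply, Function.comp_apply,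
      Functor.mapExtAddHom_apply, Ext.mapExactFunctor_mk₀, Ext.mk₀_comp_mk₀, Sheaf.H.map_apply,
      Category.assoc]
  rw [h1, equiv₀_mk₀, equiv₀_mk₀, gs_mate, uliftZ_comp]
  rfl

/-- the degree zero part of `Tm` on global sections -/
theorem equiv₀_Tm {F : EtCoh.Ab Y} {M : EtCoh.Ab X} (r : F ⟶ (EtCoh.push f).obj M)
    (x : EtCoh.H Y F 0) :
    Sheaf.H.equiv₀ M (EtCore.topIsTerminal X) (Tm f r 0 x) =
      M.obj.map (EtCore.bcTopIso f).inv.op
        (rapp f r (EtCoh.top Y) (Sheaf.H.equiv₀ F (EtCore.topIsTerminal Y) x)) := by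
  rw [Tm_apply, equiv₀_HofPush]
  congr 1
  exact (Sheaf.H.equiv₀_naturality (EtCore.topIsTerminal Y) r x).symm

end Zero

end Groth.Agent.Helper6.LimCohL
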