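import Mathlib
import Groth.Prelude.Def_EtBase
import Groth.Prelude.Def_EtCore
import Groth.Prelude.Def_EtLim
import Groth.Agent.Helper6.LimCohA
import Groth.Agent.Helper6.LimCohB
import Groth.Agent.Helper6.LimCohL

set_option autoImplicit false
set_option linter.style.haveILetI false
set_option linter.unusedSectionVars false
set_option linter.unusedVariables false
set_option linter.unusedSimpArgs false

/-!
# Limit theorem for étale cohomology, part M: the colimit of a system of sheaves exists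
-/

namespace Groth.Agent.Helper6.LimCohM

open CategoryTheory CategoryTheory.Limits AlgebraicGeometry Opposite
open Groth.Agent.Helper6.LimCohA Groth.Agent.Helper6.LimCohB Groth.Agent.Helper6.LimCohL

universe u

variable {ι : Type u} [Preorder ι] {Xs : ιᵒᵖ ⥤ Scheme.{u}} (c : Cone Xs) (S : PSys Xs)

/-- the pulled back sheaves -/
noncomputable abbrev LF (i : ι) : EtCoh.Ab c.pt := (EtCoh.pull (pm Xs c i)).obj (S.F i)

/-- the transition morphisms between the pulled back sheaves -/
noncomputable def mm {i j : ι} (h : i ≤ j) : LF c S i ⟶ LF c S j :=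
  adjL (pm Xs c i) (S.r h ≫
    (EtCoh.push (fm Xs h)).map ((EtCoh.pullPushAdj (pm Xs c j)).unit.app (S.F j)) ≫
      inv (pk (fm Xs h) (pm Xs c j) (pm Xs c i) (pm_comp Xs c h) (LF c S j)))

lemma adjR_eq {X Y : Scheme.{u}} (f : X ⟶ Y) {F : EtCoh.Ab Y} {M : EtCoh.Ab X}
    (φ : (EtCoh.pull f).obj F ⟶ M) :
    adjR f φ = (EtCoh.pullPushAdj f).unit.app F ≫ (EtCoh.push f).map φ :=
  Adjunction.homEquiv_unit _ _ _ _

/-- the cocycle condition in terms of the adjoint morphisms -/
lemma cocycle_iff {i j : ι} (h : i ≤ j) {N : EtCoh.Ab c.pt} (σi : LF c S i ⟶ N)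
    (σj : LF c S j ⟶ N) :
    Cocycle (fm Xs h) (pm Xs c j) (pm Xs c i) (pm_comp Xs c h) (S.r h)
      (adjR (pm Xs c j) σj) (adjR (pm Xs c i) σi) ↔ mm c S h ≫ σj = σi := by
  have h1 : S.r h ≫ (EtCoh.push (fm Xs h)).map (adjR (pm Xs c j) σj) =
      adjR (pm Xs c i) (mm c S h ≫ σj) ≫
        pk (fm Xs h) (pm Xs c j) (pm Xs c i) (pm_comp Xs c h) N := by
    rw [adjR_comp, mm, adjR_adjL, adjR_eq (pm Xs c j), Functor.map_comp]
    simp only [Category.assoc]
    rw [pk_naturality, IsIso.inv_hom_id_assoc]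
  unfold Cocycle
  rw [h1, cancel_mono]
  constructor
  · intro h2
    have := congrArg (adjL (pm Xs c i)) h2
    rwa [adjL_adjR, adjL_adjR] at this
  · intro h2
    rw [h2]

/-- the index set of the relations -/
abbrev Idx (ι : Type u) [Preorder ι] : Type u := {p : ι × ι // p.1 ≤ p.2}

/-- the relations -/
noncomputable def dd : (∐ fun p : Idx ι => LF c S p.1.1) ⟶ ∐ fun i => LF c S i :=
  Sigma.desc (fun p => Sigma.ι (fun i => LF c S i) p.1.1 -
    mm c S p.2 ≫ Sigma.ι (fun i => LF c S i) p.1.2)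

/-- the colimit sheaf -/
noncomputable abbrev colimPt : EtCoh.Ab c.pt := cokernel (dd c S)

/-- the canonical morphisms to the colimit sheaf -/
noncomputable def σc (i : ι) : LF c S i ⟶ colimPt c S :=
  Sigma.ι (fun i => LF c S i) i ≫ cokernel.π (dd c S)

lemma mm_σc {i j : ι} (h : i ≤ j) : mm c S h ≫ σc c S j = σc c S i := by
  have h1 : Sigma.ι (fun p : Idx ι => LF c S p.1.1) ⟨(i, j), h⟩ ≫ dd c S ≫ cokernel.π (dd c S) =
      0 := by rw [cokernel.condition, comp_zero]
  unfold dd at h1
  rw [← Category.assoc, Sigma.ι_desc, Preadditive.sub_comp, sub_eq_zero] at h1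
  unfold σc
  rw [← Category.assoc]
  exact h1.symm

/-- the colimit cone -/
noncomputable def colimCone : PCone c S where
  pt := colimPt c S
  ρ i := adjR (pm Xs c i) (σc c S i)
  coc h := (cocycle_iff c S h _ _).2 (mm_σc c S h)

theorem colimCone_isColim : (colimCone c S).IsColim := by
  intro D
  let σD : ∀ i, LF c S i ⟶ D.pt := fun i => adjL (pm Xs c i) (D.ρ i)
  have hσD : ∀ {i j : ι} (h : i ≤ j), mm c S h ≫ σD j = σD i := by
    intro i j h
    apply (cocycle_iff c S h _ _).1
    rw [adjR_adjL, adjR_adjL]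
    exact D.coc h
  let ν : colimPt c S ⟶ D.pt := cokernel.desc (dd c S) (Sigma.desc σD) (by
    apply Sigma.hom_ext
    intro p
    unfold dd
    rw [← Category.assoc, Sigma.ι_desc, Preadditive.sub_comp, Category.assoc, Sigma.ι_desc,
      Sigma.ι_desc, hσD p.2, sub_self, comp_zero])
  have hν : ∀ i, σc c S i ≫ ν = σD i := by
    intro i
    unfold σc
    rw [Category.assoc, cokernel.π_desc, Sigma.ι_desc]
  refine ⟨ν, fun i => ?_, fun ν' hν' => ?_⟩
  · show adjR (pm Xs c i) (σc c S i) ≫ (EtCoh.push (pm Xs c i)).map ν = D.ρ i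
    rw [← adjR_comp, hν i, adjR_adjL]
  · have h2 : ∀ i, σc c S i ≫ ν' = σD i := by
      intro i
      have h3 : adjR (pm Xs c i) (σc c S i) ≫ (EtCoh.push (pm Xs c i)).map ν' = D.ρ i := hν' i
      rw [← adjR_comp] at h3
      have := congrArg (adjL (pm Xs c i)) h3
      rwa [adjL_adjR] at this
    apply (cancel_epi (cokernel.π (dd c S))).1
    apply Sigma.hom_ext
    intro i
    have e1 : Sigma.ι (fun i => LF c S i) i ≫ cokernel.π (dd c S) ≫ ν' = σD i := by
      rw [← Category.assoc]
      exact h2 i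
    have e2 : Sigma.ι (fun i => LF c S i) i ≫ cokernel.π (dd c S) ≫ ν = σD i := by
      rw [← Category.assoc]
      exact hν i
    exact e1.trans e2.symm

end Groth.Agent.Helper6.LimCohM
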