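import Mathlib
import Groth.Prelude.Def_EtBase
import Groth.Prelude.Def_EtCore
import Groth.Prelude.Def_EtLim
import Groth.Agent.Helper6.LimCohA
import Groth.Agent.Helper6.LimCohB
import Groth.Agent.Helper6.LimCohL
import Groth.Agent.Helper6.LimCohM

set_option autoImplicit false
set_option linter.style.haveILetI false
set_option linter.unusedSectionVars false
set_option linter.unusedVariables false
set_option linter.unusedSimpArgs false

/-!
# Limit theorem for étale cohomology, part N: cofree systems and quotient systems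
-/

namespace Groth.Agent.Helper6.LimCohN

open CategoryTheory CategoryTheory.Limits AlgebraicGeometry Opposite
open Groth.Agent.Helper6.LimCohA Groth.Agent.Helper6.LimCohB Groth.Agent.Helper6.LimCohL
  Groth.Agent.Helper6.LimCohM

universe u

section Assoc

variable {Y X₁ X₂ X₃ : Scheme.{u}}

/-- associativity of the composition morphisms of base change -/
lemma kq_assoc (f₁ : X₁ ⟶ Y) (f₂ : X₂ ⟶ X₁) (f₃ : X₃ ⟶ X₂) (f₁₂ : X₂ ⟶ Y) (f₂₃ : X₃ ⟶ X₁)
    (f₁₂₃ : X₃ ⟶ Y) (w₁₂ : f₂ ≫ f₁ = f₁₂) (w₂₃ : f₃ ≫ f₂ = f₂₃) (w : f₂₃ ≫ f₁ = f₁₂₃)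
    (w' : f₃ ≫ f₁₂ = f₁₂₃) (V : Y.Etale) :
    kq f₂ f₃ f₂₃ w₂₃ ((EtCoh.bc f₁).obj V) ≫ kq f₁ f₂₃ f₁₂₃ w V =
      (EtCoh.bc f₃).map (kq f₁ f₂ f₁₂ w₁₂ V) ≫ kq f₁₂ f₃ f₁₂₃ w' V := by
  apply bc_hom_ext
  show (lf (kq f₂ f₃ f₂₃ w₂₃ _) ≫ lf (kq f₁ f₂₃ f₁₂₃ w V)) ≫ prj f₁₂₃ V =
    (lf ((EtCoh.bc f₃).map (kq f₁ f₂ f₁₂ w₁₂ V)) ≫ lf (kq f₁₂ f₃ f₁₂₃ w' V)) ≫ prj f₁₂₃ V
  rw [Category.assoc, kq_prj, ← Category.assoc, kq_prj, Category.assoc, Category.assoc, kq_prj]
  have h1 : lf ((EtCoh.bc f₃).map (kq f₁ f₂ f₁₂ w₁₂ V)) ≫ prj f₃ ((EtCoh.bc f₁₂).obj V) =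
      prj f₃ _ ≫ lf (kq f₁ f₂ f₁₂ w₁₂ V) := bcMap_prj f₃ _
  rw [← Category.assoc (lf _), h1, Category.assoc, kq_prj]

/-- associativity of the composition morphisms of direct images -/
lemma pk_assoc (f₁ : X₁ ⟶ Y) (f₂ : X₂ ⟶ X₁) (f₃ : X₃ ⟶ X₂) (f₁₂ : X₂ ⟶ Y) (f₂₃ : X₃ ⟶ X₁)
    (f₁₂₃ : X₃ ⟶ Y) (w₁₂ : f₂ ≫ f₁ = f₁₂) (w₂₃ : f₃ ≫ f₂ = f₂₃) (w : f₂₃ ≫ f₁ = f₁₂₃)
    (w' : f₃ ≫ f₁₂ = f₁₂₃) (A : EtCoh.Ab X₃) :
    pk f₁ f₂₃ f₁₂₃ w A ≫ (EtCoh.push f₁).map (pk f₂ f₃ f₂₃ w₂₃ A) =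
      pk f₁₂ f₃ f₁₂₃ w' A ≫ pk f₁ f₂ f₁₂ w₁₂ ((EtCoh.push f₃).obj A) := by
  apply Sheaf.hom_ext
  ext ⟨V⟩ : 2
  show (pk f₁ f₂₃ f₁₂₃ w A).hom.app (op V) ≫
      (pk f₂ f₃ f₂₃ w₂₃ A).hom.app (op ((EtCoh.bc f₁).obj V)) =
    (pk f₁₂ f₃ f₁₂₃ w' A).hom.app (op V) ≫
      (pk f₁ f₂ f₁₂ w₁₂ ((EtCoh.push f₃).obj A)).hom.app (op V)
  rw [pk_app, pk_app, pk_app, pk_app]
  show A.obj.map (kq f₁ f₂₃ f₁₂₃ w V).op ≫ A.obj.map (kq f₂ f₃ f₂₃ w₂₃ _).op =
    A.obj.map (kq f₁₂ f₃ f₁₂₃ w' V).op ≫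
      A.obj.map ((EtCoh.bc f₃).map (kq f₁ f₂ f₁₂ w₁₂ V)).op
  rw [← A.obj.map_comp, ← A.obj.map_comp, ← op_comp, ← op_comp, kq_assoc]

end Assoc

variable {ι : Type u} [Preorder ι] {Xs : ιᵒᵖ ⥤ Scheme.{u}} {c : Cone Xs}

section Precomp

variable {S T : PSys Xs}

/-- a cone under the target of a morphism of systems gives a cone under the source -/
@[reducible] noncomputable def precomp (g : PSys.Hom S T) (D : PCone c T) : PCone c S where
  pt := D.pt
  ρ i := g.φ i ≫ D.ρ i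
  coc {i j} h := by
    have h1 : S.r h ≫ (EtCoh.push (fm Xs h)).map (g.φ j ≫ D.ρ j) =
        (g.φ i ≫ D.ρ i) ≫ pk (fm Xs h) (pm Xs c j) (pm Xs c i) (pm_comp Xs c h) D.pt := by
      rw [Functor.map_comp, ← Category.assoc, g.comm h, Category.assoc, Category.assoc]
      exact congrArg (g.φ i ≫ ·) (D.coc h)
    exact h1

/-- the cokernel system of a morphism of systems -/
@[reducible] noncomputable def cokerSys (g : PSys.Hom S T) : PSys Xs where
  F i := cokernel (g.φ i)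
  r {i j} h := cokernel.desc (g.φ i) (T.r h ≫ (EtCoh.push (fm Xs h)).map (cokernel.π (g.φ j))) (by
    rw [← Category.assoc, ← g.comm h, Category.assoc, ← Functor.map_comp, cokernel.condition,
      Functor.map_zero, comp_zero])
  coc {i j k} hij hjk := by
    have h1 : ∀ {a b : ι} (h : a ≤ b), cokernel.π (g.φ a) ≫ cokernel.desc (g.φ a)
        (T.r h ≫ (EtCoh.push (fm Xs h)).map (cokernel.π (g.φ b))) (by
          rw [← Category.assoc, ← g.comm h, Category.assoc, ← Functor.map_comp,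
            cokernel.condition, Functor.map_zero, comp_zero]) =
        T.r h ≫ (EtCoh.push (fm Xs h)).map (cokernel.π (g.φ b)) :=
      fun h => cokernel.π_desc _ _ _
    unfold Cocycle
    rw [← cancel_epi (cokernel.π (g.φ i)), ← Category.assoc, h1 hij, Category.assoc,
      ← Functor.map_comp, h1 hjk, Functor.map_comp, ← Category.assoc, ← Category.assoc (cokernel.π _),
      h1 (hij.trans hjk)]
    have h2 := T.coc hij hjk
    unfold Cocycle at h2
    rw [h2, Category.assoc, Category.assoc, pk_naturality]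

/-- the projection to the cokernel system -/
@[reducible] noncomputable def cokerHom (g : PSys.Hom S T) : PSys.Hom T (cokerSys g) where
  φ i := cokernel.π (g.φ i)
  comm h := (cokernel.π_desc _ _ _).symm

/-- the induced morphism between the colimits -/
noncomputable def colimMap (g : PSys.Hom S T) {C : PCone c S} (hC : C.IsColim) (D : PCone c T) :
    PCone.Hom g C D where
  ν := (hC (precomp g D)).exists.choose
  comm := (hC (precomp g D)).exists.choose_spec

/-- the cokernel cone -/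
@[reducible] noncomputable def cokerCone (g : PSys.Hom S T) {C : PCone c S} {D : PCone c T}
    (m : PCone.Hom g C D) : PCone c (cokerSys g) where
  pt := cokernel m.ν
  ρ i := cokernel.desc (g.φ i) (D.ρ i ≫ (EtCoh.push (pm Xs c i)).map (cokernel.π m.ν)) (by
    rw [← Category.assoc, ← m.comm i, Category.assoc, ← Functor.map_comp, cokernel.condition,
      Functor.map_zero, comp_zero])
  coc {i j} h := by
    have h1 : ∀ a : ι, cokernel.π (g.φ a) ≫ cokernel.desc (g.φ a)
        (D.ρ a ≫ (EtCoh.push (pm Xs c a)).map (cokernel.π m.ν)) (by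
          rw [← Category.assoc, ← m.comm a, Category.assoc, ← Functor.map_comp,
            cokernel.condition, Functor.map_zero, comp_zero]) =
        D.ρ a ≫ (EtCoh.push (pm Xs c a)).map (cokernel.π m.ν) :=
      fun a => cokernel.π_desc _ _ _
    have h0 : cokernel.π (g.φ i) ≫ (cokerSys g).r h =
        T.r h ≫ (EtCoh.push (fm Xs h)).map (cokernel.π (g.φ j)) := cokernel.π_desc _ _ _
    unfold Cocycle
    rw [← cancel_epi (cokernel.π (g.φ i)), ← Category.assoc, h0, Category.assoc,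
      ← Functor.map_comp, h1 j, Functor.map_comp, ← Category.assoc, ← Category.assoc (cokernel.π _),
      h1 i]
    have h2 := D.coc h
    unfold Cocycle at h2
    rw [h2, Category.assoc, Category.assoc, pk_naturality]

/-- the projection to the cokernel cone -/
@[reducible] noncomputable def cokerConeHom (g : PSys.Hom S T) {C : PCone c S} {D : PCone c T}
    (m : PCone.Hom g C D) : PCone.Hom (cokerHom g) D (cokerCone g m) where
  ν := cokernel.π m.ν
  comm i := (cokernel.π_desc _ _ _).symm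

theorem cokerCone_isColim (g : PSys.Hom S T) {C : PCone c S} (hC : C.IsColim) {D : PCone c T}
    (hD : D.IsColim) (m : PCone.Hom g C D) : (cokerCone g m).IsColim := by
  intro E
  obtain ⟨ν', hν', hν'u⟩ := hD (precomp (cokerHom g) E)
  have hzero : m.ν ≫ ν' = 0 := by
    let Z : PCone c S := precomp g (precomp (cokerHom g) E)
    obtain ⟨ν₀, -, hu⟩ := hC Z
    have e1 : m.ν ≫ ν' = ν₀ := by
      apply hu
      intro i
      rw [Functor.map_comp, ← Category.assoc, m.comm i, Category.assoc]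
      exact congrArg (g.φ i ≫ ·) (hν' i)
    have e2 : (0 : C.pt ⟶ E.pt) = ν₀ := by
      apply hu
      intro i
      show _ = g.φ i ≫ cokernel.π (g.φ i) ≫ E.ρ i
      rw [Functor.map_zero, comp_zero, ← Category.assoc, cokernel.condition, zero_comp]
    rw [e1, e2]
  have hρ : ∀ i, cokernel.π (g.φ i) ≫ (cokerCone g m).ρ i =
      D.ρ i ≫ (EtCoh.push (pm Xs c i)).map (cokernel.π m.ν) := fun i => cokernel.π_desc _ _ _
  refine ⟨cokernel.desc m.ν ν' hzero, fun i => ?_, fun ν₂ hν₂ => ?_⟩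
  · rw [← cancel_epi (cokernel.π (g.φ i)), ← Category.assoc, hρ i, Category.assoc,
      ← Functor.map_comp, cokernel.π_desc]
    exact hν' i
  · apply (cancel_epi (cokernel.π m.ν)).1
    rw [cokernel.π_desc]
    apply hν'u
    intro i
    rw [Functor.map_comp, ← Category.assoc, ← hρ i, Category.assoc]
    exact congrArg (cokernel.π (g.φ i) ≫ ·) (hν₂ i)

end Precomp

section Cofree

lemma push_pi_ext {X Y : Scheme.{u}} (f : X ⟶ Y) {β : Type u} (F : β → EtCoh.Ab X)
    {N : EtCoh.Ab Y} (r r' : N ⟶ (EtCoh.push f).obj (∏ᶜ F))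
    (h : ∀ b, r ≫ (EtCoh.push f).map (Pi.π F b) = r' ≫ (EtCoh.push f).map (Pi.π F b)) :
    r = r' := by
  have h1 : adjL f r = adjL f r' := by
    apply Pi.hom_ext
    intro b
    rw [← adjL_comp, ← adjL_comp, h b]
  have := congrArg (adjR f) h1
  rwa [adjR_adjL, adjR_adjL] at this

lemma push_push_pi_ext {X Y Z : Scheme.{u}} (f : X ⟶ Y) (g : Z ⟶ X) {β : Type u}
    (F : β → EtCoh.Ab Z) {N : EtCoh.Ab Y}
    (r r' : N ⟶ (EtCoh.push f).obj ((EtCoh.push g).obj (∏ᶜ F)))
    (h : ∀ b, r ≫ (EtCoh.push f).map ((EtCoh.push g).map (Pi.π F b)) =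
      r' ≫ (EtCoh.push f).map ((EtCoh.push g).map (Pi.π F b))) : r = r' := by
  have h1 : adjL f r = adjL f r' := by
    apply push_pi_ext
    intro b
    rw [← adjL_comp, ← adjL_comp, h b]
  have := congrArg (adjR f) h1
  rwa [adjR_adjL, adjR_adjL] at this

variable (A : ∀ k : ι, EtCoh.Ab (Xs.obj (op k)))

/-- the factors of the cofree system -/
noncomputable def fam (i : ι) : Option {k // i ≤ k} → EtCoh.Ab (Xs.obj (op i))
  | none => A i
  | some k => (EtCoh.push (fm Xs k.2)).obj (A k.1)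

/-- the sheaves of the cofree system -/
noncomputable abbrev GF (i : ι) : EtCoh.Ab (Xs.obj (op i)) := ∏ᶜ (fam A i)

/-- the components of the transition morphisms of the cofree system -/
noncomputable def cmp {i j : ι} (h : i ≤ j) :
    ∀ o : Option {k // j ≤ k}, GF A i ⟶ (EtCoh.push (fm Xs h)).obj (fam A j o)
  | none => Pi.π (fam A i) (some ⟨j, h⟩)
  | some k => Pi.π (fam A i) (some ⟨k.1, h.trans k.2⟩) ≫
      pk (fm Xs h) (fm Xs k.2) (fm Xs (h.trans k.2)) (fm_comp Xs h k.2) (A k.1)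

/-- the transition morphisms of the cofree system -/
noncomputable def Gr {i j : ι} (h : i ≤ j) : GF A i ⟶ (EtCoh.push (fm Xs h)).obj (GF A j) :=
  adjR (fm Xs h) (Pi.lift (fun o => adjL (fm Xs h) (cmp A h o)))

lemma Gr_π {i j : ι} (h : i ≤ j) (o : Option {k // j ≤ k}) :
    Gr A h ≫ (EtCoh.push (fm Xs h)).map (Pi.π (fam A j) o) = cmp A h o := by
  unfold Gr
  rw [← adjR_comp, Pi.lift_π, adjR_adjL]

/-- the cofree system on a family of sheaves -/
@[reducible] noncomputable def cofree : PSys Xs where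
  F i := GF A i
  r h := Gr A h
  coc {i j k} hij hjk := by
    unfold Cocycle
    apply push_push_pi_ext
    intro o
    rw [Category.assoc, ← Functor.map_comp, Gr_π, Category.assoc, ← pk_naturality,
      ← Category.assoc, Gr_π]
    cases o with
    | none =>
      show Gr A hij ≫ (EtCoh.push (fm Xs hij)).map (Pi.π (fam A j) (some ⟨k, hjk⟩)) =
        Pi.π (fam A i) (some ⟨k, hij.trans hjk⟩) ≫ pk _ _ _ _ (A k)
      rw [Gr_π]
      rfl
    | some l =>
      show Gr A hij ≫ (EtCoh.push (fm Xs hij)).map (Pi.π (fam A j) (some ⟨l.1, hjk.trans l.2⟩) ≫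
          pk (fm Xs hjk) (fm Xs l.2) (fm Xs (hjk.trans l.2)) (fm_comp Xs hjk l.2) (A l.1)) =
        (Pi.π (fam A i) (some ⟨l.1, (hij.trans hjk).trans l.2⟩) ≫
          pk (fm Xs (hij.trans hjk)) (fm Xs l.2) (fm Xs ((hij.trans hjk).trans l.2))
            (fm_comp Xs (hij.trans hjk) l.2) (A l.1)) ≫
          pk (fm Xs hij) (fm Xs hjk) (fm Xs (hij.trans hjk)) (fm_comp Xs hij hjk)
            ((EtCoh.push (fm Xs l.2)).obj (A l.1))
      rw [Functor.map_comp, ← Category.assoc, Gr_π, Category.assoc]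
      show (Pi.π (fam A i) (some ⟨l.1, hij.trans (hjk.trans l.2)⟩) ≫
          pk (fm Xs hij) (fm Xs (hjk.trans l.2)) (fm Xs (hij.trans (hjk.trans l.2)))
            (fm_comp Xs hij (hjk.trans l.2)) (A l.1)) ≫ _ = _
      rw [Category.assoc]
      congr 1
      exact pk_assoc (fm Xs hij) (fm Xs hjk) (fm Xs l.2) (fm Xs (hij.trans hjk))
        (fm Xs (hjk.trans l.2)) (fm Xs ((hij.trans hjk).trans l.2)) (fm_comp Xs hij hjk)
        (fm_comp Xs hjk l.2) (fm_comp Xs hij (hjk.trans l.2)) (fm_comp Xs (hij.trans hjk) l.2)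
        (A l.1)

variable {A} (S : PSys Xs) (a : ∀ k, S.F k ⟶ A k)

/-- the components of the canonical morphism to the cofree system -/
noncomputable def tcmp (i : ι) : ∀ o : Option {k // i ≤ k}, S.F i ⟶ fam A i o
  | none => a i
  | some k => S.r k.2 ≫ (EtCoh.push (fm Xs k.2)).map (a k.1)

/-- the canonical morphism to the cofree system -/
@[reducible] noncomputable def toCofree : PSys.Hom S (cofree A) where
  φ i := Pi.lift (tcmp S a i)
  comm {i j} h := by
    apply push_pi_ext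
    intro o
    rw [Category.assoc, ← Functor.map_comp, Pi.lift_π, Category.assoc]
    have h1 : (cofree A).r h ≫ (EtCoh.push (fm Xs h)).map (Pi.π (fam A j) o) = cmp A h o :=
      Gr_π A h o
    rw [h1]
    cases o with
    | none =>
      show S.r h ≫ (EtCoh.push (fm Xs h)).map (a j) =
        Pi.lift (tcmp S a i) ≫ Pi.π (fam A i) (some ⟨j, h⟩)
      rw [Pi.lift_π]
      rfl
    | some k =>
      show S.r h ≫ (EtCoh.push (fm Xs h)).map (S.r k.2 ≫ (EtCoh.push (fm Xs k.2)).map (a k.1)) =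
        Pi.lift (tcmp S a i) ≫ Pi.π (fam A i) (some ⟨k.1, h.trans k.2⟩) ≫
          pk (fm Xs h) (fm Xs k.2) (fm Xs (h.trans k.2)) (fm_comp Xs h k.2) (A k.1)
      rw [← Category.assoc (Pi.lift _), Pi.lift_π, Functor.map_comp, ← Category.assoc]
      have h2 := S.coc h k.2
      unfold Cocycle at h2
      rw [h2]
      show _ = (S.r (h.trans k.2) ≫ (EtCoh.push (fm Xs (h.trans k.2))).map (a k.1)) ≫ _
      rw [Category.assoc, Category.assoc, pk_naturality]

lemma toCofree_π_none (i : ι) : (toCofree S a).φ i ≫ Pi.π (fam A i) none = a i :=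
  Pi.lift_π _ _

instance mono_toCofree [∀ k, Mono (a k)] (i : ι) : Mono ((toCofree S a).φ i) := by
  have : Mono ((toCofree S a).φ i ≫ Pi.π (fam A i) none) := by
    rw [toCofree_π_none]
    exact ‹∀ k, Mono (a k)› i
  exact mono_of_mono _ (Pi.π (fam A i) none)

variable (A) in
lemma injective_cofree [∀ ⦃i j : ι⦄ (h : i ≤ j), PreservesFiniteLimits (EtCoh.pull (fm Xs h))]
    [∀ k, Injective (A k)] (i : ι) : Injective ((cofree A).F i) := by
  have : ∀ o, Injective (fam A i o) := by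
    intro o
    cases o with
    | none => exact inferInstanceAs (Injective (A i))
    | some k =>
      haveI : (EtCoh.pull (fm Xs k.2)).PreservesMonomorphisms := inferInstance
      exact Injective.injective_of_adjoint (EtCoh.pullPushAdj (fm Xs k.2)) (A k.1)
  exact inferInstanceAs (Injective (∏ᶜ fam A i))

end Cofree

end Groth.Agent.Helper6.LimCohN
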