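import Mathlib
import Groth.Prelude.Def_EtBase
import Groth.Prelude.Def_EtCore
import Groth.Prelude.Def_EtLim
import Groth.Agent.Helper6.LimCohA
import Groth.Agent.Helper6.LimCohB
import Groth.Agent.Helper6.LimCohF
import Groth.Agent.Helper6.LimCohG
import Groth.Agent.Helper6.LimCohH
import Groth.Agent.Helper6.LimCohJ
import Groth.Agent.Helper6.LimCohK
import Groth.Agent.Helper6.LimCohL
import Groth.Agent.Helper6.LimCohM
import Groth.Agent.Helper6.LimCohN

set_option autoImplicit false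
set_option linter.style.haveILetI false
set_option linter.unusedSectionVars false
set_option linter.unusedVariables false
set_option linter.unusedSimpArgs false

/-!
# Limit theorem for étale cohomology, part O: exactness of the colimit and embeddings into
acyclic systems
-/

namespace Groth.Agent.Helper6.LimCohO

open CategoryTheory CategoryTheory.Limits AlgebraicGeometry Opposite
open Groth.Agent.Helper6.LimCohA Groth.Agent.Helper6.LimCohB Groth.Agent.Helper6.LimCohF
  Groth.Agent.Helper6.LimCohG Groth.Agent.Helper6.LimCohH Groth.Agent.Helper6.LimCohJ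
  Groth.Agent.Helper6.LimCohK Groth.Agent.Helper6.LimCohL Groth.Agent.Helper6.LimCohM
  Groth.Agent.Helper6.LimCohN

universe u

section ResHom

variable {Y Y' : Scheme.{u}}

lemma res_hom (f : Y' ⟶ Y) {F G : EtCoh.Ab Y} {F' G' : EtCoh.Ab Y'}
    (r : F ⟶ (EtCoh.push f).obj F') (r' : G ⟶ (EtCoh.push f).obj G') (a : F ⟶ G) (b : F' ⟶ G')
    (hab : r ≫ (EtCoh.push f).map b = a ≫ r') {V : Y.Etale} {V' : Y'.Etale}
    (x : V'.left ⟶ V.left) (hx : x ≫ V.hom = V'.hom ≫ f) :
    res f r x hx ≫ b.hom.app (op V') = a.hom.app (op V) ≫ res f r' x hx := by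
  unfold res
  have h1 : F'.obj.map (lift f x hx).op ≫ b.hom.app (op V') =
      b.hom.app (op ((EtCoh.bc f).obj V)) ≫ G'.obj.map (lift f x hx).op :=
    b.hom.naturality (lift f x hx).op
  have h2 : rapp f r V ≫ b.hom.app (op ((EtCoh.bc f).obj V)) = a.hom.app (op V) ≫ rapp f r' V := by
    rw [← rapp_comp_push, hab, rapp_comp]
  rw [Category.assoc, h1, ← Category.assoc, h2, Category.assoc]

end ResHom

variable {ι : Type u} [Preorder ι] {Xs : ιᵒᵖ ⥤ Scheme.{u}} {c : Cone Xs}
  {S T : PSys Xs} (g : PSys.Hom S T) {C : PCone c S} {D : PCone c T} (m : PCone.Hom g C D)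

lemma Θ_hom {l k : ι} (h : l ≤ k) (W' : (Xs.obj (op l)).Etale) :
    Θ S C h W' ≫ m.ν.hom.app (op ((EtCoh.bc (pm Xs c l)).obj W')) =
      (g.φ k).hom.app (op ((EtCoh.bc (fm Xs h)).obj W')) ≫ Θ T D h W' :=
  res_hom (pm Xs c k) (C.ρ k) (D.ρ k) (g.φ k) m.ν (m.comm k) _ _

lemma R_hom {l k k' : ι} (h : l ≤ k) (h' : k ≤ k') (W' : (Xs.obj (op l)).Etale) :
    R S h h' W' ≫ (g.φ k').hom.app (op ((EtCoh.bc (fm Xs (h.trans h'))).obj W')) =
      (g.φ k).hom.app (op ((EtCoh.bc (fm Xs h)).obj W')) ≫ R T h h' W' :=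
  res_hom (fm Xs h') (S.r h') (T.r h') (g.φ k) (g.φ k') (g.comm h') _ _

lemma injective_app_of_mono {X : Scheme.{u}} {F G : EtCoh.Ab X} (φ : F ⟶ G) [Mono φ]
    (V : X.Etale) : Function.Injective (φ.hom.app (op V)) := by
  let S : ShortComplex (EtCoh.Ab X) := ShortComplex.mk φ (cokernel.π φ) (cokernel.condition φ)
  have hS : S.ShortExact := ⟨ShortComplex.exact_cokernel φ⟩
  exact (Groth.Agent.Helper4.CechGenB.sections_exact S hS (op V)).1

section Mono

variable [IsDirected ι (· ≤ ·)] [Nonempty ι]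

include m in
/-- the colimit of a levelwise monomorphism is a monomorphism -/
theorem mono_colimMap (G : Geo Xs c) (hC : C.IsColim) (hD : D.IsColim) [∀ i, Mono (g.φ i)] :
    Mono m.ν := by
  have key : ∀ (W : c.pt.Etale) (s : C.pt.obj.obj (op W)), m.ν.hom.app (op W) s = 0 → s = 0 := by
    intro W s hs
    apply eq_zero_of_zeroLocus
    intro z
    obtain ⟨W₀, a₀, -, hW₀, hcov₀⟩ := Groth.Agent.Helper4.EtGeom.exists_affine_refinement W ⊤
      (c.pt.smallEtaleTopology.top_mem W)
    obtain ⟨w, hw⟩ := hcov₀ z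
    refine ⟨W₀ z, a₀ z, w, hw, ?_⟩
    haveI : IsAffine (W₀ z).left := hW₀ z
    obtain ⟨l, W', hW'1, hW'2, ⟨e⟩⟩ := G.obj₀ (W₀ z) inferInstance inferInstance
    -- transport to the base-changed object
    let s₂ : C.pt.obj.obj (op ((EtCoh.bc (pm Xs c l)).obj W')) :=
      C.pt.obj.map e.inv.op (C.pt.obj.map (a₀ z).op s)
    have hs₂ : m.ν.hom.app (op ((EtCoh.bc (pm Xs c l)).obj W')) s₂ = 0 := by
      have n1 := ConcreteCategory.congr_hom (m.ν.hom.naturality (a₀ z).op) s
      have n2 := ConcreteCategory.congr_hom (m.ν.hom.naturality e.inv.op)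
        (C.pt.obj.map (a₀ z).op s)
      rw [ConcreteCategory.comp_apply, ConcreteCategory.comp_apply] at n1 n2
      show m.ν.hom.app _ (C.pt.obj.map e.inv.op (C.pt.obj.map (a₀ z).op s)) = 0
      rw [n2, n1, hs, map_zero, map_zero]
    obtain ⟨k, h, sk, hsk⟩ := surj_of_geo S C G hC W' s₂
    have h1 := ConcreteCategory.congr_hom (Θ_hom g m h W') sk
    rw [ConcreteCategory.comp_apply, ConcreteCategory.comp_apply, hsk, hs₂] at h1
    obtain ⟨k', h', hk'⟩ := Θ_inj T D G hD h W' _ h1.symm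
    have h2 := ConcreteCategory.congr_hom (R_hom g h h' W') sk
    rw [ConcreteCategory.comp_apply, ConcreteCategory.comp_apply, hk'] at h2
    have h3 : R S h h' W' sk = 0 := by
      apply injective_app_of_mono (g.φ k')
      rw [h2, map_zero]
    have h4 := ConcreteCategory.congr_hom (R_Θ S C h h' W') sk
    rw [ConcreteCategory.comp_apply, h3, map_zero, hsk] at h4
    -- `s₂ = 0`, hence the restriction of `s` vanishes
    have h5 : C.pt.obj.map e.hom.op s₂ = C.pt.obj.map (a₀ z).op s := by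
      show C.pt.obj.map e.hom.op (C.pt.obj.map e.inv.op (C.pt.obj.map (a₀ z).op s)) = _
      rw [map_map_apply, Iso.hom_inv_id]
      exact ConcreteCategory.congr_hom (C.pt.obj.map_id _) _
    rw [← h5, ← h4, map_zero]
  have hinj : ∀ W : c.pt.Etale, Function.Injective (m.ν.hom.app (op W)) := by
    intro W
    rw [injective_iff_map_eq_zero]
    exact key W
  haveI : ∀ W : c.pt.Etaleᵒᵖ, Mono (m.ν.hom.app W) := fun W =>
    (AddCommGrpCat.mono_iff_injective _).2 (hinj W.unop)
  haveI : Mono m.ν.hom := NatTrans.mono_of_mono_app _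
  exact Sheaf.Hom.mono_of_presheaf_mono _ _ _

end Mono

end Groth.Agent.Helper6.LimCohO
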