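import Mathlib
import Groth.Prelude.Def_EtBase
import Groth.Prelude.Def_EtCore
import Groth.Prelude.Def_EtLim
import Groth.Agent.Helper6.LimCohA
import Groth.Agent.Helper6.LimCohB
import Groth.Agent.Helper6.LimCohF
import Groth.Agent.Helper6.LimCohG
import Groth.Agent.Helper6.LimCohH
import Groth.Agent.Helper6.LimCohJ
import Groth.Agent.Helper6.LimCohK
import Groth.Agent.Helper6.LimCohL
import Groth.Agent.Helper6.LimCohM
import Groth.Agent.Helper6.LimCohN
import Groth.Agent.Helper6.LimCohO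

set_option autoImplicit false
set_option linter.style.haveILetI false
set_option linter.unusedSectionVars false
set_option linter.unusedVariables false
set_option linter.unusedSimpArgs false

/-!
# Limit theorem for étale cohomology, part P: the main theorem for systems in direct image form
-/

namespace Groth.Agent.Helper6.LimCohP

open CategoryTheory CategoryTheory.Limits AlgebraicGeometry Opposite Abelian
open Groth.Agent.Helper6.LimCohA Groth.Agent.Helper6.LimCohB Groth.Agent.Helper6.LimCohF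
  Groth.Agent.Helper6.LimCohG Groth.Agent.Helper6.LimCohH Groth.Agent.Helper6.LimCohJ
  Groth.Agent.Helper6.LimCohK Groth.Agent.Helper6.LimCohL Groth.Agent.Helper6.LimCohM
  Groth.Agent.Helper6.LimCohN Groth.Agent.Helper6.LimCohO

universe u

variable {ι : Type u} [Preorder ι] {Xs : ιᵒᵖ ⥤ Scheme.{u}} {c : Cone Xs}
  [∀ i, PreservesFiniteLimits (EtCoh.pull (pm Xs c i))]
  [∀ {i j : ι} (h : i ≤ j), PreservesFiniteLimits (EtCoh.pull (fm Xs h))]

/-- the canonical maps to the cohomology of the colimit -/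
noncomputable def θ (S : PSys Xs) (C : PCone c S) (j : ι) (n : ℕ) :
    EtCoh.H (Xs.obj (op j)) (S.F j) n →+ EtCoh.H c.pt C.pt n :=
  Tm (pm Xs c j) (C.ρ j) n

omit [∀ i, PreservesFiniteLimits (EtCoh.pull (pm Xs c i))] in
/-- the transition maps on cohomology -/
noncomputable def τ (S : PSys Xs) {j k : ι} (h : j ≤ k) (n : ℕ) :
    EtCoh.H (Xs.obj (op j)) (S.F j) n →+ EtCoh.H (Xs.obj (op k)) (S.F k) n :=
  Tm (fm Xs h) (S.r h) n

lemma θ_τ (S : PSys Xs) (C : PCone c S) {j k : ι} (h : j ≤ k) (n : ℕ)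
    (x : EtCoh.H (Xs.obj (op j)) (S.F j) n) : θ S C k n (τ S h n x) = θ S C j n x :=
  Tm_comp (fm Xs h) (pm Xs c k) (pm Xs c j) (pm_comp Xs c h) (S.r h) (C.ρ k) (C.ρ j) (C.coc h) n x

omit [∀ i, PreservesFiniteLimits (EtCoh.pull (pm Xs c i))] in
lemma τ_τ (S : PSys Xs) {i j k : ι} (hij : i ≤ j) (hjk : j ≤ k) (n : ℕ)
    (x : EtCoh.H (Xs.obj (op i)) (S.F i) n) : τ S hjk n (τ S hij n x) = τ S (hij.trans hjk) n x :=
  Tm_comp (fm Xs hij) (fm Xs hjk) (fm Xs (hij.trans hjk)) (fm_comp Xs hij hjk) (S.r hij) (S.r hjk)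
    (S.r (hij.trans hjk)) (S.coc hij hjk) n x

section Zero

variable [IsDirected ι (· ≤ ·)] [Nonempty ι] (S : PSys Xs) (C : PCone c S)

lemma map_iso_injective {X : Scheme.{u}} (F : EtCoh.Ab X) {V W : X.Etale} (e : V ≅ W) :
    Function.Injective (F.obj.map e.hom.op) := by
  intro a b hab
  have h1 := congrArg (F.obj.map e.inv.op) hab
  rw [map_map_apply, map_map_apply, Iso.inv_hom_id] at h1
  have h2 : ∀ y, F.obj.map (𝟙 W).op y = y := fun y =>
    ConcreteCategory.congr_hom (F.obj.map_id _) y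
  rw [h2, h2] at h1
  exact h1

theorem zero_surj (G : Geo Xs c) (hC : C.IsColim) (hqc : ∀ i : ι, CompactSpace (Xs.obj (op i)))
    (hqs : ∀ i : ι, QuasiSeparatedSpace (Xs.obj (op i))) (ξ : EtCoh.H c.pt C.pt 0) :
    ∃ (j : ι) (ξj : EtCoh.H (Xs.obj (op j)) (S.F j) 0), θ S C j 0 ξj = ξ := by
  obtain ⟨j⟩ := ‹Nonempty ι›
  let Tj := EtCoh.top (Xs.obj (op j))
  haveI : CompactSpace Tj.left := hqc j
  haveI : QuasiSeparatedSpace Tj.left := hqs j
  let t := Sheaf.H.equiv₀ C.pt (EtCore.topIsTerminal c.pt) ξ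
  let t' := C.pt.obj.map (EtCore.bcTopIso (pm Xs c j)).hom.op t
  obtain ⟨k, h, s, hs⟩ := surj_of_geo S C G hC Tj t'
  let s' := (S.F k).obj.map (EtCore.bcTopIso (fm Xs h)).inv.op s
  refine ⟨k, (Sheaf.H.equiv₀ (S.F k) (EtCore.topIsTerminal _)).symm s', ?_⟩
  apply (Sheaf.H.equiv₀ C.pt (EtCore.topIsTerminal c.pt)).injective
  show Sheaf.H.equiv₀ C.pt (EtCore.topIsTerminal c.pt) (Tm (pm Xs c k) (C.ρ k) 0 _) = t
  rw [equiv₀_Tm, AddEquiv.apply_symm_apply]
  -- both sides are restrictions of the same section over a terminal object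
  have hterm : IsTerminal ((EtCoh.bc (pm Xs c k)).obj ((EtCoh.bc (fm Xs h)).obj Tj)) :=
    IsTerminal.isTerminalObj (EtCoh.bc (pm Xs c k)) _ (EtCore.bcTopIsTerminal (fm Xs h))
  have e1 : rapp (pm Xs c k) (C.ρ k) (EtCoh.top (Xs.obj (op k))) s' =
      C.pt.obj.map ((EtCoh.bc (pm Xs c k)).map (EtCore.bcTopIso (fm Xs h)).inv).op
        (rapp (pm Xs c k) (C.ρ k) ((EtCoh.bc (fm Xs h)).obj Tj) s) :=
    rapp_nat_apply (pm Xs c k) (C.ρ k) (EtCore.bcTopIso (fm Xs h)).inv s
  have e2 : t = C.pt.obj.map (EtCore.bcTopIso (pm Xs c j)).inv.op t' := by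
    show t = C.pt.obj.map (EtCore.bcTopIso (pm Xs c j)).inv.op
      (C.pt.obj.map (EtCore.bcTopIso (pm Xs c j)).hom.op t)
    rw [map_map_apply, Iso.inv_hom_id]
    exact (ConcreteCategory.congr_hom (C.pt.obj.map_id _) t).symm
  have e3 : t' = C.pt.obj.map (lift (pm Xs c k) (cn (fm Xs h) (pm Xs c k) (pm Xs c j)
      (pm_comp Xs c h) Tj) (cn_hom _ _ _ _ Tj)).op
      (rapp (pm Xs c k) (C.ρ k) ((EtCoh.bc (fm Xs h)).obj Tj) s) := hs.symm
  rw [e1, e2, e3, map_map_apply, map_map_apply]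
  have e4 : (EtCore.bcTopIso (pm Xs c k)).inv ≫
      (EtCoh.bc (pm Xs c k)).map (EtCore.bcTopIso (fm Xs h)).inv =
      (EtCore.bcTopIso (pm Xs c j)).inv ≫ lift (pm Xs c k) (cn (fm Xs h) (pm Xs c k) (pm Xs c j)
        (pm_comp Xs c h) Tj) (cn_hom _ _ _ _ Tj) := hterm.hom_ext _ _
  rw [e4]

theorem zero_inj (G : Geo Xs c) (hC : C.IsColim) (hqc : ∀ i : ι, CompactSpace (Xs.obj (op i)))
    (j : ι) (ξj : EtCoh.H (Xs.obj (op j)) (S.F j) 0) (hξ : θ S C j 0 ξj = 0) :
    ∃ (k : ι) (h : j ≤ k), τ S h 0 ξj = 0 := by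
  let Tj := EtCoh.top (Xs.obj (op j))
  haveI : CompactSpace Tj.left := hqc j
  let s := Sheaf.H.equiv₀ (S.F j) (EtCore.topIsTerminal _) ξj
  have h1 : Sheaf.H.equiv₀ C.pt (EtCore.topIsTerminal c.pt) (Tm (pm Xs c j) (C.ρ j) 0 ξj) = 0 := by
    have : Tm (pm Xs c j) (C.ρ j) 0 ξj = 0 := hξ
    rw [this, map_zero]
  rw [equiv₀_Tm] at h1
  have h2 : rapp (pm Xs c j) (C.ρ j) Tj s = 0 := by
    apply map_iso_injective C.pt (EtCore.bcTopIso (pm Xs c j)).symm
    rw [map_zero]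
    exact h1
  obtain ⟨k, h, hk⟩ := inj_of_geo S G C hC Tj s h2
  refine ⟨k, h, ?_⟩
  apply (Sheaf.H.equiv₀ (S.F k) (EtCore.topIsTerminal _)).injective
  show Sheaf.H.equiv₀ (S.F k) (EtCore.topIsTerminal _) (Tm (fm Xs h) (S.r h) 0 ξj) = _
  rw [equiv₀_Tm, map_zero]
  have : rapp (fm Xs h) (S.r h) (EtCoh.top (Xs.obj (op j)))
      (Sheaf.H.equiv₀ (S.F j) (EtCore.topIsTerminal _) ξj) = 0 := hk
  rw [this, map_zero]

end Zero

section Emb

/-- an embedding of a system with colimit cone into an acyclic system with acyclic colimit -/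
structure Emb (S : PSys Xs) (C : PCone c S) where
  /-- the acyclic system -/
  G : PSys Xs
  /-- the quotient system -/
  Q : PSys Xs
  /-- the colimit of the acyclic system -/
  CG : PCone c G
  /-- the colimit of the quotient system -/
  CQ : PCone c Q
  /-- the embedding -/
  i : PSys.Hom S G
  /-- the projection -/
  p : PSys.Hom G Q
  /-- the embedding on colimits -/
  iC : PCone.Hom i C CG
  /-- the projection on colimits -/
  pC : PCone.Hom p CG CQ
  zero_lvl : ∀ j, i.φ j ≫ p.φ j = 0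
  exact_lvl : ∀ j, (ShortComplex.mk (i.φ j) (p.φ j) (zero_lvl j)).ShortExact
  zero_lim : iC.ν ≫ pC.ν = 0
  exact_lim : (ShortComplex.mk iC.ν pC.ν zero_lim).ShortExact
  hCG : CG.IsColim
  hCQ : CQ.IsColim
  acyc_lvl : ∀ (j : ι) (n : ℕ) (x : EtCoh.H (Xs.obj (op j)) (G.F j) (n + 1)), x = 0
  acyc_lim : ∀ (n : ℕ) (x : EtCoh.H c.pt CG.pt (n + 1)), x = 0

variable [IsDirected ι (· ≤ ·)] [Nonempty ι]

omit [∀ i, PreservesFiniteLimits (EtCoh.pull (pm Xs c i))] in
theorem exists_emb (G : Geo Xs c) [CompactSpace c.pt] [QuasiSeparatedSpace c.pt] (S : PSys Xs)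
    (C : PCone c S) (hC : C.IsColim) : Nonempty (Emb S C) := by
  let A : ∀ k : ι, EtCoh.Ab (Xs.obj (op k)) := fun k => Injective.under (S.F k)
  let a : ∀ k, S.F k ⟶ A k := fun k => Injective.ι (S.F k)
  haveI : ∀ k, Mono (a k) := fun k => inferInstanceAs (Mono (Injective.ι (S.F k)))
  haveI : ∀ k, Injective (A k) := fun k => inferInstanceAs (Injective (Injective.under (S.F k)))
  let i := toCofree S a
  let CG := colimCone c (cofree A)
  have hCG : CG.IsColim := colimCone_isColim c (cofree A)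
  let iC := colimMap i hC CG
  haveI : ∀ j, Mono (i.φ j) := fun j => mono_toCofree S a j
  haveI : Mono iC.ν := mono_colimMap i iC G hC hCG
  haveI hinjF : ∀ j, Injective ((cofree A).F j) := fun j => injective_cofree A j
  refine ⟨{
    G := cofree A
    Q := cokerSys i
    CG := CG
    CQ := cokerCone i iC
    i := i
    p := cokerHom i
    iC := iC
    pC := cokerConeHom i iC
    zero_lvl := fun j => cokernel.condition _
    exact_lvl := fun j => ⟨ShortComplex.exact_cokernel (i.φ j)⟩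
    zero_lim := cokernel.condition _
    exact_lim := ⟨ShortComplex.exact_cokernel iC.ν⟩
    hCG := hCG
    hCQ := cokerCone_isColim i hC hCG iC
    acyc_lvl := fun j n x => Ext.eq_zero_of_injective x
    acyc_lim := fun n x => H_eq_zero_of_injective (cofree A) CG G hCG hinjF n x }⟩

end Emb

end Groth.Agent.Helper6.LimCohP
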