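import Mathlib
import Groth.Prelude.Def_EtBase
import Groth.Prelude.Def_EtCore
import Groth.Prelude.Def_EtLim
import Groth.Agent.Helper6.LimCohP

set_option autoImplicit false
set_option linter.style.haveILetI false
set_option linter.unusedSectionVars false
set_option linter.unusedVariables false
set_option linter.unusedSimpArgs false

/-!
# Limit theorem for étale cohomology, part Q: the induction
-/

namespace Groth.Agent.Helper6.LimCohQ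

open CategoryTheory CategoryTheory.Limits AlgebraicGeometry Opposite Abelian
open Groth.Agent.Helper6.LimCohA Groth.Agent.Helper6.LimCohB Groth.Agent.Helper6.LimCohF
  Groth.Agent.Helper6.LimCohL Groth.Agent.Helper6.LimCohP

universe u

variable {ι : Type u} [Preorder ι] {Xs : ιᵒᵖ ⥤ Scheme.{u}} {c : Cone Xs}
  [∀ i, PreservesFiniteLimits (EtCoh.pull (pm Xs c i))]
  [∀ {i j : ι} (h : i ≤ j), PreservesFiniteLimits (EtCoh.pull (fm Xs h))]

variable (c) in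
/-- the statement of the limit theorem in degree `n` -/
def Stmt (n : ℕ) : Prop :=
  ∀ (S : PSys Xs) (C : PCone c S), C.IsColim →
    (∀ ξ : EtCoh.H c.pt C.pt n, ∃ (j : ι) (ξj : EtCoh.H (Xs.obj (op j)) (S.F j) n),
      θ S C j n ξj = ξ) ∧
    (∀ (j : ι) (ξj : EtCoh.H (Xs.obj (op j)) (S.F j) n), θ S C j n ξj = 0 →
      ∃ (k : ι) (h : j ≤ k), τ S h n ξj = 0)

variable {S : PSys Xs} {C : PCone c S} (E : Emb S C)

lemma θ_delta (j : ι) (n : ℕ) (x : EtCoh.H (Xs.obj (op j)) (E.Q.F j) n) :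
    θ S C j (n + 1) (x.comp (E.exact_lvl j).extClass rfl) =
      (θ E.Q E.CQ j n x).comp E.exact_lim.extClass rfl :=
  Tm_delta (pm Xs c j) (E.exact_lvl j) E.exact_lim (C.ρ j) (E.CG.ρ j) (E.CQ.ρ j)
    (E.iC.comm j) (E.pC.comm j) n x

omit [∀ i, PreservesFiniteLimits (EtCoh.pull (pm Xs c i))] in
lemma τ_delta {j k : ι} (h : j ≤ k) (n : ℕ) (x : EtCoh.H (Xs.obj (op j)) (E.Q.F j) n) :
    τ S h (n + 1) (x.comp (E.exact_lvl j).extClass rfl) =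
      (τ E.Q h n x).comp (E.exact_lvl k).extClass rfl :=
  Tm_delta (fm Xs h) (E.exact_lvl j) (E.exact_lvl k) (S.r h) (E.G.r h) (E.Q.r h)
    (E.i.comm h) (E.p.comm h) n x

lemma θ_p (j : ι) (n : ℕ) (x : EtCoh.H (Xs.obj (op j)) (E.G.F j) n) :
    Sheaf.H.map E.pC.ν n (θ E.G E.CG j n x) = θ E.Q E.CQ j n (Sheaf.H.map (E.p.φ j) n x) :=
  Tm_nat (pm Xs c j) (E.CG.ρ j) (E.CQ.ρ j) (E.p.φ j) E.pC.ν (E.pC.comm j) n x

omit [∀ i, PreservesFiniteLimits (EtCoh.pull (pm Xs c i))] in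
lemma τ_p {j k : ι} (h : j ≤ k) (n : ℕ) (x : EtCoh.H (Xs.obj (op j)) (E.G.F j) n) :
    Sheaf.H.map (E.p.φ k) n (τ E.G h n x) = τ E.Q h n (Sheaf.H.map (E.p.φ j) n x) :=
  Tm_nat (fm Xs h) (E.G.r h) (E.Q.r h) (E.p.φ j) (E.p.φ k) (E.p.comm h) n x

section Step

variable [IsDirected ι (· ≤ ·)] [Nonempty ι]

include E in
theorem step_surj (n : ℕ) (hn : Stmt c n) (ξ : EtCoh.H c.pt C.pt (n + 1)) :
    ∃ (j : ι) (ξj : EtCoh.H (Xs.obj (op j)) (S.F j) (n + 1)), θ S C j (n + 1) ξj = ξ := by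
  have h0 : ξ.comp (Ext.mk₀ E.iC.ν) (add_zero (n + 1)) = 0 := E.acyc_lim n _
  obtain ⟨η, hη⟩ := Ext.covariant_sequence_exact₁ _ E.exact_lim ξ h0 rfl
  obtain ⟨j, ηj, hηj⟩ := (hn E.Q E.CQ E.hCQ).1 η
  refine ⟨j, ηj.comp (E.exact_lvl j).extClass rfl, ?_⟩
  rw [θ_delta, hηj]
  exact hη

include E in
theorem step_inj (n : ℕ) (hn : Stmt c n) (j : ι)
    (ξj : EtCoh.H (Xs.obj (op j)) (S.F j) (n + 1)) (hξ : θ S C j (n + 1) ξj = 0) :
    ∃ (k : ι) (h : j ≤ k), τ S h (n + 1) ξj = 0 := by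
  have h0 : ξj.comp (Ext.mk₀ (E.i.φ j)) (add_zero (n + 1)) = 0 := E.acyc_lvl j n _
  obtain ⟨ηj, hηj⟩ := Ext.covariant_sequence_exact₁ _ (E.exact_lvl j) ξj h0 rfl
  have h1 : (θ E.Q E.CQ j n ηj).comp E.exact_lim.extClass rfl = 0 := by
    rw [← θ_delta, hηj, hξ]
  obtain ⟨ζ, hζ⟩ := Ext.covariant_sequence_exact₃ _ E.exact_lim _ rfl h1
  obtain ⟨l₀, ζ₀, hζ₀⟩ := (hn E.G E.CG E.hCG).1 ζ
  obtain ⟨l, hjl, hl₀l⟩ := exists_ge_ge j l₀
  let ζl := τ E.G hl₀l n ζ₀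
  have hζl : θ E.G E.CG l n ζl = ζ := by rw [θ_τ, hζ₀]
  let η' := τ E.Q hjl n ηj - Sheaf.H.map (E.p.φ l) n ζl
  have hη' : θ E.Q E.CQ l n η' = 0 := by
    show θ E.Q E.CQ l n (τ E.Q hjl n ηj - Sheaf.H.map (E.p.φ l) n ζl) = 0
    rw [map_sub, θ_τ, ← θ_p, hζl, Sheaf.H.map_apply, hζ, sub_self]
  obtain ⟨k, hlk, hk⟩ := (hn E.Q E.CQ E.hCQ).2 l η' hη'
  refine ⟨k, hjl.trans hlk, ?_⟩
  have h2 : τ E.Q (hjl.trans hlk) n ηj = Sheaf.H.map (E.p.φ k) n (τ E.G hlk n ζl) := by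
    have h3 : τ E.Q hlk n (τ E.Q hjl n ηj - Sheaf.H.map (E.p.φ l) n ζl) = 0 := hk
    rw [map_sub, τ_τ, ← τ_p, sub_eq_zero] at h3
    exact h3
  rw [← hηj, τ_delta, h2, Sheaf.H.map_apply,
    Ext.comp_assoc _ _ _ (add_zero n) (zero_add 1) (by omega), (E.exact_lvl k).comp_extClass,
    Ext.comp_zero]

end Step

section Main

variable [IsDirected ι (· ≤ ·)] [Nonempty ι]

/-- the limit theorem for systems in direct image form -/
theorem main (G : Geo Xs c) (hqc : ∀ i : ι, CompactSpace (Xs.obj (op i)))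
    (hqs : ∀ i : ι, QuasiSeparatedSpace (Xs.obj (op i))) (n : ℕ) : Stmt c n := by
  obtain ⟨i₀⟩ := ‹Nonempty ι›
  haveI : IsAffineHom (pm Xs c i₀) := G.affine i₀
  haveI := hqc i₀
  haveI := hqs i₀
  haveI : CompactSpace c.pt := QuasiCompact.compactSpace_of_compactSpace (pm Xs c i₀)
  haveI : QuasiSeparatedSpace c.pt := quasiSeparatedSpace_of_quasiSeparated (pm Xs c i₀)
  induction n with
  | zero =>
    intro S C hC
    exact ⟨fun ξ => zero_surj S C G hC hqc hqs ξ, fun j ξj hξ => zero_inj S C G hC hqc j ξj hξ⟩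
  | succ n ih =>
    intro S C hC
    obtain ⟨E⟩ := exists_emb G S C hC
    exact ⟨fun ξ => step_surj E n ih ξ, fun j ξj hξ => step_inj E n ih j ξj hξ⟩

end Main

end Groth.Agent.Helper6.LimCohQ
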