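import Mathlib
import Groth.Prelude.Def_EtBase
import Groth.Prelude.Def_EtCore
import Groth.Prelude.Def_EtLim
import Groth.Agent.Helper6.LimCohI
import Groth.Agent.Helper6.LimCohQ

set_option autoImplicit false
set_option linter.style.haveILetI false
set_option linter.unusedSectionVars false
set_option linter.unusedVariables false
set_option linter.unusedSimpArgs false

/-!
# Limit theorem for étale cohomology, part R: systems in inverse image form
-/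

namespace Groth.Agent.Helper6.LimCohR

open CategoryTheory CategoryTheory.Limits AlgebraicGeometry Opposite Abelian
open Groth.Agent.Helper6.LimCohA Groth.Agent.Helper6.LimCohB Groth.Agent.Helper6.LimCohF
  Groth.Agent.Helper6.LimCohL Groth.Agent.Helper6.LimCohP Groth.Agent.Helper6.LimCohQ

universe u

section Mate

variable {X Y Z : Scheme.{u}}

lemma pullCongr_rfl_hom_app (f : X ⟶ Y) (F : EtCoh.Ab Y) :
    (EtCore.pullCongr (rfl : f = f)).hom.app F = 𝟙 _ := by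
  simp [EtCore.pullCongr]

/-- the cocycle condition in inverse image form -/
lemma cocycle_iff_pull (f : X ⟶ Y) (g : Z ⟶ X) (h : Z ⟶ Y) (w : g ≫ f = h) {F : EtCoh.Ab Y}
    {M₁ : EtCoh.Ab X} {M₂ : EtCoh.Ab Z} (φ : (EtCoh.pull f).obj F ⟶ M₁)
    (φ' : (EtCoh.pull g).obj M₁ ⟶ M₂) (φ'' : (EtCoh.pull h).obj F ⟶ M₂) :
    Cocycle f g h w (adjR f φ) (adjR g φ') (adjR h φ'') ↔
      φ'' = (EtCore.pullCongr w.symm ≪≫ EtCore.pullComp g f).hom.app F ≫
        (EtCoh.pull g).map φ ≫ φ' := by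
  subst w
  have e0 : (EtCore.pullCongr (rfl : g ≫ f = g ≫ f).symm ≪≫ EtCore.pullComp g f).hom.app F =
      (EtCore.pullComp g f).hom.app F := by
    rw [Iso.trans_hom, NatTrans.comp_app]
    exact (congrArg (· ≫ (EtCore.pullComp g f).hom.app F) (pullCongr_rfl_hom_app (g ≫ f) F)).trans
      (Category.id_comp _)
  rw [e0]
  have h1 := adjR_pullComp f g ((EtCoh.pull g).map φ ≫ φ')
  have e1 : adjR g ((EtCoh.pull g).map φ ≫ φ') = φ ≫ adjR g φ' := adjR_map_comp g φ φ'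
  have e2 : adjR f (φ ≫ adjR g φ') = adjR f φ ≫ (EtCoh.push f).map (adjR g φ') := adjR_comp f _ _
  rw [e1, e2] at h1
  have e3 : pk f g (g ≫ f) rfl M₂ ≫ (EtCoh.pushComp f g).hom.app M₂ = 𝟙 _ := by
    unfold pk
    rw [pushCongr_rfl_hom_app, Category.id_comp, Iso.inv_hom_id_app]
  have e4 : (EtCoh.pushComp f g).hom.app M₂ ≫ pk f g (g ≫ f) rfl M₂ = 𝟙 _ := by
    unfold pk
    rw [pushCongr_rfl_hom_app, Category.id_comp, Iso.hom_inv_id_app]
  unfold Cocycle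
  constructor
  · intro hc
    rw [hc, Category.assoc, e3, Category.comp_id] at h1
    have h2 := congrArg (adjL (g ≫ f)) h1
    rw [adjL_adjR, adjL_adjR] at h2
    exact h2.symm
  · intro hφ
    rw [hφ, h1, Category.assoc, e4]
    exact (Category.comp_id _).symm

end Mate

section PullForm

variable {ι : Type u} [Preorder ι] (Xs : ιᵒᵖ ⥤ Scheme.{u}) (c : Cone Xs)
  (F : ∀ i : ι, EtCoh.Ab (Xs.obj (op i)))
  (φ : ∀ ⦃i j : ι⦄ (h : i ≤ j), (EtCoh.pull (Xs.map (homOfLE h).op)).obj (F i) ⟶ F j)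
  (hφ : ∀ ⦃i j k : ι⦄ (hij : i ≤ j) (hjk : j ≤ k),
    φ (hij.trans hjk) = (EtLim.pullTrans Xs hij hjk).hom.app (F i) ≫
      (EtCoh.pull (Xs.map (homOfLE hjk).op)).map (φ hij) ≫ φ hjk)

/-- the system in direct image form attached to a system in inverse image form -/
@[reducible] noncomputable def sysOf : PSys Xs where
  F := F
  r h := adjR (fm Xs h) (φ h)
  coc hij hjk := (cocycle_iff_pull (fm Xs hij) (fm Xs hjk) (fm Xs (hij.trans hjk))
    (fm_comp Xs hij hjk) (φ hij) (φ hjk) (φ (hij.trans hjk))).2 (hφ hij hjk)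

variable (N : EtCoh.Ab c.pt) (σ : ∀ i, (EtCoh.pull (c.π.app (op i))).obj (F i) ⟶ N)
  (hσ : ∀ ⦃i j : ι⦄ (h : i ≤ j), σ i = (EtLim.pullTransCone Xs c h).hom.app (F i) ≫
    (EtCoh.pull (c.π.app (op j))).map (φ h) ≫ σ j)

/-- the cone in direct image form attached to a cone in inverse image form -/
@[reducible] noncomputable def coneOf : PCone c (sysOf Xs F φ hφ) where
  pt := N
  ρ i := adjR (pm Xs c i) (σ i)
  coc {i j} h := (cocycle_iff_pull (fm Xs h) (pm Xs c j) (pm Xs c i) (pm_comp Xs c h) (φ h)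
    (σ j) (σ i)).2 (hσ h)

include hσ in
theorem coneOf_isColim
    (huniv : ∀ (N' : EtCoh.Ab c.pt) (σ' : ∀ i, (EtCoh.pull (c.π.app (op i))).obj (F i) ⟶ N'),
      (∀ ⦃i j : ι⦄ (h : i ≤ j), σ' i = (EtLim.pullTransCone Xs c h).hom.app (F i) ≫
        (EtCoh.pull (c.π.app (op j))).map (φ h) ≫ σ' j) →
      ∃! ν : N ⟶ N', ∀ i, σ i ≫ ν = σ' i) :
    (coneOf Xs c F φ hφ N σ hσ).IsColim := by
  intro D
  let σ' : ∀ i, (EtCoh.pull (c.π.app (op i))).obj (F i) ⟶ D.pt := fun i => adjL (pm Xs c i) (D.ρ i)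
  have hσ' : ∀ ⦃i j : ι⦄ (h : i ≤ j), σ' i = (EtLim.pullTransCone Xs c h).hom.app (F i) ≫
      (EtCoh.pull (c.π.app (op j))).map (φ h) ≫ σ' j := by
    intro i j h
    apply (cocycle_iff_pull (fm Xs h) (pm Xs c j) (pm Xs c i) (pm_comp Xs c h) (φ h)
      (σ' j) (σ' i)).1
    have := D.coc h
    show Cocycle _ _ _ _ _ (adjR (pm Xs c j) (adjL (pm Xs c j) (D.ρ j)))
      (adjR (pm Xs c i) (adjL (pm Xs c i) (D.ρ i)))
    rw [adjR_adjL, adjR_adjL]
    exact this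
  obtain ⟨ν, hν, hνu⟩ := huniv D.pt σ' hσ'
  refine ⟨ν, fun i => ?_, fun ν' hν' => ?_⟩
  · show adjR (pm Xs c i) (σ i) ≫ (EtCoh.push (pm Xs c i)).map ν = D.ρ i
    rw [← adjR_comp, hν i]
    exact adjR_adjL _ _
  · apply hνu
    intro i
    have h1 : adjR (pm Xs c i) (σ i) ≫ (EtCoh.push (pm Xs c i)).map ν' = D.ρ i := hν' i
    rw [← adjR_comp] at h1
    have h2 := congrArg (adjL (pm Xs c i)) h1
    rw [adjL_adjR] at h2
    exact h2

variable [IsDirected ι (· ≤ ·)] [Nonempty ι]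
  [∀ a, PreservesFiniteLimits (EtCoh.pull (c.π.app a))]
  [∀ ⦃a b : ιᵒᵖ⦄ (h : a ⟶ b), PreservesFiniteLimits (EtCoh.pull (Xs.map h))]

include hφ hσ in
/-- the limit theorem for a system in inverse image form -/
theorem pull_form (haff : ∀ ⦃a b : ιᵒᵖ⦄ (h : a ⟶ b), IsAffineHom (Xs.map h))
    (hqc : ∀ a, CompactSpace ↥(Xs.obj a)) (hqs : ∀ a, QuasiSeparatedSpace ↥(Xs.obj a))
    (hc : IsLimit c)
    (huniv : ∀ (N' : EtCoh.Ab c.pt) (σ' : ∀ i, (EtCoh.pull (c.π.app (op i))).obj (F i) ⟶ N'),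
      (∀ ⦃i j : ι⦄ (h : i ≤ j), σ' i = (EtLim.pullTransCone Xs c h).hom.app (F i) ≫
        (EtCoh.pull (c.π.app (op j))).map (φ h) ≫ σ' j) →
      ∃! ν : N ⟶ N', ∀ i, σ i ≫ ν = σ' i) (n : ℕ) :
    (∀ ξ : EtCoh.H c.pt N n, ∃ (j : ι) (ξj : EtCoh.H (Xs.obj (op j)) (F j) n),
        EtLim.HpullThen (c.π.app (op j)) (F j) (σ j) n ξj = ξ) ∧
    (∀ (j : ι) (ξj : EtCoh.H (Xs.obj (op j)) (F j) n),
      EtLim.HpullThen (c.π.app (op j)) (F j) (σ j) n ξj = 0 →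
        ∃ (k : ι) (hk : j ≤ k),
          EtLim.HpullThen (Xs.map (homOfLE hk).op) (F j) (φ hk) n ξj = 0) := by
  have G := Groth.Agent.Helper6.LimCohI.geo Xs haff c hc
  have hC := coneOf_isColim Xs c F φ hφ N σ hσ huniv
  obtain ⟨h1, h2⟩ := main (c := c) G (fun i => hqc (op i)) (fun i => hqs (op i)) n
    (sysOf Xs F φ hφ) (coneOf Xs c F φ hφ N σ hσ) hC
  refine ⟨fun ξ => ?_, fun j ξj hξ => ?_⟩
  · obtain ⟨j, ξj, hj⟩ := h1 ξ
    refine ⟨j, ξj, ?_⟩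
    rw [← Tm_eq_HpullThen]
    exact hj
  · have h3 : θ (sysOf Xs F φ hφ) (coneOf Xs c F φ hφ N σ hσ) j n ξj = 0 := by
      show Tm (pm Xs c j) (adjR (pm Xs c j) (σ j)) n ξj = 0
      rw [Tm_eq_HpullThen]
      exact hξ
    obtain ⟨k, hk, hk0⟩ := h2 j ξj h3
    refine ⟨k, hk, ?_⟩
    have h4 : Tm (fm Xs hk) (adjR (fm Xs hk) (φ hk)) n ξj = 0 := hk0
    rw [Tm_eq_HpullThen] at h4
    exact h4

end PullForm

end Groth.Agent.Helper6.LimCohR
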