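import Mathlib
import Groth.Prelude.Def_EtBase
import Groth.Prelude.Def_EtCore
import Groth.Prelude.Def_EtLim
import Groth.Agent.Helper6.LimCohR

set_option autoImplicit false
set_option linter.style.haveILetI false
set_option linter.unusedSectionVars false
set_option linter.unusedVariables false
set_option linter.unusedSimpArgs false

/-!
# Limit theorem for étale cohomology, part S: systems pulled back from one stage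
-/

namespace Groth.Agent.Helper6.LimCohS

open CategoryTheory CategoryTheory.Limits AlgebraicGeometry Opposite Abelian
open Groth.Agent.Helper6.LimCohA Groth.Agent.Helper6.LimCohB Groth.Agent.Helper6.LimCohF
  Groth.Agent.Helper6.LimCohL Groth.Agent.Helper6.LimCohM Groth.Agent.Helper6.LimCohN
  Groth.Agent.Helper6.LimCohR

universe u

section Can

variable {Y X₁ X₂ X₃ : Scheme.{u}} (F₀ : EtCoh.Ab Y)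

/-- the canonical morphism `f₁⁻¹ F₀ ⟶ f₂_* (f₂ ≫ f₁)⁻¹ F₀` -/
noncomputable def rr (f₁ : X₁ ⟶ Y) (f₂ : X₂ ⟶ X₁) (f₁₂ : X₂ ⟶ Y) (w : f₂ ≫ f₁ = f₁₂) :
    (EtCoh.pull f₁).obj F₀ ⟶ (EtCoh.push f₂).obj ((EtCoh.pull f₁₂).obj F₀) :=
  adjL f₁ ((EtCoh.pullPushAdj f₁₂).unit.app F₀ ≫ pk f₁ f₂ f₁₂ w ((EtCoh.pull f₁₂).obj F₀))

lemma rr_cocycle (f₁ : X₁ ⟶ Y) (f₂ : X₂ ⟶ X₁) (f₃ : X₃ ⟶ X₂) (f₁₂ : X₂ ⟶ Y) (f₂₃ : X₃ ⟶ X₁)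
    (f₁₂₃ : X₃ ⟶ Y) (w₁₂ : f₂ ≫ f₁ = f₁₂) (w₂₃ : f₃ ≫ f₂ = f₂₃) (w : f₂₃ ≫ f₁ = f₁₂₃)
    (w' : f₃ ≫ f₁₂ = f₁₂₃) :
    Cocycle f₂ f₃ f₂₃ w₂₃ (rr F₀ f₁ f₂ f₁₂ w₁₂) (rr F₀ f₁₂ f₃ f₁₂₃ w') (rr F₀ f₁ f₂₃ f₁₂₃ w) := by
  unfold Cocycle
  have h1 : adjR f₁ (rr F₀ f₁ f₂ f₁₂ w₁₂ ≫ (EtCoh.push f₂).map (rr F₀ f₁₂ f₃ f₁₂₃ w')) =
      adjR f₁ (rr F₀ f₁ f₂₃ f₁₂₃ w ≫ pk f₂ f₃ f₂₃ w₂₃ ((EtCoh.pull f₁₂₃).obj F₀)) := by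
    rw [adjR_comp, adjR_comp]
    unfold rr
    rw [adjR_adjL, adjR_adjL, Category.assoc, Category.assoc, ← pk_naturality, ← Category.assoc,
      ← adjR_eq, adjR_adjL, Category.assoc, pk_assoc f₁ f₂ f₃ f₁₂ f₂₃ f₁₂₃ w₁₂ w₂₃ w w']
  have := congrArg (adjL f₁) h1
  rwa [adjL_adjR, adjL_adjR] at this

lemma adjL_rr (f₁ : X₁ ⟶ Y) (f₂ : X₂ ⟶ X₁) (f₁₂ : X₂ ⟶ Y) (w : f₂ ≫ f₁ = f₁₂) :
    adjL f₂ (rr F₀ f₁ f₂ f₁₂ w) =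
      (EtCore.pullComp f₂ f₁).inv.app F₀ ≫ (EtCore.pullCongr w).hom.app F₀ := by
  subst w
  rw [pullCongr_rfl_hom_app, Category.comp_id]
  have h1 := adjR_pullComp f₁ f₂ (adjL f₂ (rr F₀ f₁ f₂ (f₂ ≫ f₁) rfl))
  rw [adjR_adjL] at h1
  unfold rr at h1
  rw [adjR_adjL] at h1
  have e3 : pk f₁ f₂ (f₂ ≫ f₁) rfl ((EtCoh.pull (f₂ ≫ f₁)).obj F₀) ≫
      (EtCoh.pushComp f₁ f₂).hom.app _ = 𝟙 _ := by
    unfold pk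
    rw [pushCongr_rfl_hom_app, Category.id_comp, Iso.inv_hom_id_app]
  rw [Category.assoc, e3] at h1
  replace h1 := h1.trans (Category.comp_id _)
  have h2 : adjR (f₂ ≫ f₁) (𝟙 ((EtCoh.pull (f₂ ≫ f₁)).obj F₀)) =
      (EtCoh.pullPushAdj (f₂ ≫ f₁)).unit.app F₀ := by
    rw [adjR_eq, CategoryTheory.Functor.map_id]
    exact Category.comp_id _
  have h3 := congrArg (adjL (f₂ ≫ f₁)) (h1.trans h2.symm)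
  rw [adjL_adjR, adjL_adjR] at h3
  -- `pullComp.hom ≫ ψ = 𝟙`
  have h4 : (EtCore.pullComp f₂ f₁).inv.app F₀ ≫ (EtCore.pullComp f₂ f₁).hom.app F₀ ≫
      adjL f₂ (rr F₀ f₁ f₂ (f₂ ≫ f₁) rfl) = (EtCore.pullComp f₂ f₁).inv.app F₀ ≫ 𝟙 _ :=
    congrArg ((EtCore.pullComp f₂ f₁).inv.app F₀ ≫ ·) h3
  rw [Iso.inv_hom_id_app_assoc, Category.comp_id] at h4
  exact h4

end Can

end Groth.Agent.Helper6.LimCohS
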