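import Mathlib
import Groth.Prelude.Def_EtBase
import Groth.Prelude.Def_EtCore
import Groth.Prelude.Def_EtLim
import Groth.Agent.Helper6.LimCohS

set_option autoImplicit false
set_option linter.style.haveILetI false
set_option linter.unusedSectionVars false
set_option linter.unusedVariables false
set_option linter.unusedSimpArgs false

/-!
# Limit theorem for étale cohomology, part T: systems pulled back from one stage (assembly)
-/

namespace Groth.Agent.Helper6.LimCohT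

open CategoryTheory CategoryTheory.Limits AlgebraicGeometry Opposite Abelian
open Groth.Agent.Helper6.LimCohA Groth.Agent.Helper6.LimCohB Groth.Agent.Helper6.LimCohF
  Groth.Agent.Helper6.LimCohL Groth.Agent.Helper6.LimCohM Groth.Agent.Helper6.LimCohN
  Groth.Agent.Helper6.LimCohR Groth.Agent.Helper6.LimCohS

universe u

variable {ι : Type u} [Preorder ι] [IsDirected ι (· ≤ ·)] (Xs : ιᵒᵖ ⥤ Scheme.{u}) (c : Cone Xs)
  (i₀ : ι)

/-- the stages above `i₀` -/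
abbrev J : Type u := {j : ι // i₀ ≤ j}

instance : Nonempty (J i₀) := ⟨⟨i₀, le_rfl⟩⟩

instance : IsDirected (J i₀) (· ≤ ·) :=
  ⟨fun a b => by
    obtain ⟨k, h1, h2⟩ := exists_ge_ge a.1 b.1
    exact ⟨⟨k, a.2.trans h1⟩, h1, h2⟩⟩

/-- the inclusion of the stages above `i₀` -/
abbrev incl : J i₀ ⥤ ι := (Subtype.mono_coe (fun j : ι => i₀ ≤ j)).functor

instance : (incl i₀).Final := by
  rw [Monotone.final_functor_iff]
  intro k
  obtain ⟨m, h1, h2⟩ := exists_ge_ge i₀ k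
  exact ⟨⟨m, h1⟩, h2⟩

/-- the restricted system -/
abbrev Xs' : (J i₀)ᵒᵖ ⥤ Scheme.{u} := (incl i₀).op ⋙ Xs

/-- the restricted cone -/
abbrev c' : Cone (Xs' Xs i₀) := c.whisker (incl i₀).op

/-- the restricted cone is a limit cone -/
noncomputable def hc' (hc : IsLimit c) : IsLimit (c' Xs c i₀) :=
  (Functor.Initial.isLimitWhiskerEquiv (incl i₀).op c).symm hc

variable (F₀ : EtCoh.Ab (Xs.obj (op i₀)))

/-- the sheaves of the system -/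
noncomputable abbrev F' (j : J i₀) : EtCoh.Ab (Xs.obj (op j.1)) :=
  (EtCoh.pull (fm Xs j.2)).obj F₀

/-- the colimit sheaf -/
noncomputable abbrev N : EtCoh.Ab c.pt := (EtCoh.pull (pm Xs c i₀)).obj F₀

/-- the transition isomorphisms -/
noncomputable def φi ⦃j k : J i₀⦄ (h : j ≤ k) :
    (EtCoh.pull (fm Xs (show j.1 ≤ k.1 from h))).obj (F' Xs i₀ F₀ j) ≅ F' Xs i₀ F₀ k :=
  ((EtCore.pullComp (fm Xs (show j.1 ≤ k.1 from h)) (fm Xs j.2)).symm ≪≫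
    EtCore.pullCongr (fm_comp Xs j.2 h)).app F₀

/-- the isomorphisms to the colimit sheaf -/
noncomputable def σi (j : J i₀) :
    (EtCoh.pull (pm Xs c j.1)).obj (F' Xs i₀ F₀ j) ≅ N Xs c i₀ F₀ :=
  ((EtCore.pullComp (pm Xs c j.1) (fm Xs j.2)).symm ≪≫
    EtCore.pullCongr (pm_comp Xs c j.2)).app F₀

lemma φi_hom ⦃j k : J i₀⦄ (h : j ≤ k) :
    (φi Xs i₀ F₀ h).hom = adjL (fm Xs (show j.1 ≤ k.1 from h))
      (rr F₀ (fm Xs j.2) (fm Xs (show j.1 ≤ k.1 from h)) (fm Xs k.2) (fm_comp Xs j.2 h)) :=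
  (adjL_rr F₀ _ _ _ _).symm

lemma σi_hom (j : J i₀) :
    (σi Xs c i₀ F₀ j).hom = adjL (pm Xs c j.1)
      (rr F₀ (fm Xs j.2) (pm Xs c j.1) (pm Xs c i₀) (pm_comp Xs c j.2)) :=
  (adjL_rr F₀ _ _ _ _).symm

lemma hφ' ⦃i j k : J i₀⦄ (hij : i ≤ j) (hjk : j ≤ k) :
    (φi Xs i₀ F₀ (hij.trans hjk)).hom =
      (EtLim.pullTrans (Xs' Xs i₀) hij hjk).hom.app (F' Xs i₀ F₀ i) ≫
        (EtCoh.pull (fm Xs (show j.1 ≤ k.1 from hjk))).map (φi Xs i₀ F₀ hij).hom ≫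
          (φi Xs i₀ F₀ hjk).hom := by
  have h1 := rr_cocycle F₀ (fm Xs i.2) (fm Xs (show i.1 ≤ j.1 from hij))
    (fm Xs (show j.1 ≤ k.1 from hjk)) (fm Xs j.2) (fm Xs (show i.1 ≤ k.1 from hij.trans hjk))
    (fm Xs k.2) (fm_comp Xs i.2 hij) (fm_comp Xs hij hjk) (fm_comp Xs i.2 (hij.trans hjk))
    (fm_comp Xs j.2 hjk)
  refine (cocycle_iff_pull (fm Xs (show i.1 ≤ j.1 from hij))
    (fm Xs (show j.1 ≤ k.1 from hjk)) (fm Xs (show i.1 ≤ k.1 from hij.trans hjk))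
    (fm_comp Xs hij hjk) (φi Xs i₀ F₀ hij).hom (φi Xs i₀ F₀ hjk).hom
    (φi Xs i₀ F₀ (hij.trans hjk)).hom).1 ?_
  rw [φi_hom, φi_hom, φi_hom, adjR_adjL, adjR_adjL, adjR_adjL]
  exact h1

lemma hσ' ⦃i j : J i₀⦄ (h : i ≤ j) :
    (σi Xs c i₀ F₀ i).hom =
      (EtLim.pullTransCone (Xs' Xs i₀) (c' Xs c i₀) h).hom.app (F' Xs i₀ F₀ i) ≫
        (EtCoh.pull (pm Xs c j.1)).map (φi Xs i₀ F₀ h).hom ≫
          (σi Xs c i₀ F₀ j).hom := by
  have h1 := rr_cocycle F₀ (fm Xs i.2) (fm Xs (show i.1 ≤ j.1 from h)) (pm Xs c j.1)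
    (fm Xs j.2) (pm Xs c i.1) (pm Xs c i₀) (fm_comp Xs i.2 h) (pm_comp Xs c h)
    (pm_comp Xs c i.2) (pm_comp Xs c j.2)
  refine (cocycle_iff_pull (fm Xs (show i.1 ≤ j.1 from h)) (pm Xs c j.1) (pm Xs c i.1)
    (pm_comp Xs c h) (φi Xs i₀ F₀ h).hom (σi Xs c i₀ F₀ j).hom (σi Xs c i₀ F₀ i).hom).1 ?_
  rw [φi_hom, σi_hom, σi_hom, adjR_adjL, adjR_adjL, adjR_adjL]
  exact h1

lemma huniv (N' : EtCoh.Ab c.pt)
    (σ'' : ∀ i : J i₀, (EtCoh.pull (pm Xs c i.1)).obj (F' Xs i₀ F₀ i) ⟶ N')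
    (hσ'' : ∀ ⦃i j : J i₀⦄ (h : i ≤ j), σ'' i =
      (EtLim.pullTransCone (Xs' Xs i₀) (c' Xs c i₀) h).hom.app (F' Xs i₀ F₀ i) ≫
        (EtCoh.pull (pm Xs c j.1)).map (φi Xs i₀ F₀ h).hom ≫ σ'' j) :
    ∃! ν : N Xs c i₀ F₀ ⟶ N', ∀ i, (σi Xs c i₀ F₀ i).hom ≫ ν = σ'' i := by
  let o : J i₀ := ⟨i₀, le_rfl⟩
  refine ⟨(σi Xs c i₀ F₀ o).inv ≫ σ'' o, fun i => ?_, fun ν hν => ?_⟩
  · have ho : o ≤ i := i.2
    have e1 := hσ' Xs c i₀ F₀ ho
    have e2 := hσ'' ho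
    let T := (EtLim.pullTransCone (Xs' Xs i₀) (c' Xs c i₀) ho).hom.app (F' Xs i₀ F₀ o) ≫
      (EtCoh.pull (pm Xs c i.1)).map (φi Xs i₀ F₀ ho).hom
    haveI : IsIso T := by
      have i1 : IsIso ((EtCoh.pull (pm Xs c i.1)).map (φi Xs i₀ F₀ ho).hom) :=
        ((EtCoh.pull (pm Xs c i.1)).mapIso (φi Xs i₀ F₀ ho)).isIso_hom
      have i2 : IsIso ((EtLim.pullTransCone (Xs' Xs i₀) (c' Xs c i₀) ho).hom.app
          (F' Xs i₀ F₀ o)) := inferInstance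
      exact IsIso.comp_isIso' i2 i1
    have e1' : (σi Xs c i₀ F₀ o).hom = T ≫ (σi Xs c i₀ F₀ i).hom := by
      rw [e1]; simp only [T, Category.assoc]
    have e2' : σ'' o = T ≫ σ'' i := by rw [e2]; simp only [T, Category.assoc]
    apply (cancel_epi T).1
    rw [← Category.assoc, ← e1']
    exact ((Category.assoc _ _ _).symm.trans ((congrArg (· ≫ σ'' o)
      (σi Xs c i₀ F₀ o).hom_inv_id).trans (Category.id_comp _))).trans e2'
  · have h1 := hν o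
    have h2 : (σi Xs c i₀ F₀ o).inv ≫ (σi Xs c i₀ F₀ o).hom ≫ ν = ν :=
      (Category.assoc _ _ _).symm.trans ((congrArg (· ≫ ν)
        (σi Xs c i₀ F₀ o).inv_hom_id).trans (Category.id_comp _))
    rw [← h1]
    exact h2.symm

end Groth.Agent.Helper6.LimCohT
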