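import Mathlib
import Groth.Prelude.Def_EtBase
import Groth.Prelude.Def_EtCore
import Groth.Prelude.Def_EtLim
import Groth.Agent.Helper6.LimCohT

set_option autoImplicit false
set_option linter.style.haveILetI false
set_option linter.unusedSectionVars false
set_option linter.unusedVariables false
set_option linter.unusedSimpArgs false

/-!
# Limit theorem for étale cohomology, part U: sheaves pulled back from one stage
-/

namespace Groth.Agent.Helper6.LimCohU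

open CategoryTheory CategoryTheory.Limits AlgebraicGeometry Opposite Abelian
open Groth.Agent.Helper6.LimCohA Groth.Agent.Helper6.LimCohB Groth.Agent.Helper6.LimCohF
  Groth.Agent.Helper6.LimCohL Groth.Agent.Helper6.LimCohR Groth.Agent.Helper6.LimCohT

universe u

variable {ι : Type u} [Preorder ι] [IsDirected ι (· ≤ ·)] (Xs : ιᵒᵖ ⥤ Scheme.{u}) (c : Cone Xs)
  (i₀ : ι) (F₀ : EtCoh.Ab (Xs.obj (op i₀)))
  [∀ a, PreservesFiniteLimits (EtCoh.pull (c.π.app a))]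
  [∀ ⦃a b : ιᵒᵖ⦄ (h : a ⟶ b), PreservesFiniteLimits (EtCoh.pull (Xs.map h))]

/-- the limit theorem for a system of sheaves pulled back from one stage -/
theorem single (haff : ∀ ⦃a b : ιᵒᵖ⦄ (h : a ⟶ b), IsAffineHom (Xs.map h))
    (hqc : ∀ a, CompactSpace ↥(Xs.obj a)) (hqs : ∀ a, QuasiSeparatedSpace ↥(Xs.obj a))
    (hc : IsLimit c) (p : ℕ) :
    (∀ ξ : EtCoh.H c.pt ((EtCoh.pull (c.π.app (op i₀))).obj F₀) p,
      ∃ (j : ι) (hj : i₀ ≤ j)
        (ξj : EtCoh.H (Xs.obj (op j)) ((EtCoh.pull (Xs.map (homOfLE hj).op)).obj F₀) p),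
        EtCore.HpullVia (c.π.app (op j)) (Xs.map (homOfLE hj).op) (c.π.app (op i₀))
          (c.w (homOfLE hj).op) F₀ p ξj = ξ) ∧
    (∀ (j : ι) (hj : i₀ ≤ j)
      (ξj : EtCoh.H (Xs.obj (op j)) ((EtCoh.pull (Xs.map (homOfLE hj).op)).obj F₀) p),
      EtCore.HpullVia (c.π.app (op j)) (Xs.map (homOfLE hj).op) (c.π.app (op i₀))
        (c.w (homOfLE hj).op) F₀ p ξj = 0 →
        ∃ (k : ι) (hk : j ≤ k), EtCore.Hpull (Xs.map (homOfLE hk).op) _ p ξj = 0) := by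
  haveI : ∀ a, PreservesFiniteLimits (EtCoh.pull ((c' Xs c i₀).π.app a)) := fun a =>
    inferInstanceAs (PreservesFiniteLimits (EtCoh.pull (c.π.app ((incl i₀).op.obj a))))
  haveI : ∀ ⦃a b : (J i₀)ᵒᵖ⦄ (h : a ⟶ b), PreservesFiniteLimits (EtCoh.pull ((Xs' Xs i₀).map h)) :=
    fun a b h => inferInstanceAs (PreservesFiniteLimits (EtCoh.pull (Xs.map ((incl i₀).op.map h))))
  obtain ⟨h1, h2⟩ := pull_form (Xs' Xs i₀) (c' Xs c i₀) (F' Xs i₀ F₀)
    (fun j k h => (φi Xs i₀ F₀ h).hom) (hφ' Xs i₀ F₀) (N Xs c i₀ F₀)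
    (fun j => (σi Xs c i₀ F₀ j).hom) (hσ' Xs c i₀ F₀)
    (fun a b h => haff _) (fun a => hqc _) (fun a => hqs _) (hc' Xs c i₀ hc)
    (huniv Xs c i₀ F₀) p
  have key : ∀ (j : J i₀) (ξj : EtCoh.H (Xs.obj (op j.1)) (F' Xs i₀ F₀ j) p),
      EtLim.HpullThen (c.π.app (op j.1)) (F' Xs i₀ F₀ j) (σi Xs c i₀ F₀ j).hom p ξj =
        EtCore.HpullVia (c.π.app (op j.1)) (Xs.map (homOfLE j.2).op) (c.π.app (op i₀))
          (c.w (homOfLE j.2).op) F₀ p ξj := fun j ξj => rfl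
  refine ⟨fun ξ => ?_, fun j hj ξj hξ => ?_⟩
  · obtain ⟨j, ξj, hj⟩ := h1 ξ
    exact ⟨j.1, j.2, ξj, (key j ξj).symm.trans hj⟩
  · obtain ⟨k, hk, hk0⟩ := h2 ⟨j, hj⟩ ξj ((key ⟨j, hj⟩ ξj).trans hξ)
    refine ⟨k.1, hk, ?_⟩
    have h3 : Sheaf.H.map (φi Xs i₀ F₀ hk).hom p
        (EtCore.Hpull (Xs.map (homOfLE (show j ≤ k.1 from hk)).op)
          (F' Xs i₀ F₀ ⟨j, hj⟩) p ξj) = 0 := hk0
    have h4 := congrArg (Sheaf.H.map (φi Xs i₀ F₀ hk).inv p) h3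
    rw [← Sheaf.H.map_comp_apply, Iso.hom_inv_id, Sheaf.H.map_id_apply, map_zero] at h4
    exact h4

end Groth.Agent.Helper6.LimCohU
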