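import Mathlib
import Groth.Prelude.Def_EtBase
import Groth.Prelude.Def_EtCore
import Groth.Prelude.Def_EtLim
import Groth.Agent.Helper6.LimCohA
import Groth.Agent.Helper6.LimCohB
import Groth.Agent.Helper6.LimCohF
import Groth.Agent.Helper6.LimCohG
import Groth.Agent.Helper6.LimCohH
import Groth.Agent.Helper6.LimCohJ
import Groth.Agent.Helper6.LimCohM
import Groth.Agent.Helper6.LimCohO

set_option autoImplicit false
set_option linter.style.haveILetI false
set_option linter.unusedSectionVars false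
set_option linter.unusedVariables false
set_option linter.unusedSimpArgs false

/-!
# Limit theorem for étale cohomology, part V: a sectionwise criterion for the colimit property

A cone under a system of sheaves is a colimit as soon as, over every quasi-compact quasi-separated
étale scheme over a finite level, its sections are the colimit of the sections of the system.
-/

namespace Groth.Agent.Helper6.LimCohV

open CategoryTheory CategoryTheory.Limits AlgebraicGeometry Opposite
open Groth.Agent.Helper6.LimCohA Groth.Agent.Helper6.LimCohB Groth.Agent.Helper6.LimCohF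
  Groth.Agent.Helper6.LimCohG Groth.Agent.Helper6.LimCohH Groth.Agent.Helper6.LimCohJ
  Groth.Agent.Helper6.LimCohM Groth.Agent.Helper6.LimCohO

universe u

variable {ι : Type u} [Preorder ι] {Xs : ιᵒᵖ ⥤ Scheme.{u}} {c : Cone Xs}

/-- the identity morphism of a system -/
def idHom (S : PSys Xs) : PSys.Hom S S where
  φ i := 𝟙 _
  comm h := by
    rw [CategoryTheory.Functor.map_id, Category.comp_id, Category.id_comp]

/-- transport of the colimit property along an isomorphism of vertices -/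
theorem isColim_of_isIso {S : PSys Xs} {C₀ C : PCone c S} (hC₀ : C₀.IsColim) (ν₀ : C₀.pt ⟶ C.pt)
    [IsIso ν₀] (hν₀ : ∀ i, C₀.ρ i ≫ (EtCoh.push (pm Xs c i)).map ν₀ = C.ρ i) : C.IsColim := by
  intro D
  obtain ⟨νD, hνD, huniq⟩ := hC₀ D
  refine ⟨inv ν₀ ≫ νD, fun i => ?_, fun ν' hν' => ?_⟩
  · rw [← hν₀ i, Category.assoc, ← CategoryTheory.Functor.map_comp, IsIso.hom_inv_id_assoc]
    exact hνD i
  · have h1 : ν₀ ≫ ν' = νD := by
      apply huniq
      intro i
      rw [CategoryTheory.Functor.map_comp, ← Category.assoc, hν₀ i]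
      exact hν' i
    rw [← h1, IsIso.inv_hom_id_assoc]

variable [IsDirected ι (· ≤ ·)] [Nonempty ι]

theorem isColim_of_sections (G : Geo Xs c) (S : PSys Xs) (C : PCone c S)
    (hsurj : ∀ (m : ι) (W' : (Xs.obj (op m)).Etale), CompactSpace W'.left →
      QuasiSeparatedSpace W'.left →
        ∀ t : C.pt.obj.obj (op ((EtCoh.bc (pm Xs c m)).obj W')), t ∈ Im S C m W')
    (hinj : ∀ {m m' : ι} (h : m ≤ m') (W' : (Xs.obj (op m)).Etale), CompactSpace W'.left →
      QuasiSeparatedSpace W'.left →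
        ∀ s : (S.F m').obj.obj (op ((EtCoh.bc (fm Xs h)).obj W')), Θ S C h W' s = 0 →
          ∃ (m'' : ι) (h' : m' ≤ m''), R S h h' W' s = 0) :
    C.IsColim := by
  let C₀ := colimCone c S
  have hC₀ : C₀.IsColim := colimCone_isColim c S
  obtain ⟨ν₀, hν₀, -⟩ := hC₀ C
  let mH : PCone.Hom (idHom S) C₀ C := ⟨ν₀, fun i => (hν₀ i).trans (Category.id_comp _).symm⟩
  have hΘ : ∀ {l k : ι} (h : l ≤ k) (W' : (Xs.obj (op l)).Etale)
      (s : (S.F k).obj.obj (op ((EtCoh.bc (fm Xs h)).obj W'))),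
      ν₀.hom.app (op ((EtCoh.bc (pm Xs c l)).obj W')) (Θ S C₀ h W' s) = Θ S C h W' s := by
    intro l k h W' s
    have h1 := ConcreteCategory.congr_hom (Θ_hom (idHom S) mH h W') s
    rw [ConcreteCategory.comp_apply, ConcreteCategory.comp_apply] at h1
    exact h1
  -- bijectivity over base-changed objects
  have binj : ∀ (l : ι) (W' : (Xs.obj (op l)).Etale), CompactSpace W'.left →
      QuasiSeparatedSpace W'.left → ∀ z : C₀.pt.obj.obj (op ((EtCoh.bc (pm Xs c l)).obj W')),
        ν₀.hom.app (op ((EtCoh.bc (pm Xs c l)).obj W')) z = 0 → z = 0 := by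
    intro l W' hW1 hW2 z hz
    obtain ⟨k, h, sk, hsk⟩ := surj_of_geo S C₀ G hC₀ W' z
    have h1 := hΘ h W' sk
    rw [hsk, hz] at h1
    obtain ⟨k', h', hk'⟩ := hinj h W' hW1 hW2 sk h1.symm
    have h4 := ConcreteCategory.congr_hom (R_Θ S C₀ h h' W') sk
    rw [ConcreteCategory.comp_apply, hk', map_zero, hsk] at h4
    exact h4.symm
  have bsurj : ∀ (l : ι) (W' : (Xs.obj (op l)).Etale), CompactSpace W'.left →
      QuasiSeparatedSpace W'.left → ∀ t : C.pt.obj.obj (op ((EtCoh.bc (pm Xs c l)).obj W')),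
        ∃ z, ν₀.hom.app (op ((EtCoh.bc (pm Xs c l)).obj W')) z = t := by
    intro l W' hW1 hW2 t
    obtain ⟨k, h, sk, hsk⟩ := hsurj l W' hW1 hW2 t
    exact ⟨Θ S C₀ h W' sk, (hΘ h W' sk).trans hsk⟩
  -- bijectivity over affine objects
  have ainj : ∀ (W : c.pt.Etale), IsAffine W.left → ∀ z : C₀.pt.obj.obj (op W),
      ν₀.hom.app (op W) z = 0 → z = 0 := by
    intro W hW z hz
    obtain ⟨l, W', hW'1, hW'2, ⟨e⟩⟩ := G.obj₀ W inferInstance inferInstance
    have n2 := ConcreteCategory.congr_hom (ν₀.hom.naturality e.inv.op) z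
    rw [ConcreteCategory.comp_apply, ConcreteCategory.comp_apply, hz, map_zero] at n2
    have h3 := binj l W' hW'1 hW'2 _ n2
    have h5 : C₀.pt.obj.map e.hom.op (C₀.pt.obj.map e.inv.op z) = z := by
      rw [map_map_apply, Iso.hom_inv_id]
      exact ConcreteCategory.congr_hom (C₀.pt.obj.map_id _) _
    rw [← h5, h3, map_zero]
  have asurj : ∀ (W : c.pt.Etale), IsAffine W.left → ∀ t : C.pt.obj.obj (op W),
      ∃ z, ν₀.hom.app (op W) z = t := by
    intro W hW t
    obtain ⟨l, W', hW'1, hW'2, ⟨e⟩⟩ := G.obj₀ W inferInstance inferInstance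
    obtain ⟨z, hz⟩ := bsurj l W' hW'1 hW'2 (C.pt.obj.map e.inv.op t)
    refine ⟨C₀.pt.obj.map e.hom.op z, ?_⟩
    have n2 := ConcreteCategory.congr_hom (ν₀.hom.naturality e.hom.op) z
    rw [ConcreteCategory.comp_apply, ConcreteCategory.comp_apply, hz] at n2
    rw [n2, map_map_apply, Iso.hom_inv_id]
    exact ConcreteCategory.congr_hom (C.pt.obj.map_id _) _
  -- injectivity over all objects
  have key : ∀ (W : c.pt.Etale) (s : C₀.pt.obj.obj (op W)), ν₀.hom.app (op W) s = 0 → s = 0 := by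
    intro W s hs
    apply eq_zero_of_zeroLocus
    intro z
    obtain ⟨W₀, a₀, -, hW₀, hcov₀⟩ := Groth.Agent.Helper4.EtGeom.exists_affine_refinement W ⊤
      (c.pt.smallEtaleTopology.top_mem W)
    obtain ⟨w, hw⟩ := hcov₀ z
    refine ⟨W₀ z, a₀ z, w, hw, ?_⟩
    apply ainj (W₀ z) (hW₀ z)
    have n1 := ConcreteCategory.congr_hom (ν₀.hom.naturality (a₀ z).op) s
    rw [ConcreteCategory.comp_apply, ConcreteCategory.comp_apply] at n1
    rw [n1, hs, map_zero]
  have hinj' : ∀ W : c.pt.Etale, Function.Injective (ν₀.hom.app (op W)) := by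
    intro W
    rw [injective_iff_map_eq_zero]
    exact key W
  haveI : ∀ W : c.pt.Etaleᵒᵖ, Mono (ν₀.hom.app W) := fun W =>
    (AddCommGrpCat.mono_iff_injective _).2 (hinj' W.unop)
  haveI : Mono ν₀.hom := NatTrans.mono_of_mono_app _
  haveI : Mono ν₀ := Sheaf.Hom.mono_of_presheaf_mono _ _ _
  haveI : Epi ν₀ := by
    apply Preadditive.epi_of_cancel_zero
    intro Z g hg
    apply Sheaf.hom_ext
    ext ⟨W⟩ t
    show g.hom.app (op W) t = 0
    apply eq_zero_of_zeroLocus
    intro z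
    obtain ⟨W₀, a₀, -, hW₀, hcov₀⟩ := Groth.Agent.Helper4.EtGeom.exists_affine_refinement W ⊤
      (c.pt.smallEtaleTopology.top_mem W)
    obtain ⟨w, hw⟩ := hcov₀ z
    refine ⟨W₀ z, a₀ z, w, hw, ?_⟩
    obtain ⟨z', hz'⟩ := asurj (W₀ z) (hW₀ z) (C.pt.obj.map (a₀ z).op t)
    have n1 := ConcreteCategory.congr_hom (g.hom.naturality (a₀ z).op) t
    rw [ConcreteCategory.comp_apply, ConcreteCategory.comp_apply] at n1
    rw [← n1, ← hz']
    have n2 := congrArg (fun φ => φ.hom.app (op (W₀ z)) z') hg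
    exact n2
  haveI : IsIso ν₀ := isIso_of_mono_of_epi ν₀
  exact isColim_of_isIso hC₀ ν₀ hν₀

end Groth.Agent.Helper6.LimCohV
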