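import Mathlib
import Groth.Prelude.Def_EtBase
import Groth.Prelude.Def_EtCore
import Groth.Prelude.Def_EtLim
import Groth.Agent.Helper6.LimCohA
import Groth.Agent.Helper6.LimCohB
import Groth.Agent.Helper6.LimCohF
import Groth.Agent.Helper6.LimCohG
import Groth.Agent.Helper6.LimCohH
import Groth.Agent.Helper6.LimCohI
import Groth.Agent.Helper6.LimCohL
import Groth.Agent.Helper6.LimCohN
import Groth.Agent.Helper6.LimCohP
import Groth.Agent.Helper6.LimCohQ
import Groth.Agent.Helper6.LimCohV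

set_option autoImplicit false
set_option linter.style.haveILetI false
set_option linter.unusedSectionVars false
set_option linter.unusedVariables false
set_option linter.unusedSimpArgs false

/-!
# Limit theorem for étale cohomology, part W: the system of direct images of a sheaf on the limit
-/

namespace Groth.Agent.Helper6.LimCohW

open CategoryTheory CategoryTheory.Limits AlgebraicGeometry Opposite
open Groth.Agent.Helper6.LimCohA Groth.Agent.Helper6.LimCohB Groth.Agent.Helper6.LimCohF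
  Groth.Agent.Helper6.LimCohG Groth.Agent.Helper6.LimCohH Groth.Agent.Helper6.LimCohL Groth.Agent.Helper6.LimCohN
  Groth.Agent.Helper6.LimCohP Groth.Agent.Helper6.LimCohQ Groth.Agent.Helper6.LimCohV

universe u

variable {ι : Type u} [Preorder ι] (Xs : ιᵒᵖ ⥤ Scheme.{u}) (c : Cone Xs) (F : EtCoh.Ab c.pt)

/-- the system of the direct images of a sheaf on the limit -/
@[reducible] noncomputable def pushSys : PSys Xs where
  F i := (EtCoh.push (pm Xs c i)).obj F
  r {i j} h := pk (fm Xs h) (pm Xs c j) (pm Xs c i) (pm_comp Xs c h) F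
  coc {i j k} hij hjk :=
    pk_assoc (fm Xs hij) (fm Xs hjk) (pm Xs c k) (fm Xs (hij.trans hjk)) (pm Xs c j) (pm Xs c i)
      (fm_comp Xs hij hjk) (pm_comp Xs c hjk) (pm_comp Xs c hij) (pm_comp Xs c (hij.trans hjk)) F

/-- the tautological cone -/
@[reducible] noncomputable def pushCone : PCone c (pushSys Xs c F) where
  pt := F
  ρ i := 𝟙 _
  coc {i j} hij := by
    show pk (fm Xs hij) (pm Xs c j) (pm Xs c i) (pm_comp Xs c hij) F ≫
      (EtCoh.push (fm Xs hij)).map (𝟙 _) = 𝟙 _ ≫ pk (fm Xs hij) (pm Xs c j) (pm Xs c i) _ F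
    rw [CategoryTheory.Functor.map_id, Category.comp_id, Category.id_comp]

lemma Θ_pushCone {m m' : ι} (h : m ≤ m') (W' : (Xs.obj (op m)).Etale) :
    Θ (pushSys Xs c F) (pushCone Xs c F) h W' =
      F.obj.map (tr (fm Xs h) (pm Xs c m') (pm Xs c m) (pm_comp Xs c h) W').op := by
  show rapp (pm Xs c m') (𝟙 _) _ ≫ F.obj.map _ = _
  exact Category.id_comp _

variable [IsDirected ι (· ≤ ·)] [Nonempty ι]

lemma kq_tr_apply {X Y Z : Scheme.{u}} (f : X ⟶ Y) (g : Z ⟶ X) (h : Z ⟶ Y) (w : g ≫ f = h)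
    (A : EtCoh.Ab Z) (V : Y.Etale) (s : A.obj.obj (op ((EtCoh.bc g).obj ((EtCoh.bc f).obj V)))) :
    A.obj.map (kq f g h w V).op (A.obj.map (tr f g h w V).op s) = s := by
  rw [map_map_apply, kq_tr]
  exact ConcreteCategory.congr_hom (A.obj.map_id _) _

lemma tr_kq_apply {X Y Z : Scheme.{u}} (f : X ⟶ Y) (g : Z ⟶ X) (h : Z ⟶ Y) (w : g ≫ f = h)
    (A : EtCoh.Ab Z) (V : Y.Etale) (s : A.obj.obj (op ((EtCoh.bc h).obj V))) :
    A.obj.map (tr f g h w V).op (A.obj.map (kq f g h w V).op s) = s := by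
  rw [map_map_apply, tr_kq]
  exact ConcreteCategory.congr_hom (A.obj.map_id _) _

theorem pushCone_isColim (G : Geo Xs c) : (pushCone Xs c F).IsColim := by
  apply isColim_of_sections G
  · intro m W' _ _ t
    refine ⟨m, le_rfl, F.obj.map (kq (fm Xs le_rfl) (pm Xs c m) (pm Xs c m)
      (pm_comp Xs c le_rfl) W').op t, ?_⟩
    rw [Θ_pushCone]
    exact tr_kq_apply _ _ _ _ F W' t
  · intro m m' h W' _ _ s hs
    refine ⟨m', le_rfl, ?_⟩
    rw [Θ_pushCone] at hs
    have h1 : s = 0 := by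
      have h2 := kq_tr_apply (fm Xs h) (pm Xs c m') (pm Xs c m) (pm_comp Xs c h) F W' s
      have h3 : F.obj.map (kq (fm Xs h) (pm Xs c m') (pm Xs c m) (pm_comp Xs c h) W').op
          (F.obj.map (tr (fm Xs h) (pm Xs c m') (pm Xs c m) (pm_comp Xs c h) W').op s) = 0 := by
        refine (congrArg (fun z => F.obj.map (kq (fm Xs h) (pm Xs c m') (pm Xs c m)
          (pm_comp Xs c h) W').op z) hs).trans (map_zero _)
      exact h2.symm.trans h3
    rw [h1, map_zero]

variable [∀ a, PreservesFiniteLimits (EtCoh.pull (c.π.app a))]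
  [∀ ⦃a b : ιᵒᵖ⦄ (h : a ⟶ b), PreservesFiniteLimits (EtCoh.pull (Xs.map h))]

/-- the limit theorem for the direct images of a sheaf on the limit -/
theorem push_form (haff : ∀ ⦃a b : ιᵒᵖ⦄ (h : a ⟶ b), IsAffineHom (Xs.map h))
    (hqc : ∀ a, CompactSpace ↥(Xs.obj a)) (hqs : ∀ a, QuasiSeparatedSpace ↥(Xs.obj a))
    (hc : IsLimit c) (n : ℕ) :
    (∀ ξ : EtCoh.H c.pt F n,
      ∃ (j : ι) (ξj : EtCoh.H (Xs.obj (op j)) ((EtCoh.push (c.π.app (op j))).obj F) n),
        EtLim.HofPush (c.π.app (op j)) F n ξj = ξ) ∧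
    (∀ (j : ι) (ξj : EtCoh.H (Xs.obj (op j)) ((EtCoh.push (c.π.app (op j))).obj F) n),
      EtLim.HofPush (c.π.app (op j)) F n ξj = 0 →
        ∃ (k : ι) (hk : j ≤ k),
          EtLim.HpushTrans (Xs.map (homOfLE hk).op) (c.π.app (op k)) (c.π.app (op j))
            (c.w (homOfLE hk).op) F n ξj = 0) := by
  have G := Groth.Agent.Helper6.LimCohI.geo Xs haff c hc
  have hC := pushCone_isColim Xs c F G
  obtain ⟨h1, h2⟩ := main (c := c) G (fun i => hqc (op i)) (fun i => hqs (op i)) n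
    (pushSys Xs c F) (pushCone Xs c F) hC
  have hθ : ∀ (j : ι) (ξj : EtCoh.H (Xs.obj (op j)) ((EtCoh.push (c.π.app (op j))).obj F) n),
      θ (pushSys Xs c F) (pushCone Xs c F) j n ξj = EtLim.HofPush (c.π.app (op j)) F n ξj := by
    intro j ξj
    show EtLim.HofPush (pm Xs c j) F n (Sheaf.H.map (𝟙 _) n ξj) = _
    rw [Sheaf.H.map_id_apply]
  refine ⟨fun ξ => ?_, fun j ξj hξ => ?_⟩
  · obtain ⟨j, ξj, hj⟩ := h1 ξ
    exact ⟨j, ξj, (hθ j ξj).symm.trans hj⟩
  · obtain ⟨k, hk, hk0⟩ := h2 j ξj ((hθ j ξj).trans hξ)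
    exact ⟨k, hk, hk0⟩

end Groth.Agent.Helper6.LimCohW
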