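import Mathlib
import Groth.Prelude.Def_EtBase
import Groth.Prelude.Def_EtCore
import Groth.Prelude.Def_EtGm
import Groth.Prelude.Def_EtLim
import Groth.Agent.Helper6.LimCohA
import Groth.Agent.Helper6.LimCohB
import Groth.Agent.Helper6.LimCohF
import Groth.Agent.Helper6.LimCohG
import Groth.Agent.Helper6.LimCohH
import Groth.Agent.Helper6.LimCohI
import Groth.Agent.Helper6.LimCohL
import Groth.Agent.Helper6.LimCohP
import Groth.Agent.Helper6.LimCohQ
import Groth.Agent.Helper6.LimCohV
import Groth.Agent.Lead.LimFEt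

set_option autoImplicit false
set_option linter.style.haveILetI false
set_option linter.unusedSectionVars false
set_option linter.unusedVariables false
set_option linter.unusedSimpArgs false

/-!
# Limit theorem for étale cohomology, part X: sheaves induced by a presheaf on all schemes

For a presheaf `P` of abelian groups on the category of schemes which is an étale sheaf and which
turns limits of quasi-compact quasi-separated schemes with affine transition morphisms into
colimits, the restrictions of `P` to the small étale sites of an inverse system of schemes form a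
system whose colimit is the restriction of `P` to the limit.
-/

namespace Groth.Agent.Helper6.LimCohX

open CategoryTheory CategoryTheory.Limits AlgebraicGeometry Opposite
open Groth.Agent.Helper6.LimCohA Groth.Agent.Helper6.LimCohB Groth.Agent.Helper6.LimCohF
  Groth.Agent.Helper6.LimCohG Groth.Agent.Helper6.LimCohH Groth.Agent.Helper6.LimCohL
  Groth.Agent.Helper6.LimCohP Groth.Agent.Helper6.LimCohQ Groth.Agent.Helper6.LimCohV
open Groth.Agent.Lead.LimPullback Groth.Agent.Lead.LimHom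

universe u

variable (P : Scheme.{u}ᵒᵖ ⥤ AddCommGrpCat.{u + 1})
  (hP : Presheaf.IsSheaf Scheme.etaleTopology P)

/-- the restriction of `P` to the small étale site of a scheme -/
noncomputable def shf (X : Scheme.{u}) : EtCoh.Ab X :=
  ((Scheme.Etale.forget X ⋙ Over.forget X).sheafPushforwardContinuous _ _
    Scheme.etaleTopology).obj ⟨P, hP⟩

/-- functoriality in the scheme -/
noncomputable def shfPush {X Y : Scheme.{u}} (f : X ⟶ Y) :
    shf P hP Y ⟶ (EtCoh.push f).obj (shf P hP X) :=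
  ObjectProperty.homMk (Functor.whiskerRight (NatTrans.op (EtLim.bcProj f)) P)

lemma Gm_eq (X : Scheme.{u}) : EtCoh.Gm X = shf EtCoh.ΓUnits EtCoh.isSheaf_ΓUnits X := rfl

lemma Ga_eq (X : Scheme.{u}) : EtCoh.Ga X = shf EtCoh.ΓAdd EtCoh.isSheaf_ΓAdd X := rfl

lemma GmPush_eq {X Y : Scheme.{u}} (f : X ⟶ Y) :
    EtLim.GmPush f = shfPush EtCoh.ΓUnits EtCoh.isSheaf_ΓUnits f := rfl

lemma GaPush_eq {X Y : Scheme.{u}} (f : X ⟶ Y) :
    EtLim.GaPush f = shfPush EtCoh.ΓAdd EtCoh.isSheaf_ΓAdd f := rfl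

lemma shf_map {X : Scheme.{u}} {V V' : X.Etale} (a : V ⟶ V') :
    (shf P hP X).obj.map a.op = P.map a.left.op := rfl

lemma rapp_shfPush {X Y : Scheme.{u}} (f : X ⟶ Y) (V : Y.Etale) :
    rapp f (shfPush P hP f) V = P.map (prj f V).op := rfl

lemma res_shfPush {X Y : Scheme.{u}} (f : X ⟶ Y) {V : Y.Etale} {V' : X.Etale}
    (a : V'.left ⟶ V.left) (ha : a ≫ V.hom = V'.hom ≫ f) :
    res f (shfPush P hP f) a ha = P.map a.op := by
  show P.map (prj f V).op ≫ P.map (lift f a ha).left.op = P.map a.op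
  rw [← P.map_comp, ← op_comp, lift_prj]

lemma shfPush_cocycle {X Y Z : Scheme.{u}} (f : X ⟶ Y) (g : Z ⟶ X) (h : Z ⟶ Y) (w : g ≫ f = h) :
    Cocycle f g h w (shfPush P hP f) (shfPush P hP g) (shfPush P hP h) := by
  apply cocycle_of_app
  intro V
  show P.map (prj f V).op ≫ P.map (prj g ((EtCoh.bc f).obj V)).op =
    P.map (prj h V).op ≫ P.map (kq f g h w V).left.op
  rw [← P.map_comp, ← P.map_comp, ← op_comp, ← op_comp, kq_prj]

lemma P_map_map {A B C : Scheme.{u}} (a : A ⟶ B) (b : B ⟶ C) (s : P.obj (op C)) :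
    P.map a.op (P.map b.op s) = P.map (a ≫ b).op s := by
  rw [op_comp, P.map_comp, ConcreteCategory.comp_apply]

lemma P_map_iso_hom_inv {A B : Scheme.{u}} (e : A ≅ B) (s : P.obj (op A)) :
    P.map e.hom.op (P.map e.inv.op s) = s := by
  rw [P_map_map, e.hom_inv_id]
  exact ConcreteCategory.congr_hom (P.map_id _) _

lemma P_map_iso_inv_hom {A B : Scheme.{u}} (e : A ≅ B) (s : P.obj (op B)) :
    P.map e.inv.op (P.map e.hom.op s) = s := by
  rw [P_map_map, e.inv_hom_id]
  exact ConcreteCategory.congr_hom (P.map_id _) _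

/-- the presheaf turns limits of qcqs schemes with affine transition morphisms into colimits -/
structure LimProp : Prop where
  surj : ∀ {I : Type u} [SmallCategory I] [IsCofiltered I] (D : I ⥤ Scheme.{u}) (c : Cone D)
    (_ : IsLimit c) [∀ {i j : I} (f : i ⟶ j), IsAffineHom (D.map f)]
    [∀ i, CompactSpace (D.obj i)] [∀ i, QuasiSeparatedSpace (D.obj i)] (t : P.obj (op c.pt)),
    ∃ (i : I) (s : P.obj (op (D.obj i))), P.map (c.π.app i).op s = t
  inj : ∀ {I : Type u} [SmallCategory I] [IsCofiltered I] (D : I ⥤ Scheme.{u}) (c : Cone D)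
    (_ : IsLimit c) [∀ {i j : I} (f : i ⟶ j), IsAffineHom (D.map f)]
    [∀ i, CompactSpace (D.obj i)] [∀ i, QuasiSeparatedSpace (D.obj i)] (i : I)
    (s : P.obj (op (D.obj i))), P.map (c.π.app i).op s = 0 →
      ∃ (j : I) (f : j ⟶ i), P.map (D.map f).op s = 0

variable {ι : Type u} [Preorder ι] (Xs : ιᵒᵖ ⥤ Scheme.{u}) (c : Cone Xs)

/-- the system of the restrictions of `P` -/
@[reducible] noncomputable def gSys : PSys Xs where
  F i := shf P hP (Xs.obj (op i))
  r {i j} h := shfPush P hP (fm Xs h)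
  coc {i j k} hij hjk := shfPush_cocycle P hP _ _ _ _

/-- the cone given by the restriction of `P` to the limit -/
@[reducible] noncomputable def gCone : PCone c (gSys P hP Xs) where
  pt := shf P hP c.pt
  ρ i := shfPush P hP (pm Xs c i)
  coc {i j} hij := shfPush_cocycle P hP _ _ _ _

lemma Θ_gCone {m m' : ι} (h : m ≤ m') (W' : (Xs.obj (op m)).Etale) :
    Θ (gSys P hP Xs) (gCone P hP Xs c) h W' =
      P.map (cn (fm Xs h) (pm Xs c m') (pm Xs c m) (pm_comp Xs c h) W').op :=
  res_shfPush P hP _ _ _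

lemma R_gSys {m m' m'' : ι} (h : m ≤ m') (h' : m' ≤ m'') (W' : (Xs.obj (op m)).Etale) :
    R (gSys P hP Xs) h h' W' =
      P.map (cn (fm Xs h) (fm Xs h') (fm Xs (h.trans h')) (fm_comp Xs h h') W').op :=
  res_shfPush P hP _ _ _

section Transport

variable {m : ι} (W' : (Xs.obj (op m)).Etale)

/-- the object of `Over (op m)` given by `m ≤ m'` -/
abbrev jOf {m m' : ι} (h : m ≤ m') : Over (op m) := Over.mk (homOfLE h).op

/-- the comparison of the two base changes at a finite level -/
noncomputable abbrev sg {m' : ι} (h : m ≤ m') :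
    ((EtCoh.bc (fm Xs h)).obj W').left ≅ (pbDiag Xs (op m) W'.hom).obj (jOf h) :=
  pullbackSymmetry W'.hom (fm Xs h)

/-- the comparison of the two base changes at the limit -/
noncomputable abbrev sgInf :
    ((EtCoh.bc (pm Xs c m)).obj W').left ≅ (pbCone Xs c (op m) W'.hom).pt :=
  pullbackSymmetry W'.hom (pm Xs c m)

set_option backward.isDefEq.respectTransparency false in
lemma sgInf_π {m' : ι} (h : m ≤ m') :
    (sgInf Xs c W').hom ≫ (pbCone Xs c (op m) W'.hom).π.app (jOf h) =
      cn (fm Xs h) (pm Xs c m') (pm Xs c m) (pm_comp Xs c h) W' ≫ (sg Xs W' h).hom := by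
  apply pullback.hom_ext
  · have h1 : (pbCone Xs c (op m) W'.hom).π.app (jOf h) ≫ pullback.fst (fm Xs h) W'.hom =
        pullback.fst (pm Xs c m) W'.hom ≫ pm Xs c m' := pullback.lift_fst _ _ _
    have h2 : cn (fm Xs h) (pm Xs c m') (pm Xs c m) (pm_comp Xs c h) W' ≫
        pullback.snd W'.hom (fm Xs h) = pullback.snd W'.hom (pm Xs c m) ≫ pm Xs c m' :=
      cn_hom _ _ _ _ W'
    show ((sgInf Xs c W').hom ≫ (pbCone Xs c (op m) W'.hom).π.app (jOf h)) ≫
      pullback.fst (fm Xs h) W'.hom = (cn (fm Xs h) (pm Xs c m') (pm Xs c m) (pm_comp Xs c h) W' ≫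
        (sg Xs W' h).hom) ≫ pullback.fst (fm Xs h) W'.hom
    rw [Category.assoc, Category.assoc, h1, pullbackSymmetry_hom_comp_fst, ← Category.assoc,
      pullbackSymmetry_hom_comp_fst, h2]
  · have h1 : (pbCone Xs c (op m) W'.hom).π.app (jOf h) ≫ pullback.snd (fm Xs h) W'.hom =
        pullback.snd (pm Xs c m) W'.hom ≫ 𝟙 _ := pullback.lift_snd _ _ _
    have h2 : cn (fm Xs h) (pm Xs c m') (pm Xs c m) (pm_comp Xs c h) W' ≫
        pullback.fst W'.hom (fm Xs h) = pullback.fst W'.hom (pm Xs c m) :=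
      cn_prj _ _ _ _ W'
    show ((sgInf Xs c W').hom ≫ (pbCone Xs c (op m) W'.hom).π.app (jOf h)) ≫
      pullback.snd (fm Xs h) W'.hom = (cn (fm Xs h) (pm Xs c m') (pm Xs c m) (pm_comp Xs c h) W' ≫
        (sg Xs W' h).hom) ≫ pullback.snd (fm Xs h) W'.hom
    rw [Category.assoc, Category.assoc, h1, pullbackSymmetry_hom_comp_snd, Category.comp_id,
      pullbackSymmetry_hom_comp_snd, h2]

/-- the transition morphism in `Over (op m)` -/
abbrev jMap {m m' m'' : ι} (h : m ≤ m') (h' : m' ≤ m'') : jOf (h.trans h') ⟶ jOf h :=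
  Over.homMk (homOfLE h').op rfl

set_option backward.isDefEq.respectTransparency false in
lemma sg_map {m' m'' : ι} (h : m ≤ m') (h' : m' ≤ m'') :
    (sg Xs W' (h.trans h')).hom ≫ (pbDiag Xs (op m) W'.hom).map (jMap h h') =
      cn (fm Xs h) (fm Xs h') (fm Xs (h.trans h')) (fm_comp Xs h h') W' ≫ (sg Xs W' h).hom := by
  apply pullback.hom_ext
  · have h1 : (pbDiag Xs (op m) W'.hom).map (jMap h h') ≫ pullback.fst (fm Xs h) W'.hom =
        pullback.fst (fm Xs (h.trans h')) W'.hom ≫ fm Xs h' := pullback.lift_fst _ _ _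
    have h2 : cn (fm Xs h) (fm Xs h') (fm Xs (h.trans h')) (fm_comp Xs h h') W' ≫
        pullback.snd W'.hom (fm Xs h) = pullback.snd W'.hom (fm Xs (h.trans h')) ≫ fm Xs h' :=
      cn_hom _ _ _ _ W'
    show ((sg Xs W' (h.trans h')).hom ≫ (pbDiag Xs (op m) W'.hom).map (jMap h h')) ≫
      pullback.fst (fm Xs h) W'.hom = (cn (fm Xs h) (fm Xs h') (fm Xs (h.trans h'))
        (fm_comp Xs h h') W' ≫ (sg Xs W' h).hom) ≫ pullback.fst (fm Xs h) W'.hom
    rw [Category.assoc, Category.assoc, h1, pullbackSymmetry_hom_comp_fst, ← Category.assoc,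
      pullbackSymmetry_hom_comp_fst, h2]
  · have h1 : (pbDiag Xs (op m) W'.hom).map (jMap h h') ≫ pullback.snd (fm Xs h) W'.hom =
        pullback.snd (fm Xs (h.trans h')) W'.hom ≫ 𝟙 _ := pullback.lift_snd _ _ _
    have h2 : cn (fm Xs h) (fm Xs h') (fm Xs (h.trans h')) (fm_comp Xs h h') W' ≫
        pullback.fst W'.hom (fm Xs h) = pullback.fst W'.hom (fm Xs (h.trans h')) :=
      cn_prj _ _ _ _ W'
    show ((sg Xs W' (h.trans h')).hom ≫ (pbDiag Xs (op m) W'.hom).map (jMap h h')) ≫
      pullback.snd (fm Xs h) W'.hom = (cn (fm Xs h) (fm Xs h') (fm Xs (h.trans h'))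
        (fm_comp Xs h h') W' ≫ (sg Xs W' h).hom) ≫ pullback.snd (fm Xs h) W'.hom
    rw [Category.assoc, Category.assoc, h1, pullbackSymmetry_hom_comp_snd, Category.comp_id,
      pullbackSymmetry_hom_comp_snd, h2]

end Transport

section Main

variable [IsDirected ι (· ≤ ·)] [Nonempty ι]

set_option backward.isDefEq.respectTransparency false in
theorem gCone_isColim (hLP : LimProp P)
    (haff : ∀ ⦃a b : ιᵒᵖ⦄ (h : a ⟶ b), IsAffineHom (Xs.map h)) (hc : IsLimit c)
    (G : Geo Xs c) : (gCone P hP Xs c).IsColim := by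
  have hA0 : ∀ {a b : ιᵒᵖ} (f : a ⟶ b), IsAffineHom (Xs.map f) := fun f => haff f
  apply isColim_of_sections G
  · intro m W' hW1 hW2 t
    let T : Scheme.{u} := W'.left
    let g : T ⟶ Xs.obj (op m) := W'.hom
    haveI hT1 : CompactSpace T := hW1
    haveI hT2 : QuasiSeparatedSpace T := hW2
    let D' := pbDiag Xs (op m) g
    let c' := pbCone Xs c (op m) g
    have hc' : IsLimit c' := pbConeIsLimit (op m) g hc
    haveI hA : ∀ {j k : Over (op m)} (f : j ⟶ k), IsAffineHom (D'.map f) :=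
      fun f => isAffineHom_pbDiag_map (op m) g f
    haveI hC : ∀ j : Over (op m), CompactSpace (D'.obj j) :=
      fun j => compactSpace_pbDiag Xs (op m) g j
    haveI hQ : ∀ j : Over (op m), QuasiSeparatedSpace (D'.obj j) :=
      fun j => quasiSeparatedSpace_pbDiag Xs (op m) g j
    obtain ⟨j, s', hs'⟩ := hLP.surj D' c' hc' (P.map (sgInf Xs c W').inv.op t)
    obtain ⟨⟨m'⟩, ⟨⟨⟩⟩, hm⟩ := j
    have h : m ≤ m' := leOfHom hm.unop
    obtain rfl : hm = (homOfLE h).op := Subsingleton.elim _ _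
    change P.obj (op (D'.obj (jOf h))) at s'
    change P.map (c'.π.app (jOf h)).op s' = P.map (sgInf Xs c W').inv.op t at hs'
    refine ⟨m', h, P.map (sg Xs W' h).hom.op s', ?_⟩
    rw [Θ_gCone]
    have e1 : P.map (cn (fm Xs h) (pm Xs c m') (pm Xs c m) (pm_comp Xs c h) W').op
        (P.map (sg Xs W' h).hom.op s') =
        P.map (sgInf Xs c W').hom.op (P.map (c'.π.app (jOf h)).op s') :=
      (P_map_map P _ _ s').trans ((congrArg (fun a => P.map (Quiver.Hom.op a) s')
        (sgInf_π Xs c W' h).symm).trans (P_map_map P _ _ s').symm)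
    refine e1.trans ?_
    refine (congrArg (fun z => P.map (sgInf Xs c W').hom.op z) hs').trans ?_
    exact P_map_iso_hom_inv P _ t
  · intro m m' h W' hW1 hW2 s hs
    let T : Scheme.{u} := W'.left
    let g : T ⟶ Xs.obj (op m) := W'.hom
    haveI hT1 : CompactSpace T := hW1
    haveI hT2 : QuasiSeparatedSpace T := hW2
    let D' := pbDiag Xs (op m) g
    let c' := pbCone Xs c (op m) g
    have hc' : IsLimit c' := pbConeIsLimit (op m) g hc
    haveI hA : ∀ {j k : Over (op m)} (f : j ⟶ k), IsAffineHom (D'.map f) :=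
      fun f => isAffineHom_pbDiag_map (op m) g f
    haveI hC : ∀ j : Over (op m), CompactSpace (D'.obj j) :=
      fun j => compactSpace_pbDiag Xs (op m) g j
    haveI hQ : ∀ j : Over (op m), QuasiSeparatedSpace (D'.obj j) :=
      fun j => quasiSeparatedSpace_pbDiag Xs (op m) g j
    rw [Θ_gCone] at hs
    have hs2 : P.map (cn (fm Xs h) (pm Xs c m') (pm Xs c m) (pm_comp Xs c h) W').op s = 0 := hs
    let s' : P.obj (op (D'.obj (jOf h))) := P.map (sg Xs W' h).inv.op s
    have e0 : P.map (sg Xs W' h).hom.op s' = s := P_map_iso_hom_inv P _ s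
    have e1 : P.map (c'.π.app (jOf h)).op s' = 0 := by
      have e2 : P.map (sgInf Xs c W').hom.op (P.map (c'.π.app (jOf h)).op s') = 0 := by
        refine (P_map_map P _ _ s').trans ((congrArg (fun a => P.map (Quiver.Hom.op a) s')
          (sgInf_π Xs c W' h)).trans ((P_map_map P _ _ s').symm.trans ?_))
        exact (congrArg (fun z => P.map (cn (fm Xs h) (pm Xs c m') (pm Xs c m)
          (pm_comp Xs c h) W').op z) e0).trans hs2
      have e3 := P_map_iso_inv_hom P (sgInf Xs c W') (P.map (c'.π.app (jOf h)).op s')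
      exact e3.symm.trans ((congrArg (fun z => P.map (sgInf Xs c W').inv.op z) e2).trans
        (map_zero _))
    obtain ⟨j, f, hf⟩ := hLP.inj D' c' hc' (jOf h) s' e1
    obtain ⟨⟨m''⟩, ⟨⟨⟩⟩, hm⟩ := j
    have h' : m' ≤ m'' := leOfHom f.left.unop
    have h2 : m ≤ m'' := leOfHom hm.unop
    obtain rfl : hm = (homOfLE h2).op := Subsingleton.elim _ _
    obtain rfl : f = jMap h h' := by
      apply Over.OverMorphism.ext
      exact Subsingleton.elim _ _
    change P.map (D'.map (jMap h h')).op s' = 0 at hf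
    refine ⟨m'', h', ?_⟩
    rw [R_gSys]
    show P.map (cn (fm Xs h) (fm Xs h') (fm Xs (h.trans h')) (fm_comp Xs h h') W').op s = 0
    have e4 : P.map (cn (fm Xs h) (fm Xs h') (fm Xs (h.trans h')) (fm_comp Xs h h') W').op
        (P.map (sg Xs W' h).hom.op s') =
        P.map (sg Xs W' (h.trans h')).hom.op (P.map (D'.map (jMap h h')).op s') :=
      (P_map_map P _ _ s').trans ((congrArg (fun a => P.map (Quiver.Hom.op a) s')
        (sg_map Xs W' h h').symm).trans (P_map_map P _ _ s').symm)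
    refine (congrArg (fun z => P.map (cn (fm Xs h) (fm Xs h') (fm Xs (h.trans h'))
      (fm_comp Xs h h') W').op z) e0).symm.trans (e4.trans ?_)
    exact (congrArg (fun z => P.map (sg Xs W' (h.trans h')).hom.op z) hf).trans (map_zero _)

end Main

section Final

variable [IsDirected ι (· ≤ ·)] [Nonempty ι]
  [∀ a, PreservesFiniteLimits (EtCoh.pull (c.π.app a))]
  [∀ ⦃a b : ιᵒᵖ⦄ (h : a ⟶ b), PreservesFiniteLimits (EtCoh.pull (Xs.map h))]

/-- the limit theorem for the sheaves induced by a presheaf on all schemes -/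
theorem generic_form (hLP : LimProp P)
    (haff : ∀ ⦃a b : ιᵒᵖ⦄ (h : a ⟶ b), IsAffineHom (Xs.map h))
    (hqc : ∀ a, CompactSpace ↥(Xs.obj a)) (hqs : ∀ a, QuasiSeparatedSpace ↥(Xs.obj a))
    (hc : IsLimit c) (n : ℕ) :
    (∀ ξ : EtCoh.H c.pt (shf P hP c.pt) n,
      ∃ (j : ι) (ξj : EtCoh.H (Xs.obj (op j)) (shf P hP (Xs.obj (op j))) n),
        Tm (c.π.app (op j)) (shfPush P hP (c.π.app (op j))) n ξj = ξ) ∧
    (∀ (j : ι) (ξj : EtCoh.H (Xs.obj (op j)) (shf P hP (Xs.obj (op j))) n),
      Tm (c.π.app (op j)) (shfPush P hP (c.π.app (op j))) n ξj = 0 →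
        ∃ (k : ι) (hk : j ≤ k),
          Tm (Xs.map (homOfLE hk).op) (shfPush P hP (Xs.map (homOfLE hk).op)) n ξj = 0) := by
  have G := Groth.Agent.Helper6.LimCohI.geo Xs haff c hc
  have hC := gCone_isColim P hP Xs c hLP haff hc G
  exact main (c := c) G (fun i => hqc (op i)) (fun i => hqs (op i)) n
    (gSys P hP Xs) (gCone P hP Xs c) hC

end Final

end Groth.Agent.Helper6.LimCohX
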