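import Mathlib
import Groth.Prelude.Def_EtBase
import Groth.Prelude.Def_EtCore
import Groth.Prelude.Def_EtGm
import Groth.Prelude.Def_EtLim
import Groth.Agent.Helper6.LimCohX

set_option autoImplicit false
set_option linter.style.haveILetI false
set_option linter.unusedSectionVars false
set_option linter.unusedVariables false
set_option linter.unusedSimpArgs false

/-!
# Limit theorem for étale cohomology, part Y: the additive and the multiplicative group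
-/

namespace Groth.Agent.Helper6.LimCohY

open CategoryTheory CategoryTheory.Limits AlgebraicGeometry Opposite
open Groth.Agent.Helper6.LimCohL Groth.Agent.Helper6.LimCohX

universe u

lemma ΓAdd_map_apply {X Y : Scheme.{u}} (f : X ⟶ Y) (s : EtCoh.ΓAdd.obj (op Y)) :
    EtCoh.ΓAdd.map f.op s = ULift.up (f.appTop s.down) := rfl

lemma ΓAdd_zero_iff {X : Scheme.{u}} (s : EtCoh.ΓAdd.obj (op X)) : s = 0 ↔ s.down = 0 := by
  constructor
  · intro h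
    rw [h]
    rfl
  · intro h
    apply ULift.ext
    exact h

theorem limProp_ΓAdd : LimProp EtCoh.ΓAdd.{u} where
  surj D c hc _ _ _ t := by
    obtain ⟨i, s, hs⟩ := exists_appTop_π_eq_of_isLimit D c hc t.down
    refine ⟨i, ULift.up s, ?_⟩
    rw [ΓAdd_map_apply]
    apply ULift.ext
    exact hs.symm
  inj D c hc _ _ _ i s hs := by
    rw [ΓAdd_map_apply, ΓAdd_zero_iff] at hs
    obtain ⟨j, f, hf⟩ := exists_appTop_map_eq_zero_of_isLimit D c hc s.down hs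
    refine ⟨j, f, ?_⟩
    rw [ΓAdd_map_apply, ΓAdd_zero_iff]
    exact hf

/-- the unit of global functions underlying a section of `ΓUnits` -/
def toUnit {X : Scheme.{u}} (s : EtCoh.ΓUnits.obj (op X)) : (Γ(X, ⊤))ˣ := s.down.toMul

/-- the section of `ΓUnits` given by a unit -/
def ofUnit {X : Scheme.{u}} (a : (Γ(X, ⊤))ˣ) : EtCoh.ΓUnits.obj (op X) :=
  ULift.up (Additive.ofMul a)

lemma ofUnit_toUnit {X : Scheme.{u}} (s : EtCoh.ΓUnits.obj (op X)) : ofUnit (toUnit s) = s := rfl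

lemma toUnit_ofUnit {X : Scheme.{u}} (a : (Γ(X, ⊤))ˣ) : toUnit (ofUnit a) = a := rfl

lemma toUnit_zero {X : Scheme.{u}} : toUnit (0 : EtCoh.ΓUnits.obj (op X)) = 1 := rfl

lemma ΓUnits_map_val {X Y : Scheme.{u}} (f : X ⟶ Y) (s : EtCoh.ΓUnits.obj (op Y)) :
    ((toUnit (EtCoh.ΓUnits.map f.op s) : (Γ(X, ⊤))ˣ) : Γ(X, ⊤)) =
      f.appTop ((toUnit s : (Γ(Y, ⊤))ˣ) : Γ(Y, ⊤)) := rfl

lemma ΓUnits_ext {X : Scheme.{u}} (s t : EtCoh.ΓUnits.obj (op X))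
    (h : ((toUnit s : (Γ(X, ⊤))ˣ) : Γ(X, ⊤)) = ((toUnit t : (Γ(X, ⊤))ˣ) : Γ(X, ⊤))) : s = t := by
  have h1 : toUnit s = toUnit t := Units.ext h
  rw [← ofUnit_toUnit s, ← ofUnit_toUnit t, h1]

lemma appTop_w {I : Type u} [SmallCategory I] {D : I ⥤ Scheme.{u}} (c : Cone D) {i j : I}
    (f : j ⟶ i) (x : Γ(D.obj i, ⊤)) :
    (c.π.app j).appTop ((D.map f).appTop x) = (c.π.app i).appTop x := by
  rw [← c.w f, Scheme.Hom.comp_appTop]
  rfl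

lemma appTop_map_comp {I : Type u} [SmallCategory I] {D : I ⥤ Scheme.{u}} {i j k : I}
    (f : j ⟶ i) (g : k ⟶ j) (x : Γ(D.obj i, ⊤)) :
    (D.map g).appTop ((D.map f).appTop x) = (D.map (g ≫ f)).appTop x := by
  rw [D.map_comp, Scheme.Hom.comp_appTop]
  rfl

theorem limProp_ΓUnits : LimProp EtCoh.ΓUnits.{u} where
  surj D c hc _ _ _ t := by
    obtain ⟨i₁, a₁, ha₁⟩ := exists_appTop_π_eq_of_isLimit D c hc
      ((toUnit t : (Γ(c.pt, ⊤))ˣ) : Γ(c.pt, ⊤))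
    obtain ⟨i₂, b₂, hb₂⟩ := exists_appTop_π_eq_of_isLimit D c hc
      (((toUnit t)⁻¹ : (Γ(c.pt, ⊤))ˣ) : Γ(c.pt, ⊤))
    let i₃ := IsCofiltered.min i₁ i₂
    let f₁ : i₃ ⟶ i₁ := IsCofiltered.minToLeft i₁ i₂
    let f₂ : i₃ ⟶ i₂ := IsCofiltered.minToRight i₁ i₂
    let a₃ := (D.map f₁).appTop a₁
    let b₃ := (D.map f₂).appTop b₂
    have ha₃ : (c.π.app i₃).appTop a₃ = ((toUnit t : (Γ(c.pt, ⊤))ˣ) : Γ(c.pt, ⊤)) := by
      rw [ha₁]; exact appTop_w c f₁ a₁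
    have hb₃ : (c.π.app i₃).appTop b₃ = (((toUnit t)⁻¹ : (Γ(c.pt, ⊤))ˣ) : Γ(c.pt, ⊤)) := by
      rw [hb₂]; exact appTop_w c f₂ b₂
    have h0 : (c.π.app i₃).appTop (a₃ * b₃ - 1) = 0 := by
      rw [map_sub, map_mul, map_one, ha₃, hb₃, Units.mul_inv, sub_self]
    obtain ⟨j, f, hf⟩ := exists_appTop_map_eq_zero_of_isLimit D c hc (a₃ * b₃ - 1) h0
    have hab : (D.map f).appTop a₃ * (D.map f).appTop b₃ = 1 := by
      rw [map_sub, map_mul, map_one, sub_eq_zero] at hf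
      exact hf
    let w : (Γ(D.obj j, ⊤))ˣ := ⟨(D.map f).appTop a₃, (D.map f).appTop b₃, hab,
      (mul_comm _ _).trans hab⟩
    refine ⟨j, ofUnit w, ?_⟩
    apply ΓUnits_ext
    rw [ΓUnits_map_val, toUnit_ofUnit]
    show (c.π.app j).appTop ((D.map f).appTop a₃) = _
    rw [appTop_w c f a₃, ha₃]
  inj D c hc _ _ _ i s hs := by
    have h1 : (c.π.app i).appTop ((toUnit s : (Γ(D.obj i, ⊤))ˣ) : Γ(D.obj i, ⊤)) = 1 := by
      rw [← ΓUnits_map_val, hs]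
      rfl
    have h0 : (c.π.app i).appTop (((toUnit s : (Γ(D.obj i, ⊤))ˣ) : Γ(D.obj i, ⊤)) - 1) = 0 := by
      rw [map_sub, map_one, h1, sub_self]
    obtain ⟨j, f, hf⟩ := exists_appTop_map_eq_zero_of_isLimit D c hc _ h0
    refine ⟨j, f, ?_⟩
    apply ΓUnits_ext
    rw [ΓUnits_map_val]
    rw [map_sub, map_one, sub_eq_zero] at hf
    exact hf

section Final

variable {ι : Type u} [Preorder ι] [Nonempty ι] [IsDirected ι (· ≤ ·)] (Xs : ιᵒᵖ ⥤ Scheme.{u})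
  (c : Cone Xs)
  [∀ a, PreservesFiniteLimits (EtCoh.pull (c.π.app a))]
  [∀ ⦃a b : ιᵒᵖ⦄ (h : a ⟶ b), PreservesFiniteLimits (EtCoh.pull (Xs.map h))]

/-- the limit theorem for the multiplicative group -/
theorem gm_form (haff : ∀ ⦃a b : ιᵒᵖ⦄ (h : a ⟶ b), IsAffineHom (Xs.map h))
    (hqc : ∀ a, CompactSpace ↥(Xs.obj a)) (hqs : ∀ a, QuasiSeparatedSpace ↥(Xs.obj a))
    (hc : IsLimit c) (n : ℕ) :
    (∀ ξ : EtCoh.H c.pt (EtCoh.Gm c.pt) n,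
      ∃ (j : ι) (ξj : EtCoh.H (Xs.obj (op j)) (EtCoh.Gm (Xs.obj (op j))) n),
        EtLim.HGmPull (c.π.app (op j)) n ξj = ξ) ∧
    (∀ (j : ι) (ξj : EtCoh.H (Xs.obj (op j)) (EtCoh.Gm (Xs.obj (op j))) n),
      EtLim.HGmPull (c.π.app (op j)) n ξj = 0 →
        ∃ (k : ι) (hk : j ≤ k), EtLim.HGmPull (Xs.map (homOfLE hk).op) n ξj = 0) :=
  generic_form EtCoh.ΓUnits EtCoh.isSheaf_ΓUnits Xs c limProp_ΓUnits haff hqc hqs hc n

/-- the limit theorem for the additive group -/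
theorem ga_form (haff : ∀ ⦃a b : ιᵒᵖ⦄ (h : a ⟶ b), IsAffineHom (Xs.map h))
    (hqc : ∀ a, CompactSpace ↥(Xs.obj a)) (hqs : ∀ a, QuasiSeparatedSpace ↥(Xs.obj a))
    (hc : IsLimit c) (n : ℕ) :
    (∀ ξ : EtCoh.H c.pt (EtCoh.Ga c.pt) n,
      ∃ (j : ι) (ξj : EtCoh.H (Xs.obj (op j)) (EtCoh.Ga (Xs.obj (op j))) n),
        EtLim.HGaPull (c.π.app (op j)) n ξj = ξ) ∧
    (∀ (j : ι) (ξj : EtCoh.H (Xs.obj (op j)) (EtCoh.Ga (Xs.obj (op j))) n),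
      EtLim.HGaPull (c.π.app (op j)) n ξj = 0 →
        ∃ (k : ι) (hk : j ≤ k), EtLim.HGaPull (Xs.map (homOfLE hk).op) n ξj = 0) :=
  generic_form EtCoh.ΓAdd EtCoh.isSheaf_ΓAdd Xs c limProp_ΓAdd haff hqc hqs hc n

end Final

end Groth.Agent.Helper6.LimCohY
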