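import Mathlib
import Groth.Prelude.Def_EtBase
import Groth.Prelude.Def_EtCore
import Groth.Prelude.Def_EtLim
import Groth.Agent.Helper4.LanExact
import Groth.Agent.Helper6.LimCohW

set_option autoImplicit false
set_option linter.style.haveILetI false
set_option linter.unusedSectionVars false
set_option linter.unusedVariables false
set_option linter.unusedSimpArgs false

/-!
# Limit theorem for étale cohomology, part Z: cohomological dimension of a limit
-/

namespace Groth.Agent.Helper6.LimCohZ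

open CategoryTheory CategoryTheory.Limits AlgebraicGeometry Opposite
open Groth.Agent.Helper6.LimCohA Groth.Agent.Helper6.LimCohB Groth.Agent.Helper6.LimCohF
  Groth.Agent.Helper6.LimCohH

universe u

/-- exactness of the inverse image -/
theorem pfl_pull {X Y : Scheme.{u}} (f : X ⟶ Y) : PreservesFiniteLimits (EtCoh.pull f) :=
  Groth.Agent.Helper4.LanExact.sheafPullback_preservesFiniteLimits (EtCoh.bc f)
    Y.smallEtaleTopology X.smallEtaleTopology

section Torsion

variable {X Y : Scheme.{u}}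

lemma zeroLocus_nsmul_mono (F : EtCoh.Ab X) {V : X.Etale} (σ : F.obj.obj (op V)) (n k : ℕ) :
    zeroLocus F (n • σ) ⊆ zeroLocus F ((n * k) • σ) := by
  rintro z ⟨W, g, w, hw, hg⟩
  refine ⟨W, g, w, hw, ?_⟩
  rw [mul_comm, mul_smul, map_nsmul, hg, smul_zero]

/-- the direct image of a torsion sheaf along a quasi-compact morphism is a torsion sheaf -/
theorem isTorsion_push (f : X ⟶ Y) [QuasiCompact f] (F : EtCoh.Ab X) (hF : EtCoh.IsTorsion F) :
    EtCoh.IsTorsion ((EtCoh.push f).obj F) := by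
  classical
  intro U s x
  obtain ⟨W₀, a₀, -, hW₀, hcov₀⟩ := Groth.Agent.Helper4.EtGeom.exists_affine_refinement U ⊤
    (Y.smallEtaleTopology.top_mem U)
  obtain ⟨w, hw⟩ := hcov₀ x
  refine ⟨W₀ x, a₀ x, ⟨w, hw⟩, ?_⟩
  haveI : IsAffine (W₀ x).left := hW₀ x
  haveI : QuasiCompact (prj f (W₀ x)) := MorphismProperty.pullback_fst _ _ inferInstance
  haveI : CompactSpace ((EtCoh.bc f).obj (W₀ x)).left :=
    QuasiCompact.compactSpace_of_compactSpace (prj f (W₀ x))
  let s' : F.obj.obj (op ((EtCoh.bc f).obj (W₀ x))) := F.obj.map ((EtCoh.bc f).map (a₀ x)).op s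
  show IsOfFinAddOrder s'
  let Z : ℕ → Set ((EtCoh.bc f).obj (W₀ x)).left := fun n => zeroLocus F ((n + 1) • s')
  have hZ : ∀ n, IsOpen (Z n) := fun n => isOpen_zeroLocus F _
  have hcov : (Set.univ : Set ((EtCoh.bc f).obj (W₀ x)).left) ⊆ ⋃ n, Z n := by
    intro y _
    obtain ⟨V, g, ⟨v, hv⟩, hfin⟩ := hF ((EtCoh.bc f).obj (W₀ x)) s' y
    obtain ⟨n, hn, hn0⟩ := isOfFinAddOrder_iff_nsmul_eq_zero.1 hfin
    rw [Set.mem_iUnion]
    refine ⟨n - 1, V, g, v, hv, ?_⟩
    have : n - 1 + 1 = n := Nat.sub_add_cancel hn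
    rw [this, map_nsmul]
    exact hn0
  obtain ⟨t, ht⟩ := isCompact_univ.elim_finite_subcover Z hZ hcov
  let N : ℕ := ∏ n ∈ t, (n + 1)
  have hN : 0 < N := Finset.prod_pos (fun n _ => Nat.succ_pos n)
  have hall : ∀ y, y ∈ zeroLocus F (N • s') := by
    intro y
    have hy := ht (Set.mem_univ y)
    simp only [Set.mem_iUnion] at hy
    obtain ⟨n, hnt, hyn⟩ := hy
    obtain ⟨k, hk⟩ : (n + 1) ∣ N := Finset.dvd_prod_of_mem (fun n => n + 1) hnt
    rw [hk]
    exact zeroLocus_nsmul_mono F s' (n + 1) k hyn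
  have h0 : N • s' = 0 := eq_zero_of_zeroLocus F _ hall
  exact isOfFinAddOrder_iff_nsmul_eq_zero.2 ⟨N, hN, h0⟩

end Torsion

section Directed

variable {ι : Type u} [Preorder ι] [Nonempty ι] [IsDirected ι (· ≤ ·)] (Xs : ιᵒᵖ ⥤ Scheme.{u})
  (c : Cone Xs)

theorem cd_limit_directed (haff : ∀ ⦃a b : ιᵒᵖ⦄ (h : a ⟶ b), IsAffineHom (Xs.map h))
    (hqc : ∀ a, CompactSpace ↥(Xs.obj a)) (hqs : ∀ a, QuasiSeparatedSpace ↥(Xs.obj a))
    (hc : IsLimit c) (d : ℕ) (h : ∀ i, EtCoh.CohDimLE (Xs.obj i) d) : EtCoh.CohDimLE c.pt d := by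
  intro F hF q hq
  haveI : ∀ a, PreservesFiniteLimits (EtCoh.pull (c.π.app a)) := fun a => pfl_pull _
  haveI : ∀ ⦃a b : ιᵒᵖ⦄ (h : a ⟶ b), PreservesFiniteLimits (EtCoh.pull (Xs.map h)) :=
    fun a b h => pfl_pull _
  have G := Groth.Agent.Helper6.LimCohI.geo Xs haff c hc
  obtain ⟨h1, -⟩ := Groth.Agent.Helper6.LimCohW.push_form Xs c F haff hqc hqs hc q
  have hzero : ∀ ξ : EtCoh.H c.pt F q, ξ = 0 := by
    intro ξ
    obtain ⟨j, ξj, hj⟩ := h1 ξ
    haveI : IsAffineHom (c.π.app (op j)) := G.affine j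
    have ht : EtCoh.IsTorsion ((EtCoh.push (c.π.app (op j))).obj F) :=
      isTorsion_push (c.π.app (op j)) F hF
    haveI := h (op j) _ ht q hq
    rw [← hj, Subsingleton.elim ξj 0, map_zero]
  exact ⟨fun a b => (hzero a).trans (hzero b).symm⟩

end Directed

section General

theorem cd_limit {I : Type u} [SmallCategory I] [IsCofiltered I] (D : I ⥤ Scheme.{u})
    [∀ {i j : I} (a : i ⟶ j), IsAffineHom (D.map a)]
    [∀ i, CompactSpace (D.obj i)] [∀ i, QuasiSeparatedSpace (D.obj i)]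
    (c : Cone D) (hc : IsLimit c) (d : ℕ) (h : ∀ i, EtCoh.CohDimLE (D.obj i) d) :
    EtCoh.CohDimLE c.pt d := by
  obtain ⟨α, _, _, _, F, hF⟩ := IsFiltered.exists_directed Iᵒᵖ
  haveI : F.Final := hF
  let Xs : αᵒᵖ ⥤ Scheme.{u} := F.leftOp ⋙ D
  let c' : Cone Xs := c.whisker F.leftOp
  have hc' : IsLimit c' := (Functor.Initial.isLimitWhiskerEquiv F.leftOp c).symm hc
  exact cd_limit_directed Xs c' (fun a b m => inferInstanceAs (IsAffineHom (D.map (F.leftOp.map m))))
    (fun a => inferInstanceAs (CompactSpace (D.obj (F.leftOp.obj a))))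
    (fun a => inferInstanceAs (QuasiSeparatedSpace (D.obj (F.leftOp.obj a)))) hc' d
    (fun i => h (F.leftOp.obj i))

end General

end Groth.Agent.Helper6.LimCohZ
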