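import Mathlib
import Groth.Agent.Helper6.AdicLim1

/-!
# Tensoring a limit of finite length modules with a finitely presented module
-/

set_option autoImplicit false
set_option linter.style.haveILetI false
set_option linter.unusedSectionVars false

universe u
open CategoryTheory CategoryTheory.Limits Opposite MonoidalCategory TensorProduct

namespace Groth.Agent.Helper6.LimTen

open Groth.Agent.Helper6.EssConstArt (T T_comp T_refl)
open Groth.Agent.Helper6.AdicLim (S limLin limLin_bijective S_compat)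

section ML

variable {A : Type u} [CommRing A] (X : ℕᵒᵖ ⥤ ModuleCat.{u} A)
  (Ks : ∀ n : ℕ, Submodule A (X.obj (op n)))
  (hKs : ∀ (n : ℕ) (k : X.obj (op (n + 1))), k ∈ Ks (n + 1) → T X (Nat.le_succ n) k ∈ Ks n)

include hKs in
lemma Ks_T {n : ℕ} : ∀ (m : ℕ) (h : n ≤ m) (k : X.obj (op m)), k ∈ Ks m → T X h k ∈ Ks n := by
  intro m h
  induction m, h using Nat.le_induction with
  | base =>
    intro k hk
    rw [T_refl]
    exact hk
  | succ m hnm ih =>
    intro k hk
    rw [← T_comp X hnm (Nat.le_succ m)]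
    exact ih _ (hKs m k hk)

/-- image of `Ks m` in `X n` -/
def Im {n m : ℕ} (h : n ≤ m) : Submodule A (X.obj (op n)) := (Ks m).map (T X h)

include hKs in
lemma Im_anti {n m l : ℕ} (h : n ≤ m) (h' : m ≤ l) : Im X Ks (h.trans h') ≤ Im X Ks h := by
  rintro _ ⟨k, hk, rfl⟩
  exact ⟨T X h' k, Ks_T X Ks hKs l h' k hk, T_comp X h h' k⟩

include hKs in
lemma Im_le {n m : ℕ} (h : n ≤ m) : Im X Ks h ≤ Ks n := by
  rintro _ ⟨k, hk, rfl⟩
  exact Ks_T X Ks hKs m h k hk

variable (hArt : ∀ n, IsArtinian A (Ks n))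

include hKs hArt in
lemma exists_stable (n : ℕ) : ∃ r : ℕ, ∀ (m : ℕ) (h : n ≤ m), n + r ≤ m →
    Im X Ks h = Im X Ks (Nat.le_add_right n r) := by
  haveI := hArt n
  let f : ℕ →o (Submodule A (Ks n))ᵒᵈ :=
    { toFun := fun s => OrderDual.toDual
        ((Im X Ks (Nat.le_add_right n s)).comap (Ks n).subtype)
      monotone' := fun s s' hss => Submodule.comap_mono
        (Im_anti X Ks hKs (Nat.le_add_right n s) (show n + s ≤ n + s' by omega)) }
  obtain ⟨r, hr⟩ := IsArtinian.monotone_stabilizes f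
  refine ⟨r, fun m h hm => ?_⟩
  obtain ⟨s, rfl⟩ := Nat.exists_eq_add_of_le h
  have h1 : (Im X Ks (Nat.le_add_right n s)).comap (Ks n).subtype =
      (Im X Ks (Nat.le_add_right n r)).comap (Ks n).subtype :=
    (congrArg OrderDual.ofDual (hr s (by omega))).symm
  have h2 : ∀ t : ℕ, Im X Ks (Nat.le_add_right n t) =
      ((Im X Ks (Nat.le_add_right n t)).comap (Ks n).subtype).map (Ks n).subtype := by
    intro t
    rw [Submodule.map_comap_subtype, inf_eq_right.mpr (Im_le X Ks hKs _)]
  rw [h2 s, h1, ← h2 r]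

section stab

variable (r : ℕ → ℕ) (hr : ∀ (n m : ℕ) (h : n ≤ m), n + r n ≤ m →
    Im X Ks h = Im X Ks (Nat.le_add_right n (r n)))

/-- stable image -/
def E (n : ℕ) : Submodule A (X.obj (op n)) := Im X Ks (Nat.le_add_right n (r n))

include hKs in
lemma E_le (n : ℕ) : E X Ks r n ≤ Ks n := Im_le X Ks hKs _

include hr in
lemma step_surj (n : ℕ) (e : X.obj (op n)) (he : e ∈ E X Ks r n) :
    ∃ e' : X.obj (op (n + 1)), e' ∈ E X Ks r (n + 1) ∧ T X (Nat.le_succ n) e' = e := by
  have h : n ≤ max (n + r n) (n + 1 + r (n + 1)) :=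
    le_trans (Nat.le_add_right n (r n)) (le_max_left _ _)
  have h' : n + 1 ≤ max (n + r n) (n + 1 + r (n + 1)) :=
    le_trans (Nat.le_add_right (n + 1) (r (n + 1))) (le_max_right _ _)
  have he' : e ∈ Im X Ks h := by
    rw [hr n _ h (le_max_left _ _)]
    exact he
  obtain ⟨k, hk, rfl⟩ := he'
  refine ⟨T X h' k, ?_, T_comp X (Nat.le_succ n) h' k⟩
  show T X h' k ∈ Im X Ks (Nat.le_add_right (n + 1) (r (n + 1)))
  rw [← hr (n + 1) _ h' (le_max_right _ _)]
  exact ⟨k, hk, rfl⟩

include hr in
lemma T_E (n : ℕ) (e : X.obj (op (n + 1))) (he : e ∈ E X Ks r (n + 1)) :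
    T X (Nat.le_succ n) e ∈ E X Ks r n := by
  have h : n ≤ max (n + r n) (n + 1 + r (n + 1)) :=
    le_trans (Nat.le_add_right n (r n)) (le_max_left _ _)
  have h' : n + 1 ≤ max (n + r n) (n + 1 + r (n + 1)) :=
    le_trans (Nat.le_add_right (n + 1) (r (n + 1))) (le_max_right _ _)
  have he' : e ∈ Im X Ks h' := by
    rw [hr (n + 1) _ h' (le_max_right _ _)]
    exact he
  obtain ⟨k, hk, rfl⟩ := he'
  show _ ∈ Im X Ks (Nat.le_add_right n (r n))
  rw [← hr n _ h (le_max_left _ _), T_comp]
  exact ⟨k, hk, rfl⟩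

end stab

end ML

section MLsurj

variable {A : Type u} [CommRing A] (X : ℕᵒᵖ ⥤ ModuleCat.{u} A)

/-- Mittag-Leffler: a compatible family in the levelwise image of a map of towers with Artinian
kernels lifts to a compatible family. -/
theorem ml_surj (Y : ℕ → Type u) [∀ n, AddCommGroup (Y n)] [∀ n, Module A (Y n)]
    (tY : ∀ n, Y (n + 1) →ₗ[A] Y n) (π : ∀ n, X.obj (op n) →ₗ[A] Y n)
    (hπ : ∀ n x, π n (T X (Nat.le_succ n) x) = tY n (π (n + 1) x))
    (hArt : ∀ n, IsArtinian A (LinearMap.ker (π n)))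
    (y : ∀ n, Y n) (hy : ∀ n, tY n (y (n + 1)) = y n)
    (hrange : ∀ n, y n ∈ LinearMap.range (π n)) :
    ∃ x : ∀ n : ℕ, X.obj (op n), x ∈ S X ∧ ∀ n, π n (x n) = y n := by
  obtain ⟨Ks, hKsdef⟩ : ∃ Ks : ∀ n : ℕ, Submodule A (X.obj (op n)),
      Ks = fun n => LinearMap.ker (π n) := ⟨_, rfl⟩
  have hmemK : ∀ n (k : X.obj (op n)), k ∈ Ks n ↔ π n k = 0 := by
    intro n k
    rw [hKsdef]
    exact LinearMap.mem_ker
  have hKs : ∀ (n : ℕ) (k : X.obj (op (n + 1))), k ∈ Ks (n + 1) →
      T X (Nat.le_succ n) k ∈ Ks n := by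
    intro n k hk
    rw [hmemK] at hk ⊢
    rw [hπ, hk, map_zero]
  have hArt' : ∀ n, IsArtinian A (Ks n) := by
    intro n
    rw [hKsdef]
    exact hArt n
  -- compatibility of lifts
  have hlift : ∀ (n m : ℕ) (h : n ≤ m) (x : X.obj (op m)), π m x = y m →
      π n (T X h x) = y n := by
    intro n m h
    induction m, h using Nat.le_induction with
    | base =>
      intro x hx
      rw [T_refl]
      exact hx
    | succ m hnm ih =>
      intro x hx
      rw [← T_comp X hnm (Nat.le_succ m)]
      apply ih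
      rw [hπ, hx, hy]
  choose x0 hx0 using hrange
  choose r hr using exists_stable X Ks hKs hArt'
  obtain ⟨z, hz⟩ : ∃ z : ∀ n : ℕ, X.obj (op n),
      z = fun n => T X (Nat.le_add_right n (r n)) (x0 (n + r n)) := ⟨_, rfl⟩
  have hzπ : ∀ n, π n (z n) = y n := by
    intro n
    rw [hz]
    exact hlift n _ _ _ (hx0 _)
  -- key: for any M above the stabilization index, T_{M→n} (x0 M) - z n ∈ E n
  have hdiff : ∀ (n M : ℕ) (h : n ≤ M) (_ : n + r n ≤ M),
      T X h (x0 M) - z n ∈ E X Ks r n := by
    intro n M h h1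
    have e1 : T X h (x0 M) = T X (Nat.le_add_right n (r n)) (T X h1 (x0 M)) := by
      rw [T_comp]
    have e2 : z n = T X (Nat.le_add_right n (r n)) (x0 (n + r n)) := by rw [hz]
    rw [e1, e2, ← map_sub]
    refine ⟨T X h1 (x0 M) - x0 (n + r n), (hmemK _ _).mpr ?_, rfl⟩
    rw [map_sub, hlift _ _ h1 _ (hx0 M), hx0, sub_self]
  have hδ : ∀ n, T X (Nat.le_succ n) (z (n + 1)) - z n ∈ E X Ks r n := by
    intro n
    have h : n ≤ max (n + r n) (n + 1 + r (n + 1)) :=
      le_trans (Nat.le_add_right n (r n)) (le_max_left _ _)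
    have h' : n + 1 ≤ max (n + r n) (n + 1 + r (n + 1)) :=
      le_trans (Nat.le_add_right (n + 1) (r (n + 1))) (le_max_right _ _)
    have d1 := hdiff n _ h (le_max_left _ _)
    have d2 := T_E X Ks r hr n _ (hdiff (n + 1) _ h' (le_max_right _ _))
    rw [map_sub, T_comp] at d2
    have : T X (Nat.le_succ n) (z (n + 1)) - z n =
        (T X h (x0 (max (n + r n) (n + 1 + r (n + 1)))) - z n) -
          (T X ((Nat.le_succ n).trans h') (x0 (max (n + r n) (n + 1 + r (n + 1)))) -
            T X (Nat.le_succ n) (z (n + 1))) := by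
      abel
    rw [this]
    exact Submodule.sub_mem _ d1 d2
  have hstep := step_surj X Ks r hr
  choose! g hg1 hg2 using hstep
  obtain ⟨e, he0, hes⟩ : ∃ e : ∀ n : ℕ, X.obj (op n), e 0 = 0 ∧
      ∀ n, e (n + 1) = g n (e n - (T X (Nat.le_succ n) (z (n + 1)) - z n)) :=
    ⟨fun n => Nat.rec (motive := fun n => X.obj (op n)) 0
      (fun n en => g n (en - (T X (Nat.le_succ n) (z (n + 1)) - z n))) n, rfl, fun _ => rfl⟩
  have heE : ∀ n, e n ∈ E X Ks r n := by
    intro n
    induction n with
    | zero =>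
      rw [he0]
      exact Submodule.zero_mem _
    | succ n ih =>
      rw [hes]
      exact hg1 n _ (Submodule.sub_mem _ ih (hδ n))
  have heT : ∀ n, T X (Nat.le_succ n) (e (n + 1)) =
      e n - (T X (Nat.le_succ n) (z (n + 1)) - z n) := by
    intro n
    rw [hes]
    exact hg2 n _ (Submodule.sub_mem _ (heE n) (hδ n))
  refine ⟨fun n => z n + e n, ?_, ?_⟩
  · intro n
    show T X (Nat.le_succ n) (z (n + 1) + e (n + 1)) = z n + e n
    rw [map_add, heT]
    abel
  · intro n
    show π n (z n + e n) = y n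
    rw [map_add, hzπ, (hmemK n (e n)).mp (E_le X Ks hKs r n (heE n)), add_zero]

end MLsurj

section Theta

variable {R : Type u} [CommRing R] (M : ℕᵒᵖ ⥤ ModuleCat.{u} R)

/-- the system `M_n ⊗ N` -/
noncomputable abbrev MT (N : Type u) [AddCommGroup N] [Module R N] : ℕᵒᵖ ⥤ ModuleCat.{u} R :=
  M ⋙ tensorRight (ModuleCat.of R N)

lemma T_MT (N : Type u) [AddCommGroup N] [Module R N] {n m : ℕ} (h : n ≤ m)
    (t : (M.obj (op m) : Type u) ⊗[R] N) :
    T (MT M N) h t = (T M h).rTensor N t := rfl

/-- projection from compatible sequences -/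
def pr (j : ℕ) : S M →ₗ[R] M.obj (op j) :=
  (LinearMap.proj (R := R) (φ := fun n : ℕ => M.obj (op n)) j).comp (S M).subtype

lemma pr_apply (j : ℕ) (x : S M) : pr M j x = x.1 j := rfl

lemma T_comp_pr (n : ℕ) : (T M (Nat.le_succ n)).comp (pr M (n + 1)) = pr M n :=
  LinearMap.ext fun x => x.2 n

variable (N : Type u) [AddCommGroup N] [Module R N]

/-- the comparison map `(lim M) ⊗ N → lim (M ⊗ N)` on compatible sequences -/
noncomputable def θ : (S M) ⊗[R] N →ₗ[R] S (MT M N) :=
  LinearMap.codRestrict (S (MT M N))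
    (LinearMap.pi (φ := fun n : ℕ => (MT M N).obj (op n)) fun j => (pr M j).rTensor N) (by
    intro t n
    show T (MT M N) (Nat.le_succ n) ((pr M (n + 1)).rTensor N t) = (pr M n).rTensor N t
    rw [T_MT, ← LinearMap.comp_apply, ← LinearMap.rTensor_comp, T_comp_pr])

lemma θ_apply (t : (S M) ⊗[R] N) (j : ℕ) : (θ M N t).1 j = (pr M j).rTensor N t := rfl

variable {N} in
lemma θ_nat {N' : Type u} [AddCommGroup N'] [Module R N'] (φ : N →ₗ[R] N')
    (t : (S M) ⊗[R] N) (j : ℕ) :
    (θ M N' (φ.lTensor (S M) t)).1 j = φ.lTensor (M.obj (op j)) ((θ M N t).1 j) := by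
  rw [θ_apply, θ_apply, ← LinearMap.comp_apply, ← LinearMap.comp_apply,
    LinearMap.rTensor_comp_lTensor, LinearMap.lTensor_comp_rTensor]

end Theta

section Free

variable {R : Type u} [CommRing R]

/-- naturality of `piScalarRight` in the module -/
lemma piScalarRight_nat {P P' : Type u} [AddCommGroup P] [Module R P] [AddCommGroup P']
    [Module R P'] (b : ℕ) (f : P →ₗ[R] P') (t : P ⊗[R] (Fin b → R)) (i : Fin b) :
    TensorProduct.piScalarRight R R P' (Fin b) (f.rTensor (Fin b → R) t) i =
      f (TensorProduct.piScalarRight R R P (Fin b) t i) := by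
  induction t using TensorProduct.induction_on with
  | zero => simp
  | tmul x v =>
    rw [LinearMap.rTensor_tmul, TensorProduct.piScalarRight_apply,
      TensorProduct.piScalarRightHom_tmul, TensorProduct.piScalarRight_apply,
      TensorProduct.piScalarRightHom_tmul, map_smul]
  | add x y hx hy =>
    rw [map_add, map_add, Pi.add_apply, hx, hy, map_add, Pi.add_apply, map_add]

variable (M : ℕᵒᵖ ⥤ ModuleCat.{u} R)

theorem θ_free_injective (b : ℕ) : Function.Injective (θ M (Fin b → R)) := by
  rw [injective_iff_map_eq_zero]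
  intro t ht
  apply (TensorProduct.piScalarRight R R (S M) (Fin b)).injective
  rw [map_zero]
  funext i
  apply Subtype.ext
  funext j
  show pr M j (TensorProduct.piScalarRight R R (S M) (Fin b) t i) = 0
  rw [← piScalarRight_nat, ← θ_apply, ht]
  simp

theorem θ_free_surjective (b : ℕ) : Function.Surjective (θ M (Fin b → R)) := by
  intro s
  have hcompat : ∀ (i : Fin b) (n : ℕ), T M (Nat.le_succ n)
      (TensorProduct.piScalarRight R R (M.obj (op (n + 1))) (Fin b) (s.1 (n + 1)) i) =
      TensorProduct.piScalarRight R R (M.obj (op n)) (Fin b) (s.1 n) i := by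
    intro i n
    rw [← piScalarRight_nat, ← T_MT]
    exact congrArg (fun w => TensorProduct.piScalarRight R R (M.obj (op n)) (Fin b) w i) (s.2 n)
  let x : Fin b → S M := fun i =>
    ⟨fun j => TensorProduct.piScalarRight R R (M.obj (op j)) (Fin b) (s.1 j) i, hcompat i⟩
  refine ⟨(TensorProduct.piScalarRight R R (S M) (Fin b)).symm x, ?_⟩
  apply Subtype.ext
  funext j
  apply (TensorProduct.piScalarRight R R (M.obj (op j)) (Fin b)).injective
  funext i
  rw [θ_apply, piScalarRight_nat, LinearEquiv.apply_symm_apply]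
  rfl

end Free

section Main

variable {R : Type u} [CommRing R] (M : ℕᵒᵖ ⥤ ModuleCat.{u} R)
  (hM : ∀ n : ℕ, IsArtinian R (M.obj (op n)))

include hM in
lemma artinian_tensor_free (b n : ℕ) :
    IsArtinian R ((M.obj (op n) : Type u) ⊗[R] (Fin b → R)) := by
  haveI := hM n
  exact isArtinian_of_linearEquiv
    (TensorProduct.piScalarRight R R (M.obj (op n)) (Fin b)).symm

variable (N : Type u) [AddCommGroup N] [Module R N] [Module.FinitePresentation R N]

include hM in
theorem θ_bijective : Function.Bijective (θ M N) := by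
  obtain ⟨b, a, β, α, hβ, hex⟩ := Module.FinitePresentation.exists_fin' R N
  -- the ML lifting for a map of coefficient modules
  have lift : ∀ (c : ℕ) (Q : Type u) [AddCommGroup Q] [Module R Q] (γ : (Fin c → R) →ₗ[R] Q)
      (s : S (MT M Q)), (∀ n, s.1 n ∈ LinearMap.range (γ.lTensor (M.obj (op n)))) →
      ∃ t : (S M) ⊗[R] (Fin c → R), ∀ n, (θ M Q (γ.lTensor (S M) t)).1 n = s.1 n := by
    intro c Q _ _ γ s hs
    obtain ⟨x, hxS, hx⟩ := ml_surj (MT M (Fin c → R))
      (fun n => (M.obj (op n) : Type u) ⊗[R] Q)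
      (fun n => (T M (Nat.le_succ n)).rTensor Q)
      (fun n => γ.lTensor (M.obj (op n)))
      (by
        intro n w
        rw [T_MT, ← LinearMap.comp_apply, ← LinearMap.comp_apply,
          LinearMap.lTensor_comp_rTensor, LinearMap.rTensor_comp_lTensor])
      (by
        intro n
        haveI hA : IsArtinian R ((MT M (Fin c → R)).obj (op n)) :=
          artinian_tensor_free M hM c n
        exact isArtinian_submodule' _)
      (fun n => s.1 n) (fun n => s.2 n) hs
    obtain ⟨t, ht⟩ := θ_free_surjective M c ⟨x, hxS⟩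
    refine ⟨t, fun n => ?_⟩
    rw [θ_nat, ht]
    exact hx n
  constructor
  · rw [injective_iff_map_eq_zero]
    intro s hs
    obtain ⟨t, rfl⟩ := LinearMap.lTensor_surjective (S M) hβ s
    -- x = θ t has components in the kernel of β, hence in the range of α
    have hker : ∀ n, (θ M (Fin b → R) t).1 n ∈
        LinearMap.range (α.lTensor (M.obj (op n))) := by
      intro n
      have hexn := lTensor_exact (M.obj (op n)) hex hβ
      rw [← hexn.linearMap_ker_eq, LinearMap.mem_ker, ← θ_nat, hs]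
      rfl
    obtain ⟨t', ht'⟩ := lift a (Fin b → R) α (θ M (Fin b → R) t) hker
    have h1 : θ M (Fin b → R) (α.lTensor (S M) t') = θ M (Fin b → R) t :=
      Subtype.ext (funext ht')
    have h2 := θ_free_injective M b h1
    rw [← h2, ← LinearMap.comp_apply, ← LinearMap.lTensor_comp]
    have h3 : β.comp α = 0 := hex.linearMap_comp_eq_zero
    rw [h3, LinearMap.lTensor_zero, LinearMap.zero_apply]
  · intro s
    obtain ⟨t, ht⟩ := lift b N β s (fun n => by
      rw [LinearMap.range_eq_top.mpr (LinearMap.lTensor_surjective _ hβ)]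
      exact Submodule.mem_top)
    exact ⟨β.lTensor (S M) t, Subtype.ext (funext ht)⟩

include hM in
theorem main : IsIso (limit.post M (tensorRight (ModuleCat.of R N))) := by
  rw [ConcreteCategory.isIso_iff_bijective]
  have hθ := θ_bijective M hM N
  let E1 : (limit M : ModuleCat.{u} R) ≃ₗ[R] S M :=
    LinearEquiv.ofBijective (limLin M) (limLin_bijective M)
  have he2 := limLin_bijective (MT M N)
  have key : ∀ t : ((limit M : ModuleCat.{u} R) : Type u) ⊗[R] N,
      limLin (MT M N) ((limit.post M (tensorRight (ModuleCat.of R N))).hom t) =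
        θ M N ((limLin M).rTensor N t) := by
    intro t
    apply Subtype.ext
    funext j
    show (limit.π (MT M N) (op j)).hom
        ((limit.post M (tensorRight (ModuleCat.of R N))).hom t) =
      (pr M j).rTensor N ((limLin M).rTensor N t)
    have h1 := congrArg (fun q => q.hom t)
      (limit.post_π M (tensorRight (ModuleCat.of R N)) (op j))
    have h2 : (pr M j).rTensor N ((limLin M).rTensor N t) =
        ((limit.π M (op j)).hom).rTensor N t := by
      rw [← LinearMap.comp_apply, ← LinearMap.rTensor_comp]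
      rfl
    rw [h2]
    exact h1
  have hb : Function.Bijective
      (fun t : ((limit M : ModuleCat.{u} R) : Type u) ⊗[R] N =>
        θ M N ((limLin M).rTensor N t)) :=
    hθ.comp (LinearEquiv.rTensor N E1).bijective
  have hb' : Function.Bijective ((limLin (MT M N)) ∘
      (limit.post M (tensorRight (ModuleCat.of R N))).hom) := by
    have : ((limLin (MT M N)) ∘ (limit.post M (tensorRight (ModuleCat.of R N))).hom) =
        (fun t : ((limit M : ModuleCat.{u} R) : Type u) ⊗[R] N =>
          θ M N ((limLin M).rTensor N t)) := funext key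
    rw [this]
    exact hb
  exact (Function.Bijective.of_comp_iff' he2 _).mp hb'

end Main

end Groth.Agent.Helper6.LimTen
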