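import Mathlib
import Groth.Agent.Helper6.TrDual2

set_option autoImplicit false
set_option linter.style.haveILetI false
set_option linter.unusedSectionVars false

/-!
# A local parameter that is a unit at the other places generates the extension and computes
the different exponent
-/

namespace Groth.Agent.Helper6.LocPar

open FunFld LocRes Polynomial
open Groth.Agent.Helper5
open Groth.Agent.Helper6.LocDual Groth.Agent.Helper6.TrDual Groth.Agent.Helper6.TrDual2

universe u v w

section nak

variable {k : Type u} {K K' : Type v} [Field k] [Field K] [Field K'] [Algebra k K]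
  [Algebra K K'] [Algebra k K'] [IsScalarTower k K K'] [FiniteDimensional K K']

/-- the integral elements, as a module over a subalgebra of integral elements. -/
def intSub (P : Place k K) [Algebra P.O K'] (A : Subalgebra P.O K')
    (hA : ∀ a ∈ A, IsIntegral P.O a) : Submodule A K' where
  carrier := {z | IsIntegral P.O z}
  add_mem' := fun ha hb => IsIntegral.add ha hb
  zero_mem' := isIntegral_zero
  smul_mem' := fun a z hz => by
    show IsIntegral P.O (a • z)
    rw [Subalgebra.smul_def, smul_eq_mul]; exact (hA a a.2).mul hz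

theorem intSub_fg (hK : IsFunctionField k K) (P : Place k K) [Algebra P.O K']
    [IsScalarTower P.O K K'] (A : Subalgebra P.O K') (hA : ∀ a ∈ A, IsIntegral P.O a) :
    (intSub P A hA).FG := by
  classical
  haveI hfin := FG.integralClosure_finite (K' := K') hK P
  obtain ⟨S, hS⟩ := (Module.finite_def.1 hfin : (⊤ : Submodule P.O (integralClosure P.O K')).FG)
  refine ⟨S.image Subtype.val, le_antisymm ?_ ?_⟩
  · rw [Submodule.span_le]
    intro z hz
    rw [Finset.coe_image] at hz
    obtain ⟨x, -, rfl⟩ := hz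
    exact x.2
  · intro z hz
    have h1 : (⟨z, hz⟩ : integralClosure P.O K') ∈
        Submodule.span P.O (S : Set (integralClosure P.O K')) := by rw [hS]; trivial
    have key : ∀ w : integralClosure P.O K',
        w ∈ Submodule.span P.O (S : Set (integralClosure P.O K')) →
        (w : K') ∈ Submodule.span A ((S.image Subtype.val : Finset K') : Set K') := by
      intro w hw
      induction hw using Submodule.span_induction with
      | mem x hx => exact Submodule.subset_span (by rw [Finset.coe_image]; exact ⟨x, hx, rfl⟩)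
      | zero => exact Submodule.zero_mem _
      | add x y _ _ hx hy => exact Submodule.add_mem _ hx hy
      | smul r x _ hx =>
        have e1 : ((r • x : integralClosure P.O K') : K') = (algebraMap P.O A r) • (x : K') := by
          rw [Subalgebra.smul_def, smul_eq_mul]
          show r • (x : K') = _
          rw [Algebra.smul_def]; rfl
        rw [e1]; exact Submodule.smul_mem _ _ hx
    exact key _ h1

/-- Nakayama: if every integral `z` is `c + s z₁` with `c ∈ O_P`, `z₁` integral, then some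
`b ∈ O_P[s]`, `b ≡ 1 mod s`, multiplies all integral elements into `O_P[s]`. -/
theorem exists_conductor (hK : IsFunctionField k K) (P : Place k K) [Algebra P.O K']
    [IsScalarTower P.O K K'] {s : K'} (hsi : IsIntegral P.O s)
    (hdec : ∀ z : K', IsIntegral P.O z → ∃ c : P.O, ∃ z₁ : K', IsIntegral P.O z₁ ∧
      z = algebraMap P.O K' c + s * z₁) :
    ∃ b q : K', b ∈ Algebra.adjoin P.O ({s} : Set K') ∧ q ∈ Algebra.adjoin P.O ({s} : Set K') ∧
      b - 1 = q * s ∧
      ∀ z : K', IsIntegral P.O z → b * z ∈ Algebra.adjoin P.O ({s} : Set K') := by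
  classical
  obtain ⟨A, hA⟩ : ∃ A : Subalgebra P.O K', A = Algebra.adjoin P.O ({s} : Set K') := ⟨_, rfl⟩
  rw [← hA]
  have hA_int : ∀ a ∈ A, IsIntegral P.O a := fun a ha => by
    rw [hA] at ha; exact (_root_.adjoin_le_integralClosure hsi) ha
  have hsA : s ∈ A := by rw [hA]; exact Algebra.subset_adjoin (Set.mem_singleton s)
  obtain ⟨N₁, hN₁⟩ : ∃ N₁ : Submodule A K', N₁ = intSub P A hA_int := ⟨_, rfl⟩
  have hmemN₁ : ∀ z : K', z ∈ N₁ ↔ IsIntegral P.O z := fun z => by rw [hN₁]; exact Iff.rfl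
  have hfg : N₁.FG := by rw [hN₁]; exact intSub_fg hK P A hA_int
  obtain ⟨N₀, hN₀⟩ : ∃ N₀ : Submodule A K', N₀ = 1 := ⟨_, rfl⟩
  obtain ⟨sA, hsA'⟩ : ∃ sA : A, (sA : K') = s := ⟨⟨s, hsA⟩, rfl⟩
  have hin : N₁.map N₀.mkQ ≤ Ideal.span {sA} • N₁.map N₀.mkQ := by
    rintro _ ⟨z, hz, rfl⟩
    obtain ⟨c, z₁, hz₁, rfl⟩ := hdec z ((hmemN₁ z).1 hz)
    have h1 : N₀.mkQ (algebraMap P.O K' c) = 0 := by
      rw [Submodule.mkQ_apply, Submodule.Quotient.mk_eq_zero, hN₀]
      exact Submodule.mem_one.2 ⟨algebraMap P.O A c, rfl⟩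
    have h2 : s * z₁ = sA • z₁ := by rw [Subalgebra.smul_def, smul_eq_mul, hsA']
    rw [map_add, h1, zero_add, h2, map_smul]
    exact Submodule.smul_mem_smul (Ideal.mem_span_singleton_self sA)
      (Submodule.mem_map_of_mem ((hmemN₁ z₁).2 hz₁))
  obtain ⟨r, hr1, hr2⟩ := Submodule.exists_sub_one_mem_and_smul_eq_zero_of_fg_of_le_smul
    (Ideal.span {sA}) (N₁.map N₀.mkQ) (hfg.map _) hin
  obtain ⟨q, hq⟩ := Ideal.mem_span_singleton'.1 hr1
  refine ⟨(r : K'), (q : K'), r.2, q.2, ?_, fun z hz => ?_⟩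
  · have h1 := congrArg (fun a : A => (a : K')) hq
    simp only [Subalgebra.coe_mul, Subalgebra.coe_sub, Subalgebra.coe_one, hsA'] at h1
    exact h1.symm
  · have h1 := hr2 (N₀.mkQ z) (Submodule.mem_map_of_mem ((hmemN₁ z).2 hz))
    rw [← map_smul, Submodule.mkQ_apply, Submodule.Quotient.mk_eq_zero, hN₀] at h1
    obtain ⟨y, hy⟩ := Submodule.mem_one.1 h1
    rw [Subalgebra.smul_def, smul_eq_mul] at hy
    rw [← hy]; exact y.2

end nak

theorem s12572 (k : Type u) (K K' : Type v) [Field k] [Field K] [Field K'] [Algebra k K]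
    [Algebra K K'] [Algebra k K'] [IsScalarTower k K K'] [FiniteDimensional K K']
    [Algebra.IsSeparable K K']
    (hK : FunFld.IsFunctionField k K) (hg : FunFld.IsGeometric k K)
    (F F' : Type w) [Field F] [Algebra k F] [Field F'] [Algebra k F']
    (P : FunFld.Place k K) (Q : FunFld.Place k K') (e : ℕ) (he : FunFld.IsOverWith Q P e)
    (φ : K →ₐ[k] LaurentSeries F) (hφ : LocRes.IsExpansionAt P.1 φ)
    (ψ : K' →ₐ[k] LaurentSeries F') (hψ : LocRes.IsExpansionAt Q.1 ψ)
    (x : K) (hx : LocRes.vDiff φ 1 x ≠ 0) (hx' : LocRes.vDiff ψ 1 (algebraMap K K' x) ≠ 0)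
    [P.1.HasExtension Q.1]
    (hf : Function.Surjective (algebraMap (IsLocalRing.ResidueField P.O)
      (IsLocalRing.ResidueField Q.O)))
    (s : K') (hs : Q.1 s = WithZero.exp (-1))
    (hs' : ∀ Q' : FunFld.Place k K', FunFld.IsOver Q' P → Q' ≠ Q → Q'.1 s = 1) :
    IntermediateField.adjoin K ({s} : Set K') = ⊤ ∧
    Q.ord (Polynomial.aeval s (Polynomial.derivative (minpoly K s))) =
      LocRes.diffExp φ ψ e x := by
  classical
  have hQP : IsOver Q P := ⟨e, he⟩
  have hs0 : s ≠ 0 := fun h => by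
    rw [h, map_zero] at hs; exact WithZero.exp_ne_zero hs.symm
  have hsi : IsIntegral P.O s := by
    refine FG.isIntegral_of_forall_val_le_one hK.1 P fun Q' hQ' => ?_
    by_cases h : Q' = Q
    · rw [h, hs]; exact FG.exp_neg_one_lt_one.le
    · rw [hs' Q' hQ' h]
  have hsurj : ∀ z : K', Q.1 z ≤ 1 → ∃ z₀ : P.O, Q.1 (z - algebraMap P.O K' z₀) < 1 := by
    intro z hz
    obtain ⟨r, hr⟩ := hf (IsLocalRing.residue Q.O ⟨z, hz⟩)
    obtain ⟨z₀, rfl⟩ := IsLocalRing.residue_surjective r
    rw [Valuation.HasExtension.algebraMap_residue_eq_residue_algebraMap] at hr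
    have h0 : IsLocalRing.residue Q.O (⟨z, hz⟩ - algebraMap P.O Q.O z₀) = 0 := by
      rw [map_sub, hr, sub_self]
    rw [FG.residue_eq_zero_iff] at h0
    refine ⟨z₀, ?_⟩
    rw [IsScalarTower.algebraMap_apply P.O K K']
    exact h0
  have hdec : ∀ z : K', IsIntegral P.O z → ∃ c : P.O, ∃ z₁ : K', IsIntegral P.O z₁ ∧
      z = algebraMap P.O K' c + s * z₁ := by
    intro z hz
    obtain ⟨c, hc⟩ := hsurj z (FG.val_le_one_of_isIntegral hQP hz)
    have hzc : IsIntegral P.O (z - algebraMap P.O K' c) := hz.sub isIntegral_algebraMap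
    refine ⟨c, (z - algebraMap P.O K' c) * s⁻¹, ?_, ?_⟩
    · refine FG.isIntegral_of_forall_val_le_one hK.1 P fun Q' hQ' => ?_
      rw [map_mul, map_inv₀]
      by_cases h : Q' = Q
      · rw [h, hs]
        have h1 := (FF.lt_one_iff_le_exp_neg_one' _).1 hc
        calc Q.1 (z - algebraMap P.O K' c) * (WithZero.exp (-1 : ℤ))⁻¹
            ≤ WithZero.exp (-1 : ℤ) * (WithZero.exp (-1 : ℤ))⁻¹ := mul_le_mul' h1 le_rfl
          _ = 1 := mul_inv_cancel₀ WithZero.exp_ne_zero
      · rw [hs' Q' hQ' h, inv_one, mul_one]; exact FG.val_le_one_of_isIntegral hQ' hzc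
    · rw [mul_comm (z - _) s⁻¹, ← mul_assoc, mul_inv_cancel₀ hs0, one_mul]; ring
  obtain ⟨b, q, hbA, hqA, hbq, hcond⟩ := exists_conductor hK P hsi hdec
  have hA_int : ∀ a ∈ Algebra.adjoin P.O ({s} : Set K'), IsIntegral P.O a := fun a ha =>
    (_root_.adjoin_le_integralClosure hsi) ha
  have hQb : Q.1 b = 1 := by
    have h1 : Q.1 (b - 1) < 1 := by
      rw [hbq, map_mul, hs]
      calc Q.1 q * WithZero.exp (-1 : ℤ) ≤ 1 * WithZero.exp (-1 : ℤ) :=
            mul_le_mul' (FG.val_le_one_of_isIntegral hQP (hA_int q hqA)) le_rfl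
        _ < 1 := by rw [one_mul]; exact FG.exp_neg_one_lt_one
    have e1 : b = 1 + (b - 1) := by ring
    rw [e1, Valuation.map_add_eq_of_lt_left, map_one]
    rw [map_one]; exact h1
  have hb0 : b ≠ 0 := fun h => by rw [h, map_zero] at hQb; exact zero_ne_one hQb
  have hA_le : ∀ a ∈ Algebra.adjoin P.O ({s} : Set K'),
      a ∈ IntermediateField.adjoin K ({s} : Set K') := by
    intro a ha
    induction ha using Algebra.adjoin_induction with
    | mem x hx =>
      rw [Set.mem_singleton_iff] at hx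
      rw [hx]; exact IntermediateField.mem_adjoin_simple_self K s
    | algebraMap r =>
      rw [IsScalarTower.algebraMap_apply P.O K K']
      exact IntermediateField.algebraMap_mem _ _
    | add x y _ _ hx hy => exact IntermediateField.add_mem _ hx hy
    | mul x y _ _ hx hy => exact IntermediateField.mul_mem _ hx hy
  have hadj : IntermediateField.adjoin K ({s} : Set K') = ⊤ := by
    refine eq_top_iff.2 fun y _ => ?_
    have halg : IsAlgebraic P.O y :=
      (IsFractionRing.isAlgebraic_iff P.O K K').2 (Algebra.IsAlgebraic.isAlgebraic y)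
    obtain ⟨r, hr0, hry⟩ := halg.exists_integral_multiple
    rw [Algebra.smul_def] at hry
    have hr0' : algebraMap P.O K' r ≠ 0 := by
      rw [IsScalarTower.algebraMap_apply P.O K K']
      intro h
      have h2 := (map_eq_zero (algebraMap K K')).1 h
      exact hr0 (Subtype.ext h2)
    have h1 := hA_le _ (hcond _ hry)
    have h2 : algebraMap P.O K' r ∈ IntermediateField.adjoin K ({s} : Set K') := by
      rw [IsScalarTower.algebraMap_apply P.O K K']
      exact IntermediateField.algebraMap_mem _ _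
    have h3 := IntermediateField.mul_mem _ h1
      (IntermediateField.inv_mem _ (IntermediateField.mul_mem _ (hA_le b hbA) h2))
    have e1 : b * (algebraMap P.O K' r * y) * (b * algebraMap P.O K' r)⁻¹ = y := by
      field_simp
    rwa [e1] at h3
  obtain ⟨hA, -⟩ := s12574 k K K' hK hg F F' P Q e he φ hφ ψ hψ x hx hx' hf
  obtain ⟨hle, -⟩ := s12575 k K K' hK hg F F' P Q e he φ hφ ψ hψ x hx hx' hf s hadj hsi
  refine ⟨hadj, le_antisymm ?_ hle⟩
  obtain ⟨γ, hγ⟩ : ∃ γ : K', γ = aeval s (derivative (minpoly K s)) := ⟨_, rfl⟩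
  rw [← hγ]
  have hsep : (minpoly K s).Separable := Algebra.IsSeparable.isSeparable K s
  have hγ0 : γ ≠ 0 := by rw [hγ]; exact hsep.aeval_derivative_ne_zero (minpoly.aeval K s)
  have hAdj : Algebra.adjoin K ({s} : Set K') = ⊤ := by
    rw [← IntermediateField.adjoin_simple_toSubalgebra_of_isAlgebraic
      (Algebra.IsAlgebraic.isAlgebraic s), hadj, IntermediateField.top_toSubalgebra]
  have hdual := traceForm_dualSubmodule_adjoin P.O K hAdj hsi
  have hmemd : γ⁻¹ ∈ (Algebra.traceForm K K').dualSubmodule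
      (Subalgebra.toSubmodule (Algebra.adjoin P.O ({s} : Set K'))) := by
    rw [hdual, ← hγ, Submodule.mem_smul_iff_inv_mul_mem (inv_ne_zero hγ0), inv_inv,
      mul_inv_cancel₀ hγ0]
    exact (Subalgebra.mem_toSubmodule _).2 (Subalgebra.one_mem _)
  rw [LinearMap.BilinForm.mem_dualSubmodule] at hmemd
  have hC : ∀ z : K', IsIntegral P.O z → P.1 (Algebra.trace K K' (γ⁻¹ * b * z)) ≤ 1 := by
    intro z hz
    have h1 := hmemd (b * z) ((Subalgebra.mem_toSubmodule _).2 (hcond z hz))
    rw [Algebra.traceForm_apply, Submodule.mem_one] at h1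
    obtain ⟨r, hr⟩ := h1
    rw [mul_assoc, ← hr]
    exact r.2
  have h1 := hA (γ⁻¹ * b) hC
  rw [map_mul, hQb, mul_one] at h1
  have h2 := (FG.val_le_exp_iff Q (inv_ne_zero hγ0) _).1 h1
  rw [FG.ord_inv] at h2
  omega

end Groth.Agent.Helper6.LocPar
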