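import Mathlib
import Groth.Agent.Helper6.LocQ8
import Groth.Agent.Helper6.LftST
import Groth.Agent.Helper6.LfpST
import Groth.Agent.Helper6.LocQ9
import Groth.Agent.Helper6.LocQ10
import Groth.Agent.Helper6.LocQ11
import Groth.Agent.Helper6.FppfSD3

/-!
# Helper6: `LocQ` — descent of lft / lfp along fppf surjections on the source
-/

set_option autoImplicit false
set_option linter.style.haveILetI false
set_option linter.unusedVariables false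
universe u

namespace Groth.Agent.Helper6.LocQ12
open CategoryTheory Functor FibCat Limits AlgebraicGeometry Opposite
open Groth.Agent.Helper3 Stk Groth.Agent.Helper6.OfPsh Groth.Agent.Helper6.OfPshHom
open Groth.Agent.Helper6.FpTools Groth.Agent.Helper6.OfPshFp Groth.Agent.Helper6.AlgStRep
open Groth.Agent.Helper6.AlgStEquiv Groth.Agent.Helper6.AlgStInv Groth.Agent.Helper6.AlgStPsh
open Groth.Agent.Helper6.DiagRed Groth.Agent.Helper6.RepDiag Groth.Agent.Helper6.RepComp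
open Groth.Agent.Helper6.DiagRep Groth.Agent.Helper6.AlgStPts Groth.Agent.Helper6.StPts
open Groth.Agent.Helper6.SmLoc Groth.Agent.Helper6.ChartOver Groth.Agent.Helper6.StTop
open Groth.Agent.Helper6.QcMor2 Groth.Agent.Helper6.SpAtlas Groth.Agent.Helper4.SDClasses
open Groth.Agent.Helper6.Descent1 Groth.Agent.Helper6.Descent2 Groth.Agent.Helper6.LocQ0
open Groth.Agent.Helper6.LocQ1 Groth.Agent.Helper6.LocQ2 Groth.Agent.Helper6.AlgStBC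
open Groth.Agent.Helper6.OverRep Groth.Agent.Helper6.LocQ3 Groth.Agent.Helper6.LocQ4
open Groth.Agent.Helper6.FlatST Groth.Agent.Helper6.DiagLft Groth.Agent.Helper6.ToSpace
open Groth.Agent.Helper6.LocQ5 Groth.Agent.Helper6.LocQ6 Groth.Agent.Helper6.LocQ7
open Groth.Agent.Helper6.LocQ8 Groth.Agent.Helper6.LftST Groth.Agent.Helper6.LfpST
open Groth.Agent.Helper6.LocQ9 Groth.Agent.Helper6.LocQ10 Groth.Agent.Helper6.LocQ11
open AlgSp

variable {S : Scheme.{u}} {𝒳 𝒴 𝒵 : AlgSt.Cat S}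

set_option backward.isDefEq.respectTransparency.types false in
/-- descent of `LocQ (LocP Q)` along flat, locally finitely presented, surjective morphisms on the
source, for `Q` that descends along fppf families of schemes -/
theorem locQ_of_comp_fppf (Q : MorphismProperty Scheme.{u}) (hG : Good Q)
    (hST : IsSmoothLocalST (LocP (S := S) Q))
    (hfam : ∀ {U V : Scheme.{u}} (k : U ⟶ V),
      (∀ u : U, ∃ (A : Scheme.{u}) (e : A ⟶ U) (a : A), Flat e ∧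
        LocallyOfFinitePresentation e ∧ e a = u ∧ Q (e ≫ k)) → Q k)
    (h𝒳 : AlgSt.IsAlgStack Scheme.fppfPrecoverage 𝒳)
    (h𝒴 : AlgSt.IsAlgStack Scheme.fppfPrecoverage 𝒴)
    (h𝒵 : AlgSt.IsAlgStack Scheme.fppfPrecoverage 𝒵)
    (f : 𝒳 ⥤ᵇ 𝒴) (g : 𝒴 ⥤ᵇ 𝒵)
    (hf₁ : AlgSt.LocQ (LocP @Flat) f)
    (hf₁' : AlgSt.LocQ (LocP @LocallyOfFinitePresentation) f) (hf₂ : AlgSt.IsSurjective f)
    (hgf : AlgSt.LocQ (LocP Q) (BasedFunctor.comp f g)) : AlgSt.LocQ (LocP Q) g := by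
  obtain ⟨W, z, hz₁, hz₂⟩ := h𝒵.atlas
  have h𝒴W : AlgSt.IsAlgStack Scheme.fppfPrecoverage (fp g z) :=
    Groth.Agent.Helper6.FpAlg.isAlgStack_fp h𝒵.isStack h𝒵.diag h𝒴 (isAlgStack_overCat W) g z
  have h𝒳W : AlgSt.IsAlgStack Scheme.fppfPrecoverage (fp f (fpFst g z)) :=
    Groth.Agent.Helper6.FpAlg.isAlgStack_fp h𝒴.isStack h𝒴.diag h𝒳 h𝒴W f (fpFst g z)
  obtain ⟨V, v, hv₁, hv₂⟩ := h𝒴W.atlas
  obtain ⟨U, x', hf', α', hx', hℓ₁, hℓ₂, hxs⟩ :=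
    exists_lsmooth_square h𝒳W h𝒴W (fpSnd f (fpFst g z)) v hv₁
  -- `f_W` is flat and lfp
  have hfW : AlgSt.LocQ (LocP @Flat) (fpSnd f (fpFst g z)) :=
    locQ_equiv_comp _ (fpSwap f (fpFst g z)) (isEquivOver_fpSwap _ _) _
      (locQ_fpFst _ isSmoothLocalST_flat (good_bc _ good_flat) h𝒳 h𝒴 h𝒴W f (fpFst g z) hf₁)
  have hfW' : AlgSt.LocQ (LocP @LocallyOfFinitePresentation) (fpSnd f (fpFst g z)) :=
    locQ_equiv_comp _ (fpSwap f (fpFst g z)) (isEquivOver_fpSwap _ _) _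
      (locQ_fpFst _ isSmoothLocalST_lfp (good_bc _ good_lfp) h𝒳 h𝒴 h𝒴W f (fpFst g z) hf₁')
  have hflat_f : LocP @Flat ((yon S).map hf') :=
    ((locQ_iff_all _ isSmoothLocalST_flat h𝒳W h𝒴W _).1 hfW) U V x' v hf' α' hx' hv₁ hℓ₁
  have hlfp_f : LocP @LocallyOfFinitePresentation ((yon S).map hf') :=
    ((locQ_iff_all _ isSmoothLocalST_lfp h𝒳W h𝒴W _).1 hfW') U V x' v hf' α' hx' hv₁ hℓ₁
  -- `hf'` is surjective
  have hfWs : AlgSt.IsSurjective (fpSnd f (fpFst g z)) :=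
    isSurjective_fpSnd h𝒴W.isStack.1 h𝒴.isStack.1 h𝒳.isStack.1 (fpFst g z) f hf₂
  have hsnd : AlgSt.IsSurjective (fpSnd (fpSnd f (fpFst g z)) v) :=
    isSurjective_fpSnd (isFibGrpd_overCat V) h𝒴W.isStack.1 h𝒳W.isStack.1 v _ hfWs
  have hA : AlgSt.IsAlgStack Scheme.fppfPrecoverage (fp (fpSnd f (fpFst g z)) v) :=
    Groth.Agent.Helper6.FpAlg.isAlgStack_fp h𝒴W.isStack h𝒴W.diag h𝒳W (isAlgStack_overCat V) _ v
  have hℓs : AlgSt.IsSurjective (fpLift x' (AlgSt.overMap hf') α') :=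
    isSurjective_of_rep_surj (isFibGrpd_overCat U) hA.isStack.1 _ hℓ₂
  have hfs : Function.Surjective hf'.left := by
    apply surjective_of_overMap
    intro q
    obtain ⟨r, hr⟩ := hsnd q
    obtain ⟨s, hs⟩ := hℓs r
    exact ⟨s, by rw [← hr, ← hs, ← points_map_comp]; rfl⟩
  -- the map `hg : V ⟶ W`
  obtain ⟨hg, ⟨ιg⟩⟩ := exists_overMap_iso (BasedFunctor.comp v (fpSnd g z))
  -- `hf' ≫ hg` has `Q`
  have hcomp : AlgSt.LocQ (LocP Q)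
      (BasedFunctor.comp (fpSnd f (fpFst g z)) (fpSnd g z)) := by
    have h1 : AlgSt.LocQ (LocP Q) (fpFst z (BasedFunctor.comp f g)) :=
      locQ_fpFst _ hST (good_bc _ hG) h𝒳 h𝒵 (isAlgStack_overCat W)
        (BasedFunctor.comp f g) z hgf
    have h2 : AlgSt.LocQ (LocP Q) (fpSnd (BasedFunctor.comp f g) z) :=
      locQ_equiv_comp _ (fpSwap (BasedFunctor.comp f g) z) (isEquivOver_fpSwap _ _) _ h1
    exact locQ_of_equiv_comp _ (pasteLeft f g z) (isEquivOver_pasteLeft f g z) _ h2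
  have ιc : BasedFunctor.comp x' (BasedFunctor.comp (fpSnd f (fpFst g z)) (fpSnd g z)) ≅
      AlgSt.overMap (hf' ≫ hg) :=
    whiskerRightIso' α' (fpSnd g z) ≪≫ whiskerLeftIso' (AlgSt.overMap hf') ιg ≪≫ overMapComp hf' hg
  have hQ_c : LocP Q ((yon S).map (hf' ≫ hg)) :=
    locQ_to_scheme _ hST _ hcomp x' hx' (hf' ≫ hg) ιc
  -- `hg` has `Q`
  have h1 : Flat hf'.left := locP_yon_map hflat_f
  have h1' : LocallyOfFinitePresentation hf'.left := locP_yon_map hlfp_f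
  have h2 : Q (hf'.left ≫ hg.left) := locP_yon_map hQ_c
  have hQ_g : Q hg.left := by
    apply hfam
    intro t
    obtain ⟨s, hs⟩ := hfs t
    exact ⟨U.left, hf'.left, s, h1, h1', hs, h2⟩
  -- the chart square for `g`
  have hp₁ : AlgSt.RepByAlgSpWith (LocP @Smooth) (fpFst g z) := rep_fpFst _ g z hz₁
  have hp₂ : AlgSt.RepByAlgSpWith IsSurjectiveMor (fpFst g z) := rep_fpFst _ g z hz₂
  refine ⟨V, W, BasedFunctor.comp v (fpFst g z), z, hg, ?_,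
    smooth_comp (isFibGrpd_overCat V) h𝒴W.isStack.1 v _ hv₁ hp₁,
    surj_comp' (isFibGrpd_overCat V) h𝒴W.isStack.1 v _ hv₂ hp₂, hz₁,
    locP_yon_of _ hG hg hQ_g⟩
  exact whiskerLeftIso' v (fpIso g z) ≪≫ whiskerRightIso' ιg z

/-- S13007 -/
theorem locQ_lfp_of_comp_fppf (h𝒳 : AlgSt.IsAlgStack Scheme.fppfPrecoverage 𝒳)
    (h𝒴 : AlgSt.IsAlgStack Scheme.fppfPrecoverage 𝒴)
    (h𝒵 : AlgSt.IsAlgStack Scheme.fppfPrecoverage 𝒵)
    (f : 𝒳 ⥤ᵇ 𝒴) (g : 𝒴 ⥤ᵇ 𝒵)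
    (hf₁ : AlgSt.LocQ (LocP @Flat) f)
    (hf₁' : AlgSt.LocQ (LocP @LocallyOfFinitePresentation) f) (hf₂ : AlgSt.IsSurjective f)
    (hgf : AlgSt.LocQ (LocP @LocallyOfFinitePresentation) (BasedFunctor.comp f g)) :
    AlgSt.LocQ (LocP @LocallyOfFinitePresentation) g :=
  locQ_of_comp_fppf _ good_lfp isSmoothLocalST_lfp
    (fun k H => Groth.Agent.Helper6.FppfSD2.lfp_of_family k H) h𝒳 h𝒴 h𝒵 f g hf₁ hf₁' hf₂ hgf

/-- lft version -/
theorem locQ_lft_of_comp_fppf (h𝒳 : AlgSt.IsAlgStack Scheme.fppfPrecoverage 𝒳)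
    (h𝒴 : AlgSt.IsAlgStack Scheme.fppfPrecoverage 𝒴)
    (h𝒵 : AlgSt.IsAlgStack Scheme.fppfPrecoverage 𝒵)
    (f : 𝒳 ⥤ᵇ 𝒴) (g : 𝒴 ⥤ᵇ 𝒵)
    (hf₁ : AlgSt.LocQ (LocP @Flat) f)
    (hf₁' : AlgSt.LocQ (LocP @LocallyOfFinitePresentation) f) (hf₂ : AlgSt.IsSurjective f)
    (hgf : AlgSt.LocQ (LocP @LocallyOfFiniteType) (BasedFunctor.comp f g)) :
    AlgSt.LocQ (LocP @LocallyOfFiniteType) g :=
  locQ_of_comp_fppf _ good_lft isSmoothLocalST_lft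
    (fun k H => Groth.Agent.Helper6.FppfSD2.lft_of_family k H) h𝒳 h𝒴 h𝒵 f g hf₁ hf₁' hf₂ hgf

/-- S13001 -/
theorem locQ_lft_of_precomp_fppf (h𝒳 : AlgSt.IsAlgStack Scheme.fppfPrecoverage 𝒳)
    (h𝒴 : AlgSt.IsAlgStack Scheme.fppfPrecoverage 𝒴)
    (h𝒵 : AlgSt.IsAlgStack Scheme.fppfPrecoverage 𝒵)
    (f : 𝒳 ⥤ᵇ 𝒴) (g : 𝒴 ⥤ᵇ 𝒵)
    (hf₁ : AlgSt.RepByAlgSpWith (LocP @Flat) f)
    (hf₂ : AlgSt.RepByAlgSpWith (LocP @LocallyOfFinitePresentation) f)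
    (hf₃ : AlgSt.RepByAlgSpWith IsSurjectiveMor f)
    (hgf : AlgSt.LocQ (LocP @LocallyOfFiniteType) (BasedFunctor.comp f g)) :
    AlgSt.LocQ (LocP @LocallyOfFiniteType) g :=
  locQ_lft_of_comp_fppf h𝒳 h𝒴 h𝒵 f g
    (locQ_of_rep_good _ good_flat (fun g hg => by haveI : Smooth g := hg; infer_instance)
      h𝒳 h𝒴 f hf₁)
    (locQ_of_rep_good _ good_lfp (fun g hg => by haveI : Smooth g := hg; infer_instance)
      h𝒳 h𝒴 f hf₂)
    (isSurjective_of_rep_surj h𝒳.isStack.1 h𝒴.isStack.1 f hf₃) hgf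

end Groth.Agent.Helper6.LocQ12
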