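import Mathlib
import Groth.Agent.Helper6.LocQ7
import Groth.Agent.Helper6.ValLift

/-!
# Helper6: valuation ring lifts along flat morphisms of algebraic stacks
-/

set_option autoImplicit false
set_option linter.style.haveILetI false
set_option linter.unusedVariables false
universe u

namespace Groth.Agent.Helper6.LocQ13
open CategoryTheory Functor FibCat Limits AlgebraicGeometry Opposite
open Groth.Agent.Helper3 Stk Groth.Agent.Helper6.OfPsh Groth.Agent.Helper6.OfPshHom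
open Groth.Agent.Helper6.FpTools Groth.Agent.Helper6.OfPshFp Groth.Agent.Helper6.AlgStRep
open Groth.Agent.Helper6.AlgStEquiv Groth.Agent.Helper6.AlgStInv Groth.Agent.Helper6.AlgStPsh
open Groth.Agent.Helper6.DiagRed Groth.Agent.Helper6.RepDiag Groth.Agent.Helper6.RepComp
open Groth.Agent.Helper6.DiagRep Groth.Agent.Helper6.AlgStPts Groth.Agent.Helper6.StPts
open Groth.Agent.Helper6.SmLoc Groth.Agent.Helper6.ChartOver Groth.Agent.Helper6.StTop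
open Groth.Agent.Helper6.QcMor2 Groth.Agent.Helper6.SpAtlas Groth.Agent.Helper4.SDClasses
open Groth.Agent.Helper6.Descent1 Groth.Agent.Helper6.Descent2 Groth.Agent.Helper6.LocQ0
open Groth.Agent.Helper6.LocQ1 Groth.Agent.Helper6.LocQ2 Groth.Agent.Helper6.AlgStBC
open Groth.Agent.Helper6.OverRep Groth.Agent.Helper6.LocQ3 Groth.Agent.Helper6.LocQ4
open Groth.Agent.Helper6.FlatST Groth.Agent.Helper6.DiagLft Groth.Agent.Helper6.ToSpace
open Groth.Agent.Helper6.LocQ5 Groth.Agent.Helper6.LocQ6 Groth.Agent.Helper6.LocQ7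
open AlgSp

variable {S : Scheme.{u}} {𝒳 𝒴 𝒵 : AlgSt.Cat S}

set_option backward.isDefEq.respectTransparency.types false in
/-- a smooth surjective scheme chart of `𝒵 ×_𝒴 U` which is flat over `U`, for `z : 𝒵 ⟶ 𝒴` flat
and ANY `y : U ⟶ 𝒴` -/
theorem exists_flat_chart_fp (h𝒵 : AlgSt.IsAlgStack Scheme.fppfPrecoverage 𝒵)
    (h𝒴 : AlgSt.IsAlgStack Scheme.fppfPrecoverage 𝒴) (z : 𝒵 ⥤ᵇ 𝒴)
    (hz₁ : AlgSt.LocQ (LocP @Flat) z) (U : Over S) (y : overCat U ⥤ᵇ 𝒴) :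
    ∃ (V₀ : Over S) (h₀ : V₀ ⟶ U) (m : overCat V₀ ⥤ᵇ fp z y),
      Flat h₀.left ∧
      AlgSt.RepByAlgSpWith (LocP @Smooth) m ∧ AlgSt.RepByAlgSpWith IsSurjectiveMor m ∧
      Nonempty (BasedFunctor.comp m (fpSnd z y) ≅ AlgSt.overMap h₀) := by
  have hA : AlgSt.IsAlgStack Scheme.fppfPrecoverage (fp z y) :=
    Groth.Agent.Helper6.FpAlg.isAlgStack_fp h𝒴.isStack h𝒴.diag h𝒵 (isAlgStack_overCat U) z y
  obtain ⟨T, ℓ, hℓ₁, hℓ₂⟩ := hA.atlas
  obtain ⟨h, ⟨ι⟩⟩ := exists_overMap_iso (BasedFunctor.comp ℓ (fpSnd z y))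
  have hflat : LocP @Flat ((yon S).map h) := by
    obtain ⟨U₁, V₁, x₁, y₁, h₁, α₁, hx₁₁, hx₁₂, hy₁, hP₁⟩ := hz₁
    exact P_of_lsmooth_bc _ isSmoothLocalST_flat (good_bc _ good_flat) z x₁ y₁ h₁ α₁ hx₁₁ hx₁₂ hy₁ hP₁
      y ℓ hℓ₁ h ι
  exact ⟨T, h, ℓ, locP_yon_map hflat, hℓ₁, hℓ₂, ⟨ι⟩⟩

set_option backward.isDefEq.respectTransparency.types false in
/-- S13035 -/
theorem exists_valuationRing_lift_of_locQ_flat
    (h𝒳 : AlgSt.IsAlgStack Scheme.fppfPrecoverage 𝒳)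
    (h𝒴 : AlgSt.IsAlgStack Scheme.fppfPrecoverage 𝒴)
    (f : 𝒳 ⥤ᵇ 𝒴)
    (hf : AlgSt.LocQ (AlgSp.LocP @Flat) f)
    (A : Type u) [CommRing A] [IsDomain A] [ValuationRing A] (sA : Spec (CommRingCat.of A) ⟶ S)
    (a : FibCat.overCat (Over.mk sA) ⥤ᵇ 𝒴)
    (ha : AlgSt.Points.ofChart a (IsLocalRing.closedPoint A) ∈ Set.range (AlgSt.Points.map f)) :
    ∃ (A' : Type u) (_ : CommRing A') (_ : IsDomain A') (_ : ValuationRing A') (φ : A →+* A'),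
      Function.Injective φ ∧ IsLocalHom φ ∧
      ∃ x : FibCat.overCat (Over.mk (Spec.map (CommRingCat.ofHom φ) ≫ sA)) ⥤ᵇ 𝒳,
        Nonempty (BasedFunctor.comp x f ≅
          BasedFunctor.comp (AlgSt.overMap (Over.homMk (Spec.map (CommRingCat.ofHom φ)) rfl :
            Over.mk (Spec.map (CommRingCat.ofHom φ) ≫ sA) ⟶ Over.mk sA)) a) := by
  obtain ⟨V₀, h₀, m, hfl, hm₁, hm₂, ⟨ι⟩⟩ := exists_flat_chart_fp h𝒳 h𝒴 f hf (Over.mk sA) a
  have hA : AlgSt.IsAlgStack Scheme.fppfPrecoverage (fp f a) :=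
    Groth.Agent.Helper6.FpAlg.isAlgStack_fp h𝒴.isStack h𝒴.diag h𝒳 (isAlgStack_overCat _) f a
  obtain ⟨v, hv⟩ := mem_range_of_chart h𝒳.isStack.1 h𝒴.isStack.1 f a hA.isStack.1 h₀ m hm₂ ι
    (IsLocalRing.closedPoint A) ha
  haveI : Flat h₀.left := hfl
  obtain ⟨A', i1, i2, i3, φ, hφi, hφl, l', hl', -⟩ :=
    Groth.Agent.Helper6.ValLift.exists_valuationRing_lift A h₀.left v hv
  have hw : l' ≫ V₀.hom = Spec.map (CommRingCat.ofHom φ) ≫ sA := by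
    rw [← hl', Category.assoc]
    congr 1
    exact (Over.w h₀).symm
  let k : Over.mk (Spec.map (CommRingCat.ofHom φ) ≫ sA) ⟶ V₀ := Over.homMk l' hw
  have hk : k ≫ h₀ = (Over.homMk (Spec.map (CommRingCat.ofHom φ)) rfl :
      Over.mk (Spec.map (CommRingCat.ofHom φ) ≫ sA) ⟶ Over.mk sA) := by
    ext
    exact hl'
  refine ⟨A', i1, i2, i3, φ, hφi, hφl,
    BasedFunctor.comp (AlgSt.overMap k) (BasedFunctor.comp m (fpFst f a)), ⟨?_⟩⟩
  have κ₀ : BasedFunctor.comp (BasedFunctor.comp m (fpFst f a)) f ≅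
      BasedFunctor.comp (AlgSt.overMap h₀) a :=
    whiskerLeftIso' m (fpIso f a) ≪≫ whiskerRightIso' ι a
  have κ₁ := whiskerLeftIso' (AlgSt.overMap k) κ₀ ≪≫ whiskerRightIso' (overMapComp k h₀) a
  rw [hk] at κ₁
  exact κ₁

end Groth.Agent.Helper6.LocQ13
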