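import Groth.Agent.Helper6.RetrSch
import Groth.Agent.Helper6.FppfSD3
import Mathlib

/-!
# Helper6: `LocP P` descends along locally surjective morphisms of algebraic spaces on the source
(`P` flat / locally of finite type / locally of finite presentation)
-/

set_option autoImplicit false
universe u
open CategoryTheory CategoryTheory.Limits AlgebraicGeometry Opposite

namespace Groth.Agent.Helper6.LocSurj

open AlgSp Groth.Agent.Helper4.SDClasses Groth.Agent.Helper6.RetrSch

variable {S : Scheme.{u}}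

set_option backward.isDefEq.respectTransparency.types false in
theorem locP_of_comp_of_locallySurjective (P : MorphismProperty Scheme.{u}) (hP : SecDesc P)
    {X Y Z : Sp S} (hX : IsAlgSpace X) (g : X ⟶ Y) (h : Y ⟶ Z)
    (hg : Sheaf.IsLocallySurjective g) (hgh : LocP P (g ≫ h)) : LocP P h := by
  intro U V a b k hae hbe hcomm
  haveI := hg
  obtain ⟨A₀, p₀, hp₀e, hp₀s⟩ := hX.atlas
  -- the chart of `X` adapted to `a`
  have hr := hae.rep
  have hpb : IsPullback (hr.fst (p₀ ≫ g)) ((yon S).map (hr.snd (p₀ ≫ g))) a (p₀ ≫ g) :=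
    hr.isPullback _
  obtain ⟨kA, hkA⟩ := (yon S).map_surjective (hr.fst (p₀ ≫ g))
  rw [← hkA] at hpb
  have hde : Etale (hr.snd (p₀ ≫ g)).left := hae.property _ _ _ hpb
  generalize hr.snd (p₀ ≫ g) = d at hpb hde
  have hpe : RepWith @Etale ((yon S).map d ≫ p₀) :=
    Groth.Agent.Helper4.AlgSpSrc.repWith_comp _ ((repWith_yon_map_iff _ _).2 hde) hp₀e
  have hc : ((yon S).map d ≫ p₀) ≫ (g ≫ h) = (yon S).map (kA ≫ k) ≫ b := by
    rw [Functor.map_comp, Category.assoc, Category.assoc, ← hcomm, ← Category.assoc p₀,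
      ← hpb.w_assoc]
  have hPρk : P (kA ≫ k).left := hgh _ b (kA ≫ k) hpe hbe hc
  refine of_local_sections hP kA.left k.left hPρk (fun u => ?_)
  -- local lifts of `a` through `g`
  have hmem : Presheaf.imageSieve g.hom ((J S).uliftYonedaEquiv a) ∈ (J S) U :=
    Presheaf.imageSieve_mem (J S) g.hom _
  rw [GrothendieckTopology.mem_over_iff] at hmem
  obtain ⟨R, hR, hle⟩ := (Precoverage.mem_toGrothendieck_iff_of_isStableUnderComposition).1 hmem
  obtain ⟨I, Yc, c, rfl⟩ := R.exists_eq_ofArrows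
  have h3 := (Scheme.ofArrows_mem_precoverage_iff _).1 hR
  obtain ⟨i, u', hu'⟩ := h3.1 u
  obtain ⟨hcfl, hcfp⟩ := h3.2 i
  have hg' := hle _ _ (Presieve.ofArrows.mk i)
  rw [Sieve.overEquiv_iff] at hg'
  obtain ⟨x, hx⟩ := hg'
  let U' : Over S := Over.mk (c i ≫ U.hom)
  let c' : U' ⟶ U := Over.homMk (c i)
  let s : (yon S).obj U' ⟶ X := (J S).uliftYonedaEquiv.symm x
  have hh : s ≫ g = (yon S).map c' ≫ a := by
    apply (J S).uliftYonedaEquiv.injective
    rw [GrothendieckTopology.uliftYonedaEquiv_comp,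
      ← GrothendieckTopology.uliftYonedaEquiv_naturality]
    simpa [s] using hx
  -- the pullback of the atlas along the lift
  have hr₀ := hp₀e.rep
  have hpb₀ : IsPullback (hr₀.fst s) ((yon S).map (hr₀.snd s)) p₀ s := hr₀.isPullback s
  obtain ⟨r, hrr⟩ := (yon S).map_surjective (hr₀.fst s)
  rw [← hrr] at hpb₀
  have hee : Etale (hr₀.snd s).left := hp₀e.property _ _ _ hpb₀
  have hes : Surjective (hr₀.snd s).left := hp₀s.property _ _ _ hpb₀
  generalize hr₀.snd s = e at hpb₀ hee hes
  have hlift : (yon S).map (e ≫ c') ≫ a = (yon S).map r ≫ (p₀ ≫ g) := by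
    rw [Functor.map_comp, Category.assoc, ← hh, ← Category.assoc, ← hpb₀.w, Category.assoc]
  obtain ⟨t, ht⟩ := (yon S).map_surjective (hpb.lift _ _ hlift)
  have htk : t ≫ kA = e ≫ c' := by
    apply (yon S).map_injective
    rw [Functor.map_comp, ht, hpb.lift_fst]
  obtain ⟨ε, hε⟩ := hes.surj u'
  haveI := hcfl
  haveI := hcfp
  haveI := hee
  refine ⟨_, e.left ≫ c i, t.left, ε, inferInstance, inferInstance, ?_, ?_⟩
  · rw [Scheme.Hom.comp_apply, hε, hu']
  · exact congrArg CommaMorphism.left htk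

end Groth.Agent.Helper6.LocSurj
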