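import Mathlib
import Groth.Agent.Helper6.TateExp

set_option autoImplicit false
set_option linter.style.haveILetI false
set_option linter.unusedSectionVars false

/-!
# Integral bases over a complete discretely valued field: successive approximation
-/

namespace Groth.Agent.Helper6.LocTrA

open LaurentSeries

universe u v

variable {K : Type u} {F E : Type v} [Field K] [Field F] [Field E] [Algebra K F] [Algebra F E]

/-- generation of the valuation ring by a finite family, from generation modulo `π`. -/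
theorem gen_of_approx
    (v : Valuation F (WithZero (Multiplicative ℤ))) (w : Valuation E (WithZero (Multiplicative ℤ)))
    (φ : F →ₐ[K] LaurentSeries K) (hφv : ∀ a, Valued.v (φ a) = v a)
    (hφs : Function.Surjective φ) (π : F) (hπ : φ π = HahnSeries.single 1 1)
    (hmono1 : ∀ a : F, v a ≤ 1 → w (algebraMap F E a) ≤ 1)
    (hπw : w (algebraMap F E π) ≤ WithZero.exp (-1))
    {ι : Type*} [Fintype ι] (g : ι → E) (hg : ∀ i, w (g i) ≤ 1)
    (happ : ∀ z : E, w z ≤ 1 → ∃ c : ι → K, ∃ z' : E, w z' ≤ 1 ∧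
      z = ∑ i, algebraMap F E (algebraMap K F (c i)) * g i + algebraMap F E π * z')
    (z : E) (hz : w z ≤ 1) :
    ∃ a : ι → F, (∀ i, v (a i) ≤ 1) ∧ z = ∑ i, algebraMap F E (a i) * g i := by
  classical
  choose cs nx hnx1 hnx2 using happ
  obtain ⟨st, hst0, hstS⟩ : ∃ st : ℕ → {z : E // w z ≤ 1}, st 0 = ⟨z, hz⟩ ∧
      ∀ n, st (n + 1) = ⟨nx (st n).1 (st n).2, hnx1 (st n).1 (st n).2⟩ :=
    ⟨fun n => Nat.rec ⟨z, hz⟩ (fun _ s => ⟨nx s.1 s.2, hnx1 s.1 s.2⟩) n, rfl, fun n => rfl⟩
  obtain ⟨C, hC⟩ : ∃ C : ℕ → ι → K, ∀ n, C n = cs (st n).1 (st n).2 := ⟨_, fun n => rfl⟩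
  have hstep : ∀ n, (st n).1 = ∑ i, algebraMap F E (algebraMap K F (C n i)) * g i +
      algebraMap F E π * (st (n + 1)).1 := by
    intro n
    rw [hstS n, hC n]
    exact hnx2 (st n).1 (st n).2
  obtain ⟨P, hP⟩ : ∃ P : ℕ → ι → PowerSeries K,
      ∀ n i, P n i = PowerSeries.mk fun m => C (n + m) i := ⟨_, fun n i => rfl⟩
  have hPrec : ∀ n i, P n i = PowerSeries.X * P (n + 1) i + PowerSeries.C (C n i) := by
    intro n i
    ext m
    rcases m with _ | m
    · rw [hP, map_add, PowerSeries.coeff_zero_X_mul, PowerSeries.coeff_mk, zero_add,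
        PowerSeries.coeff_zero_C, add_zero]
    · rw [hP, hP, map_add, PowerSeries.coeff_succ_X_mul, PowerSeries.coeff_mk,
        PowerSeries.coeff_mk, PowerSeries.coeff_C, if_neg (Nat.succ_ne_zero m), add_zero]
      congr 1
      omega
  choose A hA using fun n i => hφs ((P n i : PowerSeries K) : LaurentSeries K)
  have hAv : ∀ n i, v (A n i) ≤ 1 := fun n i => by
    rw [← hφv, hA]
    exact (LaurentSeries.val_le_one_iff_eq_coe K _).2 ⟨P n i, rfl⟩
  have hArec : ∀ n i, A n i = algebraMap K F (C n i) + π * A (n + 1) i := by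
    intro n i
    apply φ.toRingHom.injective
    show φ (A n i) = φ (algebraMap K F (C n i) + π * A (n + 1) i)
    rw [map_add, map_mul, hA, hA, hπ, LocRes.map_algebraMap, hPrec n i, PowerSeries.coe_add,
      PowerSeries.coe_mul, PowerSeries.coe_X, PowerSeries.coe_C, add_comm]
    rfl
  obtain ⟨R, hR⟩ : ∃ R : ℕ → E,
      ∀ n, R n = (st n).1 - ∑ i, algebraMap F E (A n i) * g i := ⟨_, fun n => rfl⟩
  have hR1 : ∀ n, w (R n) ≤ 1 := by
    intro n
    rw [hR]
    refine (Valuation.map_sub _ _ _).trans (max_le (st n).2 ?_)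
    refine Valuation.map_sum_le _ fun i _ => ?_
    rw [map_mul]
    exact mul_le_one' (hmono1 _ (hAv n i)) (hg i)
  have hRrec : ∀ n, R n = algebraMap F E π * R (n + 1) := by
    intro n
    rw [hR, hR, hstep n, mul_sub, Finset.mul_sum]
    have e : ∀ i, algebraMap F E (A n i) * g i =
        algebraMap F E (algebraMap K F (C n i)) * g i +
          algebraMap F E π * (algebraMap F E (A (n + 1) i) * g i) := by
      intro i
      rw [hArec n i, map_add, map_mul]
      ring
    rw [Finset.sum_congr rfl fun i _ => e i, Finset.sum_add_distrib]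
    ring
  have hRpow : ∀ n, R 0 = algebraMap F E π ^ n * R n := by
    intro n
    induction n with
    | zero => rw [pow_zero, one_mul]
    | succ n ih => rw [ih, hRrec n, pow_succ, mul_assoc]
  have hwR0 : ∀ n : ℕ, w (R 0) ≤ WithZero.exp (-(n : ℤ)) := by
    intro n
    rw [hRpow n, map_mul, map_pow]
    calc w (algebraMap F E π) ^ n * w (R n)
        ≤ WithZero.exp (-1) ^ n * 1 := mul_le_mul' (pow_le_pow_left' hπw n) (hR1 n)
      _ = WithZero.exp (-(n : ℤ)) := by
          rw [mul_one, ← WithZero.exp_nsmul, nsmul_eq_mul, mul_neg, mul_one]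
  have hR0 : R 0 = 0 := by
    by_contra hne
    have hw0 : w (R 0) ≠ 0 := (Valuation.ne_zero_iff _).mpr hne
    obtain ⟨m, hm⟩ : ∃ m : ℤ, w (R 0) = WithZero.exp m := ⟨_, (WithZero.exp_log hw0).symm⟩
    have h1 := hwR0 (-m + 1).toNat
    rw [hm, WithZero.exp_le_exp] at h1
    have h2 := Int.self_le_toNat (-m + 1)
    omega
  refine ⟨A 0, hAv 0, ?_⟩
  have h3 := hR 0
  rw [hR0, hst0] at h3
  exact sub_eq_zero.mp h3.symm

/-- linear independence of the family from independence of the digits. -/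
theorem indep_of_digits
    (v : Valuation F (WithZero (Multiplicative ℤ))) (w : Valuation E (WithZero (Multiplicative ℤ)))
    (φ : F →ₐ[K] LaurentSeries K) (hφv : ∀ a, Valued.v (φ a) = v a)
    (π : F) (hπ : φ π = HahnSeries.single 1 1)
    (hmono : ∀ a b : F, v a ≤ v b → w (algebraMap F E a) ≤ w (algebraMap F E b))
    {ι : Type*} [Fintype ι] (g : ι → E) (hg : ∀ i, w (g i) ≤ 1)
    (hind : ∀ c : ι → K, w (∑ i, algebraMap F E (algebraMap K F (c i)) * g i) ≤
      w (algebraMap F E π) → c = 0)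
    (a : ι → F) (ha : ∑ i, algebraMap F E (a i) * g i = 0) : a = 0 := by
  classical
  by_contra hne
  obtain ⟨i₁, hi₁⟩ : ∃ i, a i ≠ 0 := by
    by_contra h
    push Not at h
    exact hne (funext h)
  obtain ⟨i₀, -, hmax⟩ := Finset.exists_max_image Finset.univ (fun i => v (a i))
    ⟨i₁, Finset.mem_univ _⟩
  have hi₀ : a i₀ ≠ 0 := by
    intro h0
    have h1 := hmax i₁ (Finset.mem_univ _)
    rw [h0, map_zero] at h1
    exact (Valuation.ne_zero_iff _).mpr hi₁ (le_zero_iff.mp h1)
  obtain ⟨a', ha'⟩ : ∃ a' : ι → F, ∀ i, a' i = a i / a i₀ := ⟨_, fun i => rfl⟩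
  have ha'v : ∀ i, v (a' i) ≤ 1 := by
    intro i
    rw [ha', map_div₀]
    exact div_le_one_of_le₀ (hmax i (Finset.mem_univ _)) zero_le
  have ha'0 : ∑ i, algebraMap F E (a' i) * g i = 0 := by
    have e : ∑ i, algebraMap F E (a' i) * g i =
        (algebraMap F E (a i₀))⁻¹ * ∑ i, algebraMap F E (a i) * g i := by
      rw [Finset.mul_sum]
      refine Finset.sum_congr rfl fun i _ => ?_
      rw [ha', map_div₀, div_eq_mul_inv]
      ring
    rw [e, ha, mul_zero]
  obtain ⟨c, hc⟩ : ∃ c : ι → K, ∀ i, c i = (φ (a' i)).coeff 0 := ⟨_, fun i => rfl⟩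
  have hvπ : v π = WithZero.exp (-1) := by
    rw [← hφv, hπ]
    exact LaurentSeries.valuation_single_zpow K 1
  have hdiff : ∀ i, v (a' i - algebraMap K F (c i)) ≤ v π := by
    intro i
    rw [hvπ, ← hφv, map_sub, LocRes.map_algebraMap]
    have h1 : Valued.v (φ (a' i)) ≤ WithZero.exp (-(0 : ℤ)) := by
      rw [neg_zero, WithZero.exp_zero, hφv]
      exact ha'v i
    have h2 := (LaurentSeries.valuation_le_iff_coeff_lt_eq_zero K (D := 0)).mp h1
    rw [show (-1 : ℤ) = -((1 : ℤ)) from rfl, LaurentSeries.valuation_le_iff_coeff_lt_eq_zero]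
    intro n hn
    rw [HahnSeries.coeff_sub, HahnSeries.C_apply]
    by_cases h0 : n = 0
    · subst h0
      rw [HahnSeries.coeff_single_same, hc]
      exact sub_self _
    · have hn' : n < 0 := by omega
      rw [h2 n hn', HahnSeries.coeff_single_of_ne h0, sub_zero]
  have hsum : w (∑ i, algebraMap F E (algebraMap K F (c i)) * g i) ≤ w (algebraMap F E π) := by
    have e1 : ∑ i, algebraMap F E (a' i - algebraMap K F (c i)) * g i =
        ∑ i, algebraMap F E (a' i) * g i -
          ∑ i, algebraMap F E (algebraMap K F (c i)) * g i := by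
      rw [← Finset.sum_sub_distrib]
      refine Finset.sum_congr rfl fun i _ => ?_
      rw [map_sub, sub_mul]
    have e2 : ∑ i, algebraMap F E (algebraMap K F (c i)) * g i =
        -∑ i, algebraMap F E (a' i - algebraMap K F (c i)) * g i := by
      rw [e1, ha'0, zero_sub, neg_neg]
    rw [e2, Valuation.map_neg]
    refine Valuation.map_sum_le _ fun i _ => ?_
    rw [map_mul]
    calc w (algebraMap F E (a' i - algebraMap K F (c i))) * w (g i)
        ≤ w (algebraMap F E π) * 1 := mul_le_mul' (hmono _ _ (hdiff i)) (hg i)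
      _ = _ := mul_one _
  have hc0 := hind c hsum
  have h1 : c i₀ = 1 := by
    rw [hc, ha', div_self hi₀, map_one, HahnSeries.coeff_one, if_pos rfl]
  rw [hc0] at h1
  exact zero_ne_one h1

/-- the basis and the characterisation of integrality. -/
theorem exists_basis
    (v : Valuation F (WithZero (Multiplicative ℤ))) (w : Valuation E (WithZero (Multiplicative ℤ)))
    (π : F) (hπ0 : π ≠ 0)
    (hmono1 : ∀ a : F, v a ≤ 1 → w (algebraMap F E a) ≤ 1)
    (hπw : w (algebraMap F E π) ≤ WithZero.exp (-1))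
    {ι : Type*} [Fintype ι] (g : ι → E) (hg : ∀ i, w (g i) ≤ 1)
    (hgen : ∀ z, w z ≤ 1 → ∃ a : ι → F, (∀ i, v (a i) ≤ 1) ∧
      z = ∑ i, algebraMap F E (a i) * g i)
    (hindep : ∀ a : ι → F, ∑ i, algebraMap F E (a i) * g i = 0 → a = 0) :
    ∃ b : Module.Basis ι F E, ∀ z : E, w z ≤ 1 ↔ ∀ i, v (b.repr z i) ≤ 1 := by
  classical
  have hli : LinearIndependent F g := by
    rw [Fintype.linearIndependent_iff]
    intro a ha i
    have h1 : ∑ i, algebraMap F E (a i) * g i = 0 := by
      rw [← ha]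
      refine Finset.sum_congr rfl fun i _ => ?_
      rw [Algebra.smul_def]
    rw [hindep a h1]
    rfl
  have hspan : ⊤ ≤ Submodule.span F (Set.range g) := by
    intro z _
    by_cases hz0 : z = 0
    · rw [hz0]; exact Submodule.zero_mem _
    have hw0 : w z ≠ 0 := (Valuation.ne_zero_iff _).mpr hz0
    obtain ⟨m, hm⟩ : ∃ m : ℤ, w z = WithZero.exp m := ⟨_, (WithZero.exp_log hw0).symm⟩
    obtain ⟨N, hN⟩ : ∃ N : ℕ, m ≤ N := ⟨m.toNat, Int.self_le_toNat m⟩
    have h1 : w (algebraMap F E π ^ N * z) ≤ 1 := by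
      rw [map_mul, map_pow, hm]
      calc w (algebraMap F E π) ^ N * WithZero.exp m
          ≤ WithZero.exp (-1) ^ N * WithZero.exp m :=
            mul_le_mul' (pow_le_pow_left' hπw N) le_rfl
        _ = WithZero.exp (-(N : ℤ) + m) := by
            rw [← WithZero.exp_nsmul, ← WithZero.exp_add, nsmul_eq_mul, mul_neg, mul_one]
        _ ≤ 1 := by
            rw [← WithZero.exp_zero, WithZero.exp_le_exp]
            omega
    obtain ⟨a, -, ha⟩ := hgen _ h1
    have hπE : algebraMap F E π ^ N ≠ 0 :=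
      pow_ne_zero _ ((_root_.map_ne_zero (algebraMap F E)).mpr hπ0)
    have e : z = ∑ i, ((π ^ N)⁻¹ * a i) • g i := by
      have e1 : ∀ i, ((π ^ N)⁻¹ * a i) • g i =
          (algebraMap F E π ^ N)⁻¹ * (algebraMap F E (a i) * g i) := by
        intro i
        rw [Algebra.smul_def, map_mul, map_inv₀, map_pow, mul_assoc]
      rw [Finset.sum_congr rfl fun i _ => e1 i, ← Finset.mul_sum, ← ha,
        inv_mul_cancel_left₀ hπE]
    rw [e]
    exact Submodule.sum_mem _ fun i _ =>
      Submodule.smul_mem _ _ (Submodule.subset_span ⟨i, rfl⟩)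
  obtain ⟨b, hb⟩ : ∃ b : Module.Basis ι F E, ∀ i, b i = g i :=
    ⟨Module.Basis.mk hli hspan, fun i => Module.Basis.mk_apply hli hspan i⟩
  refine ⟨b, fun z => ⟨fun hz i => ?_, fun h => ?_⟩⟩
  · obtain ⟨a, hav, ha⟩ := hgen z hz
    have e : z = ∑ i, a i • b i := by
      rw [ha]
      refine Finset.sum_congr rfl fun i _ => ?_
      rw [hb, Algebra.smul_def]
    rw [e, Module.Basis.repr_sum_self]
    exact hav i
  · rw [← b.sum_repr z]
    refine Valuation.map_sum_le _ fun i _ => ?_
    rw [Algebra.smul_def, map_mul, hb]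
    exact mul_le_one' (hmono1 _ (h i)) (hg i)

end Groth.Agent.Helper6.LocTrA
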