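import Mathlib
import Groth.Agent.Helper6.LocTrA

set_option autoImplicit false
set_option linter.style.haveILetI false
set_option linter.unusedSectionVars false

/-!
# Integral bases over a complete discretely valued field: the digits
-/

namespace Groth.Agent.Helper6.LocTrB

open LaurentSeries

universe u v

section digits

variable {K L : Type u} {E : Type v} [Field K] [Field L] [Field E] [Algebra K L] [Algebra L E]
  [Algebra K E] [IsScalarTower K L E]

theorem psi_algebraMap (ψ : E →ₐ[L] LaurentSeries L) (c : K) :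
    ψ (algebraMap K E c) = HahnSeries.C (algebraMap K L c) := by
  rw [IsScalarTower.algebraMap_apply K L E, LocRes.map_algebraMap]
  rfl

variable (w : Valuation E (WithZero (Multiplicative ℤ))) (ψ : E →ₐ[L] LaurentSeries L)
  {f : ℕ} (l : Module.Basis (Fin f) K L) (lam : Fin f → E)

theorem val_algebraMap_le_one (hψ : LocRes.IsExpansionAt w ψ) (c : K) :
    w (algebraMap K E c) ≤ 1 := by
  rw [← hψ.1, psi_algebraMap]
  exact (LaurentSeries.val_le_one_iff_eq_coe L _).2
    ⟨PowerSeries.C (algebraMap K L c), PowerSeries.coe_C _⟩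

/-- the combination `∑ c_j λ_j` -/
def U (lam : Fin f → E) (c : Fin f → K) : E := ∑ j, algebraMap K E (c j) * lam j

theorem val_U_le_one (hψ : LocRes.IsExpansionAt w ψ) (hlam1 : ∀ j, w (lam j) ≤ 1)
    (c : Fin f → K) : w (U lam c) ≤ 1 := by
  unfold U
  refine Valuation.map_sum_le _ fun j _ => ?_
  rw [map_mul]
  exact mul_le_one' (val_algebraMap_le_one w ψ hψ (c j)) (hlam1 j)

theorem coeff_U (hlam2 : ∀ j, (ψ (lam j)).coeff 0 = l j) (c : Fin f → K) :
    (ψ (U lam c)).coeff 0 = ∑ j, c j • l j := by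
  unfold U
  rw [map_sum, HahnSeries.coeff_sum]
  refine Finset.sum_congr rfl fun j _ => ?_
  rw [map_mul, psi_algebraMap, HahnSeries.C_mul_eq_smul, HahnSeries.coeff_smul, hlam2,
    smul_eq_mul, Algebra.smul_def]

theorem coeff_neg_eq_zero (hψ : LocRes.IsExpansionAt w ψ) {u : E} (hu : w u ≤ 1) {n : ℤ}
    (hn : n < 0) : (ψ u).coeff n = 0 := by
  have h1 : Valued.v (ψ u) ≤ WithZero.exp (-(0 : ℤ)) := by
    rw [neg_zero, WithZero.exp_zero, hψ.1]
    exact hu
  exact (LaurentSeries.valuation_le_iff_coeff_lt_eq_zero L (D := 0)).mp h1 n hn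

theorem val_le_exp_neg_one_iff (hψ : LocRes.IsExpansionAt w ψ) {u : E} (hu : w u ≤ 1) :
    w u ≤ WithZero.exp (-1) ↔ (ψ u).coeff 0 = 0 := by
  rw [← hψ.1, show (-1 : ℤ) = -((1 : ℤ)) from rfl,
    LaurentSeries.valuation_le_iff_coeff_lt_eq_zero]
  constructor
  · intro h
    exact h 0 (by norm_num)
  · intro h n hn
    by_cases h0 : n = 0
    · rw [h0]; exact h
    · exact coeff_neg_eq_zero w ψ hψ hu (by omega)

theorem digit_exists (hψ : LocRes.IsExpansionAt w ψ) (hlam1 : ∀ j, w (lam j) ≤ 1)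
    (hlam2 : ∀ j, (ψ (lam j)).coeff 0 = l j) (u : E) (hu : w u ≤ 1) :
    ∃ c : Fin f → K, w (u - U lam c) ≤ WithZero.exp (-1) := by
  refine ⟨fun j => l.repr ((ψ u).coeff 0) j, ?_⟩
  have hle : w (u - U lam fun j => l.repr ((ψ u).coeff 0) j) ≤ 1 :=
    (Valuation.map_sub _ _ _).trans (max_le hu (val_U_le_one w ψ lam hψ hlam1 _))
  rw [val_le_exp_neg_one_iff w ψ hψ hle, map_sub, HahnSeries.coeff_sub,
    coeff_U ψ l lam hlam2, l.sum_repr, sub_self]

theorem digit_unique (hψ : LocRes.IsExpansionAt w ψ) (hlam1 : ∀ j, w (lam j) ≤ 1)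
    (hlam2 : ∀ j, (ψ (lam j)).coeff 0 = l j) (c : Fin f → K)
    (h : w (U lam c) ≤ WithZero.exp (-1)) : c = 0 := by
  have h1 := (val_le_exp_neg_one_iff w ψ hψ (val_U_le_one w ψ lam hψ hlam1 c)).1 h
  rw [coeff_U ψ l lam hlam2] at h1
  funext j
  exact Fintype.linearIndependent_iff.mp l.linearIndependent c h1 j

theorem exp_neg_one_le_one : (WithZero.exp (-1 : ℤ) : WithZero (Multiplicative ℤ)) ≤ 1 := by
  rw [← WithZero.exp_zero, WithZero.exp_le_exp]
  norm_num

theorem claim1 (hψ : LocRes.IsExpansionAt w ψ) (hlam1 : ∀ j, w (lam j) ≤ 1)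
    (hlam2 : ∀ j, (ψ (lam j)).coeff 0 = l j) (T : E) (hT : w T = WithZero.exp (-1)) :
    ∀ m : ℕ, ∀ z : E, w z ≤ 1 → ∃ c : ℕ → Fin f → K,
      w (z - ∑ i ∈ Finset.range m, U lam (c i) * T ^ i) ≤ WithZero.exp (-(m : ℤ)) := by
  have hT0 : T ≠ 0 := by
    intro h
    rw [h, map_zero] at hT
    exact WithZero.exp_ne_zero hT.symm
  intro m
  induction m with
  | zero =>
    intro z hz
    refine ⟨fun _ _ => 0, ?_⟩
    rw [Finset.range_zero, Finset.sum_empty, sub_zero, Nat.cast_zero, neg_zero,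
      WithZero.exp_zero]
    exact hz
  | succ m ih =>
    intro z hz
    obtain ⟨c₀, hc₀⟩ := digit_exists w ψ l lam hψ hlam1 hlam2 z hz
    obtain ⟨z₁, hz₁⟩ : ∃ z₁ : E, z₁ = (z - U lam c₀) * T⁻¹ := ⟨_, rfl⟩
    have hTz₁ : T * z₁ = z - U lam c₀ := by
      rw [hz₁, mul_comm, mul_assoc, inv_mul_cancel₀ hT0, mul_one]
    have hz₁1 : w z₁ ≤ 1 := by
      rw [hz₁, map_mul, map_inv₀, hT]
      calc w (z - U lam c₀) * (WithZero.exp (-1))⁻¹
          ≤ WithZero.exp (-1) * (WithZero.exp (-1))⁻¹ := mul_le_mul' hc₀ le_rfl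
        _ = 1 := mul_inv_cancel₀ WithZero.exp_ne_zero
    obtain ⟨c', hc'⟩ := ih z₁ hz₁1
    refine ⟨fun i => Nat.casesOn i c₀ c', ?_⟩
    rw [Finset.sum_range_succ']
    have e : z - (∑ i ∈ Finset.range m, U lam (c' i) * T ^ (i + 1) + U lam c₀ * T ^ 0) =
        T * (z₁ - ∑ i ∈ Finset.range m, U lam (c' i) * T ^ i) := by
      rw [mul_sub, hTz₁, Finset.mul_sum, pow_zero, mul_one]
      have e1 : ∀ i, T * (U lam (c' i) * T ^ i) = U lam (c' i) * T ^ (i + 1) := fun i => by
        rw [pow_succ]; ring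
      rw [Finset.sum_congr rfl fun i _ => e1 i]
      ring
    show w (z - (∑ i ∈ Finset.range m, U lam (c' i) * T ^ (i + 1) + U lam c₀ * T ^ 0)) ≤ _
    rw [e, map_mul, hT]
    calc WithZero.exp (-1) * w (z₁ - ∑ i ∈ Finset.range m, U lam (c' i) * T ^ i)
        ≤ WithZero.exp (-1) * WithZero.exp (-(m : ℤ)) := mul_le_mul' le_rfl hc'
      _ = WithZero.exp (-((m + 1 : ℕ) : ℤ)) := by
          rw [← WithZero.exp_add]
          congr 1
          push_cast
          ring

theorem claim3 (hψ : LocRes.IsExpansionAt w ψ) (hlam1 : ∀ j, w (lam j) ≤ 1)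
    (hlam2 : ∀ j, (ψ (lam j)).coeff 0 = l j) (T : E) (hT : w T = WithZero.exp (-1)) :
    ∀ m : ℕ, ∀ c : ℕ → Fin f → K,
      w (∑ i ∈ Finset.range m, U lam (c i) * T ^ i) ≤ WithZero.exp (-(m : ℤ)) →
      ∀ i < m, c i = 0 := by
  intro m
  induction m with
  | zero =>
    intro c _ i hi
    omega
  | succ m ih =>
    intro c h
    rw [Finset.sum_range_succ'] at h
    obtain ⟨S', hS'⟩ : ∃ S' : E, S' = ∑ i ∈ Finset.range m, U lam (c (i + 1)) * T ^ i :=
      ⟨_, rfl⟩
    have e : ∑ i ∈ Finset.range m, U lam (c (i + 1)) * T ^ (i + 1) = T * S' := by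
      rw [hS', Finset.mul_sum]
      exact Finset.sum_congr rfl fun i _ => by rw [pow_succ]; ring
    rw [e, pow_zero, mul_one] at h
    have hS'1 : w S' ≤ 1 := by
      rw [hS']
      refine Valuation.map_sum_le _ fun i _ => ?_
      rw [map_mul, map_pow, hT]
      exact mul_le_one' (val_U_le_one w ψ lam hψ hlam1 _) (pow_le_one' exp_neg_one_le_one i)
    have hle1 : (WithZero.exp (-((m + 1 : ℕ) : ℤ)) : WithZero (Multiplicative ℤ)) ≤
        WithZero.exp (-1 : ℤ) := by
      rw [WithZero.exp_le_exp]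
      push_cast
      omega
    have hu0 : w (U lam (c 0)) ≤ WithZero.exp (-1) := by
      have e2 : U lam (c 0) = (T * S' + U lam (c 0)) - T * S' := by ring
      rw [e2]
      refine (Valuation.map_sub _ _ _).trans (max_le (h.trans hle1) ?_)
      rw [map_mul, hT]
      calc WithZero.exp (-1) * w S' ≤ WithZero.exp (-1) * 1 := mul_le_mul' le_rfl hS'1
        _ = _ := mul_one _
    have hc0 := digit_unique w ψ l lam hψ hlam1 hlam2 (c 0) hu0
    have hU0 : U lam (c 0) = 0 := by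
      rw [hc0]
      unfold U
      simp
    rw [hU0, add_zero, map_mul, hT] at h
    have hS'm : w S' ≤ WithZero.exp (-(m : ℤ)) := by
      calc w S' = WithZero.exp (1 : ℤ) * (WithZero.exp (-1) * w S') := by
            rw [← mul_assoc, ← WithZero.exp_add, show (1 : ℤ) + -1 = 0 from by norm_num,
              WithZero.exp_zero, one_mul]
        _ ≤ WithZero.exp (1 : ℤ) * WithZero.exp (-((m + 1 : ℕ) : ℤ)) := mul_le_mul' le_rfl h
        _ = WithZero.exp (-(m : ℤ)) := by
            rw [← WithZero.exp_add]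
            congr 1
            push_cast
            ring
    rw [hS'] at hS'm
    have ih' := ih (fun i => c (i + 1)) hS'm
    intro i hi
    rcases i with _ | i
    · exact hc0
    · exact ih' i (by omega)

end digits

theorem exists_integral_basis (K L : Type u) (F E : Type v) [Field K] [Field L] [Field F]
    [Field E] [Algebra K F] [Algebra F E] [Algebra K E] [IsScalarTower K F E]
    [Algebra K L] [Algebra L E] [IsScalarTower K L E] [FiniteDimensional K L]
    (v : Valuation F (WithZero (Multiplicative ℤ))) (w : Valuation E (WithZero (Multiplicative ℤ)))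
    [v.HasExtension w]
    (φ : F →ₐ[K] LaurentSeries K) (hφ : LocRes.IsExpansionAt v φ) (hφs : Function.Surjective φ)
    (ψ : E →ₐ[L] LaurentSeries L) (hψ : LocRes.IsExpansionAt w ψ) :
    ∃ (ι : Type) (_ : Fintype ι) (b : Module.Basis ι F E),
      ∀ z : E, w z ≤ 1 ↔ ∀ i, v (b.repr z i) ≤ 1 := by
  classical
  obtain ⟨π, hπ⟩ := hφs (HahnSeries.single 1 1)
  have hvπ : v π = WithZero.exp (-1) := by
    rw [← hφ.1, hπ]
    exact LaurentSeries.valuation_single_zpow K 1
  have hπ0 : π ≠ 0 := by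
    intro h
    rw [h, map_zero] at hvπ
    exact WithZero.exp_ne_zero hvπ.symm
  have hmono : ∀ a b : F, v a ≤ v b → w (algebraMap F E a) ≤ w (algebraMap F E b) :=
    fun a b h => (Valuation.HasExtension.val_map_le_iff v w a b).2 h
  have hmono1 : ∀ a : F, v a ≤ 1 → w (algebraMap F E a) ≤ 1 :=
    fun a h => (Valuation.HasExtension.val_map_le_one_iff v w a).2 h
  have hπlt : w (algebraMap F E π) < 1 :=
    (Valuation.HasExtension.val_map_lt_one_iff v w π).2 (by
      rw [hvπ, ← WithZero.exp_zero, WithZero.exp_lt_exp]; norm_num)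
  have hπE0 : algebraMap F E π ≠ 0 := (_root_.map_ne_zero (algebraMap F E)).mpr hπ0
  obtain ⟨e', he'⟩ : ∃ e' : ℤ, w (algebraMap F E π) = WithZero.exp e' :=
    ⟨_, (WithZero.exp_log ((Valuation.ne_zero_iff _).mpr hπE0)).symm⟩
  have he'neg : e' < 0 := by
    rw [he', ← WithZero.exp_zero, WithZero.exp_lt_exp] at hπlt
    exact hπlt
  obtain ⟨e, he⟩ : ∃ e : ℕ, e' = -(e : ℤ) :=
    ⟨(-e').toNat, by have := Int.toNat_of_nonneg (show 0 ≤ -e' by omega); omega⟩
  have he1 : 1 ≤ e := by omega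
  have hπw' : w (algebraMap F E π) = WithZero.exp (-(e : ℤ)) := by rw [he', he]
  have hπw : w (algebraMap F E π) ≤ WithZero.exp (-1) := by
    rw [hπw', WithZero.exp_le_exp]
    omega
  obtain ⟨T, hT⟩ := hψ.2.2
  obtain ⟨l, -⟩ : ∃ l : Module.Basis (Fin (Module.finrank K L)) K L,
      l = Module.finBasis K L := ⟨_, rfl⟩
  choose lam hlam1 hlam2 using fun j => hψ.2.1 (l j)
  obtain ⟨g, hg⟩ : ∃ g : Fin e × Fin (Module.finrank K L) → E,
      ∀ p, g p = lam p.2 * T ^ (p.1 : ℕ) := ⟨_, fun p => rfl⟩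
  have hg1 : ∀ p, w (g p) ≤ 1 := by
    intro p
    rw [hg, map_mul, map_pow, hT]
    exact mul_le_one' (hlam1 _) (pow_le_one' exp_neg_one_le_one _)
  have hsum : ∀ c : ℕ → Fin (Module.finrank K L) → K,
      ∑ p : Fin e × Fin (Module.finrank K L),
        algebraMap F E (algebraMap K F (c (p.1 : ℕ) p.2)) * g p =
      ∑ i ∈ Finset.range e, U lam (c i) * T ^ i := by
    intro c
    rw [Fintype.sum_prod_type, Finset.sum_range]
    refine Finset.sum_congr rfl fun i _ => ?_
    unfold U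
    rw [Finset.sum_mul]
    refine Finset.sum_congr rfl fun j _ => ?_
    rw [hg, ← IsScalarTower.algebraMap_apply K F E, mul_assoc]
  have happ : ∀ z : E, w z ≤ 1 → ∃ c : Fin e × Fin (Module.finrank K L) → K, ∃ z' : E,
      w z' ≤ 1 ∧ z = ∑ p, algebraMap F E (algebraMap K F (c p)) * g p +
        algebraMap F E π * z' := by
    intro z hz
    obtain ⟨c, hc⟩ := claim1 w ψ l lam hψ hlam1 hlam2 T hT e z hz
    refine ⟨fun p => c (p.1 : ℕ) p.2,
      (z - ∑ i ∈ Finset.range e, U lam (c i) * T ^ i) * (algebraMap F E π)⁻¹, ?_, ?_⟩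
    · rw [map_mul, map_inv₀, hπw']
      calc w (z - ∑ i ∈ Finset.range e, U lam (c i) * T ^ i) * (WithZero.exp (-(e : ℤ)))⁻¹
          ≤ WithZero.exp (-(e : ℤ)) * (WithZero.exp (-(e : ℤ)))⁻¹ := mul_le_mul' hc le_rfl
        _ = 1 := mul_inv_cancel₀ WithZero.exp_ne_zero
    · rw [hsum c, mul_comm _ (algebraMap F E π)⁻¹, ← mul_assoc, mul_inv_cancel₀ hπE0, one_mul]
      ring
  have hind : ∀ c' : Fin e × Fin (Module.finrank K L) → K,
      w (∑ p, algebraMap F E (algebraMap K F (c' p)) * g p) ≤ w (algebraMap F E π) →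
      c' = 0 := by
    intro c' h
    obtain ⟨c, hc⟩ : ∃ c : ℕ → Fin (Module.finrank K L) → K,
        ∀ i j, c i j = if hi : i < e then c' (⟨i, hi⟩, j) else 0 := ⟨_, fun i j => rfl⟩
    have e1 : ∀ p : Fin e × Fin (Module.finrank K L), c' p = c (p.1 : ℕ) p.2 := by
      intro p
      rw [hc, dif_pos p.1.2]
    have e2 : ∑ p, algebraMap F E (algebraMap K F (c' p)) * g p =
        ∑ i ∈ Finset.range e, U lam (c i) * T ^ i := by
      rw [← hsum c]
      refine Finset.sum_congr rfl fun p _ => ?_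
      rw [e1 p]
    rw [e2, hπw'] at h
    have h3 := claim3 w ψ l lam hψ hlam1 hlam2 T hT e c h
    funext p
    rw [e1 p, h3 _ p.1.2]
    rfl
  have hgen := fun z hz =>
    LocTrA.gen_of_approx v w φ hφ.1 hφs π hπ hmono1 hπw g hg1 happ z hz
  have hindep := fun a ha =>
    LocTrA.indep_of_digits v w φ hφ.1 π hπ hmono g hg1 hind a ha
  obtain ⟨b, hb⟩ := LocTrA.exists_basis v w π hπ0 hmono1 hπw g hg1 hgen hindep
  exact ⟨_, inferInstance, b, hb⟩

end Groth.Agent.Helper6.LocTrB
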