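import Mathlib
import Groth.Agent.Helper6.LocTrB
import Groth.Agent.Helper6.TateFR

set_option autoImplicit false
set_option linter.style.haveILetI false
set_option linter.unusedSectionVars false

/-!
# The local trace formula for residues through expansions
-/

namespace Groth.Agent.Helper6.LocTrC

open Groth.Agent.Helper6.TateTr Groth.Agent.Helper6.TateRho Groth.Agent.Helper6.TateSum
  Groth.Agent.Helper6.TateExp Groth.Agent.Helper6.TrRes Groth.Agent.Helper6.TateFR

universe u v

/-- the abstract trace formula in the local situation: an integral basis transports a projector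
onto the valuation ring below to one onto the valuation ring above -/
theorem atf_loc {K : Type*} {F E : Type*} [Field K] [Field F] [Field E] [Algebra K F]
    [Algebra F E] [Algebra K E] [IsScalarTower K F E]
    {ι : Type*} [Fintype ι] [DecidableEq ι] (b : Module.Basis ι F E)
    (v : Valuation F (WithZero (Multiplicative ℤ))) (hv : ∀ c : K, v (algebraMap K F c) ≤ 1)
    (w : Valuation E (WithZero (Multiplicative ℤ))) (hw : ∀ c : K, w (algebraMap K E c) ≤ 1)
    (hb : ∀ z : E, w z ≤ 1 ↔ ∀ i, v (b.repr z i) ≤ 1)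
    {p₀ : Module.End K F} (hp₀ : p₀ * p₀ = p₀)
    (hr₀ : LinearMap.range p₀ = OSub (k := K) v hv)
    (hloc₀ : ∀ u : F, FR ((1 - p₀) * mulK u * p₀)) (y : E) (x : F) :
    ∃ p' : Module.End K E, p' * p' = p' ∧ LinearMap.range p' = OSub (k := K) w hw ∧
      tr (comm p₀ (mulK (Algebra.trace F E y)) (mulK x)) =
        tr (comm p' (mulK y) (mulK (algebraMap F E x))) := by
  obtain ⟨f, hf⟩ : ∃ f : Module.End K E, f = mulK y := ⟨_, rfl⟩
  obtain ⟨g, hg⟩ : ∃ g : Module.End K E, g = mulK (algebraMap F E x) := ⟨_, rfl⟩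
  obtain ⟨inj, hinj⟩ : ∃ inj : ι → F →ₗ[K] E,
      inj = fun i => (LinearMap.toSpanSingleton F E (b i)).restrictScalars K := ⟨_, rfl⟩
  obtain ⟨prj, hprj⟩ : ∃ prj : ι → E →ₗ[K] F,
      prj = fun i => (b.coord i).restrictScalars K := ⟨_, rfl⟩
  have inj_apply : ∀ i z, inj i z = z • b i := fun i z => by rw [hinj]; rfl
  have prj_apply : ∀ i z, prj i z = b.repr z i := fun i z => by rw [hprj]; rfl
  have h1 : ∀ i j, prj i ∘ₗ inj j = if i = j then LinearMap.id else 0 := by
    intro i j
    ext z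
    rw [LinearMap.comp_apply, inj_apply, prj_apply, map_smul, Module.Basis.repr_self,
      Finsupp.smul_apply, smul_eq_mul, Finsupp.single_apply]
    by_cases hij : i = j
    · rw [if_pos hij.symm, if_pos hij, mul_one]; rfl
    · rw [if_neg (Ne.symm hij), if_neg hij, mul_zero]; rfl
  have h2 : ∑ i, inj i ∘ₗ prj i = LinearMap.id := by
    ext z
    rw [LinearMap.sum_apply]
    simp only [LinearMap.comp_apply, inj_apply, prj_apply, LinearMap.id_apply]
    exact b.sum_repr z
  obtain ⟨M, hM⟩ : ∃ M : Matrix ι ι F, M = Algebra.leftMulMatrix b y := ⟨_, rfl⟩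
  obtain ⟨Y, hY⟩ : ∃ Y : Matrix ι ι (Module.End K F), Y = fun a c => mulK (M a c) := ⟨_, rfl⟩
  have hYf : Psi inj prj Y = f := by
    rw [← Psi_blk inj prj h2 f]
    congr 1
    ext a c z
    rw [hY, hf]
    show M a c * z = prj a (y * inj c z)
    rw [inj_apply, prj_apply, mul_smul_comm, map_smul, Finsupp.smul_apply, smul_eq_mul, hM,
      Algebra.leftMulMatrix_eq_repr_mul, mul_comm]
  have hXg : Psi inj prj (Matrix.diagonal fun _ => mulK (k := K) x) = g := by
    rw [← Psi_blk inj prj h2 g]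
    congr 1
    ext a c z
    rw [Matrix.diagonal_apply, hg]
    show (if a = c then mulK (k := K) x else 0) z = prj a (algebraMap F E x * inj c z)
    rw [inj_apply, prj_apply, ← Algebra.smul_def, smul_smul, map_smul, Module.Basis.repr_self,
      Finsupp.smul_apply, Finsupp.single_apply, smul_eq_mul]
    by_cases hac : a = c
    · rw [if_pos hac, if_pos hac.symm, mul_one]; rfl
    · rw [if_neg hac, if_neg (Ne.symm hac), mul_zero]; rfl
  have hYX : ∀ a c, Y a c * mulK (k := K) x = mulK x * Y a c := fun a c => by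
    rw [hY]; exact mulK_comm _ _
  have huY : ∀ a c, FR ((1 - p₀) * Y a c * p₀) := fun a c => by rw [hY]; exact hloc₀ (M a c)
  obtain ⟨hpp, -, -, etr⟩ := block_main inj prj h1 h2 hp₀ hYX huY (hloc₀ x)
  rw [hYf, hXg] at etr
  obtain ⟨p', hp'⟩ : ∃ p' : Module.End K E, p' = Psi inj prj (Matrix.diagonal fun _ => p₀) :=
    ⟨_, rfl⟩
  rw [← hp'] at hpp etr
  have hp'apply : ∀ z, p' z = ∑ a, (p₀ (b.repr z a)) • b a := by
    intro z
    rw [hp', Psi_diagonal_apply]
    refine Finset.sum_congr rfl fun a _ => ?_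
    rw [inj_apply, prj_apply]
  have hrange : LinearMap.range p' = OSub (k := K) w hw := by
    apply le_antisymm
    · rintro _ ⟨z, rfl⟩
      show w (p' z) ≤ 1
      refine (hb (p' z)).2 (fun i => ?_)
      rw [hp'apply, Module.Basis.repr_sum_self]
      exact proj_mem hr₀ _
    · intro z hz
      have hc := (hb z).1 ((mem_OSub w hw z).1 hz)
      refine ⟨z, ?_⟩
      rw [hp'apply]
      conv_rhs => rw [← b.sum_repr z]
      refine Finset.sum_congr rfl fun a _ => ?_
      rw [proj_fix hp₀ hr₀ (hc a)]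
  refine ⟨p', hpp, hrange, ?_⟩
  have e1 : Algebra.trace F E y = ∑ a, M a a := by
    rw [Algebra.trace_eq_matrix_trace b y, hM]; rfl
  have e2 : mulK (k := K) (∑ a, M a a) = ∑ a, Y a a := by
    rw [mulK_sum, hY]
  rw [e1, e2, comm_sum_left, tr_sum _ _ fun a _ => fr_comm hp₀ (hYX a a) (huY a a) (hloc₀ x),
    ← etr, hf, hg]

theorem s12619 (K L : Type u) (F E : Type v) [Field K] [PerfectField K] [Field L]
    [Field F] [Field E] [Algebra K F] [Algebra F E] [Algebra K E] [IsScalarTower K F E]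
    [FiniteDimensional F E] [Algebra.IsSeparable F E]
    [Algebra K L] [Algebra L E] [IsScalarTower K L E] [FiniteDimensional K L]
    (v : Valuation F (WithZero (Multiplicative ℤ))) (w : Valuation E (WithZero (Multiplicative ℤ)))
    [v.HasExtension w]
    (φ : F →ₐ[K] LaurentSeries K) (hφ : LocRes.IsExpansionAt v φ) (hφs : Function.Surjective φ)
    (ψ : E →ₐ[L] LaurentSeries L) (hψ : LocRes.IsExpansionAt w ψ)
    (x : F) (y : E) :
    Algebra.trace K L (LocRes.resExp ψ y (algebraMap F E x)) =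
      LocRes.resExp φ (Algebra.trace F E y) x := by
  classical
  have hv : ∀ c : K, v (algebraMap K F c) ≤ 1 := by
    intro c
    rw [← hφ.1, LocRes.map_algebraMap]
    exact (LaurentSeries.val_le_one_iff_eq_coe K _).2
      ⟨PowerSeries.C (algebraMap K K c), PowerSeries.coe_C _⟩
  have hw : ∀ c : K, w (algebraMap K E c) ≤ 1 := LocTrB.val_algebraMap_le_one w ψ hψ
  obtain ⟨ψ', hψ'⟩ : ∃ ψ' : E →ₐ[K] LaurentSeries L, ∀ z, ψ' z = ψ z := by
    refine ⟨{ toRingHom := ψ.toRingHom, commutes' := fun c => ?_ }, fun z => rfl⟩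
    show ψ (algebraMap K E c) = algebraMap K (LaurentSeries L) c
    rw [LocTrB.psi_algebraMap, HahnSeries.algebraMap_apply', PowerSeries.algebraMap_apply,
      HahnSeries.ofPowerSeries_C]
  have hψ'E : LocRes.IsExpansionAt w ψ' := by
    refine ⟨fun z => ?_, fun a => ?_, hψ.2.2⟩
    · rw [hψ']; exact hψ.1 z
    · obtain ⟨z, h1, h2⟩ := hψ.2.1 a
      exact ⟨z, h1, by rw [hψ']; exact h2⟩
  obtain ⟨p₀, hp₀, hr₀⟩ := exists_proj (OSub (k := K) v hv)
  have hloc₀ : ∀ u : F, FR ((1 - p₀) * mulK u * p₀) :=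
    fun u => (local_main v hv φ hφ p₀ hp₀ hr₀ u 0).1
  obtain ⟨ι, _, b, hb⟩ := LocTrB.exists_integral_basis K L F E v w φ hφ hφs ψ hψ
  obtain ⟨p', hpp, hrange, htr⟩ := atf_loc b v hv w hw hb hp₀ hr₀ hloc₀ y x
  have e1 := (local_main v hv φ hφ p₀ hp₀ hr₀ (Algebra.trace F E y) x).2
  have e2 := (local_main w hw ψ' hψ'E p' hpp hrange y (algebraMap F E x)).2
  rw [e1, e2] at htr
  have e3 : LocRes.locRes φ (Algebra.trace F E y) x =
      LocRes.resExp φ (Algebra.trace F E y) x := by
    unfold LocRes.locRes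
    rw [Algebra.trace_self_apply]
  have e4 : LocRes.locRes ψ' y (algebraMap F E x) =
      Algebra.trace K L (LocRes.resExp ψ y (algebraMap F E x)) := by
    unfold LocRes.locRes LocRes.resExp
    rw [hψ', hψ']
  rw [← e3, ← e4, htr]

end Groth.Agent.Helper6.LocTrC
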