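import Mathlib
import Groth.Agent.Helper6.LubinTate
import Groth.Agent.Helper6.LubinTateComp

/-!
# Lubin–Tate lemma over a DVR with finite residue field
-/

namespace Groth.Agent.Helper6.LubinTate

open MvPowerSeries

section Frob

theorem expand_card {k : Type*} [Field k] [Finite k] {σ : Type*} (ψ : MvPowerSeries σ k) :
    subst (fun i => (X i : MvPowerSeries σ k) ^ Nat.card k) ψ = ψ ^ Nat.card k := by
  classical
  letI := Fintype.ofFinite k
  obtain ⟨p, hp⟩ := CharP.exists k
  haveI := hp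
  obtain ⟨n, hprime, hcard⟩ := FiniteField.card k p
  haveI : Fact p.Prime := ⟨hprime⟩
  haveI : ExpChar k p := ExpChar.prime hprime
  have hq : Nat.card k = p ^ (n : ℕ) := by rw [Nat.card_eq_fintype_card, hcard]
  have hp0 : p ≠ 0 := hprime.ne_zero
  have key := map_iterateFrobenius_expand (σ := σ) p hp0 ψ (n : ℕ)
  have hid : iterateFrobenius k p (n : ℕ) = RingHom.id k := by
    ext x
    rw [iterateFrobenius_def, ← hcard, RingHom.id_apply, FiniteField.pow_card]
  rw [hid, map_id, RingHom.id_apply] at key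
  rw [hq, ← key, expand, coe_substAlgHom]

end Frob

section Gen

variable {R : Type*} [CommRing R]

/-- the Lubin–Tate series `π X + X ^ q` -/
noncomputable def ltf (π : R) (q : ℕ) : PowerSeries R := π • PowerSeries.X + PowerSeries.X ^ q

theorem constantCoeff_ltf (π : R) {q : ℕ} (hq : 2 ≤ q) :
    PowerSeries.constantCoeff (ltf π q) = 0 := by
  have : q ≠ 0 := by omega
  simp [ltf, this]

theorem coeff_one_ltf (π : R) {q : ℕ} (hq : 2 ≤ q) :
    PowerSeries.coeff 1 (ltf π q) = π := by
  have : 1 ≠ q := by omega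
  simp [ltf, PowerSeries.coeff_X_pow, this]

theorem subst_ltf {σ : Type*} (π : R) (q : ℕ) {φ : MvPowerSeries σ R}
    (hφ : constantCoeff φ = 0) : PowerSeries.subst φ (ltf π q) = π • φ + φ ^ q := by
  have H := PowerSeries.HasSubst.of_constantCoeff_zero hφ
  rw [ltf, PowerSeries.subst_add H, PowerSeries.subst_smul H, PowerSeries.subst_pow H,
    PowerSeries.subst_X H]

theorem map_ltf {S : Type*} [CommRing S] (h : R →+* S) (π : R) (q : ℕ) :
    PowerSeries.map h (ltf π q) = ltf (h π) q := by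
  simp [ltf, PowerSeries.smul_eq_C_mul]

end Gen

section DVR

variable {O : Type*} [CommRing O] [IsDomain O] [IsDiscreteValuationRing O] {π : O}

theorem two_le_card [Finite (IsLocalRing.ResidueField O)] :
    2 ≤ Nat.card (IsLocalRing.ResidueField O) :=
  Finite.one_lt_card

theorem isUnit_one_sub_pow (hπ : Irreducible π) (k : ℕ) : IsUnit (1 - π ^ (k + 1)) := by
  apply IsLocalRing.isUnit_one_sub_self_of_mem_nonunits
  rw [mem_nonunits_iff, isUnit_pow_iff (by omega)]
  exact hπ.not_isUnit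

theorem hreg_dvr (hπ : Irreducible π) (m : ℕ) (hm : 2 ≤ m) (x : O)
    (h : (π - π ^ m) * x = 0) : x = 0 := by
  obtain ⟨k, rfl⟩ : ∃ k, m = k + 2 := ⟨m - 2, by omega⟩
  have e : π - π ^ (k + 2) = π * (1 - π ^ (k + 1)) := by ring
  rw [e] at h
  rcases mul_eq_zero.mp h with h | h
  · rcases mul_eq_zero.mp h with h | h
    · exact absurd h hπ.ne_zero
    · exact absurd h (isUnit_one_sub_pow hπ k).ne_zero
  · exact h

variable [Finite (IsLocalRing.ResidueField O)]

theorem pi_dvd_coeff_T (hπ : Irreducible π) {σ : Type*} [Finite σ] (φ : MvPowerSeries σ O)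
    (hφ : constantCoeff φ = 0) (e : σ →₀ ℕ) :
    π ∣ coeff e (T (ltf π (Nat.card (IsLocalRing.ResidueField O)))
      (ltf π (Nat.card (IsLocalRing.ResidueField O))) φ) := by
  set q := Nat.card (IsLocalRing.ResidueField O) with hqdef
  have hq : 2 ≤ q := two_le_card
  have hresπ : IsLocalRing.residue O π = 0 := by
    rw [IsLocalRing.residue_eq_zero_iff]
    exact hπ.not_isUnit
  have h0 := constantCoeff_ltf π hq
  have hmap : MvPowerSeries.map (IsLocalRing.residue O) (T (ltf π q) (ltf π q) φ) = 0 := by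
    rw [T, map_sub, subst_ltf π q hφ, map_subst (hasSubst_av (ltf π q) h0)]
    have e1 : (fun i => map (IsLocalRing.residue O) (av (ltf π q) i)) =
        fun i => (X i : MvPowerSeries σ (IsLocalRing.ResidueField O)) ^ q := by
      funext i
      rw [av, subst_ltf π q (constantCoeff_X i)]
      simp [smul_eq_C_mul, hresπ]
    rw [e1, hqdef, expand_card]
    simp [smul_eq_C_mul, hresπ]
  have : IsLocalRing.residue O (coeff e (T (ltf π q) (ltf π q) φ)) = 0 := by
    rw [← coeff_map, hmap, map_zero]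
  rw [IsLocalRing.residue_eq_zero_iff, hπ.maximalIdeal_eq, Ideal.mem_span_singleton] at this
  exact this

theorem hdiv_dvr (hπ : Irreducible π) {σ : Type*} [Finite σ] (φ : MvPowerSeries σ O)
    (hφ : constantCoeff φ = 0) (e : σ →₀ ℕ) (he : 2 ≤ e.degree) :
    (π - π ^ e.degree) ∣ coeff e (T (ltf π (Nat.card (IsLocalRing.ResidueField O)))
      (ltf π (Nat.card (IsLocalRing.ResidueField O))) φ) := by
  obtain ⟨k, hk⟩ : ∃ k, e.degree = k + 2 := ⟨e.degree - 2, by omega⟩
  have e1 : π - π ^ (k + 2) = π * (1 - π ^ (k + 1)) := by ring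
  rw [hk, e1, (isUnit_one_sub_pow hπ k).mul_right_dvd]
  exact pi_dvd_coeff_T hπ φ hφ e

/-- Lubin–Tate lemma (existence) over a DVR. -/
theorem exists_dvr (hπ : Irreducible π) {σ : Type*} [Finite σ] (L : MvPowerSeries σ O)
    (hL : constantCoeff L = 0) :
    ∃ φ : MvPowerSeries σ O, constantCoeff φ = 0 ∧ Agree φ L ∧
      Semi (ltf π (Nat.card (IsLocalRing.ResidueField O)))
        (ltf π (Nat.card (IsLocalRing.ResidueField O))) φ := by
  have hq : 2 ≤ Nat.card (IsLocalRing.ResidueField O) := two_le_card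
  obtain ⟨φ, h0, h1, h2⟩ := exists_of_hdiv (constantCoeff_ltf π hq) (coeff_one_ltf π hq)
    (constantCoeff_ltf π hq) (coeff_one_ltf π hq) (fun φ hφ e he => hdiv_dvr hπ φ hφ e he) L hL
  exact ⟨φ, h0, h1, semi_iff.mpr h2⟩

/-- Lubin–Tate lemma (uniqueness) over a DVR. -/
theorem unique_dvr (hπ : Irreducible π) {σ : Type*} [Finite σ] {φ ψ : MvPowerSeries σ O}
    (hφ : constantCoeff φ = 0) (hψ : constantCoeff ψ = 0)
    (hSφ : Semi (ltf π (Nat.card (IsLocalRing.ResidueField O)))
        (ltf π (Nat.card (IsLocalRing.ResidueField O))) φ)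
    (hSψ : Semi (ltf π (Nat.card (IsLocalRing.ResidueField O)))
        (ltf π (Nat.card (IsLocalRing.ResidueField O))) ψ)
    (h : Agree φ ψ) : φ = ψ := by
  have hq : 2 ≤ Nat.card (IsLocalRing.ResidueField O) := two_le_card
  exact unique (coeff_one_ltf π hq) (constantCoeff_ltf π hq) (coeff_one_ltf π hq)
    (hreg_dvr hπ) hφ hψ ((semi_iff.mp hSφ).trans (semi_iff.mp hSψ).symm) h

end DVR

section Results

variable {O : Type*} [CommRing O] [IsDomain O] [IsDiscreteValuationRing O]
  [Finite (IsLocalRing.ResidueField O)] {π : O}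

local notation "fLT" π => ltf π (Nat.card (IsLocalRing.ResidueField O))

/-- S15050 -/
theorem existsUnique_endo (hπ : Irreducible π) (α : O) :
    ∃! g : PowerSeries O, g.constantCoeff = 0 ∧ g.coeff 1 = α ∧
      PowerSeries.subst g (fLT π) = PowerSeries.subst (fLT π) g := by
  have hX0 : constantCoeff (α • (PowerSeries.X : PowerSeries O) : MvPowerSeries Unit O) = 0 := by
    have : PowerSeries.constantCoeff (α • (PowerSeries.X : PowerSeries O)) = 0 := by simp
    exact this
  obtain ⟨φ, h0, h1, h2⟩ := exists_dvr hπ (σ := Unit) (α • (PowerSeries.X : PowerSeries O)) hX0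
  refine ⟨φ, ⟨h0, ?_, semi_unit_iff.mp h2⟩, ?_⟩
  · rw [coeff_one_of_agree (g := φ) (g' := α • (PowerSeries.X : PowerSeries O)) h1]
    simp
  · rintro ψ ⟨hψ0, hψ1, hψ2⟩
    refine unique_dvr hπ hψ0 h0 (semi_unit_iff.mpr hψ2) h2 ?_
    exact (agree_smul_X hψ0 hψ1).trans h1.symm

end Results

end Groth.Agent.Helper6.LubinTate
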