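import Mathlib
import Groth.Agent.Helper6.LubinTateDVR

/-!
# Lubin–Tate formal groups over a DVR: endomorphisms
-/

namespace Groth.Agent.Helper6.LubinTate

open MvPowerSeries

theorem psubst_smul_X {R : Type*} [CommRing R] {τ : Type*} {b : MvPowerSeries τ R}
    (hb : constantCoeff b = 0) (c : R) :
    PowerSeries.subst b (c • (PowerSeries.X : PowerSeries R)) = c • b := by
  have H := PowerSeries.HasSubst.of_constantCoeff_zero hb
  rw [PowerSeries.subst_smul H, PowerSeries.subst_X H]

section Results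

variable {O : Type*} [CommRing O] [IsDomain O] [IsDiscreteValuationRing O]
  [Finite (IsLocalRing.ResidueField O)] {π : O}

local notation "fLT" π => ltf π (Nat.card (IsLocalRing.ResidueField O))

/-- S15060, first half -/
theorem endo_mul (hπ : Irreducible π) {α β : O} {gα gβ gαβ : PowerSeries O}
    (hα0 : gα.constantCoeff = 0) (hα1 : gα.coeff 1 = α)
    (hαf : PowerSeries.subst gα (fLT π) = PowerSeries.subst (fLT π) gα)
    (hβ0 : gβ.constantCoeff = 0) (hβ1 : gβ.coeff 1 = β)
    (hβf : PowerSeries.subst gβ (fLT π) = PowerSeries.subst (fLT π) gβ)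
    (hαβ0 : gαβ.constantCoeff = 0) (hαβ1 : gαβ.coeff 1 = α * β)
    (hαβf : PowerSeries.subst gαβ (fLT π) = PowerSeries.subst (fLT π) gαβ) :
    PowerSeries.subst gβ gα = gαβ := by
  have h0f := constantCoeff_ltf π (two_le_card (O := O))
  have Sα : Semi (fLT π) (fLT π) (gα : MvPowerSeries Unit O) := semi_unit_iff.mpr hαf
  have Sβ : Semi (fLT π) (fLT π) (gβ : MvPowerSeries Unit O) := semi_unit_iff.mpr hβf
  have hS : Semi (fLT π) (fLT π) (PowerSeries.subst gβ gα) :=
    Semi.comp (σ := Unit) (τ := Unit) h0f h0f hα0 Sα (b := fun _ => gβ) (fun _ => hβ0)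
      (fun _ => Sβ)
  have hc0 : constantCoeff (PowerSeries.subst gβ gα) = 0 := by
    rw [constantCoeff_subst_of_constantCoeff_zero hβ0]; exact hα0
  refine unique_dvr hπ hc0 hαβ0 hS (semi_unit_iff.mpr hαβf) ?_
  have A1 := agree_psubst (b := gβ) hβ0 (agree_smul_X hα0 hα1)
  rw [psubst_smul_X hβ0] at A1
  have A2 := (agree_smul_X hβ0 hβ1).smul α
  have A3 := (agree_smul_X hαβ0 hαβ1).symm
  rw [smul_smul] at A2
  exact A1.trans (A2.trans A3)

/-- S15060, second half -/
theorem endo_add (hπ : Irreducible π) (F : FormalGroup O)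
    (hF : PowerSeries.subst F.toPowerSeries (fLT π) =
      MvPowerSeries.subst (fun i : Fin 2 => PowerSeries.subst
        (MvPowerSeries.X i : MvPowerSeries (Fin 2) O) (fLT π)) F.toPowerSeries)
    {α β : O} {gα gβ gs : PowerSeries O}
    (hα0 : gα.constantCoeff = 0) (hα1 : gα.coeff 1 = α)
    (hαf : PowerSeries.subst gα (fLT π) = PowerSeries.subst (fLT π) gα)
    (hβ0 : gβ.constantCoeff = 0) (hβ1 : gβ.coeff 1 = β)
    (hβf : PowerSeries.subst gβ (fLT π) = PowerSeries.subst (fLT π) gβ)
    (hs0 : gs.constantCoeff = 0) (hs1 : gs.coeff 1 = α + β)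
    (hsf : PowerSeries.subst gs (fLT π) = PowerSeries.subst (fLT π) gs) :
    F.toPowerSeries.subst ![gα, gβ] = gs := by
  have h0f := constantCoeff_ltf π (two_le_card (O := O))
  have Sα : Semi (fLT π) (fLT π) (gα : MvPowerSeries Unit O) := semi_unit_iff.mpr hαf
  have Sβ : Semi (fLT π) (fLT π) (gβ : MvPowerSeries Unit O) := semi_unit_iff.mpr hβf
  have hFS : Semi (fLT π) (fLT π) F.toPowerSeries := hF
  have hb0 : ∀ s : Fin 2, constantCoeff ((![gα, gβ] : Fin 2 → MvPowerSeries Unit O) s) = 0 := by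
    intro s; fin_cases s
    · exact hα0
    · exact hβ0
  have hbS : ∀ s : Fin 2, Semi (fLT π) (fLT π) ((![gα, gβ] : Fin 2 → MvPowerSeries Unit O) s) := by
    intro s; fin_cases s
    · exact Sα
    · exact Sβ
  have Hb : HasSubst (![gα, gβ] : Fin 2 → MvPowerSeries Unit O) :=
    hasSubst_of_constantCoeff_zero hb0
  have hS := Semi.comp h0f h0f F.zero_constantCoeff hFS hb0 hbS
  have hc0 := constantCoeff_subst_eq_zero Hb hb0 F.zero_constantCoeff
  refine unique_dvr hπ hc0 hs0 hS (semi_unit_iff.mpr hsf) ?_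
  have A0 : Agree F.toPowerSeries (X 0 + X 1) :=
    agree_X0_add_X1 F.zero_constantCoeff F.lin_coeff_X F.lin_coeff_Y
  have A1 := agree_subst hb0 A0
  rw [subst_add Hb, subst_X Hb, subst_X Hb] at A1
  have A2 := (agree_smul_X hα0 hα1).add (agree_smul_X hβ0 hβ1)
  have A3 := (agree_smul_X hs0 hs1).symm
  rw [← add_smul] at A2
  exact A1.trans (A2.trans A3)

/-- S15051 -/
theorem endo_comm_F (hπ : Irreducible π) (F : FormalGroup O)
    (hF : PowerSeries.subst F.toPowerSeries (fLT π) =
      MvPowerSeries.subst (fun i : Fin 2 => PowerSeries.subst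
        (MvPowerSeries.X i : MvPowerSeries (Fin 2) O) (fLT π)) F.toPowerSeries)
    {g : PowerSeries O} (hg0 : g.constantCoeff = 0)
    (hgf : PowerSeries.subst g (fLT π) = PowerSeries.subst (fLT π) g) :
    PowerSeries.subst F.toPowerSeries g =
      MvPowerSeries.subst (fun i : Fin 2 => PowerSeries.subst
        (MvPowerSeries.X i : MvPowerSeries (Fin 2) O) g) F.toPowerSeries := by
  have h0f := constantCoeff_ltf π (two_le_card (O := O))
  have Sg : Semi (fLT π) (fLT π) (g : MvPowerSeries Unit O) := semi_unit_iff.mpr hgf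
  have hFS : Semi (fLT π) (fLT π) F.toPowerSeries := hF
  have hF0 := F.zero_constantCoeff
  have hL : Semi (fLT π) (fLT π) (PowerSeries.subst F.toPowerSeries g) :=
    Semi.comp (σ := Unit) (τ := Fin 2) h0f h0f hg0 Sg (b := fun _ => F.toPowerSeries)
      (fun _ => hF0) (fun _ => hFS)
  have hL0 : constantCoeff (PowerSeries.subst F.toPowerSeries g) = 0 := by
    rw [constantCoeff_subst_of_constantCoeff_zero hF0]; exact hg0
  have hav0 : ∀ i : Fin 2, constantCoeff (av g i) = 0 := constantCoeff_av g hg0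
  have havS : ∀ i : Fin 2, Semi (fLT π) (fLT π) (av g i) := fun i =>
    Semi.comp (σ := Unit) (τ := Fin 2) h0f h0f hg0 Sg (b := fun _ => X i)
      (fun _ => constantCoeff_X i) (fun _ => semi_X _ h0f i)
  have hR : Semi (fLT π) (fLT π) (subst (av g) F.toPowerSeries) :=
    Semi.comp h0f h0f hF0 hFS hav0 havS
  have Hav : HasSubst (av (σ := Fin 2) g) := hasSubst_av g hg0
  have hR0 := constantCoeff_subst_eq_zero Hav hav0 hF0
  refine unique_dvr hπ hL0 hR0 hL hR ?_
  have Ag := agree_smul_X hg0 (rfl : g.coeff 1 = g.coeff 1)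
  have AF : Agree F.toPowerSeries (X 0 + X 1) :=
    agree_X0_add_X1 hF0 F.lin_coeff_X F.lin_coeff_Y
  have A1 := agree_psubst (b := F.toPowerSeries) hF0 Ag
  rw [psubst_smul_X hF0] at A1
  have A2 := AF.smul (g.coeff 1)
  have A3 := agree_subst hav0 AF
  rw [subst_add Hav, subst_X Hav, subst_X Hav] at A3
  have A4 : ∀ i : Fin 2, Agree (av g i) (g.coeff 1 • X i) := fun i => by
    have := agree_psubst (b := (X i : MvPowerSeries (Fin 2) O)) (constantCoeff_X i) Ag
    rwa [psubst_smul_X (constantCoeff_X i)] at this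
  have A5 := A3.trans ((A4 0).add (A4 1))
  rw [← smul_add] at A5
  exact (A1.trans A2).trans A5.symm

end Results

end Groth.Agent.Helper6.LubinTate
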