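import Mathlib
import Groth.Agent.Helper6.LubinTateRes

/-!
# The Lubin–Tate formal group
-/

namespace Groth.Agent.Helper6.LubinTate

open MvPowerSeries

section FG

variable {O : Type*} [CommRing O] [IsDomain O] [IsDiscreteValuationRing O]
  [Finite (IsLocalRing.ResidueField O)] {π : O}

local notation "fLT" π => ltf π (Nat.card (IsLocalRing.ResidueField O))

theorem subst_pair {τ : Type*} [Finite τ] {φ : MvPowerSeries (Fin 2) O}
    (h0 : constantCoeff φ = 0) (hA : Agree φ (X 0 + X 1))
    (hS : Semi (fLT π) (fLT π) φ) {p q : MvPowerSeries τ O}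
    (hp0 : constantCoeff p = 0) (hq0 : constantCoeff q = 0)
    (hpS : Semi (fLT π) (fLT π) p) (hqS : Semi (fLT π) (fLT π) q) :
    constantCoeff (subst ![p, q] φ) = 0 ∧ Semi (fLT π) (fLT π) (subst ![p, q] φ) ∧
      Agree (subst ![p, q] φ) (p + q) := by
  have h0f := constantCoeff_ltf π (two_le_card (O := O))
  have hb0 : ∀ s : Fin 2, constantCoeff ((![p, q] : Fin 2 → MvPowerSeries τ O) s) = 0 := by
    intro s; fin_cases s
    · exact hp0
    · exact hq0
  have hbS : ∀ s : Fin 2, Semi (fLT π) (fLT π) ((![p, q] : Fin 2 → MvPowerSeries τ O) s) := by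
    intro s; fin_cases s
    · exact hpS
    · exact hqS
  have Hb : HasSubst (![p, q] : Fin 2 → MvPowerSeries τ O) :=
    hasSubst_of_constantCoeff_zero hb0
  refine ⟨constantCoeff_subst_eq_zero Hb hb0 h0, Semi.comp h0f h0f h0 hS hb0 hbS, ?_⟩
  have A1 := agree_subst hb0 hA
  rw [subst_add Hb, subst_X Hb, subst_X Hb] at A1
  exact A1

/-- S15049 -/
theorem exists_formalGroup (hπ : Irreducible π) :
    ∃ F : FormalGroup O, F.IsComm ∧
      PowerSeries.subst F.toPowerSeries (fLT π) =
        MvPowerSeries.subst (fun i : Fin 2 => PowerSeries.subst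
          (MvPowerSeries.X i : MvPowerSeries (Fin 2) O) (fLT π)) F.toPowerSeries ∧
      ∀ G : MvPowerSeries (Fin 2) O, G.constantCoeff = 0 → G.coeff (Finsupp.single 0 1) = 1 →
        G.coeff (Finsupp.single 1 1) = 1 →
        PowerSeries.subst G (fLT π) =
        MvPowerSeries.subst (fun i : Fin 2 => PowerSeries.subst
          (MvPowerSeries.X i : MvPowerSeries (Fin 2) O) (fLT π)) G →
        G = F.toPowerSeries := by
  have h0f := constantCoeff_ltf π (two_le_card (O := O))
  obtain ⟨φ, h0, hA, hS⟩ := exists_dvr hπ (σ := Fin 2) (X 0 + X 1) (by simp)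
  obtain ⟨c0, c1, c2⟩ := coeff_of_agree_X0_add_X1 hA
  have sX : ∀ {τ : Type} [Finite τ] (i : τ), Semi (fLT π) (fLT π) (X i : MvPowerSeries τ O) :=
    fun i => semi_X _ h0f i
  let F : FormalGroup O :=
    { toPowerSeries := φ
      zero_constantCoeff := h0
      lin_coeff_X := c1
      lin_coeff_Y := c2
      assoc := by
        obtain ⟨a0, aS, aA⟩ := subst_pair (π := π) h0 hA hS (p := (X 0 : MvPowerSeries (Fin 3) O))
          (q := X 1) (constantCoeff_X _) (constantCoeff_X _) (sX _) (sX _)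
        obtain ⟨b0, bS, bA⟩ := subst_pair (π := π) h0 hA hS (p := (X 1 : MvPowerSeries (Fin 3) O))
          (q := X 2) (constantCoeff_X _) (constantCoeff_X _) (sX _) (sX _)
        obtain ⟨l0, lS, lA⟩ := subst_pair (π := π) h0 hA hS a0 (constantCoeff_X (2 : Fin 3))
          aS (sX _)
        obtain ⟨r0, rS, rA⟩ := subst_pair (π := π) h0 hA hS (constantCoeff_X (0 : Fin 3)) b0
          (sX _) bS
        refine unique_dvr hπ l0 r0 lS rS ?_
        have L := lA.trans (aA.add (Agree.refl (X 2)))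
        have Rr := rA.trans ((Agree.refl (X 0)).add bA)
        rw [← add_assoc] at Rr
        exact L.trans Rr.symm }
  refine ⟨F, ⟨?_⟩, hS, ?_⟩
  · obtain ⟨a0, aS, aA⟩ := subst_pair (π := π) h0 hA hS (p := (X 1 : MvPowerSeries (Fin 2) O))
      (q := X 0) (constantCoeff_X _) (constantCoeff_X _) (sX _) (sX _)
    refine unique_dvr hπ h0 a0 hS aS ?_
    rw [add_comm] at aA
    exact hA.trans aA.symm
  · intro G g0 g1 g2 gS
    exact unique_dvr hπ g0 h0 gS hS ((agree_X0_add_X1 g0 g1 g2).trans hA.symm)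

end FG

end Groth.Agent.Helper6.LubinTate
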