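import Mathlib
import Groth.Agent.Helper6.LubinTateRes

/-!
# The logarithm of a Lubin–Tate formal group
-/

namespace Groth.Agent.Helper6.LubinTate

open MvPowerSeries

section MapLin

variable {R S : Type*} [CommRing R] [CommRing S] {σ : Type*}

theorem map_av (h : R →+* S) (f : PowerSeries R) (i : σ) :
    (av f i).map h = av (f.map h) i := by
  rw [av, av]
  have := PowerSeries.map_subst (PowerSeries.HasSubst.X (S := R) i) (h := h) f
  rw [this, map_X]

theorem Semi.map [Finite σ] (h : R →+* S) {f₁ f₂ : PowerSeries R}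
    (h₂ : PowerSeries.constantCoeff f₂ = 0) {φ : MvPowerSeries σ R}
    (hφ : constantCoeff φ = 0) (hS : Semi f₁ f₂ φ) :
    Semi (f₁.map h) (f₂.map h) (φ.map h) := by
  unfold Semi at *
  have e1 := PowerSeries.map_subst (PowerSeries.HasSubst.of_constantCoeff_zero hφ) (h := h) f₁
  have e2 := MvPowerSeries.map_subst (hasSubst_av f₂ h₂) (h := h) φ
  rw [← e1, hS, e2]
  congr 1
  funext i
  exact map_av h f₂ i

theorem semi_lin_iff [Finite σ] {c : R} {f₂ : PowerSeries R} {φ : MvPowerSeries σ R}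
    (hφ : constantCoeff φ = 0) :
    Semi (c • (PowerSeries.X : PowerSeries R)) f₂ φ ↔ c • φ = subst (av f₂) φ := by
  unfold Semi
  rw [psubst_smul_X hφ]

theorem Semi.add_lin [Finite σ] {c : R} {f₂ : PowerSeries R}
    (h₂ : PowerSeries.constantCoeff f₂ = 0) {φ ψ : MvPowerSeries σ R}
    (hφ : constantCoeff φ = 0) (hψ : constantCoeff ψ = 0)
    (h : Semi (c • (PowerSeries.X : PowerSeries R)) f₂ φ)
    (h' : Semi (c • (PowerSeries.X : PowerSeries R)) f₂ ψ) :
    Semi (c • (PowerSeries.X : PowerSeries R)) f₂ (φ + ψ) := by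
  rw [semi_lin_iff hφ] at h
  rw [semi_lin_iff hψ] at h'
  rw [semi_lin_iff (by simp [hφ, hψ]), subst_add (hasSubst_av f₂ h₂), smul_add, h, h']

theorem Semi.smul_lin [Finite σ] {c : R} {f₂ : PowerSeries R}
    (h₂ : PowerSeries.constantCoeff f₂ = 0) {φ : MvPowerSeries σ R}
    (hφ : constantCoeff φ = 0) (a : R)
    (h : Semi (c • (PowerSeries.X : PowerSeries R)) f₂ φ) :
    Semi (c • (PowerSeries.X : PowerSeries R)) f₂ (a • φ) := by
  rw [semi_lin_iff hφ] at h
  rw [semi_lin_iff (by simp [hφ]), subst_smul (hasSubst_av f₂ h₂), smul_comm, h]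

end MapLin

section Field

variable {K : Type*} [Field K] {ϖ : K} {q : ℕ}

theorem sub_pow_ne_zero (hϖ0 : ϖ ≠ 0) (hϖ : ∀ k : ℕ, ϖ ^ (k + 1) ≠ 1) (m : ℕ) (hm : 2 ≤ m) :
    ϖ - ϖ ^ m ≠ 0 := by
  obtain ⟨k, rfl⟩ : ∃ k, m = k + 2 := ⟨m - 2, by omega⟩
  have e : ϖ - ϖ ^ (k + 2) = ϖ * (1 - ϖ ^ (k + 1)) := by ring
  rw [e]
  exact mul_ne_zero hϖ0 (sub_ne_zero.mpr (hϖ k).symm)

theorem constantCoeff_smul_X (c : K) :
    PowerSeries.constantCoeff (c • (PowerSeries.X : PowerSeries K)) = 0 := by simp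

theorem coeff_one_smul_X (c : K) :
    PowerSeries.coeff 1 (c • (PowerSeries.X : PowerSeries K)) = c := by simp

theorem exists_log (hϖ0 : ϖ ≠ 0) (hϖ : ∀ k : ℕ, ϖ ^ (k + 1) ≠ 1) (hq : 2 ≤ q)
    {σ : Type*} [Finite σ] (L : MvPowerSeries σ K) (hL : constantCoeff L = 0) :
    ∃ φ : MvPowerSeries σ K, constantCoeff φ = 0 ∧ Agree φ L ∧
      Semi (ϖ • (PowerSeries.X : PowerSeries K)) (ltf ϖ q) φ := by
  obtain ⟨φ, h0, h1, h2⟩ := exists_of_hdiv (constantCoeff_smul_X ϖ) (coeff_one_smul_X ϖ)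
    (constantCoeff_ltf ϖ hq) (coeff_one_ltf ϖ hq)
    (fun φ _ e he => (isUnit_iff_ne_zero.mpr (sub_pow_ne_zero hϖ0 hϖ _ he)).dvd) L hL
  exact ⟨φ, h0, h1, semi_iff.mpr h2⟩

theorem unique_log (hϖ0 : ϖ ≠ 0) (hϖ : ∀ k : ℕ, ϖ ^ (k + 1) ≠ 1) (hq : 2 ≤ q)
    {σ : Type*} [Finite σ] {φ ψ : MvPowerSeries σ K}
    (hφ : constantCoeff φ = 0) (hψ : constantCoeff ψ = 0)
    (hSφ : Semi (ϖ • (PowerSeries.X : PowerSeries K)) (ltf ϖ q) φ)
    (hSψ : Semi (ϖ • (PowerSeries.X : PowerSeries K)) (ltf ϖ q) ψ)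
    (h : Agree φ ψ) : φ = ψ :=
  unique (coeff_one_smul_X ϖ) (constantCoeff_ltf ϖ hq) (coeff_one_ltf ϖ hq)
    (fun m hm _ hx => (mul_eq_zero.mp hx).resolve_left (sub_pow_ne_zero hϖ0 hϖ m hm))
    hφ hψ ((semi_iff.mp hSφ).trans (semi_iff.mp hSψ).symm) h

theorem semi_lin_unit_iff {c : K} {f₂ ℓ : PowerSeries K} (h0 : ℓ.constantCoeff = 0) :
    Semi (c • (PowerSeries.X : PowerSeries K)) f₂ (ℓ : MvPowerSeries Unit K) ↔
      PowerSeries.subst f₂ ℓ = c • ℓ := by
  rw [semi_lin_iff h0, av_unit]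
  exact eq_comm

end Field

section Log

variable {O : Type*} [CommRing O] [IsDomain O] [IsDiscreteValuationRing O]
  [Finite (IsLocalRing.ResidueField O)] {π : O}
  {K : Type*} [Field K] [Algebra O K] [IsFractionRing O K]

local notation "fLT" π => ltf π (Nat.card (IsLocalRing.ResidueField O))

/-- S15052 -/
theorem exists_logarithm (hπ : Irreducible π) (F : FormalGroup O)
    (hF : PowerSeries.subst F.toPowerSeries (fLT π) =
      MvPowerSeries.subst (fun i : Fin 2 => PowerSeries.subst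
        (MvPowerSeries.X i : MvPowerSeries (Fin 2) O) (fLT π)) F.toPowerSeries) :
    ∃ ℓ : PowerSeries K, (ℓ.constantCoeff = 0 ∧ ℓ.coeff 1 = 1 ∧
      PowerSeries.subst (PowerSeries.map (algebraMap O K) (fLT π)) ℓ = algebraMap O K π • ℓ) ∧
      (∀ ℓ' : PowerSeries K, ℓ'.constantCoeff = 0 → ℓ'.coeff 1 = 1 →
        PowerSeries.subst (PowerSeries.map (algebraMap O K) (fLT π)) ℓ' =
          algebraMap O K π • ℓ' → ℓ' = ℓ) ∧
      PowerSeries.subst ((F.toPowerSeries).map (algebraMap O K)) ℓ =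
        PowerSeries.subst (MvPowerSeries.X (0 : Fin 2) : MvPowerSeries (Fin 2) K) ℓ +
          PowerSeries.subst (MvPowerSeries.X (1 : Fin 2) : MvPowerSeries (Fin 2) K) ℓ ∧
      (∀ (α : O) (g : PowerSeries O), g.constantCoeff = 0 → g.coeff 1 = α →
        PowerSeries.subst g (fLT π) = PowerSeries.subst (fLT π) g →
        PowerSeries.subst (PowerSeries.map (algebraMap O K) g) ℓ = algebraMap O K α • ℓ) := by
  set q := Nat.card (IsLocalRing.ResidueField O) with hqdef
  have hq : 2 ≤ q := two_le_card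
  have h0f := constantCoeff_ltf π hq
  set ϖ : K := algebraMap O K π with hϖdef
  have hinj : Function.Injective (algebraMap O K) := IsFractionRing.injective O K
  have hϖ0 : ϖ ≠ 0 := by
    intro h
    apply hπ.ne_zero
    apply hinj
    rw [map_zero]; exact h
  have hϖ : ∀ k : ℕ, ϖ ^ (k + 1) ≠ 1 := by
    intro k h
    have : π ^ (k + 1) = 1 := by
      apply hinj
      rw [map_pow, map_one]; exact h
    exact hπ.not_isUnit (IsUnit.of_pow_eq_one this (by omega))
  have h0fK := constantCoeff_ltf ϖ hq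
  rw [map_ltf]
  have hX0 : constantCoeff ((1 : K) • (PowerSeries.X : PowerSeries K) : MvPowerSeries Unit K)
      = 0 := constantCoeff_smul_X 1
  obtain ⟨ℓ, h0, hA, hS⟩ := exists_log hϖ0 hϖ hq (σ := Unit)
    ((1 : K) • (PowerSeries.X : PowerSeries K)) hX0
  have hℓ1 : PowerSeries.coeff 1 ℓ = 1 := by
    rw [coeff_one_of_agree (g := ℓ) (g' := (1 : K) • (PowerSeries.X : PowerSeries K)) hA]
    simp
  refine ⟨ℓ, ⟨h0, hℓ1, (semi_lin_unit_iff h0).mp hS⟩, ?_, ?_, ?_⟩
  · intro ℓ' h0' h1' hS'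
    exact unique_log hϖ0 hϖ hq h0' h0 ((semi_lin_unit_iff h0').mpr hS') hS
      ((agree_smul_X h0' h1').trans hA.symm)
  · -- additivity
    have hFS : Semi (fLT π) (fLT π) F.toPowerSeries := hF
    have hFK : Semi (ltf ϖ q) (ltf ϖ q) (F.toPowerSeries.map (algebraMap O K)) := by
      have := Semi.map (algebraMap O K) h0f F.zero_constantCoeff hFS
      rwa [map_ltf] at this
    have hFK0 : constantCoeff (F.toPowerSeries.map (algebraMap O K)) = 0 := by
      rw [constantCoeff_map, F.zero_constantCoeff, map_zero]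
    have hL : Semi (ϖ • (PowerSeries.X : PowerSeries K)) (ltf ϖ q)
        (PowerSeries.subst (F.toPowerSeries.map (algebraMap O K)) ℓ) :=
      Semi.comp (σ := Unit) (τ := Fin 2) h0fK h0fK h0 hS
        (b := fun _ => F.toPowerSeries.map (algebraMap O K)) (fun _ => hFK0) (fun _ => hFK)
    have hL0 : constantCoeff (PowerSeries.subst (F.toPowerSeries.map (algebraMap O K)) ℓ) = 0 := by
      rw [constantCoeff_subst_of_constantCoeff_zero hFK0]; exact h0
    have hRi : ∀ i : Fin 2, Semi (ϖ • (PowerSeries.X : PowerSeries K)) (ltf ϖ q)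
        (PowerSeries.subst (X i : MvPowerSeries (Fin 2) K) ℓ) := fun i =>
      Semi.comp (σ := Unit) (τ := Fin 2) h0fK h0fK h0 hS (b := fun _ => X i)
        (fun _ => constantCoeff_X i) (fun _ => semi_X _ h0fK i)
    have hRi0 : ∀ i : Fin 2,
        constantCoeff (PowerSeries.subst (X i : MvPowerSeries (Fin 2) K) ℓ) = 0 := fun i => by
      rw [constantCoeff_subst_of_constantCoeff_zero (constantCoeff_X i)]; exact h0
    have hR := Semi.add_lin h0fK (hRi0 0) (hRi0 1) (hRi 0) (hRi 1)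
    have hR0 : constantCoeff (PowerSeries.subst (X 0 : MvPowerSeries (Fin 2) K) ℓ +
        PowerSeries.subst (X 1 : MvPowerSeries (Fin 2) K) ℓ) = 0 := by
      rw [map_add, hRi0 0, hRi0 1, add_zero]
    refine unique_log hϖ0 hϖ hq hL0 hR0 hL hR ?_
    have A1 := agree_psubst (b := F.toPowerSeries.map (algebraMap O K)) hFK0 hA
    rw [psubst_smul_X hFK0, one_smul] at A1
    have A2 : Agree (F.toPowerSeries.map (algebraMap O K)) (X 0 + X 1) :=
      agree_X0_add_X1 hFK0 (by rw [coeff_map, F.lin_coeff_X, map_one])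
        (by rw [coeff_map, F.lin_coeff_Y, map_one])
    have A3 : ∀ i : Fin 2, Agree (PowerSeries.subst (X i : MvPowerSeries (Fin 2) K) ℓ) (X i) :=
      fun i => by
        have := agree_psubst (b := (X i : MvPowerSeries (Fin 2) K)) (constantCoeff_X i) hA
        rwa [psubst_smul_X (constantCoeff_X i), one_smul] at this
    exact (A1.trans A2).trans ((A3 0).add (A3 1)).symm
  · intro α g hg0 hg1 hgf
    have Sg : Semi (fLT π) (fLT π) (g : MvPowerSeries Unit O) := semi_unit_iff.mpr hgf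
    have hgK : Semi (ltf ϖ q) (ltf ϖ q)
        (PowerSeries.map (algebraMap O K) g : MvPowerSeries Unit K) := by
      have := Semi.map (algebraMap O K) h0f hg0 Sg
      rwa [map_ltf] at this
    have hgK0 : PowerSeries.constantCoeff (PowerSeries.map (algebraMap O K) g) = 0 := by
      rw [← PowerSeries.coeff_zero_eq_constantCoeff_apply, PowerSeries.coeff_map,
        PowerSeries.coeff_zero_eq_constantCoeff_apply, hg0, map_zero]
    have hgK1 : PowerSeries.coeff 1 (PowerSeries.map (algebraMap O K) g) = algebraMap O K α := by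
      rw [PowerSeries.coeff_map, hg1]
    have hL : Semi (ϖ • (PowerSeries.X : PowerSeries K)) (ltf ϖ q)
        (PowerSeries.subst (PowerSeries.map (algebraMap O K) g) ℓ) :=
      Semi.comp (σ := Unit) (τ := Unit) h0fK h0fK h0 hS
        (b := fun _ => PowerSeries.map (algebraMap O K) g) (fun _ => hgK0) (fun _ => hgK)
    have hL0 : constantCoeff (PowerSeries.subst (PowerSeries.map (algebraMap O K) g) ℓ) = 0 := by
      rw [constantCoeff_subst_of_constantCoeff_zero hgK0]; exact h0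
    have hR := Semi.smul_lin h0fK h0 (algebraMap O K α) hS
    have hR0 : constantCoeff (algebraMap O K α • (ℓ : MvPowerSeries Unit K)) = 0 := by
      have : constantCoeff (ℓ : MvPowerSeries Unit K) = 0 := h0
      simp [this]
    refine unique_log hϖ0 hϖ hq hL0 hR0 hL hR ?_
    have A1 := agree_psubst (b := PowerSeries.map (algebraMap O K) g) hgK0 hA
    rw [psubst_smul_X hgK0, one_smul] at A1
    have A2 := agree_smul_X hgK0 hgK1
    have A3 := hA.smul (algebraMap O K α)
    rw [smul_smul, mul_one] at A3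
    exact (A1.trans A2).trans A3.symm

end Log

end Groth.Agent.Helper6.LubinTate
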