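import Mathlib

set_option autoImplicit false
set_option linter.style.haveILetI false
set_option linter.unusedSectionVars false

universe u

namespace Groth.Agent.Helper6.MC

open Module

section Phi
variable {k : Type u} [Field k] {V : ℕ → Type u} [∀ j, AddCommGroup (V j)] [∀ j, Module k (V j)]

/-- composite `V i → V j` of a chain of linear maps (junk for `j < i`). -/
noncomputable def Phi (F : ∀ j, V j →ₗ[k] V (j+1)) (i : ℕ) : (j : ℕ) → (V i →ₗ[k] V j)
  | 0 => if h : i = 0 then (by subst h; exact LinearMap.id) else 0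
  | j+1 => if h : i = j+1 then (by subst h; exact LinearMap.id) else (F j).comp (Phi F i j)

theorem Phi_self (F : ∀ j, V j →ₗ[k] V (j+1)) (i : ℕ) : Phi F i i = LinearMap.id := by
  cases i with
  | zero => rw [Phi, dif_pos rfl]
  | succ n => rw [Phi, dif_pos rfl]

theorem Phi_succ (F : ∀ j, V j →ₗ[k] V (j+1)) {i j : ℕ} (h : i ≤ j) :
    Phi F i (j+1) = (F j).comp (Phi F i j) := by
  rw [Phi.eq_2, dif_neg (by omega)]

theorem Phi_succ_left (F : ∀ j, V j →ₗ[k] V (j+1)) {i j : ℕ} (h : i < j) :
    Phi F i j = (Phi F (i+1) j).comp (F i) := by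
  induction j with
  | zero => omega
  | succ j ih =>
    rcases Nat.lt_succ_iff_lt_or_eq.mp h with h' | h'
    · rw [Phi_succ F (le_of_lt h'), ih h', Phi_succ F (Nat.succ_le_of_lt h'), LinearMap.comp_assoc]
    · subst h'
      rw [Phi_succ F le_rfl, Phi_self, Phi_self, LinearMap.comp_id, LinearMap.id_comp]

theorem range_Phi_succ (F : ∀ j, V j →ₗ[k] V (j+1)) {i j : ℕ} (h : i ≤ j) :
    LinearMap.range (Phi F i (j+1)) = (LinearMap.range (Phi F i j)).map (F j) := by
  rw [Phi_succ F h, LinearMap.range_comp]

theorem range_Phi_le (F : ∀ j, V j →ₗ[k] V (j+1)) {i j : ℕ} (h : i < j) :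
    LinearMap.range (Phi F i j) ≤ LinearMap.range (Phi F (i+1) j) := by
  rw [Phi_succ_left F h]; exact LinearMap.range_comp_le_range _ _

theorem ker_Phi_congr (F : ∀ j, V j →ₗ[k] V (j+1)) (i : ℕ) {t t' : ℕ} (h : t = t') :
    LinearMap.ker (Phi F i t) = LinearMap.ker (Phi F i t') := by
  subst h; rfl

end Phi

section LA
variable {k : Type u} [Field k]

theorem finrank_map_add {V V' : Type*} [AddCommGroup V] [Module k V] [AddCommGroup V'] [Module k V']
    [FiniteDimensional k V] (F : V →ₗ[k] V') (A : Submodule k V) :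
    finrank k (A.map F) + finrank k (A ⊓ LinearMap.ker F : Submodule k V) = finrank k A := by
  have h1 := LinearMap.finrank_range_add_finrank_ker (F.domRestrict A)
  rw [LinearMap.range_domRestrict, LinearMap.ker_domRestrict] at h1
  have h2 : finrank k ((LinearMap.ker F).comap A.subtype) =
      finrank k (A ⊓ LinearMap.ker F : Submodule k V) := by
    rw [← Submodule.map_comap_subtype]
    exact (Submodule.equivMapOfInjective A.subtype A.injective_subtype _).finrank_eq
  rw [← h2]; exact h1

theorem le_range_iff {W V : Type*} [AddCommGroup W] [Module k W] [AddCommGroup V] [Module k V]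
    [FiniteDimensional k V] (u : W →ₗ[k] V) (hu : Function.Injective u) (K : Submodule k V) :
    K ≤ LinearMap.range u ↔ finrank k (K.comap u) = finrank k K := by
  have h1 : finrank k (K.comap u) = finrank k ((K.comap u).map u) :=
    (Submodule.equivMapOfInjective u hu _).finrank_eq
  rw [Submodule.map_comap_eq] at h1
  constructor
  · intro h; rw [h1, inf_eq_right.mpr h]
  · intro h
    have : LinearMap.range u ⊓ K = K :=
      Submodule.eq_of_le_of_finrank_eq inf_le_right (by rw [← h1, h])
    rw [← this]; exact inf_le_left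

theorem map_eq_of_surj {W V V' : Type*} [AddCommGroup W] [Module k W] [AddCommGroup V] [Module k V]
    [AddCommGroup V'] [Module k V'] (u : W →ₗ[k] V) (u' : W →ₗ[k] V')
    (hs : Function.Surjective u) (hs' : Function.Surjective u') (g : V ≃ₗ[k] V')
    (hg : ∀ w, g (u w) = u' w) (K : Submodule k V) (K' : Submodule k V')
    (hc : K.comap u = K'.comap u') : K.map (g : V →ₗ[k] V') = K' := by
  ext y
  constructor
  · rintro ⟨x, hx, rfl⟩
    obtain ⟨w, rfl⟩ := hs x
    have hw : w ∈ K.comap u := hx
    rw [hc] at hw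
    show g (u w) ∈ K'
    rw [hg]; exact hw
  · intro hy
    obtain ⟨w, rfl⟩ := hs' y
    have hw : w ∈ K'.comap u' := hy
    rw [← hc] at hw
    exact ⟨u w, hw, hg w⟩

theorem coprod_key {W V : Type*} [AddCommGroup W] [Module k W] [AddCommGroup V] [Module k V]
    (u : W →ₗ[k] V) (x : V) (hx : x ∉ LinearMap.range u) (c : k) (w : W)
    (h : u w + c • x ∈ LinearMap.range u) : c = 0 := by
  by_contra hc0
  apply hx
  have h1 : c • x ∈ LinearMap.range u := by
    have := Submodule.sub_mem _ h (LinearMap.mem_range_self u w)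
    simpa using this
  have h2 := Submodule.smul_mem _ c⁻¹ h1
  rwa [smul_smul, inv_mul_cancel₀ hc0, one_smul] at h2

theorem coprod_apply' {W V : Type*} [AddCommGroup W] [Module k W] [AddCommGroup V] [Module k V]
    (u : W →ₗ[k] V) (x : V) (p : W × k) :
    (u.coprod (LinearMap.toSpanSingleton k V x)) p = u p.1 + p.2 • x := by
  simp [LinearMap.coprod_apply, LinearMap.toSpanSingleton_apply]

theorem coprod_inj {W V : Type*} [AddCommGroup W] [Module k W] [AddCommGroup V] [Module k V]
    (u : W →ₗ[k] V) (hu : Function.Injective u) (x : V) (hx : x ∉ LinearMap.range u) :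
    Function.Injective (u.coprod (LinearMap.toSpanSingleton k V x)) := by
  rw [← LinearMap.ker_eq_bot, LinearMap.ker_eq_bot']
  rintro ⟨w, c⟩ h
  rw [coprod_apply'] at h
  have hc0 : c = 0 := coprod_key u x hx c w (by rw [h]; exact Submodule.zero_mem _)
  subst hc0
  simp only [zero_smul, add_zero] at h
  have hw : w = 0 := hu (by rw [h, map_zero])
  subst hw
  rfl

theorem flag_extend {V V' : Type u} [AddCommGroup V] [Module k V] [FiniteDimensional k V]
    [AddCommGroup V'] [Module k V'] [FiniteDimensional k V']
    (K : ℕ → Submodule k V) (K' : ℕ → Submodule k V') (hK : Monotone K) (hK' : Monotone K')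
    (hdim : finrank k V = finrank k V') (hKdim : ∀ s, finrank k (K s) = finrank k (K' s)) :
    ∀ (n : ℕ) (W : Type u) [AddCommGroup W] [Module k W] [FiniteDimensional k W]
      (u : W →ₗ[k] V) (u' : W →ₗ[k] V'),
      Function.Injective u → Function.Injective u' →
      (∀ s, (K s).comap u = (K' s).comap u') →
      finrank k V = finrank k W + n →
      ∃ g : V ≃ₗ[k] V', (∀ w, g (u w) = u' w) ∧ ∀ s, (K s).map (g : V →ₗ[k] V') = K' s := by
  intro n
  induction n with
  | zero =>
    intro W _ _ _ u u' hu hu' hc hn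
    have hs : Function.Surjective u :=
      (LinearMap.injective_iff_surjective_of_finrank_eq_finrank (by omega)).mp hu
    have hs' : Function.Surjective u' :=
      (LinearMap.injective_iff_surjective_of_finrank_eq_finrank (by omega)).mp hu'
    obtain ⟨g, hg⟩ : ∃ g : V ≃ₗ[k] V', ∀ w, g (u w) = u' w := by
      refine ⟨(LinearEquiv.ofBijective u ⟨hu, hs⟩).symm.trans (LinearEquiv.ofBijective u' ⟨hu', hs'⟩),
        fun w => ?_⟩
      have : (LinearEquiv.ofBijective u ⟨hu, hs⟩).symm (u w) = w :=
        (LinearEquiv.symm_apply_eq _).mpr rfl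
      rw [LinearEquiv.trans_apply, this]; rfl
    exact ⟨g, hg, fun s => map_eq_of_surj u u' hs hs' g hg _ _ (hc s)⟩
  | succ n ih =>
    intro W _ _ _ u u' hu hu' hc hn
    have hB : ∀ s, K s ≤ LinearMap.range u ↔ K' s ≤ LinearMap.range u' := by
      intro s
      rw [le_range_iff u hu, le_range_iff u' hu', hc s, hKdim s]
    have hru : LinearMap.range u ≠ ⊤ := by
      intro h
      have := LinearMap.finrank_range_of_inj hu
      rw [h, finrank_top] at this; omega
    have hru' : LinearMap.range u' ≠ ⊤ := by
      intro h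
      have := LinearMap.finrank_range_of_inj hu'
      rw [h, finrank_top] at this; omega
    obtain ⟨x, x', hx, hx', hA⟩ : ∃ (x : V) (x' : V'), x ∉ LinearMap.range u ∧
        x' ∉ LinearMap.range u' ∧ ∀ s, (x ∈ K s ∧ x' ∈ K' s) ∨
          (K s ≤ LinearMap.range u ∧ K' s ≤ LinearMap.range u') := by
      by_cases h : ∃ t, ¬ K t ≤ LinearMap.range u
      · classical
        have ht := Nat.find_spec h
        have ht' : ¬ K' (Nat.find h) ≤ LinearMap.range u' := fun hh => ht ((hB _).mpr hh)
        obtain ⟨x, hxK, hx⟩ := SetLike.not_le_iff_exists.mp ht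
        obtain ⟨x', hxK', hx'⟩ := SetLike.not_le_iff_exists.mp ht'
        refine ⟨x, x', hx, hx', fun s => ?_⟩
        by_cases hs : Nat.find h ≤ s
        · exact Or.inl ⟨hK hs hxK, hK' hs hxK'⟩
        · have := Nat.find_min h (not_le.mp hs)
          rw [not_not] at this
          exact Or.inr ⟨this, (hB s).mp this⟩
      · push Not at h
        obtain ⟨x, hx⟩ : ∃ x, x ∉ LinearMap.range u := by
          by_contra hh; push Not at hh; exact hru (eq_top_iff.mpr fun x _ => hh x)
        obtain ⟨x', hx'⟩ : ∃ x', x' ∉ LinearMap.range u' := by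
          by_contra hh; push Not at hh; exact hru' (eq_top_iff.mpr fun x _ => hh x)
        exact ⟨x, x', hx, hx', fun s => Or.inr ⟨h s, (hB s).mp (h s)⟩⟩
    have hc₂ : ∀ s, (K s).comap (u.coprod (LinearMap.toSpanSingleton k V x)) =
        (K' s).comap (u'.coprod (LinearMap.toSpanSingleton k V' x')) := by
      intro s
      ext ⟨w, c⟩
      simp only [Submodule.mem_comap, coprod_apply']
      have hw : u w ∈ K s ↔ u' w ∈ K' s := SetLike.ext_iff.mp (hc s) w
      rcases hA s with ⟨h1, h1'⟩ | ⟨h2, h2'⟩
      · rw [Submodule.add_mem_iff_left _ (Submodule.smul_mem _ _ h1),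
          Submodule.add_mem_iff_left _ (Submodule.smul_mem _ _ h1')]
        exact hw
      · constructor
        · intro h
          have hc0 := coprod_key u x hx c w (h2 h)
          subst hc0
          simp only [zero_smul, add_zero] at h ⊢
          exact hw.mp h
        · intro h
          have hc0 := coprod_key u' x' hx' c w (h2' h)
          subst hc0
          simp only [zero_smul, add_zero] at h ⊢
          exact hw.mpr h
    obtain ⟨g, hg, hmap⟩ := ih (W × k) _ _ (coprod_inj u hu x hx) (coprod_inj u' hu' x' hx') hc₂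
      (by rw [Module.finrank_prod, Module.finrank_self]; omega)
    refine ⟨g, fun w => ?_, hmap⟩
    have := hg (w, 0)
    simpa [coprod_apply'] using this

end LA

end Groth.Agent.Helper6.MC
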