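import Mathlib
import Groth.Prelude.Def_W4c1btstackcountsChain
import Groth.Agent.Helper6.MC1

set_option autoImplicit false
set_option linter.style.haveILetI false
set_option linter.unusedSectionVars false

universe u

namespace Groth.Agent.Helper6.MC

open Module W4c1btstackcounts

variable {k : Type u} [Field k] {d : ℕ → ℕ}

/-- the linear map of the `j`-th matrix. -/
noncomputable def FF (f : (i : ℕ) → Matrix (Fin (d (i + 1))) (Fin (d i)) k) (j : ℕ) :
    (Fin (d j) → k) →ₗ[k] (Fin (d (j+1)) → k) := Matrix.toLin' (f j)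

theorem iterImage_eq (f : (i : ℕ) → Matrix (Fin (d (i + 1))) (Fin (d i)) k) (i n : ℕ) :
    iterImage f i n = LinearMap.range (Phi (FF f) i (i+n)) := by
  induction n with
  | zero =>
    show (⊤ : Submodule k (Fin (d i) → k)) = LinearMap.range (Phi (FF f) i i)
    rw [Phi_self, LinearMap.range_id]
  | succ n ih =>
    show (iterImage f i n).map (Matrix.toLin' (f (i+n))) =
      LinearMap.range (Phi (FF f) i (i+n+1))
    rw [ih, range_Phi_succ (FF f) (Nat.le_add_right i n)]
    rfl

theorem rankArray_eq (f : (i : ℕ) → Matrix (Fin (d (i + 1))) (Fin (d i)) k) {i j : ℕ}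
    (h : i ≤ j) : rankArray f i j = finrank k (LinearMap.range (Phi (FF f) i j)) := by
  obtain ⟨n, rfl⟩ := Nat.exists_eq_add_of_le h
  unfold rankArray
  rw [if_pos h, Nat.add_sub_cancel_left, iterImage_eq]

/-- linear equivalence of an invertible matrix. -/
noncomputable def glEquiv {m : ℕ} (g : Matrix.GeneralLinearGroup (Fin m) k) :
    (Fin m → k) ≃ₗ[k] (Fin m → k) :=
  LinearEquiv.ofLinearMap (Matrix.toLin' (g : Matrix (Fin m) (Fin m) k))
    (Matrix.toLin' ((g⁻¹ : Matrix.GeneralLinearGroup (Fin m) k) : Matrix (Fin m) (Fin m) k))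
    (by rw [← Matrix.toLin'_mul, ← Units.val_mul, mul_inv_cancel, Units.val_one, Matrix.toLin'_one])
    (by rw [← Matrix.toLin'_mul, ← Units.val_mul, inv_mul_cancel, Units.val_one, Matrix.toLin'_one])

theorem glEquiv_coe {m : ℕ} (g : Matrix.GeneralLinearGroup (Fin m) k) :
    ((glEquiv g : (Fin m → k) ≃ₗ[k] (Fin m → k)) : (Fin m → k) →ₗ[k] (Fin m → k)) =
      Matrix.toLin' (g : Matrix (Fin m) (Fin m) k) := rfl

theorem iterImage_conj (g : (j : ℕ) → Matrix.GeneralLinearGroup (Fin (d j)) k)
    (f : (i : ℕ) → Matrix (Fin (d (i + 1))) (Fin (d i)) k) (i n : ℕ) :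
    iterImage (conj g f) i n =
      (iterImage f i n).map (Matrix.toLin' ((g (i+n)) : Matrix (Fin (d (i+n))) (Fin (d (i+n))) k)) := by
  induction n with
  | zero =>
    show (⊤ : Submodule k (Fin (d i) → k)) =
      (⊤ : Submodule k (Fin (d i) → k)).map (Matrix.toLin' ((g i) : Matrix (Fin (d i)) (Fin (d i)) k))
    rw [Submodule.map_top, ← glEquiv_coe, LinearEquiv.range]
  | succ n ih =>
    show (iterImage (conj g f) i n).map (Matrix.toLin' (conj g f (i+n))) =
      ((iterImage f i n).map (Matrix.toLin' (f (i+n)))).map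
        (Matrix.toLin' ((g (i+n+1)) : Matrix (Fin (d (i+n+1))) (Fin (d (i+n+1))) k))
    rw [ih, ← Submodule.map_comp, ← Submodule.map_comp]
    congr 1
    rw [← Matrix.toLin'_mul, ← Matrix.toLin'_mul]
    congr 1
    unfold conj
    rw [Matrix.mul_assoc, ← Units.val_mul, inv_mul_cancel, Units.val_one, Matrix.mul_one]

theorem rankArray_conj (g : (j : ℕ) → Matrix.GeneralLinearGroup (Fin (d j)) k)
    (f : (i : ℕ) → Matrix (Fin (d (i + 1))) (Fin (d i)) k) (i j : ℕ) :
    rankArray (conj g f) i j = rankArray f i j := by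
  unfold rankArray
  by_cases h : i ≤ j
  · rw [if_pos h, if_pos h, iterImage_conj, ← glEquiv_coe]
    exact LinearEquiv.finrank_map_eq _ _
  · rw [if_neg h, if_neg h]

theorem isRankArray_rankArray (r : ℕ) (f : (i : ℕ) → Matrix (Fin (d (i + 1))) (Fin (d i)) k) :
    IsRankArray d r (rankArray f) := by
  refine ⟨?_, ?_, ?_, ?_⟩
  · intro j _ _
    rw [rankArray_eq f le_rfl, Phi_self, LinearMap.range_id, finrank_top, Module.finrank_fin_fun]
  · intro i j _ hij _
    rw [rankArray_eq f (le_of_lt hij), rankArray_eq f (Nat.succ_le_of_lt hij)]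
    exact Submodule.finrank_mono (range_Phi_le (FF f) hij)
  · intro i j _ hij _
    rw [rankArray_eq f (Nat.le_succ_of_le hij), rankArray_eq f hij, range_Phi_succ (FF f) hij]
    exact Submodule.finrank_map_le _ _
  · intro i j hi hij _
    obtain ⟨i', rfl⟩ : ∃ i', i = i' + 1 := ⟨i - 1, by omega⟩
    rw [Nat.add_sub_cancel]
    have hi'j : i' ≤ j := by omega
    rw [rankArray_eq f (Nat.le_succ_of_le hij), rankArray_eq f hi'j, rankArray_eq f hij,
      rankArray_eq f (Nat.le_succ_of_le hi'j), range_Phi_succ (FF f) hij,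
      range_Phi_succ (FF f) hi'j]
    have hBA : LinearMap.range (Phi (FF f) i' j) ≤ LinearMap.range (Phi (FF f) (i'+1) j) :=
      range_Phi_le (FF f) (by omega)
    have hA := finrank_map_add (FF f j) (LinearMap.range (Phi (FF f) (i'+1) j))
    have hB := finrank_map_add (FF f j) (LinearMap.range (Phi (FF f) i' j))
    have hm : finrank k (LinearMap.range (Phi (FF f) i' j) ⊓ LinearMap.ker (FF f j) :
          Submodule k (Fin (d j) → k)) ≤
        finrank k (LinearMap.range (Phi (FF f) (i'+1) j) ⊓ LinearMap.ker (FF f j) :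
          Submodule k (Fin (d j) → k)) :=
      Submodule.finrank_mono (inf_le_inf_right _ hBA)
    have key : ∀ (a b a' b' x y : ℕ), a' + x = a → b' + y = b → y ≤ x → a' + b ≤ a + b' := by
      intros; omega
    exact key _ _ _ _ _ _ hA hB hm

end Groth.Agent.Helper6.MC
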