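import Mathlib
import Groth.Prelude.Def_W4c1btstackcountsChain
import Groth.Agent.Helper6.MC2

set_option autoImplicit false
set_option linter.style.haveILetI false
set_option linter.unusedSectionVars false

universe u

namespace Groth.Agent.Helper6.MC

open Module W4c1btstackcounts

variable {k : Type u} [Field k]

/-- span of the first `t` standard basis vectors. -/
def E (k : Type u) [Field k] (m t : ℕ) : Submodule k (Fin m → k) :=
  Submodule.span k ((fun c : Fin m => (Pi.single c 1 : Fin m → k)) '' {c | c.val < t})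

theorem mem_E_of {m t : ℕ} (v : Fin m → k) (h : ∀ c : Fin m, t ≤ c.val → v c = 0) :
    v ∈ E k m t := by
  have hv : v = ∑ c, v c • (Pi.single c 1 : Fin m → k) := by
    ext c'
    simp [Finset.sum_apply, Pi.single_apply]
  rw [hv]
  refine Submodule.sum_mem _ fun c _ => ?_
  by_cases hc : c.val < t
  · exact Submodule.smul_mem _ _ (Submodule.subset_span ⟨c, hc, rfl⟩)
  · rw [h c (not_lt.mp hc), zero_smul]; exact Submodule.zero_mem _

theorem E_mono {m t t' : ℕ} (h : t ≤ t') : E k m t ≤ E k m t' :=
  Submodule.span_mono (Set.image_mono fun _ hc => lt_of_lt_of_le hc h)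

theorem E_top (m : ℕ) : E k m m = ⊤ :=
  eq_top_iff.mpr fun v _ => mem_E_of v fun c hc => absurd c.isLt (not_lt.mpr hc)

theorem finrank_E {m t : ℕ} (h : t ≤ m) : finrank k (E k m t) = t := by
  have hfun : (fun c : Fin t => (Pi.single (Fin.castLE h c) 1 : Fin m → k)) =
      (Pi.basisFun k (Fin m)) ∘ Fin.castLE h := by
    funext c; simp
  have hli : LinearIndependent k (fun c : Fin t => (Pi.single (Fin.castLE h c) 1 : Fin m → k)) := by
    rw [hfun]
    exact (Pi.basisFun k (Fin m)).linearIndependent.comp _ (Fin.castLE_injective h)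
  have hset : (fun c : Fin m => (Pi.single c 1 : Fin m → k)) '' {c | c.val < t} =
      Set.range (fun c : Fin t => (Pi.single (Fin.castLE h c) 1 : Fin m → k)) := by
    ext v; constructor
    · rintro ⟨c, hc, rfl⟩
      exact ⟨⟨c.val, hc⟩, by simp [Fin.castLE]⟩
    · rintro ⟨c, rfl⟩
      exact ⟨Fin.castLE h c, by simp, rfl⟩
  unfold E
  rw [hset, finrank_span_eq_card hli, Fintype.card_fin]

/-- span of the first `t` columns. -/
def colspan {m m' : ℕ} (M : Matrix (Fin m') (Fin m) k) (t : ℕ) : Submodule k (Fin m' → k) :=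
  Submodule.span k ((fun c : Fin m => (fun c' => M c' c)) '' {c | c.val < t})

theorem map_E {m m' : ℕ} (M : Matrix (Fin m') (Fin m) k) (t : ℕ) :
    (E k m t).map (Matrix.toLin' M) = colspan M t := by
  unfold E colspan
  rw [Submodule.map_span, Set.image_image]
  refine congrArg _ (Set.image_congr fun c _ => ?_)
  rw [Matrix.toLin'_apply, Matrix.mulVec_single_one]; rfl

theorem colspan_congr {m m' : ℕ} (M M₀ : Matrix (Fin m') (Fin m) k) (t : ℕ)
    (h : ∀ c : Fin m, c.val < t → ∀ c', M c' c = M₀ c' c) : colspan M t = colspan M₀ t := by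
  unfold colspan
  refine congrArg _ (Set.image_congr fun c hc => ?_)
  funext c'; exact h c hc c'

theorem colspan_mono {m m' : ℕ} (M : Matrix (Fin m') (Fin m) k) {t t' : ℕ} (h : t ≤ t') :
    colspan M t ≤ colspan M t' :=
  Submodule.span_mono (Set.image_mono fun _ hc => lt_of_lt_of_le hc h)

theorem mono_of_step (p : ℕ → ℕ) (i : ℕ) :
    ∀ j, i ≤ j → (∀ i', i ≤ i' → i' < j → p i' ≤ p (i'+1)) → p i ≤ p j := by
  intro j hij
  induction j, hij using Nat.le_induction with
  | base => intro _; exact le_rfl
  | succ j hij ih =>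
    intro h
    exact (ih fun i' h1 h2 => h i' h1 (by omega)).trans (h j hij (by omega))

theorem exists_matrix (m m' : ℕ) (p q : ℕ → ℕ) (hp0 : p 0 = 0) (hq0 : q 0 = 0) :
    ∀ j, (∀ i < j, q i ≤ q (i+1)) → (∀ i < j, q (i+1) + p i ≤ p (i+1) + q i) →
      p j ≤ m → q j ≤ m' →
      ∃ M : Matrix (Fin m') (Fin m) k, ∀ i ≤ j, colspan M (p i) = E k m' (q i) := by
  intro j
  induction j with
  | zero =>
    intro _ _ _ _
    refine ⟨0, fun i hi => ?_⟩
    have : i = 0 := by omega
    subst this
    unfold colspan E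
    rw [hp0, hq0]
    simp
  | succ j ih =>
    intro hq hineq hpm hqm
    have hpstep : ∀ i < j+1, p i ≤ p (i+1) := fun i hi => by
      have := hq i hi; have := hineq i hi; omega
    have hpj : p j ≤ p (j+1) := hpstep j (by omega)
    have hqj : q j ≤ q (j+1) := hq j (by omega)
    have hin := hineq j (by omega)
    obtain ⟨M₀, hM₀⟩ := ih (fun i hi => hq i (by omega)) (fun i hi => hineq i (by omega))
      (by omega) (by omega)
    have hpmono : ∀ i ≤ j, p i ≤ p j := fun i hi =>
      mono_of_step p i j hi (fun i' _ h2 => hpstep i' (by omega))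
    classical
    obtain ⟨M, hM⟩ : ∃ M : Matrix (Fin m') (Fin m) k, M = fun c' c =>
        if c.val < p j then M₀ c' c
        else if (c'.val = q j + (c.val - p j) ∧ c'.val < q (j+1)) then 1 else 0 := ⟨_, rfl⟩
    have hMlt : ∀ c : Fin m, c.val < p j → ∀ c', M c' c = M₀ c' c := fun c hc c' => by
      rw [hM]; simp only [if_pos hc]
    have hMge : ∀ c : Fin m, p j ≤ c.val → ∀ c', M c' c =
        if (c'.val = q j + (c.val - p j) ∧ c'.val < q (j+1)) then 1 else 0 := fun c hc c' => by
      rw [hM]; simp only [if_neg (not_lt.mpr hc)]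
    have hcs : colspan M (p j) = E k m' (q j) := by
      rw [colspan_congr M M₀ (p j) hMlt]; exact hM₀ j le_rfl
    refine ⟨M, fun i hi => ?_⟩
    rcases Nat.lt_or_ge i (j+1) with h | h
    · have hij : i ≤ j := by omega
      rw [colspan_congr M M₀ (p i) (fun c hc => hMlt c (lt_of_lt_of_le hc (hpmono i hij)))]
      exact hM₀ i hij
    · have : i = j+1 := by omega
      subst this
      apply le_antisymm
      · unfold colspan
        rw [Submodule.span_le]
        rintro _ ⟨c, hc, rfl⟩
        by_cases hcp : c.val < p j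
        · have : (fun c' => M c' c) ∈ colspan M (p j) := Submodule.subset_span ⟨c, hcp, rfl⟩
          rw [hcs] at this
          exact E_mono hqj this
        · apply mem_E_of
          intro c' hc'
          show M c' c = 0
          rw [hMge c (not_lt.mp hcp) c', if_neg (by omega)]
      · unfold E
        rw [Submodule.span_le]
        rintro _ ⟨c', hc', rfl⟩
        by_cases hcq : c'.val < q j
        · have : (Pi.single c' 1 : Fin m' → k) ∈ E k m' (q j) :=
            Submodule.subset_span ⟨c', hcq, rfl⟩
          rw [← hcs] at this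
          exact colspan_mono M hpj this
        · have hc'' : c'.val < q (j+1) := hc'
          have hlt : p j + (c'.val - q j) < m := by omega
          refine Submodule.subset_span ⟨⟨p j + (c'.val - q j), hlt⟩, ?_, ?_⟩
          · show p j + (c'.val - q j) < p (j+1); omega
          · funext c''
            show M c'' ⟨p j + (c'.val - q j), hlt⟩ = (Pi.single c' 1 : Fin m' → k) c''
            rw [hMge _ (by simp) c'', Pi.single_apply]
            by_cases hcc : c'' = c'
            · subst hcc
              rw [if_pos rfl, if_pos]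
              constructor
              · simp only; omega
              · exact hc''
            · rw [if_neg hcc, if_neg]
              rintro ⟨h1, _⟩
              apply hcc
              ext
              simp only at h1
              omega

theorem exists_chain (d : ℕ → ℕ) (r : ℕ) (a : ℕ → ℕ → ℕ) (ha : IsRankArray d r a) :
    ∃ f : (i : ℕ) → Matrix (Fin (d (i + 1))) (Fin (d i)) k,
      ∀ j, 1 ≤ j → j < r → ∀ i, 1 ≤ i → i ≤ j →
        colspan (f j) (a i j) = E k (d (j+1)) (a i (j+1)) := by
  obtain ⟨ha1, ha2, ha3, ha4⟩ := ha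
  have : ∀ j, ∃ M : Matrix (Fin (d (j+1))) (Fin (d j)) k, 1 ≤ j → j < r → ∀ i, 1 ≤ i → i ≤ j →
      colspan M (a i j) = E k (d (j+1)) (a i (j+1)) := by
    intro j
    by_cases h : 1 ≤ j ∧ j < r
    · obtain ⟨h1, h2⟩ := h
      have hj0 : j ≠ 0 := by omega
      have hq : ∀ i < j, (fun i => if i = 0 then 0 else a i (j+1)) i ≤
          (fun i => if i = 0 then 0 else a i (j+1)) (i+1) := by
        intro i hi
        beta_reduce
        by_cases h0 : i = 0
        · subst h0; simp
        · rw [if_neg h0, if_neg (Nat.succ_ne_zero i)]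
          exact ha2 i (j+1) (by omega) (by omega) (by omega)
      have hineq : ∀ i < j, (fun i => if i = 0 then 0 else a i (j+1)) (i+1) +
          (fun i => if i = 0 then 0 else a i j) i ≤
          (fun i => if i = 0 then 0 else a i j) (i+1) +
          (fun i => if i = 0 then 0 else a i (j+1)) i := by
        intro i hi
        beta_reduce
        by_cases h0 : i = 0
        · subst h0
          simp only [if_neg (Nat.succ_ne_zero 0)]
          exact ha3 1 j le_rfl h1 h2
        · rw [if_neg h0, if_neg (Nat.succ_ne_zero i), if_neg h0]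
          have := ha4 (i+1) j (by omega) (by omega) h2
          rw [Nat.add_sub_cancel] at this
          exact this
      have hpm : (fun i => if i = 0 then 0 else a i j) j ≤ d j := by
        beta_reduce
        rw [if_neg hj0, ha1 j h1 (by omega)]
      have hqm : (fun i => if i = 0 then 0 else a i (j+1)) j ≤ d (j+1) := by
        beta_reduce
        rw [if_neg hj0, ← ha1 (j+1) (by omega) (by omega)]
        exact ha2 j (j+1) h1 (by omega) (by omega)
      obtain ⟨M, hM⟩ := exists_matrix (k := k) (d j) (d (j+1))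
        (fun i => if i = 0 then 0 else a i j) (fun i => if i = 0 then 0 else a i (j+1))
        (if_pos rfl) (if_pos rfl) j hq hineq hpm hqm
      refine ⟨M, fun _ _ i hi hij => ?_⟩
      have hi0 : i ≠ 0 := by omega
      have := hM i hij
      beta_reduce at this
      rw [if_neg hi0, if_neg hi0] at this
      exact this
    · exact ⟨0, fun h1 h2 => absurd ⟨h1, h2⟩ h⟩
  choose f hf using this
  exact ⟨f, hf⟩

theorem iterImage_chain (d : ℕ → ℕ) (r : ℕ) (a : ℕ → ℕ → ℕ) (ha : IsRankArray d r a)
    (f : (i : ℕ) → Matrix (Fin (d (i + 1))) (Fin (d i)) k)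
    (hf : ∀ j, 1 ≤ j → j < r → ∀ i, 1 ≤ i → i ≤ j →
        colspan (f j) (a i j) = E k (d (j+1)) (a i (j+1)))
    (i : ℕ) (hi : 1 ≤ i) :
    ∀ n, i + n ≤ r → iterImage f i n = E k (d (i+n)) (a i (i+n)) := by
  intro n
  induction n with
  | zero =>
    intro h
    show (⊤ : Submodule k (Fin (d i) → k)) = E k (d i) (a i i)
    rw [ha.1 i hi h, E_top]
  | succ n ih =>
    intro h
    show (iterImage f i n).map (Matrix.toLin' (f (i+n))) = E k (d (i+n+1)) (a i (i+n+1))
    rw [ih (by omega), map_E]
    exact hf (i+n) (by omega) (by omega) i hi (by omega)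

theorem a_le_d {d : ℕ → ℕ} {r : ℕ} {a : ℕ → ℕ → ℕ} (ha : IsRankArray d r a) {i j : ℕ}
    (hi : 1 ≤ i) (hij : i ≤ j) (hj : j ≤ r) : a i j ≤ d j := by
  rw [← ha.1 j (by omega) hj]
  exact mono_of_step (fun i => a i j) i j hij (fun i' h1 h2 => ha.2.1 i' j (by omega) h2 hj)

theorem rankArray_chain (d : ℕ → ℕ) (r : ℕ) (a : ℕ → ℕ → ℕ) (ha : IsRankArray d r a)
    (f : (i : ℕ) → Matrix (Fin (d (i + 1))) (Fin (d i)) k)
    (hf : ∀ j, 1 ≤ j → j < r → ∀ i, 1 ≤ i → i ≤ j →
        colspan (f j) (a i j) = E k (d (j+1)) (a i (j+1))) :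
    ∀ i j, 1 ≤ i → i ≤ j → j ≤ r → rankArray f i j = a i j := by
  intro i j hi hij hj
  obtain ⟨n, rfl⟩ := Nat.exists_eq_add_of_le hij
  unfold rankArray
  rw [if_pos hij, Nat.add_sub_cancel_left, iterImage_chain d r a ha f hf i hi n hj,
    finrank_E (a_le_d ha hi hij hj)]

end Groth.Agent.Helper6.MC
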