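import Mathlib
import Groth.Prelude.Def_W4c1btstackcountsChain
import Groth.Agent.Helper6.MC2

set_option autoImplicit false
set_option linter.style.haveILetI false
set_option linter.unusedSectionVars false

universe u

namespace Groth.Agent.Helper6.MC

open Module W4c1btstackcounts

variable {k : Type u} [Field k] {d : ℕ → ℕ}

/-- kernel flag in `V j`: kernels of the composites `V j → V (j+n)` (for `j+n ≤ r`), then `⊤`. -/
noncomputable def Kfl (f : (i : ℕ) → Matrix (Fin (d (i + 1))) (Fin (d i)) k) (r j n : ℕ) :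
    Submodule k (Fin (d j) → k) :=
  if j + n ≤ r then LinearMap.ker (Phi (FF f) j (j+n)) else ⊤

theorem Kfl_mono (f : (i : ℕ) → Matrix (Fin (d (i + 1))) (Fin (d i)) k) (r j : ℕ) :
    Monotone (Kfl f r j) := by
  apply monotone_nat_of_le_succ
  intro n
  unfold Kfl
  by_cases h : j + (n+1) ≤ r
  · rw [if_pos h, if_pos (by omega)]
    show LinearMap.ker (Phi (FF f) j (j+n)) ≤ LinearMap.ker (Phi (FF f) j (j+n+1))
    rw [Phi_succ (FF f) (Nat.le_add_right j n)]
    exact LinearMap.ker_le_ker_comp _ _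
  · rw [if_neg h]; exact le_top

theorem finrank_Kfl (f : (i : ℕ) → Matrix (Fin (d (i + 1))) (Fin (d i)) k) (r j n : ℕ)
    (h : j + n ≤ r) : finrank k (Kfl f r j n) + rankArray f j (j+n) = d j := by
  unfold Kfl
  rw [if_pos h, rankArray_eq f (Nat.le_add_right j n)]
  have := LinearMap.finrank_range_add_finrank_ker (Phi (FF f) j (j+n))
  rw [Module.finrank_fin_fun] at this
  have key : ∀ a b c : ℕ, a + b = c → b + a = c := by intros; omega
  exact key _ _ _ this

theorem finrank_Kfl_eq (f f' : (i : ℕ) → Matrix (Fin (d (i + 1))) (Fin (d i)) k) (r : ℕ)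
    (hrank : ∀ i j : ℕ, 1 ≤ i → i ≤ j → j ≤ r → rankArray f i j = rankArray f' i j)
    (j : ℕ) (hj : 1 ≤ j) (n : ℕ) : finrank k (Kfl f r j n) = finrank k (Kfl f' r j n) := by
  by_cases h : j + n ≤ r
  · have h1 := finrank_Kfl f r j n h
    have h2 := finrank_Kfl f' r j n h
    have h3 := hrank j (j+n) hj (Nat.le_add_right _ _) h
    omega
  · unfold Kfl; rw [if_neg h, if_neg h]

theorem comap_Kfl (f : (i : ℕ) → Matrix (Fin (d (i + 1))) (Fin (d i)) k) (r j n : ℕ) :
    (Kfl f r (j+1) n).comap (FF f j) = Kfl f r j (n+1) := by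
  unfold Kfl
  have e : j + 1 + n = j + (n+1) := by omega
  by_cases h : j + (n+1) ≤ r
  · rw [if_pos h, if_pos (by omega), Phi_succ_left (FF f) (show j < j + (n+1) by omega),
      LinearMap.ker_comp, ker_Phi_congr (FF f) (j+1) e]
  · rw [if_neg h, if_neg (by omega)]; exact Submodule.comap_top _

theorem Kfl_one (f : (i : ℕ) → Matrix (Fin (d (i + 1))) (Fin (d i)) k) (r j : ℕ) (h : j + 1 ≤ r) :
    Kfl f r j 1 = LinearMap.ker (FF f j) := by
  unfold Kfl
  rw [if_pos h, Phi_succ (FF f) le_rfl, Phi_self, LinearMap.comp_id]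

theorem exists_g_of (f f' : (i : ℕ) → Matrix (Fin (d (i + 1))) (Fin (d i)) k) (r : ℕ)
    (hrank : ∀ i j : ℕ, 1 ≤ i → i ≤ j → j ≤ r → rankArray f i j = rankArray f' i j)
    (j : ℕ) (hj : 1 ≤ j) (W : Type u) [AddCommGroup W] [Module k W] [FiniteDimensional k W]
    (u u' : W →ₗ[k] (Fin (d j) → k)) (hu : Function.Injective u) (hu' : Function.Injective u')
    (hc : ∀ s, (Kfl f r j s).comap u = (Kfl f' r j s).comap u') :
    ∃ g : (Fin (d j) → k) ≃ₗ[k] (Fin (d j) → k), (∀ w, g (u w) = u' w) ∧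
      ∀ s, (Kfl f r j s).map (g : (Fin (d j) → k) →ₗ[k] (Fin (d j) → k)) = Kfl f' r j s := by
  have hle : finrank k W ≤ finrank k (Fin (d j) → k) :=
    LinearMap.finrank_le_finrank_of_injective hu
  obtain ⟨n, hn⟩ := Nat.exists_eq_add_of_le hle
  exact flag_extend (Kfl f r j) (Kfl f' r j) (Kfl_mono f r j) (Kfl_mono f' r j) rfl
    (finrank_Kfl_eq f f' r hrank j hj) n W u u' hu hu' hc hn

theorem exists_g_base (f f' : (i : ℕ) → Matrix (Fin (d (i + 1))) (Fin (d i)) k) (r : ℕ)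
    (hrank : ∀ i j : ℕ, 1 ≤ i → i ≤ j → j ≤ r → rankArray f i j = rankArray f' i j)
    (j : ℕ) (hj : 1 ≤ j) :
    ∃ g : (Fin (d j) → k) ≃ₗ[k] (Fin (d j) → k),
      ∀ s, (Kfl f r j s).map (g : (Fin (d j) → k) →ₗ[k] (Fin (d j) → k)) = Kfl f' r j s := by
  obtain ⟨g, -, hg⟩ := exists_g_of f f' r hrank j hj PUnit.{u+1} 0 0
    (fun a b _ => Subsingleton.elim a b) (fun a b _ => Subsingleton.elim a b)
    (fun s => by ext w; simp)
  exact ⟨g, hg⟩

theorem mem_iff_of_map {V : Type*} [AddCommGroup V] [Module k V] (g : V ≃ₗ[k] V)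
    (K K' : Submodule k V) (h : K.map (g : V →ₗ[k] V) = K') (v : V) : v ∈ K ↔ g v ∈ K' := by
  constructor
  · intro hv; rw [← h]; exact Submodule.mem_map_of_mem hv
  · intro hv
    rw [← h] at hv
    obtain ⟨v₀, hv₀, he⟩ := hv
    have : v₀ = v := g.injective he
    rwa [← this]

theorem exists_g_step (f f' : (i : ℕ) → Matrix (Fin (d (i + 1))) (Fin (d i)) k) (r : ℕ)
    (hrank : ∀ i j : ℕ, 1 ≤ i → i ≤ j → j ≤ r → rankArray f i j = rankArray f' i j)
    (j : ℕ) (hj : 1 ≤ j) (hjr : j + 1 ≤ r) (gj : (Fin (d j) → k) ≃ₗ[k] (Fin (d j) → k))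
    (hgj : ∀ s, (Kfl f r j s).map (gj : (Fin (d j) → k) →ₗ[k] (Fin (d j) → k)) = Kfl f' r j s) :
    ∃ g : (Fin (d (j+1)) → k) ≃ₗ[k] (Fin (d (j+1)) → k),
      (∀ v, g (FF f j v) = FF f' j (gj v)) ∧
      ∀ s, (Kfl f r (j+1) s).map (g : (Fin (d (j+1)) → k) →ₗ[k] (Fin (d (j+1)) → k)) =
        Kfl f' r (j+1) s := by
  have hmem : ∀ s v, v ∈ Kfl f r j s ↔ gj v ∈ Kfl f' r j s := fun s v =>
    mem_iff_of_map gj _ _ (hgj s) v
  have hker : LinearMap.ker ((FF f' j).comp (gj : (Fin (d j) → k) →ₗ[k] (Fin (d j) → k))) =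
      LinearMap.ker (FF f j) := by
    ext v
    rw [← Kfl_one f r j hjr, hmem 1 v, Kfl_one f' r j hjr]
    rfl
  have hu : Function.Injective ((LinearMap.ker (FF f j)).liftQ (FF f j) le_rfl) :=
    LinearMap.ker_eq_bot.mp (Submodule.ker_liftQ_eq_bot _ _ _ le_rfl)
  have hu' : Function.Injective ((LinearMap.ker (FF f j)).liftQ
      ((FF f' j).comp (gj : (Fin (d j) → k) →ₗ[k] (Fin (d j) → k))) (le_of_eq hker.symm)) :=
    LinearMap.ker_eq_bot.mp (Submodule.ker_liftQ_eq_bot _ _ _ (le_of_eq hker))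
  obtain ⟨g, hg, hmap⟩ := exists_g_of f f' r hrank (j+1) (by omega)
    ((Fin (d j) → k) ⧸ LinearMap.ker (FF f j)) _ _ hu hu' (by
      intro s
      ext q
      obtain ⟨v, rfl⟩ := Submodule.Quotient.mk_surjective _ q
      simp only [Submodule.mem_comap, Submodule.liftQ_apply, LinearMap.comp_apply]
      have h1 : FF f j v ∈ Kfl f r (j+1) s ↔ v ∈ Kfl f r j (s+1) := by
        rw [← comap_Kfl]; rfl
      have h2 : FF f' j (gj v) ∈ Kfl f' r (j+1) s ↔ gj v ∈ Kfl f' r j (s+1) := by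
        rw [← comap_Kfl]; rfl
      rw [h1, hmem (s+1) v]
      exact h2.symm)
  refine ⟨g, fun v => ?_, hmap⟩
  have := hg (Submodule.Quotient.mk v)
  simpa [Submodule.liftQ_apply] using this

theorem exists_g_all (f f' : (i : ℕ) → Matrix (Fin (d (i + 1))) (Fin (d i)) k) (r : ℕ)
    (hrank : ∀ i j : ℕ, 1 ≤ i → i ≤ j → j ≤ r → rankArray f i j = rankArray f' i j) :
    ∀ n, n ≤ r → ∃ g : ∀ j, (Fin (d j) → k) ≃ₗ[k] (Fin (d j) → k),
      (∀ j, 1 ≤ j → j ≤ n → ∀ s,
        (Kfl f r j s).map (g j : (Fin (d j) → k) →ₗ[k] (Fin (d j) → k)) = Kfl f' r j s) ∧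
      (∀ j, 1 ≤ j → j + 1 ≤ n → ∀ v, g (j+1) (FF f j v) = FF f' j (g j v)) := by
  intro n
  induction n with
  | zero =>
    intro _
    exact ⟨fun j => LinearEquiv.refl k _, fun j h1 h2 => by omega, fun j h1 h2 => by omega⟩
  | succ n ih =>
    intro hn
    obtain ⟨g, hg1, hg2⟩ := ih (by omega)
    rcases Nat.eq_zero_or_pos n with h0 | hpos
    · subst h0
      obtain ⟨g', hg'⟩ := exists_g_base f f' r hrank (0+1) le_rfl
      refine ⟨Function.update g (0+1) g', ?_, ?_⟩
      · intro j h1 h2 s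
        have : j = 0+1 := by omega
        subst this
        rw [Function.update_self]; exact hg' s
      · intro j h1 h2; omega
    · obtain ⟨g', hg'1, hg'2⟩ := exists_g_step f f' r hrank n hpos hn (g n) (hg1 n hpos le_rfl)
      refine ⟨Function.update g (n+1) g', ?_, ?_⟩
      · intro j h1 h2 s
        rcases Nat.lt_or_ge j (n+1) with h | h
        · rw [Function.update_of_ne (by omega)]; exact hg1 j h1 (by omega) s
        · have : j = n+1 := by omega
          subst this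
          rw [Function.update_self]; exact hg'2 s
      · intro j h1 h2 v
        rcases Nat.lt_or_ge (j+1) (n+1) with h | h
        · rw [Function.update_of_ne (by omega), Function.update_of_ne (by omega)]
          exact hg2 j h1 (by omega) v
        · have : j = n := by omega
          subst this
          rw [Function.update_self, Function.update_of_ne (by omega)]; exact hg'1 v

/-- `GL` element of a linear equivalence. -/
noncomputable def toGL {m : ℕ} (e : (Fin m → k) ≃ₗ[k] (Fin m → k)) :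
    Matrix.GeneralLinearGroup (Fin m) k :=
  ⟨LinearMap.toMatrix' (e : (Fin m → k) →ₗ[k] (Fin m → k)),
    LinearMap.toMatrix' (e.symm : (Fin m → k) →ₗ[k] (Fin m → k)),
    by rw [← LinearMap.toMatrix'_comp, LinearEquiv.comp_symm, LinearMap.toMatrix'_id],
    by rw [← LinearMap.toMatrix'_comp, LinearEquiv.symm_comp, LinearMap.toMatrix'_id]⟩

theorem toGL_val {m : ℕ} (e : (Fin m → k) ≃ₗ[k] (Fin m → k)) :
    ((toGL e : Matrix.GeneralLinearGroup (Fin m) k) : Matrix (Fin m) (Fin m) k) =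
      LinearMap.toMatrix' (e : (Fin m → k) →ₗ[k] (Fin m → k)) := rfl

theorem toGL_inv_val {m : ℕ} (e : (Fin m → k) ≃ₗ[k] (Fin m → k)) :
    (((toGL e)⁻¹ : Matrix.GeneralLinearGroup (Fin m) k) : Matrix (Fin m) (Fin m) k) =
      LinearMap.toMatrix' (e.symm : (Fin m → k) →ₗ[k] (Fin m → k)) := rfl

theorem exists_conj (f f' : (i : ℕ) → Matrix (Fin (d (i + 1))) (Fin (d i)) k) (r : ℕ)
    (hrank : ∀ i j : ℕ, 1 ≤ i → i ≤ j → j ≤ r → rankArray f i j = rankArray f' i j) :
    ∃ g : (j : ℕ) → Matrix.GeneralLinearGroup (Fin (d j)) k,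
      ∀ i : ℕ, 1 ≤ i → i + 1 ≤ r → conj g f i = f' i := by
  obtain ⟨g, -, hg⟩ := exists_g_all f f' r hrank r le_rfl
  refine ⟨fun j => toGL (g j), fun i hi hir => ?_⟩
  apply Matrix.toLin'.injective
  unfold conj
  beta_reduce
  rw [toGL_val, toGL_inv_val, Matrix.toLin'_mul, Matrix.toLin'_mul, Matrix.toLin'_toMatrix',
    Matrix.toLin'_toMatrix']
  refine LinearMap.ext fun v => ?_
  have := hg i hi hir ((g i).symm v)
  rw [LinearEquiv.apply_symm_apply] at this
  exact this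

end Groth.Agent.Helper6.MC
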