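import Groth.Agent.Helper6.AbH
import Groth.Prelude.Def_Formal2
import Mathlib

/-!
# The Milnor sequence for a tower of cochain complexes of abelian groups with surjective
transition maps (abstract form: the limit is described by its elementwise universal property)
-/

set_option autoImplicit false
set_option linter.style.haveILetI false
set_option linter.unusedSectionVars false
set_option linter.unusedVariables false

namespace Groth.Agent.Helper6.Milnor

open CategoryTheory CategoryTheory.Limits Groth.Agent.Helper6.AbH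

universe u

theorem rec_lift {A B : ℕ → Type u} [∀ n, AddCommGroup (A n)] [∀ n, AddCommGroup (B n)]
    (dA : ∀ n, A n →+ B n) (tA : ∀ n, A (n + 1) →+ A n) (tB : ∀ n, B (n + 1) →+ B n)
    (htA : ∀ n, Function.Surjective (tA n))
    (hcomm : ∀ n a, tB n (dA (n + 1) a) = dA n (tA n a))
    (b : ∀ n, B n) (hb : ∀ n, ∃ a : A n, dA n a = tB n (b (n + 1)) - b n) :
    ∃ z : ∀ n, B n, (∀ n, tB n (z (n + 1)) = z n) ∧ ∀ n, ∃ a : A n, z n = b n - dA n a := by
  have step : ∀ n (s : {z : B n // ∃ a, z = b n - dA n a}),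
      ∃ s' : {z : B (n + 1) // ∃ a, z = b (n + 1) - dA (n + 1) a}, tB n s'.1 = s.1 := by
    rintro n ⟨z, a, rfl⟩
    obtain ⟨a', ha'⟩ := hb n
    obtain ⟨a'', ha''⟩ := htA n (a' + a)
    refine ⟨⟨b (n + 1) - dA (n + 1) a'', a'', rfl⟩, ?_⟩
    show tB n (b (n + 1) - dA (n + 1) a'') = b n - dA n a
    rw [map_sub, hcomm, ha'', map_add, ha']; abel
  choose next hnext using step
  obtain ⟨seq, hseq⟩ : ∃ seq : ∀ n, {z : B n // ∃ a, z = b n - dA n a},
      ∀ n, seq (n + 1) = next n (seq n) :=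
    ⟨fun n => Nat.rec (motive := fun n => {z : B n // ∃ a, z = b n - dA n a})
      ⟨b 0, 0, by simp⟩ (fun n s => next n s) n, fun n => rfl⟩
  refine ⟨fun n => (seq n).1, fun n => ?_, fun n => (seq n).2⟩
  show tB n (seq (n + 1)).1 = (seq n).1
  rw [hseq]; exact hnext n (seq n)

theorem rec_shift {A : ℕ → Type u} [∀ n, AddCommGroup (A n)] (tA : ∀ n, A (n + 1) →+ A n)
    (htA : ∀ n, Function.Surjective (tA n)) (u : ∀ n, A n) :
    ∃ w : ∀ n, A n, ∀ n, tA n (w (n + 1)) = w n + u n := by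
  have step : ∀ n (x : A n), ∃ y : A (n + 1), tA n y = x := fun n x => htA n x
  choose g hg using step
  obtain ⟨w, hw⟩ : ∃ w : ∀ n, A n, ∀ n, w (n + 1) = g n (w n + u n) :=
    ⟨fun n => Nat.rec (motive := fun n => A n) 0 (fun n wn => g n (wn + u n)) n, fun n => rfl⟩
  exact ⟨w, fun n => by rw [hw, hg]⟩

section Main

variable (C : ℕ → CochainComplex AddCommGrpCat.{u} ℤ) (t : ∀ n, C (n + 1) ⟶ C n)
  (X : CochainComplex AddCommGrpCat.{u} ℤ) (π : ∀ n, X ⟶ C n)

theorem pi_t (hπ : ∀ n, π (n + 1) ≫ t n = π n) (n : ℕ) (i : ℤ) (x : X.X i) :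
    ((t n).f i) (((π (n + 1)).f i) x) = ((π n).f i) x := by
  rw [← comp_app, ← HomologicalComplex.comp_f, hπ]

theorem d_eq_zero_iff
    (hX1 : ∀ i (x y : X.X i), (∀ n, ((π n).f i) x = ((π n).f i) y) → x = y)
    (i j : ℤ) (x : X.X i) :
    (X.d i j) x = 0 ↔ ∀ n, ((C n).d i j) (((π n).f i) x) = 0 := by
  constructor
  · intro h n; rw [f_d_apply, h, map_zero]
  · intro h; apply hX1 j; intro n; rw [← f_d_apply, h n, map_zero]

theorem d_tsub (hπ : ∀ n, π (n + 1) ≫ t n = π n) (q p : ℤ) (x : X.X p)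
    (w : ∀ n, (C n).X q) (hw : ∀ n, ((C n).d q p) (w n) = ((π n).f p) x) (n : ℕ) :
    ((C n).d q p) (((t n).f q) (w (n + 1)) - w n) = 0 := by
  rw [map_sub, f_d_apply, hw, hw, pi_t C t X π hπ, sub_self]

/-- the relation defining the map from the kernel to `lim¹` -/
def Rel (q p r : ℤ) (hqp : q + 1 = p) (hpr : p + 1 = r) (c : X.homology p)
    (e : ∀ n, (C n).homology q) : Prop :=
  ∃ (x : X.X p) (hx : (X.d p r) x = 0) (w : ∀ n, (C n).X q),
    (∀ n, ((C n).d q p) (w n) = ((π n).f p) x) ∧ cls X p r hpr x hx = c ∧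
    ∀ n, ∃ h0 : ((C n).d q p) (((t n).f q) (w (n + 1)) - w n) = 0,
      e n = cls (C n) q p hqp (((t n).f q) (w (n + 1)) - w n) h0

theorem cls_congr' (D : CochainComplex AddCommGrpCat.{u} ℤ) (j k : ℤ) (hjk : j + 1 = k)
    {x x' : D.X j} (hx : (D.d j k) x = 0) (hx' : (D.d j k) x' = 0) (h : x = x') :
    cls D j k hjk x hx = cls D j k hjk x' hx' := by
  subst h; rfl

theorem milnor
    (ht : ∀ n i, Function.Surjective ((t n).f i))
    (hπ : ∀ n, π (n + 1) ≫ t n = π n)
    (hX1 : ∀ i (x y : X.X i), (∀ n, ((π n).f i) x = ((π n).f i) y) → x = y)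
    (hX2 : ∀ i (x : ∀ n, (C n).X i), (∀ n, ((t n).f i) (x (n + 1)) = x n) →
      ∃ y : X.X i, ∀ n, ((π n).f i) y = x n)
    (h q p r : ℤ) (hhq : h + 1 = q) (hqp : q + 1 = p) (hpr : p + 1 = r)
    (Y : AddCommGrpCat.{u}) (ρ : ∀ n, Y ⟶ (C n).homology p)
    (hρ : ∀ n, ρ (n + 1) ≫ HomologicalComplex.homologyMap (t n) p = ρ n)
    (hY1 : ∀ y y' : Y, (∀ n, (ρ n) y = (ρ n) y') → y = y')
    (post : X.homology p ⟶ Y)
    (hpost : ∀ n, post ≫ ρ n = HomologicalComplex.homologyMap (π n) p) :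
    Function.Surjective post.hom ∧
      Nonempty (post.hom.ker ≃+ Formal2.limOne (fun n => (C n).homology q)
        (fun n => (HomologicalComplex.homologyMap (t n) q).hom)) := by
  have hpost' : ∀ n (c : X.homology p),
      (ρ n) (post c) = (HomologicalComplex.homologyMap (π n) p) c := by
    intro n c; rw [← comp_app, hpost]
  have hρ' : ∀ n (y : Y),
      (HomologicalComplex.homologyMap (t n) p) ((ρ (n + 1)) y) = (ρ n) y := by
    intro n y; rw [← comp_app, hρ]
  have hπt := pi_t C t X π hπ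
  have hdt := d_tsub C t X π hπ q p
  -- surjectivity
  have hsurj : Function.Surjective post.hom := by
    intro ℓ
    have hrep : ∀ n, ∃ (b : (C n).X p) (hb : ((C n).d p r) b = 0),
        cls (C n) p r hpr b hb = (ρ n) ℓ := fun n => exists_cls (C n) p r hpr _
    choose b hb0 hb1 using hrep
    have hb : ∀ n, ∃ a : (C n).X q, ((C n).d q p) a = ((t n).f p) (b (n + 1)) - b n := by
      intro n
      have h1 : cls (C n) p r hpr (((t n).f p) (b (n + 1)))
          (by rw [f_d_apply, hb0, map_zero]) = cls (C n) p r hpr (b n) (hb0 n) := by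
        rw [← homologyMap_cls p r hpr (t n) (hb0 (n + 1)), hb1, hb1, hρ']
      exact (cls_eq_cls_iff (C n) q p r hqp hpr _ _).1 h1
    obtain ⟨z, hz1, hz2⟩ := rec_lift (A := fun n => (C n).X q) (B := fun n => (C n).X p)
      (fun n => ((C n).d q p).hom) (fun n => ((t n).f q).hom) (fun n => ((t n).f p).hom)
      (fun n => ht n q) (fun n a => (f_d_apply q p (t n) a).symm) b hb
    have hz0 : ∀ n, ((C n).d p r) (z n) = 0 := by
      intro n
      obtain ⟨a, ha⟩ := hz2 n
      rw [ha, map_sub, hb0]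
      show 0 - ((C n).d p r) (((C n).d q p) a) = 0
      rw [d_d_apply, sub_zero]
    obtain ⟨x, hx⟩ := hX2 p z hz1
    have hx0 : (X.d p r) x = 0 := by
      rw [d_eq_zero_iff C X π hX1]
      intro n; rw [hx]; exact hz0 n
    refine ⟨cls X p r hpr x hx0, ?_⟩
    apply hY1
    intro n
    show (ρ n) (post (cls X p r hpr x hx0)) = (ρ n) ℓ
    rw [hpost', homologyMap_cls p r hpr (π n) hx0, ← hb1 n,
      cls_eq_cls_iff (C n) q p r hqp hpr]
    obtain ⟨a, ha⟩ := hz2 n
    refine ⟨-a, ?_⟩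
    rw [hx, ha, map_neg]
    show -((C n).d q p) a = b n - ((C n).d q p) a - b n
    abel
  have rel_exists : ∀ c : X.homology p, post c = 0 →
      ∃ e, Rel C t X π q p r hqp hpr c e := by
    intro c hc
    obtain ⟨x, hx, rfl⟩ := exists_cls X p r hpr c
    have hw : ∀ n, ∃ w : (C n).X q, ((C n).d q p) w = ((π n).f p) x := by
      intro n
      have h1 : cls (C n) p r hpr (((π n).f p) x) (by rw [f_d_apply, hx, map_zero]) = 0 := by
        rw [← homologyMap_cls p r hpr (π n) hx, ← hpost', hc, map_zero]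
      exact (cls_eq_zero_iff (C n) q p r hqp hpr _).1 h1
    choose w hw using hw
    exact ⟨fun n => cls (C n) q p hqp _ (hdt x w hw n), x, hx, w, hw, rfl,
      fun n => ⟨hdt x w hw n, rfl⟩⟩
  have rel_wd : ∀ c e e', Rel C t X π q p r hqp hpr c e → Rel C t X π q p r hqp hpr c e' →
      e - e' ∈ (Formal2.towerDiff (fun n => (C n).homology q)
        (fun n => (HomologicalComplex.homologyMap (t n) q).hom)).range := by
    rintro c e e' ⟨x, hx, w, hw, hc, he⟩ ⟨x', hx', w', hw', hc', he'⟩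
    have hcc : cls X p r hpr x hx = cls X p r hpr x' hx' := hc.trans hc'.symm
    obtain ⟨y, hy⟩ := (cls_eq_cls_iff X q p r hqp hpr hx hx').1 hcc
    have hu0 : ∀ n, ((C n).d q p) (w n - w' n - ((π n).f q) y) = 0 := by
      intro n
      rw [map_sub, map_sub, hw, hw', f_d_apply, hy, map_sub]; abel
    refine ⟨fun n => - cls (C n) q p hqp _ (hu0 n), ?_⟩
    funext n
    obtain ⟨h0, hen⟩ := he n
    obtain ⟨h0', hen'⟩ := he' n
    show (- cls (C n) q p hqp _ (hu0 n)) -
      (HomologicalComplex.homologyMap (t n) q) (- cls (C (n + 1)) q p hqp _ (hu0 (n + 1))) =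
        e n - e' n
    rw [hen, hen', cls_sub, map_neg, homologyMap_cls q p hqp (t n) (hu0 (n + 1)),
      sub_neg_eq_add, neg_add_eq_sub, cls_sub]
    apply cls_congr'
    rw [map_sub, map_sub, hπt]; abel
  have rel_add : ∀ c c' e e', Rel C t X π q p r hqp hpr c e →
      Rel C t X π q p r hqp hpr c' e' → Rel C t X π q p r hqp hpr (c + c') (e + e') := by
    rintro c c' e e' ⟨x, hx, w, hw, hc, he⟩ ⟨x', hx', w', hw', hc', he'⟩
    have hxx : (X.d p r) (x + x') = 0 := by rw [map_add, hx, hx', add_zero]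
    have hww : ∀ n, ((C n).d q p) ((w + w') n) = ((π n).f p) (x + x') := by
      intro n
      show ((C n).d q p) (w n + w' n) = _
      rw [map_add, map_add, hw, hw']
    refine ⟨x + x', hxx, w + w', hww, ?_, fun n => ⟨hdt _ _ hww n, ?_⟩⟩
    · rw [← hc, ← hc', cls_add]
    · obtain ⟨h0, hen⟩ := he n
      obtain ⟨h0', hen'⟩ := he' n
      show e n + e' n = _
      rw [hen, hen', cls_add]
      apply cls_congr'
      show _ = ((t n).f q) (w (n + 1) + w' (n + 1)) - (w n + w' n)
      rw [map_add]; abel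
  have rel_inj : ∀ c e, Rel C t X π q p r hqp hpr c e →
      e ∈ (Formal2.towerDiff (fun n => (C n).homology q)
        (fun n => (HomologicalComplex.homologyMap (t n) q).hom)).range → c = 0 := by
    rintro c e ⟨x, hx, w, hw, hc, he⟩ ⟨g, hg⟩
    have hrep : ∀ n, ∃ (u : (C n).X q) (hu : ((C n).d q p) u = 0),
        cls (C n) q p hqp u hu = g n := fun n => exists_cls (C n) q p hqp _
    choose u hu0 hu1 using hrep
    have hw' : ∀ n, ((C n).d q p) (w n + u n) = ((π n).f p) x := by
      intro n; rw [map_add, hw, hu0, add_zero]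
    have hv : ∀ n, ∃ v : (C n).X h,
        ((C n).d h q) v = ((t n).f q) (w (n + 1) + u (n + 1)) - (w n + u n) := by
      intro n
      have h0 := hdt x (fun n => w n + u n) hw' n
      have h1 : cls (C n) q p hqp _ h0 = 0 := by
        obtain ⟨h0e, hen⟩ := he n
        have hgn : e n = g n - (HomologicalComplex.homologyMap (t n) q) (g (n + 1)) :=
          (congrFun hg n).symm
        have hsplit : cls (C n) q p hqp _ h0 = cls (C n) q p hqp _ h0e +
            (cls (C n) q p hqp (((t n).f q) (u (n + 1))) (by rw [f_d_apply, hu0, map_zero]) -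
              cls (C n) q p hqp (u n) (hu0 n)) := by
          rw [cls_sub, cls_add]
          apply cls_congr'
          rw [map_add]; abel
        rw [hsplit, ← hen, hgn, ← homologyMap_cls q p hqp (t n) (hu0 (n + 1)), hu1, hu1]
        abel
      exact (cls_eq_zero_iff (C n) h q p hhq hqp _).1 h1
    obtain ⟨w'', hw1, hw2⟩ := rec_lift (A := fun n => (C n).X h) (B := fun n => (C n).X q)
      (fun n => ((C n).d h q).hom) (fun n => ((t n).f h).hom) (fun n => ((t n).f q).hom)
      (fun n => ht n h) (fun n a => (f_d_apply h q (t n) a).symm) (fun n => w n + u n) hv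
    obtain ⟨y, hy⟩ := hX2 q w'' hw1
    have hdy : (X.d q p) y = x := by
      apply hX1 p
      intro n
      rw [← f_d_apply, hy]
      obtain ⟨a, ha⟩ := hw2 n
      rw [ha, map_sub]
      show ((C n).d q p) (w n + u n) - ((C n).d q p) (((C n).d h q) a) = _
      rw [d_d_apply, sub_zero, hw']
    rw [← hc]
    exact (cls_eq_zero_iff X q p r hqp hpr hx).2 ⟨y, hdy⟩
  have rel_surj : ∀ e : ∀ n, (C n).homology q,
      ∃ c, post c = 0 ∧ Rel C t X π q p r hqp hpr c e := by
    intro e
    have hrep : ∀ n, ∃ (u : (C n).X q) (hu : ((C n).d q p) u = 0),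
        cls (C n) q p hqp u hu = e n := fun n => exists_cls (C n) q p hqp _
    choose u hu0 hu1 using hrep
    obtain ⟨w, hw⟩ := rec_shift (A := fun n => (C n).X q) (fun n => ((t n).f q).hom)
      (fun n => ht n q) u
    have hw' : ∀ n, ((t n).f q) (w (n + 1)) = w n + u n := hw
    have hcompat : ∀ n, ((t n).f p) (((C (n + 1)).d q p) (w (n + 1))) =
        ((C n).d q p) (w n) := by
      intro n
      rw [← f_d_apply, hw' n, map_add, hu0, add_zero]
    obtain ⟨x, hx⟩ := hX2 p (fun n => ((C n).d q p) (w n)) hcompat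
    have hx0 : (X.d p r) x = 0 := by
      rw [d_eq_zero_iff C X π hX1]
      intro n; rw [hx, d_d_apply]
    refine ⟨cls X p r hpr x hx0, ?_, x, hx0, w, fun n => (hx n).symm, rfl, fun n => ?_⟩
    · apply hY1
      intro n
      rw [hpost', homologyMap_cls p r hpr (π n) hx0]
      have h0 : (ρ n) 0 = 0 := map_zero _
      rw [h0]
      exact (cls_eq_zero_iff (C n) q p r hqp hpr _).2 ⟨w n, (hx n).symm⟩
    · refine ⟨hdt x w (fun n => (hx n).symm) n, ?_⟩
      rw [← hu1 n]
      apply cls_congr'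
      rw [hw' n]; abel
  refine ⟨hsurj, ?_⟩
  have hker : ∀ c : post.hom.ker, post c.1 = 0 := fun c => AddMonoidHom.mem_ker.1 c.2
  choose E hE using fun c : post.hom.ker => rel_exists c.1 (hker c)
  obtain ⟨Φ, hΦ⟩ : ∃ Φ : post.hom.ker →+ Formal2.limOne (fun n => (C n).homology q)
      (fun n => (HomologicalComplex.homologyMap (t n) q).hom),
      ∀ c, Φ c = QuotientAddGroup.mk (E c) :=
    ⟨AddMonoidHom.mk' (fun c => QuotientAddGroup.mk (E c)) (fun c c' => by
      rw [← QuotientAddGroup.mk_add, QuotientAddGroup.eq_iff_sub_mem]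
      exact rel_wd _ _ _ (hE (c + c')) (rel_add _ _ _ _ (hE c) (hE c'))), fun c => rfl⟩
  refine ⟨AddEquiv.ofBijective Φ ⟨?_, ?_⟩⟩
  · rw [injective_iff_map_eq_zero]
    intro c hc
    rw [hΦ] at hc
    have := (QuotientAddGroup.eq_zero_iff _).1 hc
    exact Subtype.ext (rel_inj _ _ (hE c) this)
  · intro ℓ
    obtain ⟨e, rfl⟩ := QuotientAddGroup.mk_surjective ℓ
    obtain ⟨c, hc0, hrel⟩ := rel_surj e
    refine ⟨⟨c, AddMonoidHom.mem_ker.2 hc0⟩, ?_⟩
    rw [hΦ, QuotientAddGroup.eq_iff_sub_mem]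
    exact rel_wd _ _ _ (hE ⟨c, AddMonoidHom.mem_ker.2 hc0⟩) hrel

end Main

end Groth.Agent.Helper6.Milnor
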