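import Groth.Agent.Helper6.Milnor
import Mathlib

/-!
# The Milnor sequence for a tower of complexes of abelian groups: the categorical limit
-/

set_option autoImplicit false
set_option linter.style.haveILetI false
set_option linter.unusedSectionVars false
set_option linter.unusedVariables false

namespace Groth.Agent.Helper6.Milnor2

open CategoryTheory CategoryTheory.Limits Opposite Groth.Agent.Helper6.AbH

universe u

theorem hom_eq {m n : ℕ} (f : (op m : ℕᵒᵖ) ⟶ op n) (h : n ≤ m) : f = (homOfLE h).op :=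
  Quiver.Hom.unop_inj (Subsingleton.elim _ _)

/-- joint injectivity of the projections of a limit cone of abelian groups indexed by `ℕᵒᵖ` -/
theorem ext_of_isLimit (F : ℕᵒᵖ ⥤ AddCommGrpCat.{u}) {D : Cone F} (hD : IsLimit D) (x y : D.pt)
    (h : ∀ n : ℕ, (D.π.app (op n)) x = (D.π.app (op n)) y) : x = y :=
  Concrete.isLimit_ext F hD x y (fun j => by obtain ⟨n⟩ := j; exact h n)

theorem compat_of_step (F : ℕᵒᵖ ⥤ AddCommGrpCat.{u}) (x : ∀ n, F.obj (op n))
    (hx : ∀ n, (F.map (homOfLE (Nat.le_succ n)).op) (x (n + 1)) = x n)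
    (m n : ℕ) (h : n ≤ m) : (F.map (homOfLE h).op) (x m) = x n := by
  induction m, h using Nat.le_induction with
  | base =>
    have : (homOfLE (le_refl n)).op = 𝟙 (op n : ℕᵒᵖ) := hom_eq _ _
    rw [this, F.map_id]; rfl
  | succ m hmn ih =>
    have : (homOfLE (hmn.trans (Nat.le_succ m))).op =
        (homOfLE (Nat.le_succ m)).op ≫ (homOfLE hmn).op := hom_eq _ _
    rw [this, F.map_comp, comp_app, hx, ih]

theorem exists_of_isLimit (F : ℕᵒᵖ ⥤ AddCommGrpCat.{u}) {D : Cone F} (hD : IsLimit D)
    (x : ∀ n, F.obj (op n))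
    (hx : ∀ n, (F.map (homOfLE (Nat.le_succ n)).op) (x (n + 1)) = x n) :
    ∃ y : D.pt, ∀ n, (D.π.app (op n)) y = x n := by
  have hsec : (fun j : ℕᵒᵖ => (x j.unop : (F ⋙ forget AddCommGrpCat).obj j)) ∈
      (F ⋙ forget AddCommGrpCat).sections := by
    intro j j' f
    obtain ⟨m⟩ := j
    obtain ⟨n⟩ := j'
    have hnm : n ≤ m := leOfHom f.unop
    rw [hom_eq f hnm]
    exact compat_of_step F x hx m n hnm
  refine ⟨(Types.isLimitEquivSections (isLimitOfPreserves (forget AddCommGrpCat) hD)).symm
    ⟨_, hsec⟩, fun n => ?_⟩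
  exact Types.isLimitEquivSections_symm_apply
    (isLimitOfPreserves (forget AddCommGrpCat) hD) ⟨_, hsec⟩ (op n)

theorem main (K : ℕᵒᵖ ⥤ HomologicalComplex AddCommGrpCat.{u} (ComplexShape.up ℤ))
    (hK : ∀ (n : ℕ) (q : ℤ), Function.Surjective ((K.map (homOfLE (Nat.le_succ n)).op).f q).hom)
    (p q : ℤ) (hqp : q + 1 = p) :
    Function.Surjective (limit.post K (HomologicalComplex.homologyFunctor _ _ p)).hom ∧
      Nonempty ((limit.post K (HomologicalComplex.homologyFunctor _ _ p)).hom.ker ≃+
        Formal2.limOne (fun n => (K.obj (op n)).homology q)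
          (fun n => (HomologicalComplex.homologyMap (K.map (homOfLE (Nat.le_succ n)).op) q).hom)) := by
  refine Groth.Agent.Helper6.Milnor.milnor (fun n => K.obj (op n))
    (fun n => K.map (homOfLE (Nat.le_succ n)).op) (limit K) (fun n => limit.π K (op n))
    (fun n i => hK n i) (fun n => limit.w K (homOfLE (Nat.le_succ n)).op) ?_ ?_
    (q - 1) q p (p + 1) (by omega) hqp rfl
    (limit (K ⋙ HomologicalComplex.homologyFunctor _ _ p))
    (fun n => limit.π (K ⋙ HomologicalComplex.homologyFunctor _ _ p) (op n))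
    (fun n => limit.w (K ⋙ HomologicalComplex.homologyFunctor _ _ p) (homOfLE (Nat.le_succ n)).op)
    ?_ (limit.post K (HomologicalComplex.homologyFunctor _ _ p))
    (fun n => limit.post_π K (HomologicalComplex.homologyFunctor _ _ p) (op n))
  · intro i x y h
    exact ext_of_isLimit (K ⋙ HomologicalComplex.eval _ _ i)
      (isLimitOfPreserves (HomologicalComplex.eval _ _ i) (limit.isLimit K)) x y h
  · intro i x hx
    exact exists_of_isLimit (K ⋙ HomologicalComplex.eval _ _ i)
      (isLimitOfPreserves (HomologicalComplex.eval _ _ i) (limit.isLimit K)) x hx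
  · intro y y' h
    exact ext_of_isLimit (K ⋙ HomologicalComplex.homologyFunctor _ _ p) (limit.isLimit _) y y' h

end Groth.Agent.Helper6.Milnor2
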