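import Groth.Prelude.Def_GSzMilK
import Mathlib.Tactic

/-!
Helper lemmas on the Milnor K-groups `MilK.K` of the frozen prelude: multilinearity of symbols,
the abstract consequences of the Steinberg relation for bimultiplicative maps, the action of
permutations on symbols, and an induction principle on symbols.
-/

set_option autoImplicit false

universe u w

namespace Groth.Agent.Helper6.MilnorKBasic

open MilK

section Bimul

variable {F : Type u} [Field F] {M : Type w} [AddCommGroup M]

/-- A bimultiplicative map on units satisfying the Steinberg relation. -/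
structure IsSteinbergPairing (f : Fˣ → Fˣ → M) : Prop where
  mul_left : ∀ a b c : Fˣ, f (a * b) c = f a c + f b c
  mul_right : ∀ a b c : Fˣ, f a (b * c) = f a b + f a c
  steinberg : ∀ a b : Fˣ, (a : F) + (b : F) = 1 → f a b = 0

namespace IsSteinbergPairing

variable {f : Fˣ → Fˣ → M} (hf : IsSteinbergPairing f)
include hf

theorem one_left (c : Fˣ) : f 1 c = 0 := by
  have h := hf.mul_left 1 1 c
  rw [mul_one] at h
  exact (add_eq_left (a := f 1 c) (b := f 1 c)).1 h.symm

theorem one_right (c : Fˣ) : f c 1 = 0 := by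
  have h := hf.mul_right c 1 1
  rw [mul_one] at h
  exact (add_eq_left (a := f c 1) (b := f c 1)).1 h.symm

theorem inv_left (a c : Fˣ) : f a⁻¹ c = -f a c := by
  have h := hf.mul_left a a⁻¹ c
  rw [mul_inv_cancel, hf.one_left] at h
  exact (neg_eq_of_add_eq_zero_right h.symm).symm

theorem inv_right (a c : Fˣ) : f a c⁻¹ = -f a c := by
  have h := hf.mul_right a c c⁻¹
  rw [mul_inv_cancel, hf.one_right] at h
  exact (neg_eq_of_add_eq_zero_right h.symm).symm

/-- `{x, -x} = 0`. -/
theorem neg_self (x : Fˣ) : f x (-x) = 0 := by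
  by_cases hx1 : x = 1
  · rw [hx1]; exact hf.one_left _
  have hx1' : (x : F) ≠ 1 := fun h => hx1 (Units.ext h)
  have hxinv1 : ((x⁻¹ : Fˣ) : F) ≠ 1 := fun h => hx1 (by
    have : x⁻¹ = 1 := Units.ext h
    simpa using this)
  -- u = 1 - x, v = 1 - x⁻¹
  let u : Fˣ := Units.mk0 (1 - (x : F)) (sub_ne_zero.2 (Ne.symm hx1'))
  let v : Fˣ := Units.mk0 (1 - ((x⁻¹ : Fˣ) : F)) (sub_ne_zero.2 (Ne.symm hxinv1))
  have huv : -x = u * v⁻¹ := by
    apply Units.ext
    have hx0 : (x : F) ≠ 0 := x.ne_zero
    have hv0 : (v : F) ≠ 0 := v.ne_zero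
    rw [Units.val_neg, Units.val_mul, Units.val_inv_eq_inv_val]
    rw [eq_mul_inv_iff_mul_eq₀ hv0]
    show -(x : F) * (1 - ((x⁻¹ : Fˣ) : F)) = 1 - (x : F)
    rw [Units.val_inv_eq_inv_val]
    field_simp
    ring
  have h1 : f x u = 0 := hf.steinberg x u (by show (x : F) + (1 - (x : F)) = 1; ring)
  have h2 : f x⁻¹ v = 0 := hf.steinberg x⁻¹ v (by
    show ((x⁻¹ : Fˣ) : F) + (1 - ((x⁻¹ : Fˣ) : F)) = 1; ring)
  rw [huv, hf.mul_right, hf.inv_right, h1, zero_add]
  rw [hf.inv_left] at h2
  rw [neg_eq_zero] at h2 ⊢
  exact h2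

/-- Antisymmetry: `{x, y} = -{y, x}`. -/
theorem antisymm (x y : Fˣ) : f x y = -f y x := by
  have h := hf.neg_self (x * y)
  have e1 : -(x * y) = (-x) * y := by rw [neg_mul]
  have e2 : -(x * y) = x * (-y) := by rw [mul_neg]
  rw [hf.mul_left] at h
  nth_rewrite 1 [e1] at h
  rw [e2] at h
  rw [hf.mul_right, hf.mul_right, hf.neg_self, zero_add] at h
  have h3 : f y x + f y (-y) = f y x := by rw [hf.neg_self, add_zero]
  rw [h3] at h
  exact eq_neg_of_add_eq_zero_left h

/-- `{x, x} = {x, -1}`. -/
theorem self_eq (x : Fˣ) : f x x = f x (-1) := by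
  have e : x = (-1) * (-x) := by rw [neg_mul_neg, one_mul]
  nth_rewrite 2 [e]
  rw [hf.mul_right, hf.neg_self, add_zero]

end IsSteinbergPairing

end Bimul

section Symbols

variable {F : Type u} [Field F] {n : ℕ}

theorem symbol_update_mul (x : Fin n → Fˣ) (i : Fin n) (a b : Fˣ) :
    (symbol (Function.update x i (a * b)) : K F n) =
      symbol (Function.update x i a) + symbol (Function.update x i b) := by
  have key : ∀ c : Fˣ, (fun j => Additive.ofMul (Function.update x i c j)) =
      Function.update (fun j => Additive.ofMul (x j)) i (Additive.ofMul c) := by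
    intro c
    funext j
    by_cases hj : j = i
    · subst hj; simp
    · simp [Function.update_of_ne hj]
  unfold symbol
  rw [key, key, key, ofMul_mul, (PiTensorProduct.tprod ℤ).map_update_add, map_add]

/-- The pairing obtained from a tuple by varying two distinct slots. -/
def slotPair (x : Fin n → Fˣ) (i j : Fin n) : Fˣ → Fˣ → K F n :=
  fun a b => symbol (Function.update (Function.update x i a) j b)

theorem slotPair_isSteinbergPairing (x : Fin n → Fˣ) (i j : Fin n) (hij : i ≠ j) :
    IsSteinbergPairing (slotPair x i j) where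
  mul_left a b c := by
    unfold slotPair
    rw [Function.update_comm (β := fun _ => Fˣ) hij (a * b) c x, symbol_update_mul,
      Function.update_comm (β := fun _ => Fˣ) hij.symm c a x,
      Function.update_comm (β := fun _ => Fˣ) hij.symm c b x]
  mul_right a b c := by
    unfold slotPair
    rw [symbol_update_mul]
  steinberg a b hab := by
    unfold slotPair
    apply symbol_eq_zero_of_isSteinberg
    have hi : Function.update (Function.update x i a) j b i = a := by
      rw [Function.update_of_ne hij, Function.update_self]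
    have hj : Function.update (Function.update x i a) j b j = b := Function.update_self ..
    rcases lt_or_gt_of_ne hij with h | h
    · exact ⟨i, j, h, by rw [hi, hj]; exact hab⟩
    · exact ⟨j, i, h, by rw [hi, hj, add_comm]; exact hab⟩

theorem slotPair_self (x : Fin n → Fˣ) (i j : Fin n) : slotPair x i j (x i) (x j) = symbol x := by
  unfold slotPair
  rw [Function.update_eq_self, Function.update_eq_self]

theorem symbol_comp_swap (x : Fin n → Fˣ) (i j : Fin n) (hij : i ≠ j) :
    (symbol (x ∘ Equiv.swap i j) : K F n) = -symbol x := by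
  have h1 : x ∘ Equiv.swap i j = Function.update (Function.update x i (x j)) j (x i) := by
    funext k
    by_cases hkj : k = j
    · subst hkj
      simp
    · by_cases hki : k = i
      · subst hki
        simp [Function.update_of_ne hij]
      · simp [Function.update_of_ne hkj, Function.update_of_ne hki, Equiv.swap_apply_of_ne_of_ne hki hkj]
  rw [h1, ← slotPair_self x i j]
  exact (slotPair_isSteinbergPairing x i j hij).antisymm (x j) (x i)

theorem symbol_comp_perm (σ : Equiv.Perm (Fin n)) :
    ∀ x : Fin n → Fˣ, (symbol (x ∘ σ) : K F n) = ((Equiv.Perm.sign σ : ℤˣ) : ℤ) • symbol x := by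
  induction σ using Equiv.Perm.swap_induction_on with
  | one => intro x; simp
  | swap_mul τ i j hij ih =>
    intro x
    have h1 : x ∘ (Equiv.swap i j * τ) = (x ∘ Equiv.swap i j) ∘ τ := by
      funext k; simp [Equiv.Perm.mul_apply]
    rw [h1, ih, symbol_comp_swap x i j hij, Equiv.Perm.sign_mul, Equiv.Perm.sign_swap hij]
    simp

theorem induction_symbol {P : K F n → Prop} (h0 : P 0) (hs : ∀ x : Fin n → Fˣ, P (symbol x))
    (hadd : ∀ a b, P a → P b → P (a + b)) (hneg : ∀ a, P a → P (-a)) : ∀ y, P y := by
  intro y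
  obtain ⟨t, rfl⟩ := mk_surjective F n y
  induction t using PiTensorProduct.induction_on with
  | smul_tprod r f =>
    rw [map_zsmul, mk_tprod]
    have hnat : ∀ m : ℕ, P (m • symbol fun i => (f i).toMul) := by
      intro m
      induction m with
      | zero => rw [zero_smul]; exact h0
      | succ m ih => rw [succ_nsmul]; exact hadd _ _ ih (hs _)
    rcases Int.eq_nat_or_neg r with ⟨m, rfl | rfl⟩
    · rw [natCast_zsmul]; exact hnat m
    · rw [neg_smul, natCast_zsmul]; exact hneg _ (hnat m)
  | add x y hx hy => rw [map_add]; exact hadd _ _ hx hy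

end Symbols

section Zpow

theorem zpow_of_mul {G : Type*} {M : Type*} [Group G] [AddCommGroup M] (g : G → M)
    (hg : ∀ a b, g (a * b) = g a + g b) (a : G) (i : ℤ) : g (a ^ i) = i • g a := by
  have h1 : g 1 = 0 := by
    have h := hg 1 1
    rw [mul_one] at h
    exact (add_eq_left (a := g 1) (b := g 1)).1 h.symm
  let φ : G →* Multiplicative M :=
    { toFun := fun a => Multiplicative.ofAdd (g a)
      map_one' := by rw [h1]; rfl
      map_mul' := fun a b => by rw [hg]; rfl }
  have h2 := map_zpow φ a i
  exact congrArg Multiplicative.toAdd h2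

variable {F : Type u} [Field F] {M : Type w} [AddCommGroup M]

theorem IsSteinbergPairing.zpow_left {f : Fˣ → Fˣ → M} (hf : IsSteinbergPairing f) (a c : Fˣ) (i : ℤ) :
    f (a ^ i) c = i • f a c :=
  zpow_of_mul (fun a => f a c) (fun a b => hf.mul_left a b c) a i

theorem IsSteinbergPairing.zpow_right {f : Fˣ → Fˣ → M} (hf : IsSteinbergPairing f) (a c : Fˣ) (i : ℤ) :
    f a (c ^ i) = i • f a c :=
  zpow_of_mul (fun c => f a c) (fun b c => hf.mul_right a b c) c i

theorem symbol_one_mul (a b : Fˣ) : (symbol ![a * b] : K F 1) = symbol ![a] + symbol ![b] := by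
  have h := symbol_update_mul (![1] : Fin 1 → Fˣ) 0 a b
  have e : ∀ c : Fˣ, Function.update (![1] : Fin 1 → Fˣ) 0 c = ![c] := by
    intro c
    funext k
    fin_cases k
    simp
  rw [e, e, e] at h
  exact h

theorem symbol_one_zpow (a : Fˣ) (i : ℤ) : (symbol ![a ^ i] : K F 1) = i • symbol ![a] :=
  zpow_of_mul (fun a => (symbol ![a] : K F 1)) symbol_one_mul a i

theorem pair_eq (a b : Fˣ) :
    slotPair (![1, 1] : Fin 2 → Fˣ) 0 1 a b = (symbol ![a, b] : K F 2) := by
  unfold slotPair
  congr 1
  funext k
  fin_cases k <;> simp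

theorem pair_isSteinbergPairing :
    IsSteinbergPairing (fun a b : Fˣ => (symbol ![a, b] : K F 2)) := by
  have h := slotPair_isSteinbergPairing (![1, 1] : Fin 2 → Fˣ) 0 1 (by decide)
  have e : slotPair (![1, 1] : Fin 2 → Fˣ) 0 1 = fun a b : Fˣ => (symbol ![a, b] : K F 2) := by
    funext a b
    exact pair_eq a b
  rw [e] at h
  exact h

end Zpow

end Groth.Agent.Helper6.MilnorKBasic
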