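import Groth.Agent.Helper6.MilnorKBasic

/-!
Helper lemmas for Milnor K-theory of the fraction field of a discrete valuation ring: the
decomposition `x = π^e u` of units of the fraction field, the induced "unit part" homomorphism,
and the specialization map.
-/

set_option autoImplicit false

universe u v

namespace Groth.Agent.Helper6.MilnorKDVR

open MilK

variable {A : Type u} [CommRing A] [IsDomain A] [IsDiscreteValuationRing A]
  {L : Type v} [Field L] [Algebra A L] [IsFractionRing A L] {ϖ : A} (hϖ : Irreducible ϖ)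

include hϖ in
theorem exists_decomp (x : Lˣ) :
    ∃ (e : ℤ) (u : Aˣ), x = unitFrac A L ϖ hϖ.ne_zero ^ e * unitToFrac A L u := by
  obtain ⟨e, u, hu⟩ :=
    IsDiscreteValuationRing.exists_units_eq_smul_zpow_of_irreducible (K := L) hϖ x.ne_zero
  refine ⟨e, u, ?_⟩
  apply Units.ext
  rw [hu, Units.val_mul, Units.val_zpow_eq_zpow_val]
  simp [MilK.unitFrac, MilK.unitToFrac, Units.smul_def, Algebra.smul_def, mul_comm]

omit [IsDomain A] [IsDiscreteValuationRing A] in
theorem unitToFrac_injective : Function.Injective (unitToFrac A L) := by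
  intro u u' h
  apply Units.ext
  have := congrArg (fun z : Lˣ => (z : L)) h
  exact IsFractionRing.injective A L this

omit [IsDomain A] [IsDiscreteValuationRing A] in
include hϖ in
theorem natPow_eq_unitToFrac {m : ℕ} {w : Aˣ}
    (h : unitFrac A L ϖ hϖ.ne_zero ^ m = unitToFrac A L w) : m = 0 := by
  by_contra hm
  have h1 : algebraMap A L (ϖ ^ m) = algebraMap A L (w : A) := by
    have := congrArg (fun z : Lˣ => (z : L)) h
    simpa [MilK.unitFrac, MilK.unitToFrac] using this
  have h2 : ϖ ^ m = (w : A) := IsFractionRing.injective A L h1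
  have h3 : IsUnit (ϖ ^ m) := h2 ▸ w.isUnit
  exact hϖ.not_isUnit ((isUnit_pow_iff hm).1 h3)

omit [IsDomain A] [IsDiscreteValuationRing A] in
include hϖ in
theorem zpow_eq_unitToFrac {n : ℤ} {w : Aˣ}
    (h : unitFrac A L ϖ hϖ.ne_zero ^ n = unitToFrac A L w) : n = 0 := by
  rcases Int.eq_nat_or_neg n with ⟨m, rfl | rfl⟩
  · rw [zpow_natCast] at h
    rw [natPow_eq_unitToFrac hϖ h]; rfl
  · rw [zpow_neg, zpow_natCast, inv_eq_iff_eq_inv, ← map_inv] at h
    rw [natPow_eq_unitToFrac hϖ h]; rfl

omit [IsDomain A] [IsDiscreteValuationRing A] in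
include hϖ in
theorem decomp_unique {e e' : ℤ} {u u' : Aˣ}
    (h : unitFrac A L ϖ hϖ.ne_zero ^ e * unitToFrac A L u =
      unitFrac A L ϖ hϖ.ne_zero ^ e' * unitToFrac A L u') : e = e' ∧ u = u' := by
  have h1 : unitFrac A L ϖ hϖ.ne_zero ^ (e - e') = unitToFrac A L (u' * u⁻¹) := by
    have h0 : unitFrac A L ϖ hϖ.ne_zero ^ e =
        unitFrac A L ϖ hϖ.ne_zero ^ e' * (unitToFrac A L u' * (unitToFrac A L u)⁻¹) := by
      rw [← mul_assoc, ← h, mul_inv_cancel_right]
    rw [zpow_sub, map_mul, map_inv, h0, mul_comm (unitFrac A L ϖ hϖ.ne_zero ^ e'),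
      mul_inv_cancel_right]
  have h2 : e - e' = 0 := zpow_eq_unitToFrac hϖ h1
  have h3 : e = e' := sub_eq_zero.1 h2
  refine ⟨h3, ?_⟩
  rw [h3] at h
  exact unitToFrac_injective (mul_left_cancel h)

/-- The valuation of a unit of the fraction field. -/
noncomputable def ord (x : Lˣ) : ℤ := Classical.choose (exists_decomp hϖ x)

/-- The unit part of a unit of the fraction field, w.r.t. the uniformizer `ϖ`. -/
noncomputable def upart (x : Lˣ) : Aˣ := Classical.choose (Classical.choose_spec (exists_decomp hϖ x))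

theorem decomp (x : Lˣ) :
    x = unitFrac A L ϖ hϖ.ne_zero ^ ord hϖ x * unitToFrac A L (upart hϖ x) :=
  Classical.choose_spec (Classical.choose_spec (exists_decomp hϖ x))

theorem ord_upart_of_eq {x : Lˣ} {e : ℤ} {u : Aˣ}
    (h : x = unitFrac A L ϖ hϖ.ne_zero ^ e * unitToFrac A L u) : ord hϖ x = e ∧ upart hϖ x = u :=
  decomp_unique hϖ ((decomp hϖ x).symm.trans h)

theorem upart_mul (x y : Lˣ) : upart hϖ (x * y) = upart hϖ x * upart hϖ y := by
  refine (ord_upart_of_eq hϖ (e := ord hϖ x + ord hϖ y) ?_).2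
  conv_lhs => rw [decomp hϖ x, decomp hϖ y]
  rw [zpow_add, map_mul]
  exact mul_mul_mul_comm _ _ _ _

theorem ord_mul (x y : Lˣ) : ord hϖ (x * y) = ord hϖ x + ord hϖ y := by
  refine (ord_upart_of_eq hϖ (u := upart hϖ x * upart hϖ y) ?_).1
  conv_lhs => rw [decomp hϖ x, decomp hϖ y]
  rw [zpow_add, map_mul]
  exact mul_mul_mul_comm _ _ _ _

/-- The unit part as a monoid homomorphism. -/
noncomputable def upartHom : Lˣ →* Aˣ where
  toFun := upart hϖ
  map_one' := by
    refine (ord_upart_of_eq hϖ (e := 0) ?_).2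
    simp
  map_mul' := upart_mul hϖ

theorem upart_decomp (e : ℤ) (u : Aˣ) :
    upart hϖ (unitFrac A L ϖ hϖ.ne_zero ^ e * unitToFrac A L u) = u :=
  (ord_upart_of_eq hϖ rfl).2

theorem ord_decomp (e : ℤ) (u : Aˣ) :
    ord hϖ (unitFrac A L ϖ hϖ.ne_zero ^ e * unitToFrac A L u) = e :=
  (ord_upart_of_eq hϖ rfl).1

theorem ord_one : ord hϖ (1 : Lˣ) = 0 :=
  (ord_upart_of_eq hϖ (e := 0) (u := 1) (by simp)).1

theorem ord_inv (x : Lˣ) : ord hϖ x⁻¹ = -ord hϖ x := by
  have h := ord_mul hϖ x x⁻¹
  rw [mul_inv_cancel, ord_one] at h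
  linarith

theorem upart_unitToFrac (u : Aˣ) : upart hϖ (unitToFrac A L u) = u :=
  (ord_upart_of_eq hϖ (e := 0) (by simp)).2

/-- The residue class of the unit part, as a monoid homomorphism. -/
noncomputable def resPart : Lˣ →* (IsLocalRing.ResidueField A)ˣ :=
  (unitResidue A).comp (upartHom hϖ)

theorem resPart_apply (x : Lˣ) : resPart hϖ x = unitResidue A (upart hϖ x) := rfl

theorem resPart_decomp (e : ℤ) (u : Aˣ) :
    resPart hϖ (unitFrac A L ϖ hϖ.ne_zero ^ e * unitToFrac A L u) = unitResidue A u := by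
  rw [resPart_apply, upart_decomp]

theorem resPart_unitToFrac (u : Aˣ) : resPart hϖ (unitToFrac A L u) = unitResidue A u := by
  rw [resPart_apply, upart_unitToFrac]

theorem resPart_neg_one : resPart hϖ (-1 : Lˣ) = -1 := by
  have h1 : (-1 : Lˣ) = unitToFrac A L (-1 : Aˣ) := by
    apply Units.ext
    simp [MilK.unitToFrac]
  rw [h1, resPart_unitToFrac]
  apply Units.ext
  simp [MilK.unitResidue]

theorem resPart_neg (x : Lˣ) : resPart hϖ (-x) = -resPart hϖ x := by
  have : -x = -1 * x := by simp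
  rw [this, map_mul, resPart_neg_one]
  simp

theorem resPart_of_one_sub {x : Lˣ} {z : A} (hz : z ∈ IsLocalRing.maximalIdeal A)
    (hx : (x : L) = 1 - algebraMap A L z) : resPart hϖ x = 1 := by
  have hu : IsUnit (1 - z) :=
    IsLocalRing.isUnit_one_sub_self_of_mem_nonunits z ((IsLocalRing.mem_maximalIdeal z).1 hz)
  have h1 : x = unitToFrac A L hu.unit := by
    apply Units.ext
    rw [hx]
    simp [MilK.unitToFrac]
  rw [h1, resPart_unitToFrac]
  apply Units.ext
  have hz0 : IsLocalRing.residue A z = 0 := (IsLocalRing.residue_eq_zero_iff z).2 hz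
  simp [MilK.unitResidue, hz0]

theorem exists_mem_maximalIdeal_of_ord_pos {x : Lˣ} (hx : 0 < ord hϖ x) :
    ∃ z ∈ IsLocalRing.maximalIdeal A, (x : L) = algebraMap A L z := by
  obtain ⟨m, hm⟩ := Int.eq_ofNat_of_zero_le hx.le
  have hm0 : m ≠ 0 := by
    rintro rfl
    rw [hm] at hx
    exact lt_irrefl _ hx
  refine ⟨ϖ ^ m * (upart hϖ x : A), ?_, ?_⟩
  · apply Ideal.mul_mem_right
    obtain ⟨k, rfl⟩ := Nat.exists_eq_succ_of_ne_zero hm0
    rw [pow_succ]
    exact Ideal.mul_mem_left _ _ ((IsLocalRing.mem_maximalIdeal ϖ).2 hϖ.not_isUnit)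
  · conv_lhs => rw [decomp hϖ x, hm]
    simp [MilK.unitFrac, MilK.unitToFrac]

/-- The key vanishing: a Steinberg pairing on the residue field vanishes on the residue parts of
two units of the fraction field with sum `1`. -/
theorem pairing_resPart_eq_zero {M : Type*} [AddCommGroup M]
    {P : (IsLocalRing.ResidueField A)ˣ → (IsLocalRing.ResidueField A)ˣ → M}
    (hP : MilnorKBasic.IsSteinbergPairing P) (a b : Lˣ) (hab : (a : L) + (b : L) = 1) :
    P (resPart hϖ a) (resPart hϖ b) = 0 := by
  rcases lt_trichotomy (ord hϖ a) 0 with ha | ha | ha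
  · -- ord a < 0
    have ha' : 0 < ord hϖ a⁻¹ := by rw [ord_inv]; linarith
    obtain ⟨z, hz, hza⟩ := exists_mem_maximalIdeal_of_ord_pos hϖ ha'
    have hc : ((b * (-a)⁻¹ : Lˣ) : L) = 1 - algebraMap A L z := by
      rw [← hza]
      have hb : (b : L) = 1 - (a : L) := by linear_combination hab
      have ha0 : (a : L) ≠ 0 := a.ne_zero
      simp only [Units.val_mul, Units.val_inv_eq_inv_val, Units.val_neg, hb]
      field_simp
      ring
    have h1 := resPart_of_one_sub hϖ hz hc
    have h2 : resPart hϖ b = -resPart hϖ a := by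
      have : b = (b * (-a)⁻¹) * (-a) := by simp
      rw [this, map_mul, h1, one_mul, resPart_neg]
    rw [h2]
    exact hP.neg_self _
  · rcases lt_trichotomy (ord hϖ b) 0 with hb | hb | hb
    · have hb' : 0 < ord hϖ b⁻¹ := by rw [ord_inv]; linarith
      obtain ⟨z, hz, hzb⟩ := exists_mem_maximalIdeal_of_ord_pos hϖ hb'
      have hc : ((a * (-b)⁻¹ : Lˣ) : L) = 1 - algebraMap A L z := by
        rw [← hzb]
        have ha1 : (a : L) = 1 - (b : L) := by linear_combination hab
        have hb0 : (b : L) ≠ 0 := b.ne_zero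
        simp only [Units.val_mul, Units.val_inv_eq_inv_val, Units.val_neg, ha1]
        field_simp
        ring
      have h1 := resPart_of_one_sub hϖ hz hc
      have h2 : resPart hϖ a = -resPart hϖ b := by
        have : a = (a * (-b)⁻¹) * (-b) := by simp
        rw [this, map_mul, h1, one_mul, resPart_neg]
      rw [h2, hP.antisymm, hP.neg_self, neg_zero]
    · -- both of order zero
      have hua : a = unitToFrac A L (upart hϖ a) := by
        conv_lhs => rw [decomp hϖ a, ha]
        simp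
      have hub : b = unitToFrac A L (upart hϖ b) := by
        conv_lhs => rw [decomp hϖ b, hb]
        simp
      apply hP.steinberg
      rw [resPart_apply, resPart_apply]
      have h1 : algebraMap A L ((upart hϖ a : A) + (upart hϖ b : A)) = algebraMap A L 1 := by
        rw [map_add, map_one]
        have e1 : algebraMap A L (upart hϖ a : A) = (a : L) := by
          conv_rhs => rw [hua]
          rfl
        have e2 : algebraMap A L (upart hϖ b : A) = (b : L) := by
          conv_rhs => rw [hub]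
          rfl
        rw [e1, e2, hab]
      have h2 : (upart hϖ a : A) + (upart hϖ b : A) = 1 := IsFractionRing.injective A L h1
      have := congrArg (IsLocalRing.residue A) h2
      simpa [MilK.unitResidue] using this
    · obtain ⟨z, hz, hzb⟩ := exists_mem_maximalIdeal_of_ord_pos hϖ hb
      have hc : (a : L) = 1 - algebraMap A L z := by rw [← hzb]; linear_combination hab
      rw [resPart_of_one_sub hϖ hz hc]
      exact hP.one_left _
  · obtain ⟨z, hz, hza⟩ := exists_mem_maximalIdeal_of_ord_pos hϖ ha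
    have hc : (b : L) = 1 - algebraMap A L z := by rw [← hza]; linear_combination hab
    rw [resPart_of_one_sub hϖ hz hc]
    exact hP.one_right _

section SpecMap

variable (n : ℕ)

/-- The symbol, as a multilinear map. -/
noncomputable def symbolMultilinear (F : Type v) [Field F] (n : ℕ) :
    MultilinearMap ℤ (fun _ : Fin n => Additive Fˣ) (K F n) :=
  (MilK.mk F n).toIntLinearMap.compMultilinearMap (PiTensorProduct.tprod ℤ)

/-- The multilinear map underlying the specialization map. -/
noncomputable def specMulti :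
    MultilinearMap ℤ (fun _ : Fin n => Additive Lˣ) (K (IsLocalRing.ResidueField A) n) :=
  (symbolMultilinear (IsLocalRing.ResidueField A) n).compLinearMap
    (fun _ => (MonoidHom.toAdditive (resPart (L := L) hϖ)).toIntLinearMap)

theorem specMulti_apply (x : Fin n → Lˣ) :
    specMulti hϖ n (fun i => Additive.ofMul (x i)) = symbol (fun i => resPart hϖ (x i)) := rfl

theorem specMulti_steinberg (x : Fin n → Lˣ) (h : IsSteinberg L x) :
    specMulti hϖ n (fun i => Additive.ofMul (x i)) = 0 := by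
  rw [specMulti_apply]
  obtain ⟨i, j, hij, hsum⟩ := h
  rw [← MilnorKBasic.slotPair_self (fun k => resPart hϖ (x k)) i j]
  exact pairing_resPart_eq_zero hϖ
    (MilnorKBasic.slotPair_isSteinbergPairing (fun k => resPart hϖ (x k)) i j hij.ne) _ _ hsum

/-- The specialization map attached to the uniformizer `ϖ`. -/
noncomputable def specMap : K L n →+ K (IsLocalRing.ResidueField A) n :=
  MilK.lift (specMulti hϖ n) (specMulti_steinberg hϖ n)

theorem specMap_symbol (x : Fin n → Lˣ) :
    specMap hϖ n (symbol x) = symbol (fun i => resPart hϖ (x i)) := by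
  rw [specMap, MilK.lift_symbol, specMulti_apply]

theorem isSpecMap_specMap : IsSpecMap A L ϖ hϖ n (specMap hϖ n) := by
  intro e u
  rw [specMap_symbol]
  congr 1
  funext i
  exact resPart_decomp hϖ (e i) (u i)

theorem isSpecMap_unique {s s' : K L n →+ K (IsLocalRing.ResidueField A) n}
    (hs : IsSpecMap A L ϖ hϖ n s) (hs' : IsSpecMap A L ϖ hϖ n s') : s = s' := by
  ext x
  refine MilnorKBasic.induction_symbol (P := fun x => s x = s' x) ?_ ?_ ?_ ?_ x
  · simp
  · intro w
    have hw : w = fun i => unitFrac A L ϖ hϖ.ne_zero ^ ord hϖ (w i) *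
        unitToFrac A L (upart hϖ (w i)) := funext fun i => decomp hϖ (w i)
    rw [hw, hs, hs']
  · intro a b ha hb
    rw [map_add, map_add, ha, hb]
  · intro a ha
    rw [map_neg, map_neg, ha]

end SpecMap

section OneUnits

variable {M : Type*} [AddCommGroup M]

omit [IsDomain A] [IsDiscreteValuationRing A] in
theorem isUnit_one_add_of_mem [IsLocalRing A] {z : A} (hz : z ∈ IsLocalRing.maximalIdeal A) :
    IsUnit (1 + z) := by
  rw [← IsLocalRing.notMem_maximalIdeal]
  intro h
  have h1 : (1 : A) ∈ IsLocalRing.maximalIdeal A := by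
    have := Ideal.sub_mem _ h hz
    rwa [add_sub_cancel_right] at this
  exact (Ideal.ne_top_iff_one _).1 (IsLocalRing.maximalIdeal.isMaximal A).ne_top h1

omit [IsDomain A] [IsDiscreteValuationRing A] in
theorem residue_eq_one_of_eq_one_add [IsLocalRing A] {v : Aˣ} {z : A}
    (hz : z ∈ IsLocalRing.maximalIdeal A) (hv : (v : A) = 1 + z) :
    IsLocalRing.residue A (v : A) = 1 := by
  rw [hv, map_add, map_one, (IsLocalRing.residue_eq_zero_iff z).2 hz, add_zero]

omit [IsDomain A] [IsDiscreteValuationRing A] in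
include hϖ in
/-- `{1 + π y, π} = -{1 + π y, -y}` for a unit `y`. -/
theorem pairing_one_add_uniformizer {P : Lˣ → Lˣ → M} (hP : MilnorKBasic.IsSteinbergPairing P)
    (y v : Aˣ) (hv : (v : A) = 1 + ϖ * y) :
    P (unitToFrac A L v) (unitFrac A L ϖ hϖ.ne_zero) =
      -P (unitToFrac A L v) (unitToFrac A L (-y)) := by
  have h0 : P (unitToFrac A L v) (unitFrac A L ϖ hϖ.ne_zero * unitToFrac A L (-y)) = 0 := by
    apply hP.steinberg
    simp only [MilK.unitToFrac, MilK.unitFrac, Units.val_mul, Units.coe_map, MonoidHom.coe_coe,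
      Units.val_mk0, hv, Units.val_neg, map_add, map_mul, map_neg, map_one]
    ring
  rw [hP.mul_right] at h0
  exact eq_neg_of_add_eq_zero_left h0

include hϖ in
/-- If a Steinberg pairing takes values in a subgroup `S` on pairs (1-unit, unit), then it does so
on pairs (1-unit, uniformizer). -/
theorem pairing_oneUnit_uniformizer_mem {P : Lˣ → Lˣ → M} (hP : MilnorKBasic.IsSteinbergPairing P)
    (S : AddSubgroup M)
    (hS : ∀ v c : Aˣ, IsLocalRing.residue A (v : A) = 1 →
      P (unitToFrac A L v) (unitToFrac A L c) ∈ S)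
    (u₀ : Aˣ) (hu₀ : IsLocalRing.residue A (u₀ : A) = 1) :
    P (unitToFrac A L u₀) (unitFrac A L ϖ hϖ.ne_zero) ∈ S := by
  have hmem : (u₀ : A) - 1 ∈ IsLocalRing.maximalIdeal A := by
    rw [← IsLocalRing.residue_eq_zero_iff, map_sub, hu₀, map_one, sub_self]
  rw [hϖ.maximalIdeal_eq, Ideal.mem_span_singleton'] at hmem
  obtain ⟨y, hy⟩ := hmem
  have hu₀' : (u₀ : A) = 1 + ϖ * y := by linear_combination -hy
  have hϖm : ϖ ∈ IsLocalRing.maximalIdeal A := (IsLocalRing.mem_maximalIdeal ϖ).2 hϖ.not_isUnit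
  by_cases hyu : IsUnit y
  · rw [pairing_one_add_uniformizer hϖ hP hyu.unit u₀ (by simpa using hu₀')]
    exact S.neg_mem (hS _ _ hu₀)
  · have hym : y ∈ IsLocalRing.maximalIdeal A := (IsLocalRing.mem_maximalIdeal y).2 hyu
    -- v₁ = 1 + ϖ
    have hv₁ : IsUnit (1 + ϖ) := isUnit_one_add_of_mem hϖm
    -- y - 1 is a unit
    have hy1 : IsUnit (y - 1) := by
      have := isUnit_one_add_of_mem (A := A) (z := -y) (Ideal.neg_mem_iff _ |>.2 hym)
      have h2 : y - 1 = -(1 + -y) := by ring
      rw [h2]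
      exact this.neg
    obtain ⟨v₁, hv₁e⟩ := hv₁
    obtain ⟨yu, hyue⟩ := hy1
    set c₂ : Aˣ := yu * v₁⁻¹ with hc₂
    have hc₂v : (v₁ : A) * (c₂ : A) = y - 1 := by
      rw [hc₂, Units.val_mul, ← hyue]
      rw [mul_comm (yu : A), ← mul_assoc, Units.mul_inv, one_mul]
    have hv₂ : IsUnit (1 + ϖ * (c₂ : A)) :=
      isUnit_one_add_of_mem (Ideal.mul_mem_right _ _ hϖm)
    obtain ⟨v₂, hv₂e⟩ := hv₂
    have hprod : u₀ = v₁ * v₂ := by
      apply Units.ext
      rw [Units.val_mul, hv₂e, hu₀']
      have : (v₁ : A) * (1 + ϖ * (c₂ : A)) = (v₁ : A) + ϖ * ((v₁ : A) * (c₂ : A)) := by ring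
      rw [this, hc₂v, hv₁e]
      ring
    rw [hprod, map_mul, hP.mul_left,
      pairing_one_add_uniformizer hϖ hP 1 v₁ (by rw [hv₁e]; simp),
      pairing_one_add_uniformizer hϖ hP c₂ v₂ hv₂e]
    refine S.add_mem (S.neg_mem (hS _ _ ?_)) (S.neg_mem (hS _ _ ?_))
    · exact residue_eq_one_of_eq_one_add hϖm hv₁e
    · exact residue_eq_one_of_eq_one_add (Ideal.mul_mem_right _ _ hϖm) hv₂e

include hϖ in
theorem pairing_oneUnit_mem {P : Lˣ → Lˣ → M} (hP : MilnorKBasic.IsSteinbergPairing P)
    (S : AddSubgroup M)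
    (hS : ∀ v c : Aˣ, IsLocalRing.residue A (v : A) = 1 →
      P (unitToFrac A L v) (unitToFrac A L c) ∈ S)
    (u₀ : Aˣ) (hu₀ : IsLocalRing.residue A (u₀ : A) = 1) (b : Lˣ) :
    P (unitToFrac A L u₀) b ∈ S := by
  rw [decomp hϖ b, hP.mul_right, hP.zpow_right]
  exact S.add_mem (S.zsmul_mem (pairing_oneUnit_uniformizer_mem hϖ hP S hS u₀ hu₀) _)
    (hS _ _ hu₀)

end OneUnits

section UnitSymbols

variable (A L) in
/-- The subgroup of `K_m(L)` generated by symbols of units of `A`. -/
def unitSymbols (m : ℕ) : AddSubgroup (K L m) :=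
  AddSubgroup.closure {z : K L m | ∃ u : Fin m → Aˣ, z = symbol (fun i => unitToFrac A L (u i))}

include hϖ in
theorem symbol_mem_unitSymbols_of_oneUnit_aux (m : ℕ) (j : Fin m) (t : Finset (Fin m)) :
    ∀ x : Fin m → Lˣ,
      (∃ u₀ : Aˣ, IsLocalRing.residue A (u₀ : A) = 1 ∧ x j = unitToFrac A L u₀) →
      (∀ k, k ∉ t → k ≠ j → ∃ c : Aˣ, x k = unitToFrac A L c) →
      symbol x ∈ unitSymbols A L m := by
  classical
  induction t using Finset.induction_on with
  | empty =>
    intro x ⟨u₀, _, hx0⟩ hx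
    have hall : ∀ k, ∃ c : Aˣ, x k = unitToFrac A L c := by
      intro k
      by_cases hk : k = j
      · exact ⟨u₀, hk ▸ hx0⟩
      · exact hx k (Finset.notMem_empty k) hk
    choose u hu using hall
    refine AddSubgroup.subset_closure ⟨u, ?_⟩
    congr 1
    funext k
    exact hu k
  | insert a t ha ih =>
    intro x ⟨u₀, hu₀, hx0⟩ hx
    by_cases ha0 : a = j
    · refine ih x ⟨u₀, hu₀, hx0⟩ fun k hk hk0 => hx k ?_ hk0
      rw [Finset.mem_insert, not_or]
      exact ⟨fun h => hk0 (h.trans ha0), hk⟩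
    · have h0a : j ≠ a := Ne.symm ha0
      have hP := MilnorKBasic.slotPair_isSteinbergPairing x j a h0a
      rw [← MilnorKBasic.slotPair_self x j a, hx0]
      refine pairing_oneUnit_mem hϖ hP (unitSymbols A L m) ?_ u₀ hu₀ (x a)
      intro v c hv
      refine ih _ ⟨v, hv, ?_⟩ ?_
      · rw [Function.update_of_ne h0a, Function.update_self]
      · intro k hk hk0
        by_cases hka : k = a
        · exact ⟨c, by rw [hka, Function.update_self]⟩
        · rw [Function.update_of_ne hka, Function.update_of_ne hk0]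
          refine hx k ?_ hk0
          rw [Finset.mem_insert, not_or]
          exact ⟨hka, hk⟩

include hϖ in
/-- A symbol with a 1-unit entry (in any slot) lies in the subgroup generated by unit symbols. -/
theorem symbol_mem_unitSymbols_of_oneUnit (m : ℕ) (j : Fin m) (x : Fin m → Lˣ) (u₀ : Aˣ)
    (hu₀ : IsLocalRing.residue A (u₀ : A) = 1) (hx : x j = unitToFrac A L u₀) :
    symbol x ∈ unitSymbols A L m :=
  symbol_mem_unitSymbols_of_oneUnit_aux hϖ m j Finset.univ x ⟨u₀, hu₀, hx⟩
    fun k hk => absurd (Finset.mem_univ k) hk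

include hϖ in
theorem symbol_cons_oneUnit_mem_unitSymbols (m : ℕ) (u₀ : Aˣ)
    (hu₀ : IsLocalRing.residue A (u₀ : A) = 1) (w : Fin m → Lˣ) :
    symbol (Fin.cons (unitToFrac A L u₀) w : Fin (m + 1) → Lˣ) ∈ unitSymbols A L (m + 1) :=
  symbol_mem_unitSymbols_of_oneUnit hϖ (m + 1) 0 _ u₀ hu₀ rfl

end UnitSymbols

end Groth.Agent.Helper6.MilnorKDVR
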