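import Groth.Agent.Helper6.MilnorKLift

/-!
Generation of the Milnor K-groups of the fraction field of a discrete valuation ring by unit symbols
and symbols `{π, u₁, …, uₙ}`; the tame symbol kills unit symbols.
-/

set_option autoImplicit false
set_option linter.unusedSectionVars false

universe u v

namespace Groth.Agent.Helper6.MilnorKGen

open MilK Groth.Agent.Helper6.MilnorKDVR

variable {A : Type u} [CommRing A] [IsDomain A] [IsDiscreteValuationRing A]
  {L : Type v} [Field L] [Algebra A L] [IsFractionRing A L] {ϖ : A} (hϖ : Irreducible ϖ)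

omit [IsDomain A] [IsDiscreteValuationRing A] [IsFractionRing A L] in
theorem neg_one_eq_unitToFrac : (-1 : Lˣ) = unitToFrac A L (-1 : Aˣ) := by
  apply Units.ext
  simp [MilK.unitToFrac]

section Gen

variable {m : ℕ} (G : AddSubgroup (K L (m + 1)))
  (hU : ∀ u : Fin (m + 1) → Aˣ, symbol (fun i => unitToFrac A L (u i)) ∈ G)
  (hπ : ∀ u : Fin m → Aˣ,
    symbol (Fin.cons (unitFrac A L ϖ hϖ.ne_zero) (fun i => unitToFrac A L (u i)) :
      Fin (m + 1) → Lˣ) ∈ G)

include hU hπ in
theorem symbol_mem_of_uniformizer_slots (N : ℕ) :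
    ∀ (s : Finset (Fin (m + 1))) (x : Fin (m + 1) → Lˣ), s.card = N →
      (∀ k ∈ s, x k = unitFrac A L ϖ hϖ.ne_zero) →
      (∀ k, k ∉ s → ∃ c : Aˣ, x k = unitToFrac A L c) → symbol x ∈ G := by
  classical
  induction N using Nat.strong_induction_on with
  | _ N ih =>
    intro s x hs hsπ hsu
    rcases Nat.lt_or_ge 1 s.card with h2 | h2
    · -- at least two uniformizer slots
      obtain ⟨a, ha, b, hb, hab⟩ := Finset.one_lt_card.1 h2
      have hP := MilnorKBasic.slotPair_isSteinbergPairing x a b hab
      have h1 : symbol x = symbol (Function.update x b (-1)) := by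
        rw [← MilnorKBasic.slotPair_self x a b, hsπ a ha, hsπ b hb, hP.self_eq]
        unfold MilnorKBasic.slotPair
        rw [← hsπ a ha, Function.update_eq_self]
      rw [h1]
      refine ih (s.erase b).card ?_ (s.erase b) _ rfl ?_ ?_
      · rw [← hs]
        exact Finset.card_erase_lt_of_mem hb
      · intro k hk
        rw [Finset.mem_erase] at hk
        rw [Function.update_of_ne hk.1]
        exact hsπ k hk.2
      · intro k hk
        by_cases hkb : k = b
        · rw [hkb, Function.update_self]
          exact ⟨-1, neg_one_eq_unitToFrac⟩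
        · rw [Function.update_of_ne hkb]
          refine hsu k fun hks => hk ?_
          exact Finset.mem_erase.2 ⟨hkb, hks⟩
    · rcases Nat.eq_zero_or_pos s.card with h0 | h0
      · -- no uniformizer slot
        have hse : s = ∅ := Finset.card_eq_zero.1 h0
        have hall : ∀ k, ∃ c : Aˣ, x k = unitToFrac A L c := fun k =>
          hsu k (by rw [hse]; exact Finset.notMem_empty k)
        choose u hu using hall
        have : x = fun i => unitToFrac A L (u i) := funext hu
        rw [this]
        exact hU u
      · -- exactly one uniformizer slot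
        have h1 : s.card = 1 := le_antisymm h2 h0
        obtain ⟨a, hsa⟩ := Finset.card_eq_one.1 h1
        have hxa : x a = unitFrac A L ϖ hϖ.ne_zero := hsπ a (by rw [hsa]; exact Finset.mem_singleton_self a)
        have hxu : ∀ k, k ≠ a → ∃ c : Aˣ, x k = unitToFrac A L c := fun k hk =>
          hsu k (by rw [hsa, Finset.mem_singleton]; exact hk)
        -- the case where the slot is `0`
        have key : ∀ y : Fin (m + 1) → Lˣ, y 0 = unitFrac A L ϖ hϖ.ne_zero →
            (∀ k, k ≠ 0 → ∃ c : Aˣ, y k = unitToFrac A L c) → symbol y ∈ G := by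
          intro y hy0 hyu
          have hall : ∀ i : Fin m, ∃ c : Aˣ, y i.succ = unitToFrac A L c := fun i =>
            hyu i.succ (Fin.succ_ne_zero i)
          choose u hu using hall
          have : y = Fin.cons (unitFrac A L ϖ hϖ.ne_zero) (fun i => unitToFrac A L (u i)) := by
            funext k
            refine Fin.cases ?_ (fun i => ?_) k
            · rw [Fin.cons_zero, hy0]
            · rw [Fin.cons_succ, hu i]
          rw [this]
          exact hπ u
        by_cases ha0 : a = 0
        · subst ha0
          exact key x hxa hxu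
        · have h0a : (0 : Fin (m + 1)) ≠ a := Ne.symm ha0
          have hsw := MilnorKBasic.symbol_comp_swap x 0 a h0a
          have hx : symbol x = -symbol (x ∘ Equiv.swap 0 a) := by rw [hsw, neg_neg]
          rw [hx]
          refine G.neg_mem (key _ ?_ ?_)
          · rw [Function.comp_apply, Equiv.swap_apply_left, hxa]
          · intro k hk
            rw [Function.comp_apply]
            by_cases hka : k = a
            · rw [hka, Equiv.swap_apply_right]
              exact hxu 0 h0a
            · rw [Equiv.swap_apply_of_ne_of_ne hk hka]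
              exact hxu k hka

include hU hπ in
theorem symbol_mem_aux (t : Finset (Fin (m + 1))) :
    ∀ x : Fin (m + 1) → Lˣ,
      (∀ k, k ∉ t → x k = unitFrac A L ϖ hϖ.ne_zero ∨ ∃ c : Aˣ, x k = unitToFrac A L c) →
      symbol x ∈ G := by
  classical
  induction t using Finset.induction_on with
  | empty =>
    intro x hx
    refine symbol_mem_of_uniformizer_slots hϖ G hU hπ _
      (Finset.univ.filter fun k => x k = unitFrac A L ϖ hϖ.ne_zero) x rfl ?_ ?_
    · intro k hk
      exact (Finset.mem_filter.1 hk).2
    · intro k hk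
      rcases hx k (Finset.notMem_empty k) with h | h
      · exact absurd (Finset.mem_filter.2 ⟨Finset.mem_univ k, h⟩) hk
      · exact h
  | insert a t ha ih =>
    intro x hx
    have h1 : symbol x = ord hϖ (x a) • symbol (Function.update x a (unitFrac A L ϖ hϖ.ne_zero)) +
        symbol (Function.update x a (unitToFrac A L (upart hϖ (x a)))) := by
      conv_lhs => rw [← Function.update_eq_self a x, decomp hϖ (x a)]
      rw [MilnorKBasic.symbol_update_mul]
      congr 1
      exact MilnorKBasic.zpow_of_mul (fun c => symbol (Function.update x a c))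
        (fun b c => MilnorKBasic.symbol_update_mul x a b c) _ _
    rw [h1]
    refine G.add_mem (G.zsmul_mem (ih _ ?_) _) (ih _ ?_)
    · intro k hk
      by_cases hka : k = a
      · rw [hka, Function.update_self]; exact Or.inl rfl
      · rw [Function.update_of_ne hka]
        refine hx k ?_
        rw [Finset.mem_insert, not_or]; exact ⟨hka, hk⟩
    · intro k hk
      by_cases hka : k = a
      · rw [hka, Function.update_self]; exact Or.inr ⟨_, rfl⟩
      · rw [Function.update_of_ne hka]
        refine hx k ?_
        rw [Finset.mem_insert, not_or]; exact ⟨hka, hk⟩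

include hU hπ in
/-- A subgroup containing the unit symbols and the symbols `{π, u₁, …, uₘ}` contains all
symbols. -/
theorem symbol_mem (x : Fin (m + 1) → Lˣ) : symbol x ∈ G :=
  symbol_mem_aux hϖ G hU hπ Finset.univ x fun k hk => absurd (Finset.mem_univ k) hk

include hU hπ in
theorem eq_top : G = ⊤ := by
  rw [eq_top_iff]
  intro y _
  exact MilnorKBasic.induction_symbol (P := fun y => y ∈ G) G.zero_mem (symbol_mem hϖ G hU hπ)
    (fun a b ha hb => G.add_mem ha hb) (fun a ha => G.neg_mem ha) y

end Gen

section Tame

variable {m : ℕ}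

omit [IsDomain A] [IsDiscreteValuationRing A] [IsFractionRing A L] [Algebra A L] in
theorem symbol_cons_mul (a b : Lˣ) (t : Fin m → Lˣ) :
    (symbol (Fin.cons (a * b) t : Fin (m + 1) → Lˣ) : K L (m + 1)) =
      symbol (Fin.cons a t : Fin (m + 1) → Lˣ) + symbol (Fin.cons b t : Fin (m + 1) → Lˣ) := by
  have h := MilnorKBasic.symbol_update_mul (Fin.cons 1 t : Fin (m + 1) → Lˣ) 0 a b
  rwa [Fin.update_cons_zero, Fin.update_cons_zero, Fin.update_cons_zero] at h

variable (d : K L (m + 1) →+ K (IsLocalRing.ResidueField A) m) (hd : IsTameSymbol A L m d)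

include hϖ hd in
theorem tame_unitSymbol (u : Fin (m + 1) → Aˣ) :
    d (symbol fun i => unitToFrac A L (u i)) = 0 := by
  have hx : (fun i => unitToFrac A L (u i)) =
      (Fin.cons (unitToFrac A L (u 0)) (fun i : Fin m => unitToFrac A L (u i.succ)) :
        Fin (m + 1) → Lˣ) := by
    funext k
    refine Fin.cases ?_ (fun i => ?_) k
    · rw [Fin.cons_zero]
    · rw [Fin.cons_succ]
  have hirr : Irreducible (ϖ * (u 0 : A)) := (irreducible_mul_units (u 0)).2 hϖ
  have hmul : unitFrac A L (ϖ * (u 0 : A)) hirr.ne_zero =
      unitFrac A L ϖ hϖ.ne_zero * unitToFrac A L (u 0) := by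
    apply Units.ext
    simp [MilK.unitFrac, MilK.unitToFrac]
  have h1 := hd (ϖ * (u 0 : A)) hirr (fun i => u i.succ)
  have h2 := hd ϖ hϖ (fun i => u i.succ)
  rw [hmul, symbol_cons_mul, map_add, h2] at h1
  rw [hx]
  exact (add_eq_left).1 h1

include hϖ hd in
theorem unitSymbols_le_ker : unitSymbols A L (m + 1) ≤ d.ker := by
  rw [unitSymbols, AddSubgroup.closure_le]
  rintro z ⟨u, rfl⟩
  exact tame_unitSymbol hϖ d hd u

end Tame

section UpdateLemmas

variable {m : ℕ}

omit [IsDomain A] [IsDiscreteValuationRing A] [IsFractionRing A L] in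
theorem symbol_cons_units_update_mul (p : Lˣ) (u : Fin m → Aˣ) (k : Fin m) (a b : Aˣ) :
    (symbol (Fin.cons p (fun i => unitToFrac A L (Function.update u k (a * b) i)) :
        Fin (m + 1) → Lˣ) : K L (m + 1)) =
      symbol (Fin.cons p (fun i => unitToFrac A L (Function.update u k a i)) : Fin (m + 1) → Lˣ) +
      symbol (Fin.cons p (fun i => unitToFrac A L (Function.update u k b i)) : Fin (m + 1) → Lˣ) := by
  have key : ∀ c : Aˣ, (Fin.cons p (fun i => unitToFrac A L (Function.update u k c i)) :
      Fin (m + 1) → Lˣ) =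
      Function.update (Fin.cons p (fun i => unitToFrac A L (u i)) : Fin (m + 1) → Lˣ) k.succ
        (unitToFrac A L c) := by
    intro c
    rw [← Fin.cons_update]
    congr 1
    funext i
    by_cases hik : i = k
    · subst hik; simp
    · simp [Function.update_of_ne hik]
  rw [key, key, key, map_mul, MilnorKBasic.symbol_update_mul]

omit [IsDomain A] [IsDiscreteValuationRing A] [IsFractionRing A L] in
theorem symbol_units_update_mul (u : Fin m → Aˣ) (k : Fin m) (a b : Aˣ) :
    (symbol (fun i => unitToFrac A L (Function.update u k (a * b) i)) : K L m) =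
      symbol (fun i => unitToFrac A L (Function.update u k a i)) +
      symbol (fun i => unitToFrac A L (Function.update u k b i)) := by
  have key : ∀ c : Aˣ, (fun i => unitToFrac A L (Function.update u k c i)) =
      Function.update (fun i => unitToFrac A L (u i)) k (unitToFrac A L c) := by
    intro c
    funext i
    by_cases hik : i = k
    · subst hik; simp
    · simp [Function.update_of_ne hik]
  rw [key, key, key, map_mul, MilnorKBasic.symbol_update_mul]

omit [IsDomain A] [IsDiscreteValuationRing A] [IsFractionRing A L] in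
theorem isSteinberg_units {u : Fin m → Aˣ} {i j : Fin m} (hij : i < j)
    (h : (u i : A) + (u j : A) = 1) : IsSteinberg L (fun k => unitToFrac A L (u k)) := by
  refine ⟨i, j, hij, ?_⟩
  have := congrArg (algebraMap A L) h
  simpa [MilK.unitToFrac] using this

omit [IsDomain A] [IsDiscreteValuationRing A] [IsFractionRing A L] in
theorem isSteinberg_cons_units (p : Lˣ) {u : Fin m → Aˣ} {i j : Fin m} (hij : i < j)
    (h : (u i : A) + (u j : A) = 1) :
    IsSteinberg L (Fin.cons p (fun k => unitToFrac A L (u k)) : Fin (m + 1) → Lˣ) := by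
  refine ⟨i.succ, j.succ, Fin.succ_lt_succ_iff.2 hij, ?_⟩
  have := congrArg (algebraMap A L) h
  simpa [MilK.unitToFrac] using this

end UpdateLemmas

section OneUnitSymbols

variable {m : ℕ}

omit [IsDomain A] [IsDiscreteValuationRing A] [IsFractionRing A L] [Algebra A L] in
theorem symbol_eq_zero_of_one {F : Type v} [Field F] {r : ℕ} (x : Fin r → Fˣ) (k : Fin r)
    (hx : x k = 1) : (symbol x : K F r) = 0 := by
  have h := MilnorKBasic.symbol_update_mul x k 1 1
  rw [mul_one] at h
  have h1 : Function.update x k 1 = x := by rw [← hx, Function.update_eq_self]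
  rw [h1] at h
  exact (add_eq_left).1 h.symm

variable (A L) in
/-- The subgroup of `K_{m+1}(L)` generated by symbols whose first entry is a 1-unit of `A`. -/
def oneUnitSymbols (m : ℕ) : AddSubgroup (K L (m + 1)) :=
  AddSubgroup.closure {z : K L (m + 1) | ∃ (u₀ : Aˣ) (w : Fin m → Lˣ),
    IsLocalRing.residue A (u₀ : A) = 1 ∧ z = symbol (Fin.cons (unitToFrac A L u₀) w)}

omit [IsFractionRing A L] in
/-- A symbol with a 1-unit entry in any slot lies in `oneUnitSymbols`. -/
theorem symbol_mem_oneUnitSymbols (x : Fin (m + 1) → Lˣ) (k : Fin (m + 1)) (u₀ : Aˣ)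
    (hu₀ : IsLocalRing.residue A (u₀ : A) = 1) (hx : x k = unitToFrac A L u₀) :
    symbol x ∈ oneUnitSymbols A L m := by
  have key : ∀ y : Fin (m + 1) → Lˣ, y 0 = unitToFrac A L u₀ → symbol y ∈ oneUnitSymbols A L m := by
    intro y hy
    refine AddSubgroup.subset_closure ⟨u₀, fun i => y i.succ, hu₀, ?_⟩
    congr 1
    funext j
    refine Fin.cases ?_ (fun i => ?_) j
    · rw [Fin.cons_zero, hy]
    · rw [Fin.cons_succ]
  by_cases hk : k = 0
  · subst hk
    exact key x hx
  · have h0k : (0 : Fin (m + 1)) ≠ k := Ne.symm hk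
    have hsw := MilnorKBasic.symbol_comp_swap x 0 k h0k
    have hx' : symbol x = -symbol (x ∘ Equiv.swap 0 k) := by rw [hsw, neg_neg]
    rw [hx']
    refine (oneUnitSymbols A L m).neg_mem (key _ ?_)
    rw [Function.comp_apply, Equiv.swap_apply_left, hx]

end OneUnitSymbols

section Spec

variable {m : ℕ} (s : K L m →+ K (IsLocalRing.ResidueField A) m) (hs : IsSpecMap A L ϖ hϖ m s)

include hs in
theorem spec_symbol (x : Fin m → Lˣ) : s (symbol x) = symbol (fun i => resPart hϖ (x i)) := by
  rw [isSpecMap_unique hϖ m hs (isSpecMap_specMap hϖ m), specMap_symbol]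

include hs in
theorem spec_unitSymbol (u : Fin m → Aˣ) :
    s (symbol fun i => unitToFrac A L (u i)) = symbol fun i => unitResidue A (u i) := by
  rw [spec_symbol hϖ s hs]
  congr 1
  funext i
  exact resPart_unitToFrac hϖ (u i)

theorem resPart_uniformizer : resPart (L := L) hϖ (unitFrac A L ϖ hϖ.ne_zero) = 1 := by
  have h := resPart_decomp (L := L) hϖ 1 1
  rw [zpow_one, map_one, mul_one, map_one] at h
  exact h

end Spec

end Groth.Agent.Helper6.MilnorKGen
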