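import Groth.Agent.Helper6.MilnorKDVR

/-!
Construction of additive maps out of the Milnor K-groups of the residue field of a local ring `A`
from functions on tuples of units of `A` (multiplicative in each slot, trivial on 1-units, killing
Steinberg tuples).
-/

set_option autoImplicit false

universe u v

namespace Groth.Agent.Helper6.MilnorKLift

open MilK

variable {A : Type u} [CommRing A] [IsDomain A] [IsDiscreteValuationRing A]

theorem unitResidue_surjective : Function.Surjective (unitResidue A) := by
  intro y
  obtain ⟨a, ha⟩ := IsLocalRing.residue_surjective (y : IsLocalRing.ResidueField A)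
  have hu : IsUnit a := by
    rw [← IsLocalRing.residue_ne_zero_iff_isUnit, ha]
    exact y.ne_zero
  refine ⟨hu.unit, ?_⟩
  apply Units.ext
  simpa [MilK.unitResidue] using ha

theorem residue_eq_one_of_unitResidue_eq {a b : Aˣ} (h : unitResidue A a = unitResidue A b) :
    IsLocalRing.residue A ((b⁻¹ * a : Aˣ) : A) = 1 := by
  have h1 : unitResidue A (b⁻¹ * a) = 1 := by
    rw [map_mul, map_inv, h, inv_mul_cancel]
  have := congrArg (fun z : (IsLocalRing.ResidueField A)ˣ => (z : IsLocalRing.ResidueField A)) h1
  simpa [MilK.unitResidue] using this

section Lift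

variable {M : Type*} [AddCommGroup M] {n : ℕ} (Φ : (Fin n → Aˣ) → M)
  (hmul : ∀ (u : Fin n → Aˣ) (k : Fin n) (a b : Aˣ),
    Φ (Function.update u k (a * b)) = Φ (Function.update u k a) + Φ (Function.update u k b))
  (hone : ∀ (u : Fin n → Aˣ) (k : Fin n), IsLocalRing.residue A (u k : A) = 1 → Φ u = 0)

include hmul hone in
theorem eq_of_unitResidue_eq_aux (t : Finset (Fin n)) :
    ∀ u u' : Fin n → Aˣ, (∀ k, k ∉ t → u k = u' k) →
      (∀ k, unitResidue A (u k) = unitResidue A (u' k)) → Φ u = Φ u' := by
  classical
  induction t using Finset.induction_on with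
  | empty =>
    intro u u' h _
    have : u = u' := funext fun k => h k (Finset.notMem_empty k)
    rw [this]
  | insert a t ha ih =>
    intro u u' h hres
    have h1 : Φ u = Φ (Function.update u a (u' a)) := by
      have h2 : u = Function.update u a (u' a * ((u' a)⁻¹ * u a)) := by
        rw [mul_inv_cancel_left, Function.update_eq_self]
      conv_lhs => rw [h2]
      rw [hmul, add_eq_left]
      refine hone _ a ?_
      rw [Function.update_self]
      exact residue_eq_one_of_unitResidue_eq (hres a)
    rw [h1]
    refine ih _ _ ?_ ?_
    · intro k hk
      by_cases hka : k = a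
      · rw [hka, Function.update_self]
      · rw [Function.update_of_ne hka]
        refine h k ?_
        rw [Finset.mem_insert, not_or]
        exact ⟨hka, hk⟩
    · intro k
      by_cases hka : k = a
      · rw [hka, Function.update_self]
      · rw [Function.update_of_ne hka]
        exact hres k

include hmul hone in
theorem eq_of_unitResidue_eq (u u' : Fin n → Aˣ)
    (hres : ∀ k, unitResidue A (u k) = unitResidue A (u' k)) : Φ u = Φ u' :=
  eq_of_unitResidue_eq_aux Φ hmul hone Finset.univ u u'
    (fun k hk => absurd (Finset.mem_univ k) hk) hres

/-- A set-theoretic section of the residue map on units. -/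
noncomputable def liftUnit (y : (IsLocalRing.ResidueField A)ˣ) : Aˣ :=
  Function.surjInv unitResidue_surjective y

theorem unitResidue_liftUnit (y : (IsLocalRing.ResidueField A)ˣ) :
    unitResidue A (liftUnit y) = y :=
  Function.surjInv_eq unitResidue_surjective y

/-- The function on tuples of (additively written) units of the residue field. -/
noncomputable def liftFun (y : Fin n → Additive (IsLocalRing.ResidueField A)ˣ) : M :=
  Φ fun i => liftUnit (y i).toMul

include hmul hone in
theorem liftFun_update_add
    (y : Fin n → Additive (IsLocalRing.ResidueField A)ˣ) (k : Fin n)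
    (a b : Additive (IsLocalRing.ResidueField A)ˣ) :
    liftFun Φ (Function.update y k (a + b)) =
      liftFun Φ (Function.update y k a) + liftFun Φ (Function.update y k b) := by
  have key : ∀ c : Additive (IsLocalRing.ResidueField A)ˣ, liftFun Φ (Function.update y k c) =
      Φ (Function.update (fun i => liftUnit (y i).toMul) k (liftUnit c.toMul)) := by
    intro c
    unfold liftFun
    congr 1
    funext i
    by_cases hik : i = k
    · subst hik; simp
    · simp [Function.update_of_ne hik]
  rw [key a, key b, ← hmul]
  unfold liftFun
  refine eq_of_unitResidue_eq Φ hmul hone _ _ fun i => ?_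
  by_cases hik : i = k
  · subst hik
    simp only [Function.update_self, map_mul, unitResidue_liftUnit]
    rfl
  · simp only [Function.update_of_ne hik]

include hmul hone in
theorem liftFun_update_zsmul
    (y : Fin n → Additive (IsLocalRing.ResidueField A)ˣ) (k : Fin n) (c : ℤ)
    (a : Additive (IsLocalRing.ResidueField A)ˣ) :
    liftFun Φ (Function.update y k (c • a)) = c • liftFun Φ (Function.update y k a) := by
  let g : Additive (IsLocalRing.ResidueField A)ˣ →+ M :=
    AddMonoidHom.mk' (fun a => liftFun Φ (Function.update y k a))
      (fun a b => liftFun_update_add Φ hmul hone y k a b)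
  exact map_zsmul g c a

/-- The multilinear map attached to `Φ`. -/
noncomputable def liftMulti :
    MultilinearMap ℤ (fun _ : Fin n => Additive (IsLocalRing.ResidueField A)ˣ) M where
  toFun := liftFun Φ
  map_update_add' := by
    intro inst y k a b
    have : inst = instDecidableEqFin n := Subsingleton.elim _ _
    subst this
    exact liftFun_update_add Φ hmul hone y k a b
  map_update_smul' := by
    intro inst y k c a
    have : inst = instDecidableEqFin n := Subsingleton.elim _ _
    subst this
    exact liftFun_update_zsmul Φ hmul hone y k c a

theorem liftMulti_apply (y : Fin n → Additive (IsLocalRing.ResidueField A)ˣ) :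
    liftMulti Φ hmul hone y = Φ fun i => liftUnit (y i).toMul := rfl

variable (hst : ∀ (u : Fin n → Aˣ) (i j : Fin n), i < j → (u i : A) + (u j : A) = 1 → Φ u = 0)

include hst in
theorem liftMulti_steinberg (x : Fin n → (IsLocalRing.ResidueField A)ˣ)
    (h : IsSteinberg (IsLocalRing.ResidueField A) x) :
    liftMulti Φ hmul hone (fun i => Additive.ofMul (x i)) = 0 := by
  obtain ⟨i, j, hij, hsum⟩ := h
  rw [liftMulti_apply]
  set l : Fin n → Aˣ := fun k => liftUnit (x k) with hl
  have hres : ∀ k, IsLocalRing.residue A (l k : A) = (x k : IsLocalRing.ResidueField A) := by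
    intro k
    have := congrArg (fun z : (IsLocalRing.ResidueField A)ˣ => (z : IsLocalRing.ResidueField A))
      (unitResidue_liftUnit (x k))
    simpa [MilK.unitResidue] using this
  have hv : IsLocalRing.residue A ((l i : A) + (l j : A)) = 1 := by
    rw [map_add, hres, hres, hsum]
  have hvu : IsUnit ((l i : A) + (l j : A)) := by
    rw [← IsLocalRing.residue_ne_zero_iff_isUnit, hv]
    exact one_ne_zero
  obtain ⟨vu, hvue⟩ := hvu
  have hvres : unitResidue A vu = 1 := by
    apply Units.ext
    simp only [MilK.unitResidue, Units.coe_map, MonoidHom.coe_coe, hvue, hv, Units.val_one]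
  have hne : i ≠ j := hij.ne
  set u' : Fin n → Aˣ := Function.update (Function.update l i (l i * vu⁻¹)) j (l j * vu⁻¹) with hu'
  have h1 : Φ (fun k => liftUnit (Additive.toMul (Additive.ofMul (x k)))) = Φ u' := by
    refine eq_of_unitResidue_eq Φ hmul hone _ _ fun k => ?_
    show unitResidue A (l k) = unitResidue A (u' k)
    by_cases hkj : k = j
    · rw [hkj, hu', Function.update_self, map_mul, map_inv, hvres, inv_one, mul_one]
    · rw [hu', Function.update_of_ne hkj]
      by_cases hki : k = i
      · rw [hki, Function.update_self, map_mul, map_inv, hvres, inv_one, mul_one]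
      · rw [Function.update_of_ne hki]
  rw [h1]
  refine hst u' i j hij ?_
  rw [hu', Function.update_self, Function.update_of_ne hne, Function.update_self,
    Units.val_mul, Units.val_mul, ← add_mul, ← hvue, Units.mul_inv]

/-- The additive map out of `K_n` of the residue field attached to `Φ`. -/
noncomputable def liftHom : K (IsLocalRing.ResidueField A) n →+ M :=
  MilK.lift (liftMulti Φ hmul hone) (liftMulti_steinberg Φ hmul hone hst)

theorem liftHom_symbol (u : Fin n → Aˣ) :
    liftHom Φ hmul hone hst (symbol fun i => unitResidue A (u i)) = Φ u := by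
  rw [liftHom, MilK.lift_symbol, liftMulti_apply]
  refine eq_of_unitResidue_eq Φ hmul hone _ _ fun k => ?_
  exact unitResidue_liftUnit _

end Lift

end Groth.Agent.Helper6.MilnorKLift
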