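import Groth.Agent.Helper6.MilnorKGen

/-!
General lemmas on symbols in Milnor K-groups of a field: symbols with entries in the subgroup
generated by a set, the difference relation for Steinberg pairings, extensionality of additive
maps on symbols, and moving the last entry of a symbol to the front.
-/

set_option autoImplicit false

universe u v w

namespace Groth.Agent.Helper6.MilnorKSym

open MilK Groth.Agent.Helper6

variable {F : Type u} [Field F]

/-- Two additive maps out of a Milnor K-group agreeing on symbols are equal. -/
theorem hom_ext_symbol {M : Type w} [AddCommGroup M] {n : ℕ} {f g : K F n →+ M}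
    (h : ∀ x : Fin n → Fˣ, f (symbol x) = g (symbol x)) : f = g := by
  ext y
  refine MilnorKBasic.induction_symbol (P := fun y => f y = g y) ?_ h ?_ ?_ y
  · rw [map_zero, map_zero]
  · intro a b ha hb; rw [map_add, map_add, ha, hb]
  · intro a ha; rw [map_neg, map_neg, ha]

theorem symbol_update_inv {n : ℕ} (x : Fin n → Fˣ) (i : Fin n) (a : Fˣ) :
    (symbol (Function.update x i a⁻¹) : K F n) = -symbol (Function.update x i a) := by
  have h := MilnorKBasic.symbol_update_mul x i a a⁻¹
  rw [mul_inv_cancel, MilnorKGen.symbol_eq_zero_of_one _ i (Function.update_self ..)] at h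
  exact (neg_eq_of_add_eq_zero_right h.symm).symm

/-- If a subgroup contains all symbols with entries in `S`, it contains all symbols with entries
in the subgroup generated by `S`. -/
theorem symbol_mem_of_closure_aux {n : ℕ} (S : Set Fˣ) (H : AddSubgroup (K F n))
    (hS : ∀ x : Fin n → Fˣ, (∀ i, x i ∈ S) → symbol x ∈ H) (t : Finset (Fin n)) :
    ∀ x : Fin n → Fˣ, (∀ i, i ∈ t → x i ∈ Subgroup.closure S) → (∀ i, i ∉ t → x i ∈ S) →
      symbol x ∈ H := by
  classical
  induction t using Finset.induction_on with
  | empty =>
    intro x _ hx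
    exact hS x fun i => hx i (Finset.notMem_empty i)
  | insert a t ha ih =>
    intro x hxt hxS
    have key : ∀ g ∈ Subgroup.closure S, symbol (Function.update x a g) ∈ H := by
      intro g hg
      induction hg using Subgroup.closure_induction with
      | mem g hg =>
        refine ih _ ?_ ?_
        · intro i hi
          have hia : i ≠ a := fun h => ha (h ▸ hi)
          rw [Function.update_of_ne hia]
          exact hxt i (Finset.mem_insert_of_mem hi)
        · intro i hi
          by_cases hia : i = a
          · rw [hia, Function.update_self]; exact hg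
          · rw [Function.update_of_ne hia]
            refine hxS i ?_
            rw [Finset.mem_insert, not_or]; exact ⟨hia, hi⟩
      | one =>
        rw [MilnorKGen.symbol_eq_zero_of_one _ a (Function.update_self ..)]
        exact H.zero_mem
      | mul g h _ _ ihg ihh =>
        rw [MilnorKBasic.symbol_update_mul]
        exact H.add_mem ihg ihh
      | inv g _ ihg =>
        rw [symbol_update_inv]
        exact H.neg_mem ihg
    have := key (x a) (hxt a (Finset.mem_insert_self a t))
    rwa [Function.update_eq_self] at this

theorem symbol_mem_of_closure {n : ℕ} (S : Set Fˣ) (H : AddSubgroup (K F n))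
    (hS : ∀ x : Fin n → Fˣ, (∀ i, x i ∈ S) → symbol x ∈ H)
    (x : Fin n → Fˣ) (hx : ∀ i, x i ∈ Subgroup.closure S) : symbol x ∈ H :=
  symbol_mem_of_closure_aux S H hS Finset.univ x (fun i _ => hx i)
    (fun i hi => absurd (Finset.mem_univ i) hi)

/-- The relation coming from `a = b + c`: `{a, b}` expressed through symbols in which `a` or `b`
is replaced by `c` or `-1`. -/
theorem diff_rel {M : Type w} [AddCommGroup M] {B : Fˣ → Fˣ → M}
    (hB : MilnorKBasic.IsSteinbergPairing B) (a b c : Fˣ) (h : (a : F) = b + c) :
    B a b = -B a (-1) + B a c + B c (-1) + B c b - B c c := by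
  have hst : B (a * c⁻¹) ((-1) * b * c⁻¹) = 0 := by
    refine hB.steinberg _ _ ?_
    have hc : (c : F) ≠ 0 := c.ne_zero
    simp only [Units.val_mul, Units.val_inv_eq_inv_val, Units.val_neg, Units.val_one, h]
    field_simp
    ring
  have h1 : ∀ z : Fˣ, B z ((-1) * b * c⁻¹) = B z (-1) + B z b - B z c := by
    intro z
    rw [hB.mul_right, hB.mul_right, hB.inv_right, sub_eq_add_neg]
  rw [hB.mul_left, hB.inv_left, h1, h1] at hst
  have e : B a b = B a b - (B a (-1) + B a b - B a c + -(B c (-1) + B c b - B c c)) := by
    rw [hst, sub_zero]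
  rw [e]
  abel

/-- Moving the last entry of a symbol to the front changes it by a sign. -/
theorem symbol_snoc_eq {n : ℕ} (x : Fin n → Fˣ) (a : Fˣ) :
    ∃ ε : ℤˣ, (symbol (Fin.snoc x a : Fin (n + 1) → Fˣ) : K F (n + 1)) =
      (ε : ℤ) • symbol (Fin.cons a x : Fin (n + 1) → Fˣ) := by
  refine ⟨Equiv.Perm.sign (finRotate (n + 1)), ?_⟩
  rw [← MilnorKBasic.symbol_comp_perm]
  congr 1
  exact Fin.snoc_eq_cons_rotate x a

end Groth.Agent.Helper6.MilnorKSym
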