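import Mathlib
import Groth.Prelude.Def_EtMod2
import Groth.Agent.Helper4.GenStalkMod
import Groth.Agent.Helper4.SiteConstD
import Groth.Agent.Helper4.StalkFin
import Groth.Agent.Helper4.EtGeom

set_option autoImplicit false
set_option linter.style.haveILetI false
set_option linter.unusedSectionVars false
set_option linter.unusedVariables false
set_option linter.unusedSimpArgs false

/-!
# Subsheaves of constant sheaves of modules on an irreducible scheme are constant near the
generic point (Noetherian value module)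
-/

universe u

open CategoryTheory CategoryTheory.Limits AlgebraicGeometry Opposite Topology

namespace Groth.Agent.Helper6.ModCA

open Groth.Agent.Helper4.SiteConst Groth.Agent.Helper4.EtGeom Groth.Agent.Helper4.GenStalkMod

variable (Λ : Type (u + 1)) [CommRing Λ] {Y : Scheme.{u}} {Ω : Type u} [Field Ω] [IsSepClosed Ω]
  (ξ : Spec (CommRingCat.of Ω) ⟶ Y) {G : EtModW.Mod Λ Y} {M : ModuleCat.{u + 1} Λ}
  (b : G ⟶ cS Y.smallEtaleTopology M)

/-- the constants which are, near the geometric point `ξ`, in the image of `b` -/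
def genSub : Submodule Λ M where
  carrier := {m | ∃ (W : Y.Etale) (_ : (Scheme.pointSmallEtale ξ).fiber.obj W)
      (s : G.obj.obj (op W)),
      b.hom.app (op W) s = (η Y.smallEtaleTopology M).app (op W) m}
  zero_mem' := by
    obtain ⟨⟨W, w⟩⟩ := IsCofiltered.nonempty (C := (Scheme.pointSmallEtale ξ).fiber.Elements)
    exact ⟨W, w, 0, by rw [map_zero, map_zero]⟩
  add_mem' := by
    rintro m₁ m₂ ⟨W₁, w₁, s₁, h₁⟩ ⟨W₂, w₂, s₂, h₂⟩
    obtain ⟨W, w, g₁, g₂, -, -⟩ :=
      Groth.Agent.Helper4.StalkFin.exists_min (Scheme.pointSmallEtale ξ) w₁ w₂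
    refine ⟨W, w, G.obj.map g₁.op s₁ + G.obj.map g₂.op s₂, ?_⟩
    rw [map_add, map_add, hom_map, hom_map, h₁, h₂, η_map, η_map]
  smul_mem' := by
    rintro r m ⟨W, w, s, h⟩
    exact ⟨W, w, r • s, by rw [map_smul, map_smul, h]⟩

lemma mem_genSub {m : M} : m ∈ genSub Λ ξ b ↔
    ∃ (W : Y.Etale) (_ : (Scheme.pointSmallEtale ξ).fiber.obj W) (s : G.obj.obj (op W)),
      b.hom.app (op W) s = (η Y.smallEtaleTopology M).app (op W) m := Iff.rfl

/-- finitely many elements of `genSub` are realised over a common neighbourhood -/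
lemma exists_common (S : Finset M) (hS : ∀ m ∈ S, m ∈ genSub Λ ξ b) :
    ∃ (W : Y.Etale) (_ : (Scheme.pointSmallEtale ξ).fiber.obj W), ∀ m ∈ S,
      ∃ s : G.obj.obj (op W), b.hom.app (op W) s = (η Y.smallEtaleTopology M).app (op W) m := by
  classical
  induction S using Finset.induction_on with
  | empty =>
    obtain ⟨⟨W, w⟩⟩ := IsCofiltered.nonempty (C := (Scheme.pointSmallEtale ξ).fiber.Elements)
    exact ⟨W, w, fun m hm => (Finset.notMem_empty m hm).elim⟩
  | insert m₀ S _ ih =>
    obtain ⟨W₁, w₁, h₁⟩ := ih (fun m hm => hS m (Finset.mem_insert_of_mem hm))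
    obtain ⟨W₂, w₂, s₂, h₂⟩ := hS m₀ (Finset.mem_insert_self m₀ S)
    obtain ⟨W, w, g₁, g₂, -, -⟩ :=
      Groth.Agent.Helper4.StalkFin.exists_min (Scheme.pointSmallEtale ξ) w₁ w₂
    refine ⟨W, w, fun m hm => ?_⟩
    rcases Finset.mem_insert.1 hm with rfl | hm
    · exact ⟨G.obj.map g₂.op s₂, by rw [hom_map, h₂, η_map]⟩
    · obtain ⟨s, hs⟩ := h₁ m hm
      exact ⟨G.obj.map g₁.op s, by rw [hom_map, hs, η_map]⟩

/-- all elements of `genSub` are realised over a common neighbourhood -/
lemma exists_nbhd [IsNoetherian Λ M] :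
    ∃ (W : Y.Etale) (_ : (Scheme.pointSmallEtale ξ).fiber.obj W), ∀ m ∈ genSub Λ ξ b,
      ∃ s : G.obj.obj (op W), b.hom.app (op W) s = (η Y.smallEtaleTopology M).app (op W) m := by
  obtain ⟨S, hS⟩ : (genSub Λ ξ b).FG := IsNoetherian.noetherian _
  have hS' : ∀ m ∈ S, m ∈ genSub Λ ξ b := fun m hm => by
    rw [← hS]
    exact Submodule.subset_span hm
  obtain ⟨W, w, h⟩ := exists_common Λ ξ b S hS'
  refine ⟨W, w, fun m hm => ?_⟩
  rw [← hS] at hm
  induction hm using Submodule.span_induction with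
  | mem x hx => exact h x hx
  | zero => exact ⟨0, by rw [map_zero, map_zero]⟩
  | add x y _ _ hx hy =>
    obtain ⟨s, hs⟩ := hx
    obtain ⟨t, ht⟩ := hy
    exact ⟨s + t, by rw [map_add, map_add, hs, ht]⟩
  | smul r x _ hx =>
    obtain ⟨s, hs⟩ := hx
    exact ⟨r • s, by rw [map_smul, map_smul, hs]⟩

lemma bot_mem_of_isEmpty (W : Y.Etale) (h : IsEmpty W.left) : ⊥ ∈ Y.smallEtaleTopology W := by
  rw [mem_iff]
  intro x
  exact (h.false x).elim

variable [IrreducibleSpace ↥Y]

set_option backward.isDefEq.respectTransparency.types false in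
/-- a subsheaf of a constant sheaf with Noetherian value on an irreducible scheme is constant on
an étale neighbourhood of the geometric generic point -/
theorem exists_over_iso_const [IsNoetherian Λ M] [Mono b]
    (hξ : ξ default = genericPoint ↥Y) :
    ∃ (W : Y.Etale) (_ : (Scheme.pointSmallEtale ξ).fiber.obj W) (N : ModuleCat.{u + 1} Λ),
      Module.Finite Λ N ∧
      Nonempty ((constantSheaf (Y.smallEtaleTopology.over W) (ModuleCat.{u + 1} Λ)).obj N ≅
        G.over W) := by
  obtain ⟨W, w, hW⟩ := exists_nbhd Λ ξ b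
  choose φ hφ using fun n : genSub Λ ξ b => hW n.1 n.2
  have hinjb : ∀ W' : Y.Etale, Function.Injective (b.hom.app (op W')) :=
    fun W' => mono_sec_injective Λ b W'
  let φl : genSub Λ ξ b →ₗ[Λ] G.obj.obj (op W) :=
    { toFun := φ
      map_add' := fun n n' => by
        apply hinjb W
        rw [map_add, hφ, hφ, hφ, Submodule.coe_add, map_add]
      map_smul' := fun r n => by
        apply hinjb W
        rw [map_smul, hφ, hφ, Submodule.coe_smul, map_smul, RingHom.id_apply] }
  have hfin : Module.Finite Λ (genSub Λ ξ b) :=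
    Module.Finite.iff_fg.2 (IsNoetherian.noetherian _)
  refine ⟨W, w, ModuleCat.of Λ (genSub Λ ξ b), hfin, ?_⟩
  refine iso_const_of_sections Y.smallEtaleTopology W G (ModuleCat.of Λ (genSub Λ ξ b))
    (ModuleCat.ofHom φl) ?_ ?_
  · intro W' q hbot n n' h
    have h1 : b.hom.app (op W') (G.obj.map q.op (φ n)) =
        b.hom.app (op W') (G.obj.map q.op (φ n')) := congrArg _ h
    rw [hom_map, hom_map, hφ, hφ, η_map, η_map] at h1
    exact Subtype.ext (const_injective Y.smallEtaleTopology M W' hbot _ _ h1)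
  · intro W' q e
    obtain ⟨R, hR, hR'⟩ := exists_const Y.smallEtaleTopology M W' (b.hom.app (op W') e)
    refine ⟨R, hR, ?_⟩
    intro W'' r hr
    obtain ⟨m, hm⟩ := hR' r hr
    by_cases hne : Nonempty W''.left
    · obtain ⟨x''⟩ := hne
      obtain ⟨l⟩ := Groth.Agent.Helper4.GenStalk.exists_fiber_of_generic ξ hξ W'' x''
      have hmem : m ∈ genSub Λ ξ b := ⟨W'', l, G.obj.map r.op e, by rw [hom_map, hm]⟩
      refine ⟨⟨m, hmem⟩, ?_⟩
      apply hinjb W''
      rw [hom_map, hm]
      show _ = b.hom.app (op W'') (G.obj.map (r ≫ q).op (φ ⟨m, hmem⟩))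
      rw [hom_map, hφ, η_map]
    · rw [not_nonempty_iff] at hne
      exact ⟨0, sec_eq_of_bot Y.smallEtaleTopology G W'' (bot_mem_of_isEmpty W'' hne) _ _⟩

end Groth.Agent.Helper6.ModCA
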