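import Mathlib
import Groth.Prelude.Def_EtMod2
import Groth.Agent.Helper6.ModCA
import Groth.Agent.Helper4.ModStrata
import Groth.Agent.Helper4.ModPullAR
import Groth.Agent.Helper4.SchLQF
import Groth.Agent.Helper5.ChevB
import Groth.Agent.Helper9.EtStalkExact

set_option autoImplicit false
set_option linter.style.haveILetI false
set_option linter.unusedSectionVars false
set_option linter.unusedVariables false
set_option linter.unusedSimpArgs false

/-!
# A subsheaf of a finite type locally constant sheaf of modules is finite type locally constant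
near the generic point (Noetherian coefficients, locally Noetherian irreducible base)
-/

universe u

open CategoryTheory CategoryTheory.Limits AlgebraicGeometry Opposite Topology

namespace Groth.Agent.Helper6.ModCB

open Groth.Agent.Helper4.ModEtA Groth.Agent.Helper4.ModStrata Groth.Agent.Helper4.OverEtC
open Groth.Agent.Helper9.EtStalkExact

/-- a point without proper generizations in a locally Noetherian scheme has an irreducible open
neighbourhood of which it is the generic point -/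
theorem exists_irreducible_nhd_of_max (Y : Scheme.{u}) [IsLocallyNoetherian Y] (y : Y)
    (hmax : ∀ w : Y, w ⤳ y → w = y) :
    ∃ V : Y.Opens, y ∈ V ∧ ∀ v : Y, v ∈ V → y ⤳ v := by
  obtain ⟨U, hyU, hU⟩ := Groth.Agent.Helper5.EqAt.exists_open_max_specializes Y y
  refine ⟨U, hyU, ?_⟩
  intro v hv
  obtain ⟨ξ, hξv, hξ⟩ := Groth.Agent.Helper5.EtOI.exists_maximal_generization Y v
  have hξmax : ∀ w : Y, w ⤳ ξ → w = ξ :=
    Groth.Agent.Helper5.EqAt.max_of_closure_mem_irreducibleComponents ξ hξ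
  have hξU : ξ ∈ U := hξv.mem_open U.2 hv
  have hξy : ξ ⤳ y := hU ξ hξU (Groth.Agent.Helper5.Chev.coheight_eq_zero_of_max ξ hξmax)
  rw [← hmax ξ hξy]
  exact hξv

lemma irreducibleSpace_of_generic {α : Type*} [TopologicalSpace α] (x : α)
    (h : ∀ v : α, x ⤳ v) : IrreducibleSpace α := by
  have hcl : closure ({x} : Set α) = Set.univ := by
    refine Set.eq_univ_of_forall fun v => ?_
    rw [← specializes_iff_mem_closure]
    exact h v
  have h1 : IsIrreducible (Set.univ : Set α) := by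
    rw [← hcl]
    exact isIrreducible_singleton.closure
  exact (irreducibleSpace_def _).2 h1

/-- points of an étale scheme over a generic point have no proper generizations -/
lemma max_of_etale_over_generic {V T : Scheme.{u}} (f : V ⟶ T) [Etale f] (t₀ : T)
    (hgen : IsGenericPoint t₀ (⊤ : Set T)) (v₁ : V) (hv₁ : f v₁ = t₀) :
    ∀ w : V, w ⤳ v₁ → w = v₁ := by
  intro w hw
  have h1 : f w ⤳ f v₁ := hw.map f.continuous
  have h2 : f v₁ ⤳ f w := by
    rw [hv₁]
    exact hgen.specializes (Set.mem_univ _)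
  have h3 : f w = t₀ := ((h1.antisymm h2).eq).trans hv₁
  haveI : LocallyQuasiFinite f := Groth.Agent.Helper4.SchLQF.locallyQuasiFinite_of_etale f
  have hd : _root_.IsDiscrete (f ⁻¹' {t₀}) := f.isDiscrete_preimage_singleton t₀
  rw [isDiscrete_iff_forall_mem_exists_isOpen] at hd
  obtain ⟨u, hu, hus⟩ := hd v₁ hv₁
  have hv₁u : v₁ ∈ u := by
    have : v₁ ∈ u ∩ f ⁻¹' {t₀} := by rw [hus]; rfl
    exact this.1
  have hwu : w ∈ u := hw.mem_open hu hv₁u
  have : w ∈ u ∩ f ⁻¹' {t₀} := ⟨hwu, h3⟩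
  rw [hus] at this
  exact this

variable (Λ : Type (u + 1)) [CommRing Λ] [IsNoetherianRing Λ]

set_option backward.isDefEq.respectTransparency.types false in
/-- a subsheaf of a finite type locally constant sheaf of modules on an irreducible locally
Noetherian scheme is finite type locally constant on a nonempty open -/
theorem exists_open_ftlc_of_mono {T : Scheme.{u}} [IsLocallyNoetherian T] (t₀ : T)
    (hgen : IsGenericPoint t₀ (⊤ : Set T)) {K F' : EtModW.Mod Λ T} (κ : K ⟶ F') [Mono κ]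
    (hF' : EtModW.IsFTLocConst Λ F') :
    ∃ W₀ : T.Opens, t₀ ∈ W₀ ∧ EtModW.IsFTLocConst Λ ((EtModW.pull Λ W₀.ι).obj K) := by
  rw [ftlc_iff] at hF'
  obtain ⟨ι, V, hV, hM⟩ := hF'
  obtain ⟨i, v₁, hv₁⟩ := hV t₀
  obtain ⟨M, fM, ⟨a₁⟩⟩ := hM i
  haveI : IsLocallyNoetherian (V i).left := LocallyOfFiniteType.isLocallyNoetherian (homS (V i))
  have hmax := max_of_etale_over_generic (homS (V i)) t₀ hgen v₁ hv₁
  obtain ⟨V₂, hv₁V₂, hsp⟩ := exists_irreducible_nhd_of_max _ v₁ hmax
  let Y : Scheme.{u} := V₂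
  let y₀ : Y := ⟨v₁, hv₁V₂⟩
  have hy₀ : ∀ v : Y, y₀ ⤳ v := fun v =>
    Topology.IsInducing.subtypeVal.specializes_iff.mp (hsp v.1 v.2)
  haveI : IrreducibleSpace ↥Y := irreducibleSpace_of_generic y₀ hy₀
  let j : Y ⟶ T := V₂.ι ≫ homS (V i)
  let a₂ : (EtModW.pull Λ j).obj F' ≅ cM Λ Y M :=
    (pullCompObjM Λ V₂.ι (homS (V i)) F').symm ≪≫ (EtModW.pull Λ V₂.ι).mapIso a₁ ≪≫
      (FixPt.pullConstIso (Λ := Λ) V₂.ι).app M
  let b : (EtModW.pull Λ j).obj K ⟶ cM Λ Y M := (EtModW.pull Λ j).map κ ≫ a₂.hom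
  haveI : Mono ((EtModW.pull Λ j).map κ) := inferInstance
  haveI : Mono b := mono_comp _ _
  let ξ := geomPt y₀
  have hξ : ξ default = genericPoint ↥Y := by
    rw [geomPt_default]
    have hg : IsGenericPoint y₀ (⊤ : Set ↥Y) := by
      rw [isGenericPoint_def]
      refine Set.eq_univ_of_forall fun v => ?_
      rw [← specializes_iff_mem_closure]
      exact hy₀ v
    exact hg.eq (genericPoint_spec ↥Y)
  haveI : IsNoetherian Λ M := isNoetherian_of_isNoetherianRing_of_finite Λ M
  obtain ⟨W, w, N, hN, ⟨e⟩⟩ := Groth.Agent.Helper6.ModCA.exists_over_iso_const Λ ξ b hξ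
  obtain ⟨e'⟩ := (restr_iso_const_iffM' Λ W ((EtModW.pull Λ j).obj K) N).1 ⟨e.symm⟩
  let p : W.left ⟶ T := homS W ≫ j
  haveI : Etale p := inferInstance
  let W₀ : T.Opens := ⟨Set.range p, p.isOpenMap.isOpen_range⟩
  have hsub : Set.range p ⊆ Set.range W₀.ι := by
    rw [Scheme.Opens.range_ι]
    exact subset_rfl
  let p' : W.left ⟶ W₀ := IsOpenImmersion.lift W₀.ι p hsub
  have hp' : p' ≫ W₀.ι = p := IsOpenImmersion.lift_fac W₀.ι p hsub
  haveI : Etale (p' ≫ W₀.ι) := by rw [hp']; infer_instance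
  haveI : Etale p' := Etale.of_comp p' W₀.ι
  refine ⟨W₀, ?_, ?_⟩
  · -- the generic point is in the image
    let w₀ : W.left := (show Spec (CommRingCat.of _) ⟶ W.left from w.left) default
    have hw₀ : homS W w₀ = y₀ := by
      have hl : (show Spec (CommRingCat.of _) ⟶ W.left from w.left) ≫ W.hom = ξ :=
        Over.w (show Over.mk ξ ⟶ (Scheme.Etale.forget Y).obj W from w)
      have h2 : ((show Spec (CommRingCat.of _) ⟶ W.left from w.left) ≫ W.hom) default =
          ξ default := by rw [hl]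
      rw [geomPt_default] at h2
      exact h2
    refine ⟨w₀, ?_⟩
    show (homS (V i)) (V₂.ι (homS W w₀)) = t₀
    rw [hw₀]
    exact hv₁
  · rw [ftlc_iff]
    refine ⟨PUnit, fun _ => Scheme.Etale.mk p', ?_, fun _ => ⟨N, hN, ⟨?_⟩⟩⟩
    · intro x
      obtain ⟨z, hz⟩ := x.2
      refine ⟨PUnit.unit, z, ?_⟩
      apply W₀.ι.isOpenEmbedding.injective
      show (p' ≫ W₀.ι) z = W₀.ι x
      rw [hp']
      exact hz
    · exact pullCompObjM Λ p' W₀.ι K ≪≫ (FixPt.pullCongr (Λ := Λ) hp').app K ≪≫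
        (pullCompObjM Λ (homS W) j K).symm ≪≫ e'

end Groth.Agent.Helper6.ModCB
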