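import Mathlib
import Groth.Prelude.Def_EtMod2
import Groth.Agent.Helper4.SubConst
import Groth.Agent.Helper4.ModStalk
import Groth.Agent.Helper4.GenStalkMod
import Groth.Agent.Helper4.FtlcSerre

set_option autoImplicit false
set_option linter.style.haveILetI false
set_option linter.unusedSectionVars false
set_option linter.unusedVariables false
set_option linter.unusedSimpArgs false

/-!
# Subsheaves of finite type locally constant sheaves of modules on an irreducible scheme: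
vanishing of the generic stalk implies vanishing
-/

universe u

open CategoryTheory CategoryTheory.Limits AlgebraicGeometry Opposite Topology

namespace Groth.Agent.Helper6.ModCC

open Groth.Agent.Helper4.SiteConst Groth.Agent.Helper4.EtGeom Groth.Agent.Helper4.GenStalkMod
open Groth.Agent.Helper4.EtLocRing Groth.Agent.Helper4.SubConst Groth.Agent.Helper4.ModEtA
open Groth.Agent.Helper4.OverEtC Groth.Agent.Helper4.ModStalk Groth.Agent.Helper4.StalkFin

variable (Λ : Type (u + 1)) [CommRing Λ]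

attribute [local instance] preservesFilteredColimits_forget_mod ab5_mod hasLimits_mod

variable {Y : Scheme.{u}} {Ω : Type u} [Field Ω] [IsSepClosed Ω]

/-- every germ of a sheaf of modules mapping to a constant sheaf is represented by a section
mapping to a constant -/
theorem exists_rep {K : EtModW.Mod Λ Y} {M : ModuleCat.{u + 1} Λ} (b : K ⟶ cM Λ Y M)
    (ξ : Spec (CommRingCat.of Ω) ⟶ Y) (γ : (EtModW.stalk Λ ξ).obj K) :
    ∃ (W : Y.Etale) (w : (Φ ξ).fiber.obj W) (s : K.obj.obj (op W)) (m : M),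
      (Φ ξ).toPresheafFiber W w K.obj s = γ ∧
        b.hom.app (op W) s = (η Y.smallEtaleTopology M).app (op W) m := by
  obtain ⟨W₀, w₀, s₀, rfl⟩ := (Φ ξ).toPresheafFiber_jointly_surjective (P := K.obj) γ
  obtain ⟨W', g, x', m, hx', hm⟩ := exists_const_pt M W₀ (b.hom.app (op W₀) s₀)
    ((ptLeft ξ w₀) default)
  obtain ⟨w', hw', -⟩ := exists_lift_hom ξ g w₀ x' hx'
  refine ⟨W', w', K.obj.map g.op s₀, m, ?_, ?_⟩
  · have := (Φ ξ).toPresheafFiber_w_apply g w' K.obj s₀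
    rw [hw'] at this
    exact this
  · rw [hom_map, hm]


variable {T : Scheme.{u}} [IrreducibleSpace ↥T]

set_option backward.isDefEq.respectTransparency.types false in
/-- a subsheaf of a finite type locally constant sheaf of modules on an irreducible scheme whose
stalk at a geometric generic point vanishes has all its stalks zero -/
theorem isZero_stalk_of_generic (ζ : Spec (CommRingCat.of Ω) ⟶ T)
    (hζ : ζ default = genericPoint ↥T) {G Q : EtModW.Mod Λ T} (β : G ⟶ Q) [Mono β]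
    (hQ : EtModW.IsFTLocConst Λ Q) (h0 : IsZero ((EtModW.stalk Λ ζ).obj G))
    {Ω' : Type u} [Field Ω'] [IsSepClosed Ω'] (ξ : Spec (CommRingCat.of Ω') ⟶ T) :
    IsZero ((EtModW.stalk Λ ξ).obj G) := by
  rw [ftlc_iff] at hQ
  obtain ⟨ι, V, hV, hM⟩ := hQ
  obtain ⟨i, v, hv⟩ := hV (ξ default)
  obtain ⟨M, fM, ⟨a⟩⟩ := hM i
  obtain ⟨ξ₁, hξ₁, -⟩ := Scheme.exists_fac_of_etale_of_isSepClosed (homS (V i)) ξ v hv
  subst hξ₁
  refine IsZero.of_iso ?_ ((stalkPullIsoM Λ (homS (V i)) ξ₁).app G).symm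
  let G₁ : EtModW.Mod Λ (V i).left := (EtModW.pull Λ (homS (V i))).obj G
  let b : G₁ ⟶ cM Λ (V i).left M := (EtModW.pull Λ (homS (V i))).map β ≫ a.hom
  haveI : Mono ((EtModW.pull Λ (homS (V i))).map β) := inferInstance
  haveI : Mono b := mono_comp _ _
  have key : ∀ γ : (EtModW.stalk Λ ξ₁).obj G₁, γ = 0 := by
    intro γ
    obtain ⟨W, w, s, m, rfl, hm⟩ := exists_rep Λ b ξ₁ γ
    let p : W.left ⟶ T := homS W ≫ homS (V i)
    haveI : Etale p := inferInstance
    obtain ⟨l⟩ := Groth.Agent.Helper4.GenStalk.exists_fiber_of_generic ζ hζ (Scheme.Etale.mk p)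
      ((ptLeft ξ₁ w) default)
    let ζ₁ : Spec (CommRingCat.of Ω) ⟶ W.left := ptLeft ζ l
    have hζ₁ : ζ₁ ≫ p = ζ :=
      Over.w (show Over.mk ζ ⟶ (Scheme.Etale.forget T).obj (Scheme.Etale.mk p) from l)
    let ζ₂ : Spec (CommRingCat.of Ω) ⟶ (V i).left := ζ₁ ≫ homS W
    have hζ₂ : ζ₂ ≫ homS (V i) = ζ := by rw [Category.assoc]; exact hζ₁
    have hζ₂' : ζ₁ ≫ W.hom = ζ₂ := rfl
    clear_value ζ₂
    subst hζ₂
    have hz : IsZero ((EtModW.stalk Λ ζ₂).obj G₁) :=
      IsZero.of_iso h0 ((stalkPullIsoM Λ (homS (V i)) ζ₂).app G)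
    have hsub : Subsingleton ↑((Φ ζ₂).presheafFiber.obj G₁.obj) :=
      ModuleCat.subsingleton_of_isZero hz
    let l₂ : (Φ ζ₂).fiber.obj W := Over.homMk ζ₁ hζ₂'
    have e1 : (Φ ζ₂).toPresheafFiber W l₂ G₁.obj s = (Φ ζ₂).toPresheafFiber W l₂ G₁.obj 0 :=
      hsub.elim _ _
    obtain ⟨W₃, k, w₃, -, hk⟩ := ((Φ ζ₂).toPresheafFiber_eq_iff' W l₂ _ _).1 e1
    have hm0 : m = 0 := by
      apply const_injective_pt M W₃ ((ptLeft ζ₂ w₃) default)
      have e2 : b.hom.app (op W₃) (G₁.obj.map k.op s) = b.hom.app (op W₃) (G₁.obj.map k.op 0) :=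
        congrArg _ hk
      rw [hom_map, hm, η_map, map_zero, map_zero] at e2
      rw [e2, map_zero]
    have hs0 : s = 0 := by
      apply mono_sec_injective Λ b W
      rw [hm, hm0, map_zero, map_zero]
    rw [hs0]
    exact map_zero _
  haveI : Subsingleton ↑((EtModW.pull Λ (homS (V i)) ⋙ EtModW.stalk Λ ξ₁).obj G) :=
    ⟨fun x y => (key x).trans (key y).symm⟩
  exact ModuleCat.isZero_of_subsingleton _

section abelian

variable {𝒜 : Type*} [Category 𝒜] [Abelian 𝒜]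

/-- `K/K₀ → F/K₀` is a monomorphism when `K → F` is -/
lemma mono_cokernel_map {K₀ K F : 𝒜} (κ₀ : K₀ ⟶ K) (κ : K ⟶ F) [Mono κ₀] [Mono κ] :
    Mono (cokernel.map κ₀ (κ₀ ≫ κ) (𝟙 K₀) κ (by rw [Category.id_comp])) := by
  apply Preadditive.mono_of_cancel_zero
  intro Z x hx
  -- pull back along the epimorphism `K → K/K₀`
  let e : pullback x (cokernel.π κ₀) ⟶ Z := pullback.fst x (cokernel.π κ₀)
  let y : pullback x (cokernel.π κ₀) ⟶ K := pullback.snd x (cokernel.π κ₀)
  haveI : Epi e := Abelian.epi_pullback_of_epi_g x (cokernel.π κ₀)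
  have hy : y ≫ cokernel.π κ₀ = e ≫ x := pullback.condition.symm
  have h1 : (y ≫ κ) ≫ cokernel.π (κ₀ ≫ κ) = 0 := by
    have : cokernel.π κ₀ ≫ cokernel.map κ₀ (κ₀ ≫ κ) (𝟙 K₀) κ (by rw [Category.id_comp]) =
        κ ≫ cokernel.π (κ₀ ≫ κ) := cokernel.π_desc _ _ _
    rw [Category.assoc, ← this, ← Category.assoc, hy, Category.assoc, hx, comp_zero]
  -- `K₀` is the kernel of `F → F/K₀`
  have hex : (ShortComplex.mk (κ₀ ≫ κ) (cokernel.π (κ₀ ≫ κ)) (cokernel.condition _)).Exact :=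
    ShortComplex.exact_cokernel (κ₀ ≫ κ)
  haveI : Mono (ShortComplex.mk (κ₀ ≫ κ) (cokernel.π (κ₀ ≫ κ)) (cokernel.condition _)).f :=
    inferInstanceAs (Mono (κ₀ ≫ κ))
  let z : pullback x (cokernel.π κ₀) ⟶ K₀ := hex.lift (y ≫ κ) h1
  have hz : z ≫ κ₀ ≫ κ = y ≫ κ := hex.lift_f (y ≫ κ) h1
  have hz' : z ≫ κ₀ = y := by
    rw [← cancel_mono κ, Category.assoc]
    exact hz
  have h2 : e ≫ x = 0 := by
    rw [← hy, ← hz', Category.assoc, cokernel.condition, comp_zero]
  rw [← cancel_epi e, h2, comp_zero]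

end abelian

variable [IsNoetherianRing Λ]

/-- for subsheaves `K₀ ≤ K` of a finite type locally constant sheaf on an irreducible scheme, with
`K₀` finite type locally constant: if they have the same stalk at a geometric generic point, they
have the same stalks everywhere -/
theorem surjective_stalk_of_generic (ζ : Spec (CommRingCat.of Ω) ⟶ T)
    (hζ : ζ default = genericPoint ↥T) {K₀ K F' : EtModW.Mod Λ T} (κ₀ : K₀ ⟶ K) (κ : K ⟶ F')
    [Mono κ₀] [Mono κ] (hK₀ : EtModW.IsFTLocConst Λ K₀) (hF' : EtModW.IsFTLocConst Λ F')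
    (hs : Function.Surjective ((EtModW.stalk Λ ζ).map κ₀))
    {Ω' : Type u} [Field Ω'] [IsSepClosed Ω'] (ξ : Spec (CommRingCat.of Ω') ⟶ T) :
    Function.Surjective ((EtModW.stalk Λ ξ).map κ₀) := by
  have hQ : EtModW.IsFTLocConst Λ (cokernel (κ₀ ≫ κ)) :=
    (Groth.Agent.Helper4.FtlcSerre.ftlc_kernel_cokernel Λ (κ₀ ≫ κ) hK₀ hF').2
  haveI := mono_cokernel_map κ₀ κ
  have h0 : IsZero ((EtModW.stalk Λ ζ).obj (cokernel κ₀)) := by
    haveI : Epi ((EtModW.stalk Λ ζ).map κ₀) := (ModuleCat.epi_iff_surjective _).2 hs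
    exact IsZero.of_iso (isZero_cokernel_of_epi ((EtModW.stalk Λ ζ).map κ₀))
      (PreservesCokernel.iso (EtModW.stalk Λ ζ) κ₀)
  have h1 := isZero_stalk_of_generic Λ ζ hζ
    (cokernel.map κ₀ (κ₀ ≫ κ) (𝟙 K₀) κ (Category.id_comp _).symm) hQ h0 ξ
  have h2 : IsZero (cokernel ((EtModW.stalk Λ ξ).map κ₀)) :=
    IsZero.of_iso h1 (PreservesCokernel.iso (EtModW.stalk Λ ξ) κ₀).symm
  haveI : Epi ((EtModW.stalk Λ ξ).map κ₀) := Preadditive.epi_of_isZero_cokernel _ h2
  exact (ModuleCat.epi_iff_surjective _).1 inferInstance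

end Groth.Agent.Helper6.ModCC
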