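import Mathlib
import Groth.Prelude.Def_EtMod2
import Groth.Agent.Helper6.ModCB
import Groth.Agent.Helper6.ModCD
import Groth.Agent.Helper4.FtlcSerre

set_option autoImplicit false
set_option linter.style.haveILetI false
set_option linter.unusedSectionVars false
set_option linter.unusedVariables false
set_option linter.unusedSimpArgs false

/-!
# Subsheaves and quotients of constructible sheaves of modules on locally Noetherian schemes are
constructible (Noetherian coefficients)
-/

universe u

open CategoryTheory CategoryTheory.Limits AlgebraicGeometry Opposite Topology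

namespace Groth.Agent.Helper6.ModCE

open Groth.Agent.Helper4.ModEtA Groth.Agent.Helper4.ModStrata Groth.Agent.Helper4.OverEtC
open Groth.Agent.Helper6.ModCB Groth.Agent.Helper6.ModCD

variable {X : Scheme.{u}}

/-- the generic point of a stratum through `x` -/
lemma exists_generic (x : X) (V : X.Opens) {T : Scheme.{u}} (g : T ⟶ X) [IsImmersion g]
    (hxV : x ∈ V) (hrange : Set.range g = (V : Set X) ∩ closure {x}) :
    ∃ t₀ : T, g t₀ = x ∧ IsGenericPoint t₀ (⊤ : Set T) := by
  obtain ⟨t₀, ht₀⟩ : x ∈ Set.range g := by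
    rw [hrange]
    exact ⟨hxV, subset_closure (Set.mem_singleton x)⟩
  refine ⟨t₀, ht₀, ?_⟩
  rw [isGenericPoint_def, g.isEmbedding.closure_eq_preimage_closure_image, Set.image_singleton,
    ht₀]
  ext t
  simp only [Set.mem_preimage, Set.top_eq_univ, Set.mem_univ, iff_true]
  have : g t ∈ Set.range g := ⟨t, rfl⟩
  rw [hrange] at this
  exact this.2

/-- shrinking a stratum through `x` to an open neighbourhood of its generic point -/
lemma exists_shrink (x : X) (V : X.Opens) {T : Scheme.{u}} (g : T ⟶ X) [IsImmersion g]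
    (hrange : Set.range g = (V : Set X) ∩ closure {x}) (t₀ : T) (ht₀ : g t₀ = x) (W₀ : T.Opens)
    (hzW : t₀ ∈ W₀) (hxV : x ∈ V) :
    ∃ V' : X.Opens, x ∈ V' ∧ Set.range (W₀.ι ≫ g) = (V' : Set X) ∩ closure {x} := by
  obtain ⟨VX, hVX, hVW⟩ := g.isEmbedding.isInducing.isOpen_iff.1 W₀.2
  refine ⟨⟨VX, hVX⟩ ⊓ V, ?_, ?_⟩
  · refine ⟨?_, hxV⟩
    show x ∈ VX
    have : t₀ ∈ g ⁻¹' VX := by rw [hVW]; exact hzW
    rw [← ht₀]
    exact this
  · have h1 : Set.range (W₀.ι ≫ g) = g '' Set.range W₀.ι := by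
      rw [← Set.range_comp]
      rfl
    rw [h1, Scheme.Opens.range_ι]
    have h2 : (W₀ : Set T) = g ⁻¹' VX := hVW.symm
    rw [h2, Set.image_preimage_eq_inter_range, hrange]
    ext y
    simp only [Set.mem_inter_iff, TopologicalSpace.Opens.coe_inf, TopologicalSpace.Opens.coe_mk]
    tauto

variable (Λ : Type (u + 1)) [CommRing Λ] [IsNoetherianRing Λ]

/-- subsheaves of constructible sheaves of modules are constructible -/
theorem isConstructible_of_mono [IsLocallyNoetherian X] {F G : EtModW.Mod Λ X} (ι : G ⟶ F)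
    [Mono ι] (hF : EtModW.IsConstructible Λ F) : EtModW.IsConstructible Λ G := by
  apply isConstructible_of_local Λ G
  intro x
  obtain ⟨V, T, g, hg, hxV, hrange, hflc⟩ := local_of_isConstructible Λ F hF x
  haveI := hg
  obtain ⟨t₀, ht₀, hgen⟩ := exists_generic x V g hxV hrange
  haveI : IsLocallyNoetherian T := LocallyOfFiniteType.isLocallyNoetherian g
  haveI : Mono ((EtModW.pull Λ g).map ι) := inferInstance
  obtain ⟨W₀, hzW, hflcK⟩ := exists_open_ftlc_of_mono Λ t₀ hgen ((EtModW.pull Λ g).map ι) hflc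
  obtain ⟨V', hxV', hr'⟩ := exists_shrink x V g hrange t₀ ht₀ W₀ hzW hxV
  exact ⟨V', W₀, W₀.ι ≫ g, inferInstance, hxV', hr', ftlc_of_iso Λ (pullCompObjM Λ W₀.ι g G) hflcK⟩

/-- quotients of constructible sheaves of modules are constructible -/
theorem isConstructible_of_epi [IsLocallyNoetherian X] {F Q : EtModW.Mod Λ X} (π : F ⟶ Q)
    [Epi π] (hF : EtModW.IsConstructible Λ F) : EtModW.IsConstructible Λ Q := by
  apply isConstructible_of_local Λ Q
  intro x
  obtain ⟨V, T, g, hg, hxV, hrange, hflc⟩ := local_of_isConstructible Λ F hF x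
  haveI := hg
  obtain ⟨t₀, ht₀, hgen⟩ := exists_generic x V g hxV hrange
  haveI : IsLocallyNoetherian T := LocallyOfFiniteType.isLocallyNoetherian g
  haveI : Mono ((EtModW.pull Λ g).map (kernel.ι π)) := inferInstance
  obtain ⟨W₀, hzW, hflcK⟩ :=
    exists_open_ftlc_of_mono Λ t₀ hgen ((EtModW.pull Λ g).map (kernel.ι π)) hflc
  obtain ⟨V', hxV', hr'⟩ := exists_shrink x V g hrange t₀ ht₀ W₀ hzW hxV
  refine ⟨V', W₀, W₀.ι ≫ g, inferInstance, hxV', hr', ?_⟩
  let h : (W₀ : Scheme.{u}) ⟶ X := W₀.ι ≫ g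
  have hK : EtModW.IsFTLocConst Λ ((EtModW.pull Λ h).obj (kernel π)) :=
    ftlc_of_iso Λ (pullCompObjM Λ W₀.ι g (kernel π)) hflcK
  have hF' : EtModW.IsFTLocConst Λ ((EtModW.pull Λ h).obj F) :=
    ftlc_of_iso Λ (pullCompObjM Λ W₀.ι g F) (ftlc_pull Λ _ _ hflc)
  have hcok := (Groth.Agent.Helper4.FtlcSerre.ftlc_kernel_cokernel Λ
    ((EtModW.pull Λ h).map (kernel.ι π)) hK hF').2
  -- `Q` is the cokernel of `ker π → F`
  let S : ShortComplex (EtModW.Mod Λ X) := ShortComplex.mk (kernel.ι π) π (kernel.condition π)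
  have hS : S.ShortExact :=
    { exact := ShortComplex.exact_kernel π
      mono_f := inferInstanceAs (Mono (kernel.ι π))
      epi_g := inferInstanceAs (Epi π) }
  have hS' : (S.map (EtModW.pull Λ h)).ShortExact := hS.map_of_exact (EtModW.pull Λ h)
  haveI : Epi (S.map (EtModW.pull Λ h)).g := hS'.epi_g
  let e : cokernel ((EtModW.pull Λ h).map (kernel.ι π)) ≅ (EtModW.pull Λ h).obj Q :=
    IsColimit.coconePointUniqueUpToIso (colimit.isColimit _) hS'.exact.gIsCokernel
  exact ftlc_of_iso Λ e hcok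

/-- kernels of morphisms of constructible sheaves of modules are constructible -/
theorem isConstructible_kernel [IsLocallyNoetherian X] {F G : EtModW.Mod Λ X} (φ : F ⟶ G)
    (hF : EtModW.IsConstructible Λ F) : EtModW.IsConstructible Λ (kernel φ) :=
  isConstructible_of_mono Λ (kernel.ι φ) hF

/-- cokernels of morphisms to constructible sheaves of modules are constructible -/
theorem isConstructible_cokernel [IsLocallyNoetherian X] {F G : EtModW.Mod Λ X} (φ : F ⟶ G)
    (hG : EtModW.IsConstructible Λ G) : EtModW.IsConstructible Λ (cokernel φ) :=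
  isConstructible_of_epi Λ (cokernel.π φ) hG

end Groth.Agent.Helper6.ModCE
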