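import Mathlib
import Groth.Prelude.Def_EtMod2
import Groth.Agent.Helper6.ModCC
import Groth.Agent.Helper6.ModCE
import Groth.Agent.Helper9.EtStalkFamily

set_option autoImplicit false
set_option linter.style.haveILetI false
set_option linter.unusedSectionVars false
set_option linter.unusedVariables false
set_option linter.unusedSimpArgs false

/-!
# The ascending chain condition for subsheaves of constructible sheaves of modules on Noetherian
schemes (Noetherian coefficients)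
-/

universe u

open CategoryTheory CategoryTheory.Limits AlgebraicGeometry Opposite Topology TopologicalSpace

namespace Groth.Agent.Helper6.ModCF

open Groth.Agent.Helper4.ModEtA Groth.Agent.Helper4.ModStrata Groth.Agent.Helper4.OverEtC
open Groth.Agent.Helper4.ModStalk Groth.Agent.Helper4.GenStalkMod
open Groth.Agent.Helper6.ModCB Groth.Agent.Helper6.ModCC Groth.Agent.Helper6.ModCD
open Groth.Agent.Helper6.ModCE
open Groth.Agent.Helper9.EtStalkExact

variable (Λ : Type (u + 1)) [CommRing Λ]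

attribute [local instance] preservesFilteredColimits_forget_mod ab5_mod hasLimits_mod

section family

variable {X : Scheme.{u}}

theorem epi_of_family {F G : EtModW.Mod Λ X} (a : F ⟶ G)
    (h : ∀ x : X, ∃ (Ω : Type u) (_ : Field Ω) (_ : IsSepClosed Ω)
      (ξ : Spec (CommRingCat.of Ω) ⟶ X), ξ default = x ∧
      Function.Surjective ((EtModW.stalk Λ ξ).map a)) : Epi a := by
  have : Presheaf.IsLocallySurjective X.smallEtaleTopology a.hom :=
    Groth.Agent.Helper9.EtStalkFamily.isLocallySurjective_of_family a.hom h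
  exact Sheaf.epi_of_isLocallySurjective a

/-- surjectivity on stalks of an inverse image -/
theorem surjective_stalk_of_pull {X' : Scheme.{u}} (f : X' ⟶ X) {Ω : Type u} [Field Ω]
    [IsSepClosed Ω] (ξ : Spec (CommRingCat.of Ω) ⟶ X') {A B : EtModW.Mod Λ X} (φ : A ⟶ B)
    (h : Function.Surjective ((EtModW.stalk Λ ξ).map ((EtModW.pull Λ f).map φ))) :
    Function.Surjective ((EtModW.stalk Λ (ξ ≫ f)).map φ) := by
  haveI : Epi ((EtModW.pull Λ f ⋙ EtModW.stalk Λ ξ).map φ) := (ModuleCat.epi_iff_surjective _).2 h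
  have nat := (stalkPullIsoM Λ f ξ).hom.naturality φ
  have e : (EtModW.stalk Λ (ξ ≫ f)).map φ = (stalkPullIsoM Λ f ξ).inv.app A ≫
      (EtModW.pull Λ f ⋙ EtModW.stalk Λ ξ).map φ ≫ (stalkPullIsoM Λ f ξ).hom.app B := by
    rw [nat, Iso.inv_hom_id_app_assoc]
  rw [e]
  exact (ModuleCat.epi_iff_surjective _).1 inferInstance

theorem surjective_pull_of_stalk {X' : Scheme.{u}} (f : X' ⟶ X) {Ω : Type u} [Field Ω]
    [IsSepClosed Ω] (ξ : Spec (CommRingCat.of Ω) ⟶ X') {A B : EtModW.Mod Λ X} (φ : A ⟶ B)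
    (h : Function.Surjective ((EtModW.stalk Λ (ξ ≫ f)).map φ)) :
    Function.Surjective ((EtModW.stalk Λ ξ).map ((EtModW.pull Λ f).map φ)) := by
  haveI : Epi ((EtModW.stalk Λ (ξ ≫ f)).map φ) := (ModuleCat.epi_iff_surjective _).2 h
  have nat := (stalkPullIsoM Λ f ξ).hom.naturality φ
  have e : (EtModW.pull Λ f ⋙ EtModW.stalk Λ ξ).map φ = (stalkPullIsoM Λ f ξ).hom.app A ≫
      (EtModW.stalk Λ (ξ ≫ f)).map φ ≫ (stalkPullIsoM Λ f ξ).inv.app B := by
    rw [← Category.assoc, ← nat, Category.assoc, Iso.hom_inv_id_app, Category.comp_id]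
  show Function.Surjective ((EtModW.pull Λ f ⋙ EtModW.stalk Λ ξ).map φ)
  rw [e]
  exact (ModuleCat.epi_iff_surjective _).1 inferInstance

end family

section chain

variable {X : Scheme.{u}} (F : EtModW.Mod Λ X) (c : ℕ →o Subobject F)

/-- inclusion maps of the chain -/
noncomputable abbrev incl {m m' : ℕ} (h : m ≤ m') :
    (c m : EtModW.Mod Λ X) ⟶ (c m' : EtModW.Mod Λ X) :=
  Subobject.ofLE (c m) (c m') (c.monotone h)

lemma incl_comp {m m' m'' : ℕ} (h : m ≤ m') (h' : m' ≤ m'') :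
    incl Λ F c h ≫ incl Λ F c h' = incl Λ F c (h.trans h') :=
  Subobject.ofLE_comp_ofLE _ _ _ _ _

lemma incl_arrow {m m' : ℕ} (h : m ≤ m') : incl Λ F c h ≫ (c m').arrow = (c m).arrow :=
  Subobject.ofLE_arrow _

/-- the stabilisation property over a set of points -/
def Stab (Z : Set X) (N : ℕ) : Prop :=
  ∀ m (hm : N ≤ m), ∀ y ∈ Z, ∃ (Ω : Type u) (_ : Field Ω) (_ : IsSepClosed Ω)
    (ξ : Spec (CommRingCat.of Ω) ⟶ X), ξ default = y ∧
      Function.Surjective ((EtModW.stalk Λ ξ).map (incl Λ F c hm))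

variable {Λ F c}

lemma Stab.mono_N {Z : Set X} {N N' : ℕ} (h : Stab Λ F c Z N) (hN : N ≤ N') :
    Stab Λ F c Z N' := by
  intro m hm y hy
  obtain ⟨Ω, i1, i2, ξ, hξ, hs⟩ := h m (hN.trans hm) y hy
  refine ⟨Ω, i1, i2, ξ, hξ, ?_⟩
  have h1 : (EtModW.stalk Λ ξ).map (incl Λ F c (hN.trans hm)) =
      (EtModW.stalk Λ ξ).map (incl Λ F c hN) ≫ (EtModW.stalk Λ ξ).map (incl Λ F c hm) := by
    rw [← Functor.map_comp, incl_comp]
  rw [h1] at hs
  exact Function.Surjective.of_comp (g := (EtModW.stalk Λ ξ).map (incl Λ F c hN)) hs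

lemma Stab.union {Z Z' : Set X} {N N' : ℕ} (h : Stab Λ F c Z N) (h' : Stab Λ F c Z' N') :
    Stab Λ F c (Z ∪ Z') (max N N') := by
  intro m hm y hy
  rcases hy with hy | hy
  · exact (h.mono_N (le_max_left N N')) m hm y hy
  · exact (h'.mono_N (le_max_right N N')) m hm y hy

lemma Stab.subset {Z Z' : Set X} {N : ℕ} (h : Stab Λ F c Z N) (hZ : Z' ⊆ Z) : Stab Λ F c Z' N :=
  fun m hm y hy => h m hm y (hZ hy)

end chain

section stable

variable [IsNoetherianRing Λ] {X : Scheme.{u}} (F : EtModW.Mod Λ X) (c : ℕ →o Subobject F)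

/-- at a geometric point where the stalk of `F` is a finite module, the chain of stalks
stabilises -/
theorem exists_stalk_stable {Ω : Type u} [Field Ω] [IsSepClosed Ω]
    (ξ : Spec (CommRingCat.of Ω) ⟶ X) [Module.Finite Λ ((EtModW.stalk Λ ξ).obj F)] :
    ∃ N₀ : ℕ, ∀ m (hm : N₀ ≤ m),
      Function.Surjective ((EtModW.stalk Λ ξ).map (incl Λ F c hm)) := by
  haveI : IsNoetherian Λ ((EtModW.stalk Λ ξ).obj F) :=
    isNoetherian_of_isNoetherianRing_of_finite Λ _
  let R : ℕ → Submodule Λ ((EtModW.stalk Λ ξ).obj F) := fun m =>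
    LinearMap.range ((EtModW.stalk Λ ξ).map (c m).arrow).hom
  have hmap : ∀ {m m' : ℕ} (h : m ≤ m') (z : (EtModW.stalk Λ ξ).obj (c m : EtModW.Mod Λ X)),
      (EtModW.stalk Λ ξ).map (c m').arrow ((EtModW.stalk Λ ξ).map (incl Λ F c h) z) =
        (EtModW.stalk Λ ξ).map (c m).arrow z := by
    intro m m' h z
    rw [← ConcreteCategory.comp_apply, ← Functor.map_comp, incl_arrow]
  have hR : Monotone R := by
    intro m m' h
    rintro _ ⟨z, rfl⟩
    exact ⟨(EtModW.stalk Λ ξ).map (incl Λ F c h) z, hmap h z⟩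
  obtain ⟨N₀, hN₀⟩ := (monotone_stabilizes_iff_noetherian (R := Λ)
    (M := (EtModW.stalk Λ ξ).obj F)).2 inferInstance ⟨R, hR⟩
  refine ⟨N₀, fun m hm z => ?_⟩
  have hinj : Function.Injective ((EtModW.stalk Λ ξ).map (c m).arrow) :=
    (ModuleCat.mono_iff_injective _).1 inferInstance
  have hz : (EtModW.stalk Λ ξ).map (c m).arrow z ∈ R N₀ := by
    have h1 : R N₀ = R m := hN₀ m hm
    rw [h1]
    exact ⟨z, rfl⟩
  obtain ⟨z₀, hz₀⟩ := hz
  refine ⟨z₀, ?_⟩
  apply hinj
  rw [hmap hm z₀]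
  exact hz₀

set_option backward.isDefEq.respectTransparency.types false in
theorem exists_local_stable [IsLocallyNoetherian X] (hF : EtModW.IsConstructible Λ F) (x : X) :
    ∃ (O : X.Opens) (N₀ : ℕ), x ∈ O ∧ Stab Λ F c ((O : Set X) ∩ closure {x}) N₀ := by
  obtain ⟨V, T, g, hg, hxV, hrange, hflc⟩ := local_of_isConstructible Λ F hF x
  haveI := hg
  obtain ⟨t₀, ht₀, hgen⟩ := exists_generic x V g hxV hrange
  haveI : IsLocallyNoetherian T := LocallyOfFiniteType.isLocallyNoetherian g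
  haveI : Module.Finite Λ ((EtModW.stalk Λ (geomPt t₀ ≫ g)).obj F) :=
    finite_stalk_of_constructible Λ F hF (geomPt t₀ ≫ g)
  obtain ⟨N₀, hN₀⟩ := exists_stalk_stable Λ F c (geomPt t₀ ≫ g)
  haveI : Mono ((EtModW.pull Λ g).map (c N₀).arrow) := inferInstance
  obtain ⟨W₀, hzW, hflcK⟩ :=
    exists_open_ftlc_of_mono Λ t₀ hgen ((EtModW.pull Λ g).map (c N₀).arrow) hflc
  obtain ⟨V', hxV', hr'⟩ := exists_shrink x V g hrange t₀ ht₀ W₀ hzW hxV
  refine ⟨V', N₀, hxV', ?_⟩
  let h : (W₀ : Scheme.{u}) ⟶ X := W₀.ι ≫ g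
  let y₀ : (W₀ : Scheme.{u}) := ⟨t₀, hzW⟩
  have hy₀ : ∀ v : (W₀ : Scheme.{u}), y₀ ⤳ v := fun v =>
    Topology.IsInducing.subtypeVal.specializes_iff.mp (hgen.specializes (Set.mem_univ v.1))
  haveI : IrreducibleSpace ↥(W₀ : Scheme.{u}) := irreducibleSpace_of_generic y₀ hy₀
  -- the geometric generic point of `W₀`
  have hsub : Set.range (geomPt t₀) ⊆ Set.range W₀.ι := by
    rw [Scheme.Opens.range_ι]
    rintro _ ⟨p, rfl⟩
    have : p = default := Subsingleton.elim _ _
    rw [this, geomPt_default]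
    exact hzW
  let ζ : Spec (CommRingCat.of _) ⟶ (W₀ : Scheme.{u}) := IsOpenImmersion.lift W₀.ι (geomPt t₀) hsub
  have hζ' : ζ ≫ W₀.ι = geomPt t₀ := IsOpenImmersion.lift_fac W₀.ι (geomPt t₀) hsub
  have hζd : ζ default = y₀ := by
    apply W₀.ι.isOpenEmbedding.injective
    show (ζ ≫ W₀.ι) default = t₀
    rw [hζ', geomPt_default]
  have hζ : ζ default = genericPoint ↥(W₀ : Scheme.{u}) := by
    rw [hζd]
    have hg' : IsGenericPoint y₀ (⊤ : Set ↥(W₀ : Scheme.{u})) := by
      rw [isGenericPoint_def]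
      refine Set.eq_univ_of_forall fun v => ?_
      rw [← specializes_iff_mem_closure]
      exact hy₀ v
    exact hg'.eq (genericPoint_spec _)
  have hζh : ζ ≫ h = geomPt t₀ ≫ g := by
    show ζ ≫ W₀.ι ≫ g = geomPt t₀ ≫ g
    rw [← Category.assoc, hζ']
  have hK₀ : EtModW.IsFTLocConst Λ ((EtModW.pull Λ h).obj (c N₀ : EtModW.Mod Λ X)) :=
    ftlc_of_iso Λ (pullCompObjM Λ W₀.ι g _) hflcK
  have hF' : EtModW.IsFTLocConst Λ ((EtModW.pull Λ h).obj F) :=
    ftlc_of_iso Λ (pullCompObjM Λ W₀.ι g F) (ftlc_pull Λ _ _ hflc)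
  intro m hm y hy
  rw [← hr'] at hy
  obtain ⟨t, rfl⟩ := hy
  refine ⟨_, inferInstance, inferInstance, geomPt t ≫ h, ?_, ?_⟩
  · show h ((geomPt t) default) = h t
    rw [geomPt_default]
  · apply surjective_stalk_of_pull Λ h (geomPt t) (incl Λ F c hm)
    haveI : Mono ((EtModW.pull Λ h).map (incl Λ F c hm)) := inferInstance
    haveI : Mono ((EtModW.pull Λ h).map (c m).arrow) := inferInstance
    refine surjective_stalk_of_generic Λ ζ hζ ((EtModW.pull Λ h).map (incl Λ F c hm))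
      ((EtModW.pull Λ h).map (c m).arrow) hK₀ hF' ?_ (geomPt t)
    apply surjective_pull_of_stalk Λ h ζ (incl Λ F c hm)
    rw [hζh]
    exact hN₀ m hm

theorem acc [IsNoetherian X] (hF : EtModW.IsConstructible Λ F) :
    ∃ N, ∀ m, N ≤ m → c m = c N := by
  have key : ∀ Z : Closeds X, ∃ N, Stab Λ F c (Z : Set X) N := by
    intro Z
    apply wellFounded_lt.induction Z; clear Z
    intro Z H
    rcases eq_or_ne Z ⊥ with rfl | h₀
    · exact ⟨0, fun m hm y hy => hy.elim⟩
    · by_cases h₁ : IsPreirreducible (Z : Set X)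
      · have hirr : IsIrreducible (Z : Set X) := ⟨Closeds.coe_nonempty.2 h₀, h₁⟩
        obtain ⟨x, hx⟩ := QuasiSober.sober hirr Z.isClosed
        obtain ⟨O, N₀, hxO, hst⟩ := exists_local_stable Λ F c hF x
        let Z' : Closeds X := Z ⊓ ⟨(O : Set X)ᶜ, O.2.isClosed_compl⟩
        have hlt : Z' < Z := by
          refine lt_of_le_of_ne inf_le_left ?_
          intro heq
          have hxZ : x ∈ (Z' : Set X) := by rw [heq]; exact hx.mem
          exact hxZ.2 hxO
        obtain ⟨N', hN'⟩ := H Z' hlt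
        refine ⟨max N₀ N', (hst.union hN').subset ?_⟩
        intro y hy
        by_cases hyO : y ∈ (O : Set X)
        · refine Or.inl ⟨hyO, ?_⟩
          rw [hx.def]
          exact hy
        · exact Or.inr ⟨hy, hyO⟩
      · simp only [isPreirreducible_iff_isClosed_union_isClosed, not_forall, not_or] at h₁
        obtain ⟨z₁, z₂, hz₁, hz₂, hsub, hz₁', hz₂'⟩ := h₁
        lift z₁ to Closeds X using hz₁
        lift z₂ to Closeds X using hz₂
        obtain ⟨N₁, hN₁⟩ := H (Z ⊓ z₁) (inf_lt_left.2 hz₁')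
        obtain ⟨N₂, hN₂⟩ := H (Z ⊓ z₂) (inf_lt_left.2 hz₂')
        refine ⟨max N₁ N₂, (hN₁.union hN₂).subset ?_⟩
        intro y hy
        rcases hsub hy with h | h
        · exact Or.inl ⟨hy, h⟩
        · exact Or.inr ⟨hy, h⟩
  obtain ⟨N, hN⟩ := key ⊤
  refine ⟨N, fun m hm => ?_⟩
  haveI : Epi (incl Λ F c hm) := by
    apply epi_of_family Λ
    intro y
    obtain ⟨Ω, i1, i2, ξ, hξ, hs⟩ := hN m hm y (Set.mem_univ y)
    exact ⟨Ω, i1, i2, ξ, hξ, hs⟩
  haveI : IsIso (incl Λ F c hm) := isIso_of_mono_of_epi _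
  refine le_antisymm ?_ (c.monotone hm)
  refine Subobject.le_of_comm (inv (incl Λ F c hm)) ?_
  rw [IsIso.inv_comp_eq]
  exact (Subobject.ofLE_arrow _).symm

/-- constructible sheaves of modules on a Noetherian scheme are Noetherian objects -/
theorem isNoetherianObject_of_isConstructible [IsNoetherian X] (hF : EtModW.IsConstructible Λ F) :
    IsNoetherianObject F := by
  rw [isNoetherianObject_iff_monotone_chain_condition]
  intro f
  obtain ⟨N, hN⟩ := acc Λ F f hF
  exact ⟨N, fun m hm => (hN m hm).symm⟩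

end stable

end Groth.Agent.Helper6.ModCF
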