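import Mathlib
import Groth.Prelude.Def_ARSys
import Groth.Agent.Helper9.ARSub
import Groth.Agent.Helper9.ARKerCoker

set_option autoImplicit false
set_option linter.style.haveILetI false
set_option linter.unusedSectionVars false
set_option linter.unusedVariables false
set_option linter.unusedSimpArgs false

/-!
# Adic models of systems which are adic up to translation: the components of the model are
subquotients of components of the system
-/

namespace Groth.Agent.Helper6.ModCG

open CategoryTheory CategoryTheory.Limits Opposite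
open Groth.Agent.Helper9.FM Groth.Agent.Helper9.ARSysML Groth.Agent.Helper9.ARShift
open Groth.Agent.Helper4.ARSysBasic

universe w v u

variable {C : Type u} [Category.{v} C] [Abelian C] {A : Type w} [CommRing A] [Linear A C]

variable (J : Ideal A)

/-- if `u : Y ⟶ X` is an isomorphism up to translation from an adic system, each `Y_n` is a
quotient of the image of some `u_{n+r}` -/
theorem exists_subquotient (hJ : J.FG ∨ HasCoproducts.{w} C) {X Y : ARSys.PS C} (u : Y ⟶ X)
    (hY : ARSys.IsAdic J Y) (hu : ARSys.IsARIso u) :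
    ∃ r : ℕ, ∀ n : ℕ, ∃ d : image (u.app (op (n + r))) ⟶ Y.obj (op n), Epi d := by
  obtain ⟨r, hr⟩ := (isARNull_kernel_iff u).1 hu.1
  refine ⟨r, fun n => ?_⟩
  let p := factorThruImage (u.app (op (n + r)))
  have hker : LinearMap.ker (m p) ≤ LinearMap.ker (m (ARSys.tr Y (Nat.le_add_right n r))) := by
    intro y hy
    rw [LinearMap.mem_ker] at hy ⊢
    apply hr n y
    rw [← image.fac (u.app (op (n + r))), m_comp_apply, hy, map_zero]
  obtain ⟨d, hd⟩ := exists_desc_of_ker_le p _ hker
  haveI : Epi (ARSys.tr Y (Nat.le_add_right n r)) :=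
    Groth.Agent.Helper9.ARSub.adic_isStrict J hJ hY _ _ _
  haveI : Epi (p ≫ d) := by rw [hd]; infer_instance
  exact ⟨d, epi_of_epi p d⟩

/-- a property of objects stable under subobjects and quotients passes from a system to any adic
model of it -/
theorem prop_of_model (hJ : J.FG ∨ HasCoproducts.{w} C) (P : C → Prop)
    (hsub : ∀ {S T : C} (i : S ⟶ T) [Mono i], P T → P S)
    (hquo : ∀ {S T : C} (q : S ⟶ T) [Epi q], P S → P T)
    {X Y : ARSys.PS C} (u : Y ⟶ X) (hY : ARSys.IsAdic J Y) (hu : ARSys.IsARIso u)
    (hX : ∀ n : ℕ, P (X.obj (op n))) (n : ℕ) : P (Y.obj (op n)) := by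
  obtain ⟨r, hr⟩ := exists_subquotient J hJ u hY hu
  obtain ⟨d, hd⟩ := hr n
  exact hquo d (hsub (image.ι (u.app (op (n + r)))) (hX (n + r)))

end Groth.Agent.Helper6.ModCG
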