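import Mathlib
import Groth.Prelude.Def_ARSys
import Groth.Agent.Helper9.ARSub
import Groth.Agent.Helper9.ARKerCoker
import Groth.Agent.Helper9.ARStrictChain

set_option autoImplicit false
set_option linter.style.haveILetI false
set_option linter.unusedSectionVars false
set_option linter.unusedVariables false
set_option linter.unusedSimpArgs false

/-!
# Increasing chains of subsystems which are adic up to translation, inside an adic system with
Noetherian components, are stationary up to translation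
-/

namespace Groth.Agent.Helper6.ModCH

open CategoryTheory CategoryTheory.Limits Opposite
open Groth.Agent.Helper9.FM Groth.Agent.Helper9.ARSysML Groth.Agent.Helper9.ARShift
open Groth.Agent.Helper9.ARStrictChain
open Groth.Agent.Helper4.ARSysBasic

universe w v u

variable {C : Type u} [Category.{v} C] [Abelian C] {A : Type w} [CommRing A] [Linear A C]

/-- strictness is invariant under isomorphism -/
theorem isStrict_of_iso {Y Y' : ARSys.PS C} (e : Y ≅ Y') (h : ARSys.IsStrict Y) :
    ARSys.IsStrict Y' := by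
  intro n k hnk
  have e1 : ARSys.tr Y' hnk = e.inv.app (op k) ≫ ARSys.tr Y hnk ≫ e.hom.app (op n) := by
    rw [tr_nat e.hom hnk, ← Category.assoc, ← NatTrans.comp_app, e.inv_hom_id, NatTrans.id_app,
      Category.id_comp]
  rw [e1]
  haveI := h n k hnk
  infer_instance

variable (J : Ideal A) [IsNoetherianRing A]

theorem chain_stationary (F : ARSys.PS C) (hF : ARSys.IsAdicNoeth J F) (Z : ℕ →o Subobject F)
    (hZ : ∀ k : ℕ, ARSys.IsARAdic J (Subobject.underlying.obj (Z k) : ARSys.PS C)) :
    ∃ k₀ : ℕ, ∀ k : ℕ, k₀ ≤ k →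
      ARSys.IsARIso (Subobject.ofLE (Z k) (Z (k + 1)) (Z.monotone (Nat.le_succ k))) := by
  have hJ : J.FG := IsNoetherian.noetherian J
  have hML : ∀ k, ARSys.IsMLAR (Subobject.underlying.obj (Z k) : ARSys.PS C) := fun k =>
    Groth.Agent.Helper9.ARKerCoker.isMLAR_of_isARAdic J (Or.inl hJ) (hZ k)
  choose r hr using fun k => (isMLAR_iff _).1 (hML k)
  choose Y u hm hmono hrange hnull using fun k =>
    exists_univIm (Subobject.underlying.obj (Z k) : ARSys.PS C) (r k)
  have hstrict : ∀ k, ARSys.IsStrict (Y k) := fun k =>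
    strict_of_range (u k) (hmono k) (r k) (hrange k) (hr k)
  haveI : ∀ k, Mono (u k) := hm
  let Z' : ℕ → Subobject F := fun k => Subobject.mk (u k ≫ (Z k).arrow)
  have harrow : ∀ k, (Z' k).arrow = (Subobject.underlyingIso (u k ≫ (Z k).arrow)).hom ≫
      u k ≫ (Z k).arrow := fun k => by
    rw [← Iso.inv_comp_eq]
    exact Subobject.underlyingIso_arrow _
  -- the components of `Z' k`
  have hcmp : ∀ k q, sub (cmp (Z' k) q) =
      (LinearMap.range (m (ARSys.tr (Subobject.underlying.obj (Z k) : ARSys.PS C)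
        (Nat.le_add_right q (r k))))).map (m ((Z k).arrow.app (op q))) := by
    intro k q
    rw [sub_cmp, harrow k]
    apply le_antisymm
    · rintro _ ⟨x, rfl⟩
      rw [NatTrans.comp_app, NatTrans.comp_app, m_comp_apply, m_comp_apply]
      refine ⟨_, ?_, rfl⟩
      rw [← hrange k q]
      exact ⟨_, rfl⟩
    · rintro _ ⟨y, hy, rfl⟩
      rw [← hrange k q] at hy
      obtain ⟨x, rfl⟩ := hy
      refine ⟨m ((Subobject.underlyingIso (u k ≫ (Z k).arrow)).inv.app (op q)) x, ?_⟩
      have e : m ((Subobject.underlyingIso (u k ≫ (Z k).arrow)).hom.app (op q))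
          (m ((Subobject.underlyingIso (u k ≫ (Z k).arrow)).inv.app (op q)) x) = x := by
        rw [← m_comp_apply, ← NatTrans.comp_app, Iso.inv_hom_id, NatTrans.id_app, m_id]
        rfl
      rw [NatTrans.comp_app, m_comp_apply, e, NatTrans.comp_app, m_comp_apply]
  have hmonoZ' : Monotone Z' := by
    intro k k' hkk'
    apply le_of_cmp_le
    intro q
    rw [sub_le_iff, hcmp k q, hcmp k' q]
    rintro _ ⟨y, ⟨x, rfl⟩, rfl⟩
    -- enlarge the translation
    have h1 : q + r k ≤ q + r k + r k' := Nat.le_add_right _ _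
    obtain ⟨x', hx'⟩ := hr k q (q + r k) (q + r k + r k') (Nat.le_add_right q (r k)) h1 le_rfl
      ⟨x, rfl⟩
    have hq : q ≤ q + r k + r k' := (Nat.le_add_right q (r k)).trans h1
    have h2 : q + r k' ≤ q + r k + r k' := by omega
    let o := Subobject.ofLE (Z k) (Z k') (Z.monotone hkk')
    have ho : o ≫ (Z k').arrow = (Z k).arrow := Subobject.ofLE_arrow _
    refine ⟨m (ARSys.tr _ (Nat.le_add_right q (r k'))) (m (ARSys.tr _ h2) (m (o.app (op _)) x')),
      ⟨_, rfl⟩, ?_⟩
    rw [tr_tr_apply, ← hx', ← nat_apply, ← m_comp_apply, ← NatTrans.comp_app, ho]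
  have hstrictZ' : ∀ k, ARSys.IsStrict (Subobject.underlying.obj (Z' k) : ARSys.PS C) := fun k =>
    isStrict_of_iso (Subobject.underlyingIso (u k ≫ (Z k).arrow)).symm (hstrict k)
  obtain ⟨k₀, hk₀⟩ := Groth.Agent.Helper9.ARStrictChain.S3164 J F hF ⟨Z', hmonoZ'⟩ hstrictZ'
  refine ⟨k₀, fun k hk => ?_⟩
  have hle : Z' (k + 1) ≤ Z k := by
    have e1 : Z' (k + 1) = Z' k := (hk₀ (k + 1) (hk.trans (Nat.le_succ k))).trans (hk₀ k hk).symm
    rw [e1]
    exact Subobject.mk_le_of_comm (u k) rfl
  let v : Y (k + 1) ⟶ (Subobject.underlying.obj (Z k) : ARSys.PS C) :=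
    (Subobject.underlyingIso (u (k + 1) ≫ (Z (k + 1)).arrow)).inv ≫
      Subobject.ofLE (Z' (k + 1)) (Z k) hle
  have hv : v ≫ Subobject.ofLE (Z k) (Z (k + 1)) (Z.monotone (Nat.le_succ k)) = u (k + 1) := by
    rw [← cancel_mono (Z (k + 1)).arrow, Category.assoc, Category.assoc, Subobject.ofLE_arrow,
      Subobject.ofLE_arrow]
    exact Subobject.underlyingIso_arrow _
  refine ⟨isARNull_kernel_of_mono _, (isARNull_cokernel_iff _).2 ⟨r (k + 1), fun n x => ?_⟩⟩
  have hx : m (ARSys.tr _ (Nat.le_add_right n (r (k + 1)))) x ∈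
      LinearMap.range (m ((u (k + 1)).app (op n))) := by
    rw [hrange (k + 1) n]
    exact ⟨x, rfl⟩
  obtain ⟨y', hy'⟩ := hx
  refine ⟨m (v.app (op n)) y', ?_⟩
  rw [← m_comp_apply, ← NatTrans.comp_app, hv]
  exact hy'

end Groth.Agent.Helper6.ModCH
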