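import Mathlib
import Groth.Prelude.Def_ARSys
import Groth.Agent.Helper9.ARSub
import Groth.Agent.Helper9.ARKerCoker
import Groth.Agent.Helper9.ARFker
import Groth.Agent.Helper9.ARLocal
import Groth.Agent.Helper4.ARFunctor

set_option autoImplicit false
set_option linter.style.haveILetI false
set_option linter.unusedSectionVars false
set_option linter.unusedVariables false
set_option linter.unusedSimpArgs false

/-!
# Being adic up to translation can be tested after applying a finite conservative family of exact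
functors (with right adjoints)
-/

namespace Groth.Agent.Helper6.ModCI

open CategoryTheory CategoryTheory.Limits Opposite
open Groth.Agent.Helper9.FM Groth.Agent.Helper9.ARSysML Groth.Agent.Helper9.ARShift
open Groth.Agent.Helper9.ARLin
open Groth.Agent.Helper4.ARSysBasic

universe w v u v₂ u₂

variable {C : Type u} [Category.{v} C] [Abelian C] {A : Type w} [CommRing A] [Linear A C]

section quot

/-- iterated quotient by finitely many elements -/
theorem exists_quot_finset (𝒮 : C → Prop)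
    (hcok : ∀ {P Q : C} (f : P ⟶ Q), 𝒮 P → 𝒮 Q → 𝒮 (cokernel f)) (s : Finset A) :
    ∀ X : C, 𝒮 X → ∃ (Q : C) (p : X ⟶ Q), 𝒮 Q ∧ Epi p ∧ (∀ a ∈ s, a • 𝟙 Q = 0) ∧
      ∀ (Y : C) (φ : X ⟶ Y), (∀ a ∈ s, a • φ = 0) → ∃ ψ : Q ⟶ Y, p ≫ ψ = φ := by
  classical
  induction s using Finset.induction_on with
  | empty =>
    intro X hX
    exact ⟨X, 𝟙 X, hX, inferInstance, fun a ha => (Finset.notMem_empty a ha).elim,
      fun Y φ _ => ⟨φ, Category.id_comp φ⟩⟩
  | insert a s _ ih =>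
    intro X hX
    obtain ⟨Q₁, p₁, hQ₁, hp₁, hk₁, hu₁⟩ := ih X hX
    haveI := hp₁
    refine ⟨cokernel (a • 𝟙 Q₁), p₁ ≫ cokernel.π (a • 𝟙 Q₁), hcok _ hQ₁ hQ₁, inferInstance, ?_, ?_⟩
    · intro b hb
      rw [← cancel_epi (cokernel.π (a • 𝟙 Q₁)), comp_zero, Linear.comp_smul, Category.comp_id]
      rcases Finset.mem_insert.1 hb with rfl | hb
      · have := cokernel.condition (b • 𝟙 Q₁)
        rwa [Linear.smul_comp, Category.id_comp] at this
      · have h1 : b • cokernel.π (a • 𝟙 Q₁) = (b • 𝟙 Q₁) ≫ cokernel.π (a • 𝟙 Q₁) := by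
          rw [Linear.smul_comp, Category.id_comp]
        rw [h1, hk₁ b hb, zero_comp]
    · intro Y φ hφ
      obtain ⟨ψ₁, hψ₁⟩ := hu₁ Y φ (fun b hb => hφ b (Finset.mem_insert_of_mem hb))
      have h0 : (a • 𝟙 Q₁) ≫ ψ₁ = 0 := by
        rw [Linear.smul_comp, Category.id_comp, ← cancel_epi p₁, comp_zero, Linear.comp_smul, hψ₁]
        exact hφ a (Finset.mem_insert_self a s)
      refine ⟨cokernel.desc _ ψ₁ h0, ?_⟩
      rw [Category.assoc, cokernel.π_desc, hψ₁]

/-- universal quotients modulo a finitely generated ideal exist inside a class of objects stable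
under cokernels -/
theorem exists_isQuot (𝒮 : C → Prop)
    (hcok : ∀ {P Q : C} (f : P ⟶ Q), 𝒮 P → 𝒮 Q → 𝒮 (cokernel f)) (I : Ideal A) (hI : I.FG)
    (X : C) (hX : 𝒮 X) : ∃ (Q : C) (p : X ⟶ Q), 𝒮 Q ∧ ARSys.IsQuot I p := by
  obtain ⟨s, rfl⟩ := hI
  obtain ⟨Q, p, hQ, hp, hk, hu⟩ := exists_quot_finset 𝒮 hcok s X hX
  haveI := hp
  refine ⟨Q, p, hQ, ?_, ?_⟩
  · intro a ha
    induction ha using Submodule.span_induction with
    | mem x hx => exact hk x hx
    | zero => exact zero_smul _ _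
    | add x y _ _ hx hy => rw [add_smul, hx, hy, add_zero]
    | smul c x _ hx => rw [smul_eq_mul, mul_smul, hx, smul_zero]
  · intro Y φ hφ
    obtain ⟨ψ, hψ⟩ := hu Y φ (fun a ha => hφ a (Submodule.subset_span ha))
    refine ⟨ψ, hψ, fun ψ' hψ' => ?_⟩
    rw [← cancel_epi p, hψ, hψ']

/-- lying inside `I X`, in terms of a universal quotient -/
theorem subLEIdeal_iff_of_isQuot {I : Ideal A} {X Q : C} (p : X ⟶ Q) (hp : ARSys.IsQuot I p)
    (S : Subobject X) : ARSys.SubLEIdeal I S ↔ S.arrow ≫ p = 0 := by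
  constructor
  · intro h
    exact h Q p (KilledBy.hom' hp.1 p)
  · intro h Y φ hφ
    obtain ⟨ψ, hψ, -⟩ := hp.2 Y φ hφ
    rw [← hψ, ← Category.assoc, h, zero_comp]

theorem subLEIdeal_mono {I I' : Ideal A} (h : I ≤ I') {X : C} (S : Subobject X)
    (hS : ARSys.SubLEIdeal I S) : ARSys.SubLEIdeal I' S :=
  fun Y φ hφ => hS Y φ (fun a ha => hφ a (h ha))

theorem subLEIdeal_top {X : C} (S : Subobject X) : ARSys.SubLEIdeal (⊤ : Ideal A) S := by
  intro Y φ hφ
  have := hφ 1 Submodule.mem_top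
  rw [one_smul] at this
  rw [this, comp_zero]

end quot

section iso

/-- two subobjects with the same image are isomorphic -/
theorem nonempty_iso_of_range_eq {P Q X : C} (f : P ⟶ X) (g : Q ⟶ X) [Mono f] [Mono g]
    (h : LinearMap.range (m f) = LinearMap.range (m g)) : Nonempty (P ≅ Q) := by
  obtain ⟨a, ha⟩ := exists_lift_of_range_le f g h.le
  obtain ⟨b, hb⟩ := exists_lift_of_range_le g f h.ge
  refine ⟨⟨a, b, ?_, ?_⟩⟩
  · rw [← cancel_mono f, Category.assoc, hb, ha, Category.id_comp]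
  · rw [← cancel_mono g, Category.assoc, ha, hb, Category.id_comp]

theorem range_image_ι {P X : C} (f : P ⟶ X) :
    LinearMap.range (m (Abelian.image.ι f)) = LinearMap.range (m f) := by
  apply le_antisymm
  · rintro _ ⟨y, rfl⟩
    obtain ⟨x, rfl⟩ := (epi_iff (Abelian.factorThruImage f)).1 inferInstance y
    exact ⟨x, by rw [← m_comp_apply, Abelian.image.fac]⟩
  · rintro _ ⟨x, rfl⟩
    exact ⟨m (Abelian.factorThruImage f) x, by rw [← m_comp_apply, Abelian.image.fac]⟩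

end iso

section main

variable (J : Ideal A) {ι : Type} [Finite ι] (D : ι → Type u₂) [∀ i, Category.{v₂} (D i)]
  [∀ i, Abelian (D i)] [∀ i, Linear A (D i)] (Φ : ∀ i, C ⥤ D i) [∀ i, (Φ i).Additive]
  [∀ i, (Φ i).Linear A] [∀ i, PreservesFiniteLimits (Φ i)] [∀ i, PreservesFiniteColimits (Φ i)]
  (Ψ : ∀ i, D i ⥤ C) (adj : ∀ i, Φ i ⊣ Ψ i)
  (𝒮 : C → Prop)
  (hiso : ∀ {P Q : C}, (P ≅ Q) → 𝒮 P → 𝒮 Q)
  (hker : ∀ {P Q : C} (f : P ⟶ Q), 𝒮 P → 𝒮 Q → 𝒮 (kernel f))
  (hcok : ∀ {P Q : C} (f : P ⟶ Q), 𝒮 P → 𝒮 Q → 𝒮 (cokernel f))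
  (hdet : ∀ P : C, 𝒮 P → (∀ i, IsZero ((Φ i).obj P)) → IsZero P)

include hker hcok hdet in
/-- the family is jointly faithful on morphisms between objects of the class -/
theorem eq_zero_of_map {P Q : C} (g : P ⟶ Q) (hP : 𝒮 P) (hQ : 𝒮 Q)
    (h : ∀ i, (Φ i).map g = 0) : g = 0 := by
  have hI : 𝒮 (Abelian.image g) := hker (cokernel.π g) hQ (hcok g hP hQ)
  have hz : IsZero (Abelian.image g) := by
    refine hdet _ hI (fun i => ?_)
    haveI : Mono ((Φ i).map (Abelian.image.ι g)) := inferInstance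
    haveI : Epi ((Φ i).map (Abelian.factorThruImage g)) := inferInstance
    have h1 : (Φ i).map (Abelian.factorThruImage g) ≫ (Φ i).map (Abelian.image.ι g) = 0 := by
      rw [← Functor.map_comp, Abelian.image.fac, h i]
    have h2 : (Φ i).map (Abelian.image.ι g) = 0 := by
      rw [← cancel_epi ((Φ i).map (Abelian.factorThruImage g)), h1, comp_zero]
    exact IsZero.of_mono_eq_zero _ h2
  rw [← Abelian.image.fac g, hz.eq_of_src (Abelian.image.ι g) 0, comp_zero]

theorem exists_bound (f : ι → ℕ) : ∃ r : ℕ, ∀ i, f i ≤ r := by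
  obtain ⟨r, hr⟩ := (Set.finite_range f).bddAbove
  exact ⟨r, fun i => hr ⟨i, rfl⟩⟩

variable {J}

include hker hcok hdet in
/-- the uniform Mittag-Leffler condition can be tested on the family -/
theorem isMLAR_of_family (X : ARSys.PS C) (hX : ∀ n : ℕ, 𝒮 (X.obj (op n)))
    (h : ∀ i, ARSys.IsMLAR (X ⋙ Φ i)) : ARSys.IsMLAR X := by
  choose r₀ hr₀ using fun i => (isMLAR_iff _).1 (h i)
  obtain ⟨r, hr⟩ := exists_bound r₀
  rw [isMLAR_iff]
  refine ⟨r, fun n k l h₁ h₂ hk => ?_⟩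
  have hg : ARSys.tr X h₁ ≫ cokernel.π (ARSys.tr X (h₁.trans h₂)) = 0 := by
    apply eq_zero_of_map D Φ 𝒮 hker hcok hdet _ (hX k) (hcok _ (hX l) (hX n))
    intro i
    rw [Functor.map_comp, comp_eq_zero_iff]
    intro x
    have hle := hr₀ i n k l h₁ h₂ (by have := hr i; omega)
    obtain ⟨y, hy⟩ := hle ⟨x, rfl⟩
    have e1 : m ((Φ i).map (ARSys.tr X h₁)) x = m ((Φ i).map (ARSys.tr X (h₁.trans h₂))) y :=
      hy.symm
    rw [e1, ← m_comp_apply, ← Functor.map_comp, cokernel.condition, Functor.map_zero]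
    simp
  rintro _ ⟨x, rfl⟩
  have hex : (ShortComplex.mk (ARSys.tr X (h₁.trans h₂)) (cokernel.π (ARSys.tr X (h₁.trans h₂)))
      (cokernel.condition _)).Exact := ShortComplex.exact_cokernel _
  obtain ⟨y, hy⟩ := (exact_iff _).1 hex (m (ARSys.tr X h₁) x) (by
    show m (cokernel.π (ARSys.tr X (h₁.trans h₂))) (m (ARSys.tr X h₁) x) = 0
    rw [← m_comp_apply, hg]
    simp)
  exact ⟨y, hy⟩

include hiso hker hcok hdet adj in
/-- being adic up to translation can be tested on the family -/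
theorem isARAdic_of_family (hJ : J.FG) (X : ARSys.PS C) (hX : ∀ n : ℕ, 𝒮 (X.obj (op n)))
    (kX : ARSys.TermKilled J X) (h : ∀ i, ARSys.IsARAdic J (X ⋙ Φ i)) : ARSys.IsARAdic J X := by
  have hML : ARSys.IsMLAR X := isMLAR_of_family D Φ 𝒮 hker hcok hdet X hX
    (fun i => Groth.Agent.Helper9.ARKerCoker.isMLAR_of_isARAdic J (Or.inl hJ) (h i))
  obtain ⟨r, hr⟩ := (isMLAR_iff X).1 hML
  obtain ⟨Y, u, hm, hmono, hrange, hnull⟩ := exists_univIm X r
  haveI := hm
  have hYs : ARSys.IsStrict Y := strict_of_range u hmono r hrange hr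
  have kY : ARSys.TermKilled J Y := fun n => by
    haveI := hmono (op n)
    exact KilledBy.of_mono (u.app (op n)) (kX n)
  have hu : ARSys.IsARIso u := ⟨isARNull_kernel_of_mono u, ⟨r, hnull⟩⟩
  have hY𝒮 : ∀ n : ℕ, 𝒮 (Y.obj (op n)) := by
    intro n
    haveI := hmono (op n)
    obtain ⟨e⟩ := nonempty_iso_of_range_eq
      (Abelian.image.ι (ARSys.tr X (Nat.le_add_right n r))) (u.app (op n))
      (by rw [range_image_ι, hrange n])
    exact hiso e (hker _ (hX n) (hcok _ (hX (n + r)) (hX n)))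
  have hYi : ∀ i, ARSys.IsARAdic J (Y ⋙ Φ i) := by
    intro i
    have kY' : ARSys.TermKilled J (Y ⋙ Φ i) :=
      Groth.Agent.Helper4.ARFunctor.termKilled_comp (Φ i) kY
    have hu' : ARSys.IsARIso (Functor.whiskerRight u (Φ i)) :=
      Groth.Agent.Helper4.ARFunctor.isARIso_whiskerRight (Φ i) u hu
    obtain ⟨-, T, t, hT, ht⟩ := h i
    obtain ⟨l, hl, -⟩ := Groth.Agent.Helper9.ARLocal.existsUnique_lift J (Or.inl hJ) hT kY'
      (Functor.whiskerRight u (Φ i)) hu' t
    have hl' : l ≫ Functor.whiskerRight u (Φ i) = t := hl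
    exact ⟨kY', T, l, hT, Groth.Agent.Helper9.ARSerre.isARIso_of_postcomp l _ hu'
      (by rw [hl']; exact ht)⟩
  have hYis : ∀ i, ARSys.IsStrict (Y ⋙ Φ i) := fun i n k hnk => by
    haveI := hYs n k hnk
    show Epi ((Φ i).map (ARSys.tr Y hnk))
    infer_instance
  choose r₀ hr₀pos hr₀ using fun i =>
    Groth.Agent.Helper9.ARFker.S3158_mp J (Or.inl hJ) (Y ⋙ Φ i) (hYis i) (hYi i)
  obtain ⟨r', hr'⟩ := exists_bound r₀
  have hYadic : ARSys.IsARAdic J Y := by
    refine Groth.Agent.Helper9.ARFker.S3158_mpr J (Or.inl hJ) Y hYs kY r' (fun n => ?_)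
    cases n with
    | zero =>
      have : J ^ (0 - r') = ⊤ := by rw [Nat.zero_sub, pow_zero, Ideal.one_eq_top]
      rw [this]
      exact subLEIdeal_top _
    | succ k =>
      obtain ⟨Q, p, hQ, hp⟩ := exists_isQuot 𝒮 hcok (J ^ (k + 1 - r')) hJ.pow
        (Y.obj (op (k + 1))) (hY𝒮 (k + 1))
      rw [subLEIdeal_iff_of_isQuot p hp]
      show (kernelSubobject (ARSys.tr Y (Nat.le_succ k))).arrow ≫ p = 0
      rw [← kernelSubobject_arrow, Category.assoc]
      have key : kernel.ι (ARSys.tr Y (Nat.le_succ k)) ≫ p = 0 := by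
        apply eq_zero_of_map D Φ 𝒮 hker hcok hdet _ (hker _ (hY𝒮 (k + 1)) (hY𝒮 k)) hQ
        intro i
        have hp' : ARSys.IsQuot (J ^ (k + 1 - r')) ((Φ i).map p) :=
          Groth.Agent.Helper4.ARFunctor.isQuot_map (adj i) p hp
        have hsub : ARSys.SubLEIdeal (J ^ (k + 1 - r')) (ARSys.Fker (Y ⋙ Φ i) (k + 1)) :=
          subLEIdeal_mono (Ideal.pow_le_pow_right (by have := hr' i; omega)) _ (hr₀ i (k + 1))
        rw [subLEIdeal_iff_of_isQuot _ hp'] at hsub
        have hsub' : (kernelSubobject ((Φ i).map (ARSys.tr Y (Nat.le_succ k)))).arrow ≫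
            (Φ i).map p = 0 := hsub
        rw [← kernelSubobject_arrow, Category.assoc] at hsub'
        have h3 : kernel.ι ((Φ i).map (ARSys.tr Y (Nat.le_succ k))) ≫ (Φ i).map p = 0 := by
          rw [← cancel_epi (kernelSubobjectIso _).hom, hsub', comp_zero]
        rw [Functor.map_comp, ← kernelComparison_comp_ι _ (Φ i), Category.assoc, h3, comp_zero]
      rw [key, comp_zero]
  obtain ⟨-, T, l, hT, hl⟩ := hYadic
  exact ⟨kX, T, l ≫ u, hT, Groth.Agent.Helper9.ARSerre.isARIso_comp l u hl hu⟩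

end main

end Groth.Agent.Helper6.ModCI
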