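import Mathlib
import Groth.Prelude.Def_EtMod2
import Groth.Prelude.Def_ARSys
import Groth.Agent.Helper6.ModCE
import Groth.Agent.Helper6.ModCG
import Groth.Agent.Helper6.ModCI
import Groth.Agent.Helper4.ModStalk
import Groth.Agent.Helper4.ModPullAR

set_option autoImplicit false
set_option linter.style.haveILetI false
set_option linter.unusedSectionVars false
set_option linter.unusedVariables false
set_option linter.unusedSimpArgs false

/-!
# Systems of constructible sheaves of modules which are adic up to translation: the property is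
local for finite families of morphisms through which all geometric points lift
-/

universe u

open CategoryTheory CategoryTheory.Limits AlgebraicGeometry Opposite

namespace Groth.Agent.Helper6.ModCJ

open Groth.Agent.Helper4.ModStalk

variable (Λ : Type (u + 1)) [CommRing Λ] (I : Ideal Λ)

/-- adic up to translation, with a model having constructible components -/
def ARC {X : Scheme.{u}} (F : ARSys.PS (EtModW.Mod Λ X)) : Prop :=
  ARSys.TermKilled I F ∧ ∃ (Y : ARSys.PS (EtModW.Mod Λ X)) (v : Y ⟶ F), ARSys.IsAdic I Y ∧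
    (∀ n : ℕ, EtModW.IsConstructible Λ (Y.obj (op n))) ∧ ARSys.IsARIso v

theorem arc_pull {X X' : Scheme.{u}} (f : X' ⟶ X) {F : ARSys.PS (EtModW.Mod Λ X)}
    (hF : ARC Λ I F) : ARC Λ I (F ⋙ EtModW.pull Λ f) := by
  obtain ⟨hk, Y, v, hY, hYc, hv⟩ := hF
  refine ⟨Groth.Agent.Helper4.ARFunctor.termKilled_comp (EtModW.pull Λ f) hk,
    Y ⋙ EtModW.pull Λ f, Functor.whiskerRight v (EtModW.pull Λ f), ?_, ?_, ?_⟩
  · exact Groth.Agent.Helper4.ARFunctor.isAdic_comp (Groth.Agent.Helper4.ModPullAR.adj Λ f) hY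
  · intro n
    exact Groth.Agent.Helper4.ModStrata.isConstructible_pull Λ f _ (hYc n)
  · exact Groth.Agent.Helper4.ARFunctor.isARIso_whiskerRight (EtModW.pull Λ f) v hv

variable [IsNoetherianRing Λ]

/-- from a plain adic model to one with constructible components -/
theorem arc_of_isARAdic {X : Scheme.{u}} [IsLocallyNoetherian X] {F : ARSys.PS (EtModW.Mod Λ X)}
    (hc : ∀ n : ℕ, EtModW.IsConstructible Λ (F.obj (op n))) (h : ARSys.IsARAdic I F) :
    ARC Λ I F := by
  have hJ : I.FG := IsNoetherian.noetherian I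
  obtain ⟨hk, Y, v, hY, hv⟩ := h
  refine ⟨hk, Y, v, hY, ?_, hv⟩
  exact Groth.Agent.Helper6.ModCG.prop_of_model I (Or.inl hJ)
    (fun S => EtModW.IsConstructible Λ S)
    (fun i _ h => Groth.Agent.Helper6.ModCE.isConstructible_of_mono Λ i h)
    (fun q _ h => Groth.Agent.Helper6.ModCE.isConstructible_of_epi Λ q h) v hY hv hc

theorem isARAdic_of_arc {X : Scheme.{u}} {F : ARSys.PS (EtModW.Mod Λ X)} (h : ARC Λ I F) :
    ARSys.IsARAdic I F := by
  obtain ⟨hk, Y, v, hY, -, hv⟩ := h
  exact ⟨hk, Y, v, hY, hv⟩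

attribute [local instance] ab5_mod hasLimits_mod

/-- the main local-to-global statement -/
theorem arc_of_family {X : Scheme.{u}} [IsLocallyNoetherian X] {ι : Type} [Finite ι]
    (S : ι → Scheme.{u}) (f : ∀ k, S k ⟶ X)
    (hlift : ∀ (Ω : Type u) [Field Ω] [IsSepClosed Ω] (ξ : Spec (CommRingCat.of Ω) ⟶ X),
      ∃ (k : ι) (l : Spec (CommRingCat.of Ω) ⟶ S k), l ≫ f k = ξ)
    (F : ARSys.PS (EtModW.Mod Λ X)) (hc : ∀ n : ℕ, EtModW.IsConstructible Λ (F.obj (op n)))
    (hk : ARSys.TermKilled I F) (h : ∀ k, ARC Λ I (F ⋙ EtModW.pull Λ (f k))) : ARC Λ I F := by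
  have hJ : I.FG := IsNoetherian.noetherian I
  apply arc_of_isARAdic Λ I hc
  refine Groth.Agent.Helper6.ModCI.isARAdic_of_family (J := I)
    (fun k => EtModW.Mod Λ (S k)) (fun k => EtModW.pull Λ (f k)) (fun k => EtModW.push Λ (f k))
    (fun k => Groth.Agent.Helper4.ModPullAR.adj Λ (f k)) (fun _ => True)
    (fun _ _ => trivial) (fun _ _ _ => trivial) (fun _ _ _ => trivial) ?_ hJ F
    (fun _ => trivial) hk (fun k => isARAdic_of_arc Λ I (h k))
  intro P _ hP
  apply isZero_of_stalksM Λ P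
  intro Ω _ _ ξ
  obtain ⟨k, l, rfl⟩ := hlift Ω ξ
  exact IsZero.of_iso ((EtModW.stalk Λ l).map_isZero (hP k)) ((stalkPullIsoM Λ (f k) l).app P).symm

end Groth.Agent.Helper6.ModCJ
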