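import Mathlib
import Groth.Prelude.Def_EtMod2
import Groth.Prelude.Def_ARSys
import Groth.Agent.Helper6.ModCJ
import Groth.Agent.Helper4.FtlcSerre
import Groth.Agent.Helper9.EtStalkExact

set_option autoImplicit false
set_option linter.style.haveILetI false
set_option linter.unusedSectionVars false
set_option linter.unusedVariables false
set_option linter.unusedSimpArgs false

/-!
# Systems of finite type locally constant sheaves of modules on a connected scheme: being adic up
to translation can be tested on one geometric stalk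
-/

universe u

open CategoryTheory CategoryTheory.Limits AlgebraicGeometry Opposite

namespace Groth.Agent.Helper6.ModCK

open Groth.Agent.Helper4.ModStalk Groth.Agent.Helper4.ModEtA Groth.Agent.Helper4.EtGeom
open Groth.Agent.Helper9.EtStalkExact Groth.Agent.Helper4.OverEtC

variable (Λ : Type (u + 1)) [CommRing Λ]

attribute [local instance] ab5_mod hasLimits_mod

/-- a finite type locally constant sheaf on a connected scheme with one vanishing geometric stalk
is zero -/
theorem isZero_of_ftlc_of_stalk {X : Scheme.{u}} [PreconnectedSpace X]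
    (P : EtModW.Mod Λ X) (hP : EtModW.IsFTLocConst Λ P)
    {Ω : Type u} [Field Ω] [IsSepClosed Ω] (s : Spec (CommRingCat.of Ω) ⟶ X)
    (hs : IsZero ((EtModW.stalk Λ s).obj P)) : IsZero P := by
  rw [ftlc_iff] at hP
  obtain ⟨ι, V, hV, hM⟩ := hP
  choose M fM aM using hM
  -- the two open sets
  let A : Set X := ⋃ (i : ι) (_ : Subsingleton (M i)), Set.range (homS (V i))
  let B : Set X := ⋃ (i : ι) (_ : ¬ Subsingleton (M i)), Set.range (homS (V i))
  have hA : IsOpen A := isOpen_iUnion (fun i => isOpen_iUnion (fun _ =>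
    (homS (V i)).isOpenMap.isOpen_range))
  have hB : IsOpen B := isOpen_iUnion (fun i => isOpen_iUnion (fun _ =>
    (homS (V i)).isOpenMap.isOpen_range))
  have key : ∀ {Ω' : Type u} [Field Ω'] [IsSepClosed Ω'] (ξ : Spec (CommRingCat.of Ω') ⟶ X)
      (i : ι) (v : (V i).left), (homS (V i)) v = ξ default →
      Nonempty ((EtModW.stalk Λ ξ).obj P ≅ M i) := by
    intro Ω' _ _ ξ i v hv
    obtain ⟨a⟩ := aM i
    exact stalk_iso_of_constM Λ (V i) (M i) a ξ v hv
  have hAB : A ∪ B = Set.univ := by
    apply Set.eq_univ_of_forall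
    intro x
    obtain ⟨i, y, hy⟩ := hV x
    by_cases hi : Subsingleton (M i)
    · exact Or.inl (Set.mem_iUnion₂.2 ⟨i, hi, y, hy⟩)
    · exact Or.inr (Set.mem_iUnion₂.2 ⟨i, hi, y, hy⟩)
  have hdisj : Disjoint A B := by
    rw [Set.disjoint_left]
    intro x hxA hxB
    obtain ⟨i, hi, y, hy⟩ := Set.mem_iUnion₂.1 hxA
    obtain ⟨j, hj, z, hz⟩ := Set.mem_iUnion₂.1 hxB
    obtain ⟨e₁⟩ := key (geomPt x) i y (hy.trans (geomPt_default x).symm)
    obtain ⟨e₂⟩ := key (geomPt x) j z (hz.trans (geomPt_default x).symm)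
    exact hj ((e₂.symm ≪≫ e₁).toLinearEquiv.toEquiv.subsingleton)
  have hAc : IsClopen A := by
    refine ⟨?_, hA⟩
    have : A = Bᶜ := by
      ext x
      constructor
      · intro hx hx'
        exact Set.disjoint_left.1 hdisj hx hx'
      · intro hx
        have : x ∈ A ∪ B := by rw [hAB]; exact Set.mem_univ x
        rcases this with h | h
        · exact h
        · exact (hx h).elim
    rw [this]
    exact hB.isClosed_compl
  have hsA : s default ∈ A := by
    obtain ⟨i, y, hy⟩ := hV (s default)
    obtain ⟨e⟩ := key s i y hy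
    have : Subsingleton (M i) := by
      have := ModuleCat.subsingleton_of_isZero (hs.of_iso e.symm)
      exact this
    exact Set.mem_iUnion₂.2 ⟨i, this, y, hy⟩
  have hAu : A = Set.univ := by
    rcases isClopen_iff.1 hAc with h | h
    · rw [h] at hsA
      exact hsA.elim
    · exact h
  apply isZero_of_stalksM Λ P
  intro Ω' _ _ ξ
  have hξ : ξ default ∈ A := by rw [hAu]; exact Set.mem_univ _
  obtain ⟨i, hi, y, hy⟩ := Set.mem_iUnion₂.1 hξ
  obtain ⟨e⟩ := key ξ i y hy
  haveI := hi
  exact (ModuleCat.isZero_of_subsingleton (M i)).of_iso e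

variable (I : Ideal Λ) [IsNoetherianRing Λ]

/-- on a connected scheme, a system of finite type locally constant sheaves of modules is adic up
to translation as soon as one of its systems of geometric stalks is -/
theorem isARAdic_of_stalk {X : Scheme.{u}} [PreconnectedSpace X]
    (F : ARSys.PS (EtModW.Mod Λ X)) (hl : ∀ n : ℕ, EtModW.IsFTLocConst Λ (F.obj (op n)))
    (hk : ARSys.TermKilled I F)
    {Ω : Type u} [Field Ω] [IsSepClosed Ω] (s : Spec (CommRingCat.of Ω) ⟶ X)
    (h : ARSys.IsARAdic I (F ⋙ EtModW.stalk Λ s)) : ARSys.IsARAdic I F := by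
  have hJ : I.FG := IsNoetherian.noetherian I
  refine Groth.Agent.Helper6.ModCI.isARAdic_of_family (J := I) (ι := Unit)
    (fun _ => ModuleCat.{u + 1} Λ) (fun _ => EtModW.stalk Λ s)
    (fun _ => (Scheme.pointSmallEtale s).skyscraperSheafFunctor)
    (fun _ => (Scheme.pointSmallEtale s).skyscraperSheafAdjunction)
    (fun P => EtModW.IsFTLocConst Λ P)
    (fun e hP => Groth.Agent.Helper4.ModStrata.ftlc_of_iso Λ e hP)
    (fun f hP hQ => (Groth.Agent.Helper4.FtlcSerre.ftlc_kernel_cokernel Λ f hP hQ).1)
    (fun f hP hQ => (Groth.Agent.Helper4.FtlcSerre.ftlc_kernel_cokernel Λ f hP hQ).2)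
    ?_ hJ F hl hk (fun _ => h)
  intro P hP hz
  exact isZero_of_ftlc_of_stalk Λ P hP s (hz ())

end Groth.Agent.Helper6.ModCK
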