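import Mathlib
import Groth.Prelude.Def_EtMod2
import Groth.Agent.Helper6.ModCD

set_option autoImplicit false
set_option linter.style.haveILetI false
set_option linter.unusedSectionVars false
set_option linter.unusedVariables false
set_option linter.unusedSimpArgs false

/-!
# Stratifications by Noetherian induction, for an abstract property of immersions
(generalization of `Helper6.ModCD`, used for families of sheaves)
-/

universe u

open CategoryTheory CategoryTheory.Limits AlgebraicGeometry Opposite Topology TopologicalSpace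

namespace Groth.Agent.Helper6.ModCL

open Groth.Agent.Helper4.NoethStrat (range_ι_comp)

variable {X : Scheme.{u}} (R : ∀ (T : Scheme.{u}), (T ⟶ X) → Prop)

/-- a finite partition of `A` into ranges of immersions having the property `R` -/
def PStratR (A : Set X) : Prop :=
  ∃ (κ : Type) (_ : Finite κ) (T : κ → Scheme.{u}) (g : ∀ k, T k ⟶ X),
    (∀ k, IsImmersion (g k)) ∧
    Pairwise (fun a b => Disjoint (Set.range (g a)) (Set.range (g b))) ∧
    (⋃ k, Set.range (g k)) = A ∧
    ∀ k, R (T k) (g k)

lemma pstratR_empty : PStratR R ∅ :=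
  ⟨Empty, inferInstance, fun k => k.elim, fun k => k.elim, fun k => k.elim,
    fun a => a.elim, by simp, fun k => k.elim⟩

lemma pstratR_single {T : Scheme.{u}} (g : T ⟶ X) [IsImmersion g]
    (h : R T g) : PStratR R (Set.range g) :=
  ⟨Unit, inferInstance, fun _ => T, fun _ => g, fun _ => inferInstance,
    fun a b hab => (hab (Subsingleton.elim a b)).elim, Set.iUnion_const _, fun _ => h⟩

lemma pstratR_union {A B : Set X} (hA : PStratR R A) (hB : PStratR R B)
    (hd : Disjoint A B) : PStratR R (A ∪ B) := by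
  obtain ⟨κ, hκ, T, g, h1, h3, h4, h5⟩ := hA
  obtain ⟨κ', hκ', T', g', h1', h3', h4', h5'⟩ := hB
  refine ⟨κ ⊕ κ', inferInstance, fun k => Sum.elim T T' k,
    fun k => match k with
      | Sum.inl a => g a
      | Sum.inr b => g' b, ?_, ?_, ?_, ?_⟩
  · rintro (a | b)
    · exact h1 a
    · exact h1' b
  · rintro (a | a) (b | b) hab
    · exact h3 (fun h => hab (by rw [h]))
    · refine hd.mono ?_ ?_
      · rw [← h4]; exact Set.subset_iUnion (fun k => Set.range (g k)) a
      · rw [← h4']; exact Set.subset_iUnion (fun k => Set.range (g' k)) b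
    · refine hd.symm.mono ?_ ?_
      · rw [← h4']; exact Set.subset_iUnion (fun k => Set.range (g' k)) a
      · rw [← h4]; exact Set.subset_iUnion (fun k => Set.range (g k)) b
    · exact h3' (fun h => hab (by rw [h]))
  · rw [← h4, ← h4']
    ext x
    simp only [Set.mem_iUnion, Set.mem_union, Sum.exists]
    exact Iff.rfl
  · rintro (a | b)
    · exact h5 a
    · exact h5' b

variable (hR : ∀ (T : Scheme.{u}) (g : T ⟶ X) (O : T.Opens), R T g → R O (O.ι ≫ g))

include hR in
lemma pstratR_inter_open {A : Set X} (hA : PStratR R A) (O : X.Opens) :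
    PStratR R (A ∩ (O : Set X)) := by
  obtain ⟨κ, hκ, T, g, h1, h3, h4, h5⟩ := hA
  haveI := h1
  refine ⟨κ, hκ, fun k => ((g k) ⁻¹ᵁ O : (T k).Opens), fun k => ((g k) ⁻¹ᵁ O).ι ≫ g k,
    fun k => inferInstance, ?_, ?_, fun k => ?_⟩
  · intro a b hab
    rw [range_ι_comp, range_ι_comp]
    exact (h3 hab).mono Set.inter_subset_left Set.inter_subset_left
  · rw [← h4, Set.iUnion_inter]
    exact Set.iUnion_congr fun k => range_ι_comp (g k) O
  · exact hR _ _ _ (h5 k)

include hR in
/-- Noetherian induction: closed subsets of a Noetherian open are stratified -/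
theorem pstratR_closed (U : X.Opens) [NoetherianSpace ↥(U : Set X)]
    [QuasiSober ↥(U : Set X)]
    (h : ∀ x : X, ∃ (V : X.Opens) (T : Scheme.{u}) (g : T ⟶ X), IsImmersion g ∧ x ∈ V ∧
        Set.range g = (V : Set X) ∩ closure {x} ∧ R T g)
    (Z : Closeds ↥(U : Set X)) : PStratR R (Subtype.val '' (Z : Set ↥(U : Set X))) := by
  apply wellFounded_lt.induction Z; clear Z
  intro Z H
  rcases eq_or_ne Z ⊥ with rfl | h₀
  · simpa using pstratR_empty R
  · by_cases h₁ : IsPreirreducible (Z : Set ↥(U : Set X))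
    · have hirr : IsIrreducible (Z : Set ↥(U : Set X)) := ⟨Closeds.coe_nonempty.2 h₀, h₁⟩
      obtain ⟨x, hx⟩ := QuasiSober.sober hirr Z.isClosed
      obtain ⟨V, T, g, hg, hxV, hrange, hflc⟩ := h x.1
      have hZ : (Z : Set ↥(U : Set X)) = Subtype.val ⁻¹' closure {x.1} := by
        rw [← hx.def, Topology.IsEmbedding.subtypeVal.closure_eq_preimage_closure_image,
          Set.image_singleton]
      have hval : Subtype.val '' (Z : Set ↥(U : Set X)) = (U : Set X) ∩ closure {x.1} := by
        rw [hZ, Subtype.image_preimage_coe]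
      have hs1 : PStratR R (Set.range g ∩ (U : Set X)) :=
        pstratR_inter_open R hR (pstratR_single R g hflc) U
      let Z' : Closeds ↥(U : Set X) := Z ⊓ ⟨(Subtype.val ⁻¹' (V : Set X))ᶜ,
        (V.2.preimage continuous_subtype_val).isClosed_compl⟩
      have hlt : Z' < Z := by
        refine lt_of_le_of_ne inf_le_left ?_
        intro heq
        have hxZ : x ∈ (Z' : Set ↥(U : Set X)) := by rw [heq]; exact hx.mem
        exact hxZ.2 hxV
      have hs2 := H Z' hlt
      have hval' : Subtype.val '' (Z' : Set ↥(U : Set X)) =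
          ((U : Set X) ∩ closure {x.1}) ∩ (V : Set X)ᶜ := by
        ext y
        constructor
        · rintro ⟨y', ⟨hy1, hy2⟩, rfl⟩
          refine ⟨?_, hy2⟩
          rw [← hval]
          exact ⟨y', hy1, rfl⟩
        · rintro ⟨hy1, hy2⟩
          rw [← hval] at hy1
          obtain ⟨y', hy', rfl⟩ := hy1
          exact ⟨y', ⟨hy', hy2⟩, rfl⟩
      have hunion : Subtype.val '' (Z : Set ↥(U : Set X)) =
          (Set.range g ∩ (U : Set X)) ∪ Subtype.val '' (Z' : Set ↥(U : Set X)) := by
        rw [hval', hval, hrange]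
        ext y
        by_cases hyV : y ∈ (V : Set X)
        · simp only [Set.mem_inter_iff, Set.mem_union, Set.mem_compl_iff]
          tauto
        · simp only [Set.mem_inter_iff, Set.mem_union, Set.mem_compl_iff]
          tauto
      rw [hunion]
      refine pstratR_union R hs1 hs2 ?_
      rw [hval', hrange]
      rw [Set.disjoint_left]
      rintro y ⟨⟨hy1, _⟩, _⟩ ⟨_, hy2⟩
      exact hy2 hy1
    · simp only [isPreirreducible_iff_isClosed_union_isClosed, not_forall, not_or] at h₁
      obtain ⟨z₁, z₂, hz₁, hz₂, hsub, hz₁', hz₂'⟩ := h₁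
      lift z₁ to Closeds ↥(U : Set X) using hz₁
      lift z₂ to Closeds ↥(U : Set X) using hz₂
      have ha := H (Z ⊓ z₁) (inf_lt_left.2 hz₁')
      have hb := H (Z ⊓ z₂) (inf_lt_left.2 hz₂')
      let O : X.Opens := ⟨Subtype.val '' ((z₁ : Set ↥(U : Set X))ᶜ),
        U.2.isOpenMap_subtype_val _ z₁.isClosed.isOpen_compl⟩
      have hb' := pstratR_inter_open R hR hb O
      have hunion : Subtype.val '' (Z : Set ↥(U : Set X)) =
          Subtype.val '' ((Z ⊓ z₁ : Closeds ↥(U : Set X)) : Set ↥(U : Set X)) ∪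
            (Subtype.val '' ((Z ⊓ z₂ : Closeds ↥(U : Set X)) : Set ↥(U : Set X)) ∩ (O : Set X)) := by
        ext y
        constructor
        · rintro ⟨y', hy', rfl⟩
          by_cases hy1 : y' ∈ (z₁ : Set ↥(U : Set X))
          · exact Or.inl ⟨y', ⟨hy', hy1⟩, rfl⟩
          · refine Or.inr ⟨⟨y', ⟨hy', ?_⟩, rfl⟩, ⟨y', hy1, rfl⟩⟩
            rcases hsub hy' with h | h
            · exact (hy1 h).elim
            · exact h
        · rintro (⟨y', ⟨hy', _⟩, rfl⟩ | ⟨⟨y', ⟨hy', _⟩, rfl⟩, _⟩)
          · exact ⟨y', hy', rfl⟩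
          · exact ⟨y', hy', rfl⟩
      rw [hunion]
      refine pstratR_union R ha hb' ?_
      rw [Set.disjoint_left]
      rintro y ⟨y', ⟨_, hy1⟩, rfl⟩ ⟨_, ⟨y'', hy2, hyy⟩⟩
      have : y'' = y' := Subtype.val_injective hyy
      subst this
      exact hy2 hy1


include hR in
/-- a Noetherian scheme is stratified as soon as every point has a locally closed neighbourhood
in its closure with the property -/
theorem pstratR_univ [IsNoetherian X]
    (h : ∀ x : X, ∃ (V : X.Opens) (T : Scheme.{u}) (g : T ⟶ X), IsImmersion g ∧ x ∈ V ∧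
        Set.range g = (V : Set X) ∩ closure {x} ∧ R T g) : PStratR R Set.univ := by
  haveI : NoetherianSpace ↥((⊤ : X.Opens) : Set X) := by
    show NoetherianSpace ↥(Set.univ : Set X)
    infer_instance
  haveI : QuasiSober ↥((⊤ : X.Opens) : Set X) := (⊤ : X.Opens).isOpenEmbedding'.quasiSober
  have h1 := pstratR_closed R hR (⊤ : X.Opens) h ⊤
  have h2 : Subtype.val '' ((⊤ : Closeds ↥((⊤ : X.Opens) : Set X)) :
      Set ↥((⊤ : X.Opens) : Set X)) = Set.univ := by
    rw [Closeds.coe_top, Set.image_univ, Subtype.range_coe]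
    rfl
  rw [h2] at h1
  exact h1

end Groth.Agent.Helper6.ModCL
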