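import Mathlib
import Groth.Prelude.Def_EtMod2
import Groth.Prelude.Def_ARSys
import Groth.Agent.Helper6.ModCL
import Groth.Agent.Helper6.ModCE
import Groth.Agent.Helper6.ModCF
import Groth.Agent.Helper6.GrHC
import Groth.Agent.Helper4.FtlcSerre
import Groth.Agent.Helper4.ModPullAR

set_option autoImplicit false
set_option linter.style.haveILetI false
set_option linter.unusedSectionVars false
set_option linter.unusedVariables false
set_option linter.unusedSimpArgs false

/-!
# A single stratification adapted to all members of an adic system of constructible sheaves of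
modules (Noetherian coefficient ring, arbitrary ideal)
-/

universe u

open CategoryTheory CategoryTheory.Limits AlgebraicGeometry Opposite

namespace Groth.Agent.Helper6.ModCM

open Groth.Agent.Helper4.ModStrata Groth.Agent.Helper4.ModEtA
open Groth.Agent.Helper6.ModCD Groth.Agent.Helper6.ModCL Groth.Agent.Helper6.GrHB

variable (Λ : Type (u + 1)) [CommRing Λ] {X : Scheme.{u}}

/-- a common locally closed neighbourhood, in the closure of a point, on which finitely many
constructible sheaves are all finite type locally constant -/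
theorem exists_common_local (x : X) (E₀ : EtModW.Mod Λ X) (h₀ : EtModW.IsConstructible Λ E₀)
    (Ls : List (EtModW.Mod Λ X)) (hLs : ∀ E ∈ Ls, EtModW.IsConstructible Λ E) :
    ∃ (V : X.Opens) (T : Scheme.{u}) (g : T ⟶ X), IsImmersion g ∧ x ∈ V ∧
      Set.range g = (V : Set X) ∩ closure {x} ∧
      ∀ E ∈ E₀ :: Ls, EtModW.IsFTLocConst Λ ((EtModW.pull Λ g).obj E) := by
  induction Ls with
  | nil =>
    obtain ⟨V, T, g, hg, hxV, hrange, hflc⟩ := local_of_isConstructible Λ E₀ h₀ x
    refine ⟨V, T, g, hg, hxV, hrange, fun E hE => ?_⟩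
    rw [List.mem_singleton] at hE
    rw [hE]
    exact hflc
  | cons E Ls ih =>
    obtain ⟨V₁, T₁, g₁, hg₁, hxV₁, hrange₁, hflc₁⟩ :=
      ih (fun E' hE' => hLs E' (List.mem_cons_of_mem _ hE'))
    obtain ⟨V₂, T₂, g₂, hg₂, hxV₂, hrange₂, hflc₂⟩ :=
      local_of_isConstructible Λ E (hLs E List.mem_cons_self) x
    haveI := hg₁
    haveI := hg₂
    refine ⟨V₁ ⊓ V₂, pullback g₁ g₂, pullback.fst g₁ g₂ ≫ g₁, inferInstance, ⟨hxV₁, hxV₂⟩, ?_, ?_⟩
    · rw [Scheme.Pullback.range_fst_comp, hrange₁, hrange₂]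
      ext y
      simp only [Set.mem_inter_iff, TopologicalSpace.Opens.coe_inf]
      tauto
    · intro E' hE'
      rcases List.mem_cons.1 hE' with rfl | hE'
      · exact ftlc_of_iso Λ (pullCompObjM Λ _ _ E') (ftlc_pull Λ _ _ (hflc₁ E' List.mem_cons_self))
      · rcases List.mem_cons.1 hE' with rfl | hE'
        · rw [pullback.condition]
          exact ftlc_of_iso Λ (pullCompObjM Λ _ _ E') (ftlc_pull Λ _ _ hflc₂)
        · exact ftlc_of_iso Λ (pullCompObjM Λ _ _ E')
            (ftlc_pull Λ _ _ (hflc₁ E' (List.mem_cons_of_mem _ hE')))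

variable [IsNoetherianRing Λ]

/-- sheaves whose pullback along a fixed morphism is finite type locally constant form a weak
Serre class (given one such sheaf) -/
theorem ws_pull {T : Scheme.{u}} (g : T ⟶ X) (E₀ : EtModW.Mod Λ X)
    (h₀ : EtModW.IsFTLocConst Λ ((EtModW.pull Λ g).obj E₀)) :
    WS (fun G : EtModW.Mod Λ X => EtModW.IsFTLocConst Λ ((EtModW.pull Λ g).obj G)) := by
  have hiso : ∀ {P Q : EtModW.Mod Λ X}, (P ≅ Q) →
      EtModW.IsFTLocConst Λ ((EtModW.pull Λ g).obj P) →
      EtModW.IsFTLocConst Λ ((EtModW.pull Λ g).obj Q) :=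
    fun e h => ftlc_of_iso Λ ((EtModW.pull Λ g).mapIso e) h
  have hker : ∀ {P Q : EtModW.Mod Λ X} (f : P ⟶ Q),
      EtModW.IsFTLocConst Λ ((EtModW.pull Λ g).obj P) →
      EtModW.IsFTLocConst Λ ((EtModW.pull Λ g).obj Q) →
      EtModW.IsFTLocConst Λ ((EtModW.pull Λ g).obj (kernel f)) := by
    intro P Q f hP hQ
    exact ftlc_of_iso Λ (PreservesKernel.iso (EtModW.pull Λ g) f).symm
      (Groth.Agent.Helper4.FtlcSerre.ftlc_kernel_cokernel Λ ((EtModW.pull Λ g).map f) hP hQ).1
  refine ⟨hiso, ?_, hker, ?_, ?_⟩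
  · intro P hP
    have hz : IsZero (kernel (𝟙 E₀)) := by
      have : kernel.ι (𝟙 E₀) = 0 := by
        have := kernel.condition (𝟙 E₀)
        rwa [Category.comp_id] at this
      exact IsZero.of_mono_eq_zero _ this
    exact hiso (hz.iso hP) (hker (𝟙 E₀) h₀ h₀)
  · intro P Q f hP hQ
    exact ftlc_of_iso Λ (PreservesCokernel.iso (EtModW.pull Λ g) f).symm
      (Groth.Agent.Helper4.FtlcSerre.ftlc_kernel_cokernel Λ ((EtModW.pull Λ g).map f) hP hQ).2
  · intro S hS h1 h3
    exact Groth.Agent.Helper4.FtlcSerre.ftlc_ext Λ (S.map (EtModW.pull Λ g))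
      (hS.map_of_exact (EtModW.pull Λ g)) h1 h3

/-- the stratification -/
theorem exists_strata_of_adic [IsNoetherian X] (I : Ideal Λ) (F : ARSys.PS (EtModW.Mod Λ X))
    (hF : ARSys.IsAdic I F) (hc : ∀ n : ℕ, EtModW.IsConstructible Λ (F.obj (op n))) :
    PStratR (fun (T : Scheme.{u}) (g : T ⟶ X) =>
      ∀ n : ℕ, EtModW.IsFTLocConst Λ ((EtModW.pull Λ g).obj (F.obj (op n)))) Set.univ := by
  -- a finite list of generators
  obtain ⟨s, hs⟩ : I.FG := IsNoetherian.noetherian I
  have hsI : ∀ r ∈ s, r ∈ I := fun r hr => by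
    rw [← hs]; exact Ideal.subset_span hr
  let l : List ↥I := s.attach.toList.map (fun r => ⟨r.1, hsI r.1 r.2⟩)
  have hl : I = Ideal.span {r | ∃ j ∈ l, (j : Λ) = r} := by
    refine hs.symm.trans ?_
    congr 1
    ext r
    constructor
    · intro hr
      refine ⟨⟨r, hsI r hr⟩, ?_, rfl⟩
      simp only [l, List.mem_map, Finset.mem_toList]
      exact ⟨⟨r, hr⟩, Finset.mem_attach _ _, rfl⟩
    · rintro ⟨j, hj, rfl⟩
      simp only [l, List.mem_map, Finset.mem_toList] at hj
      obtain ⟨r', -, rfl⟩ := hj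
      exact r'.2
  obtain ⟨Ls, hLs, hLs'⟩ := Groth.Agent.Helper6.GrHC.adic_main hF
    (fun G : EtModW.Mod Λ X => EtModW.IsConstructible Λ G)
    (fun i _ h => Groth.Agent.Helper6.ModCE.isConstructible_of_mono Λ i h)
    (fun p _ h => Groth.Agent.Helper6.ModCE.isConstructible_of_epi Λ p h)
    (fun P h => Groth.Agent.Helper6.ModCF.isNoetherianObject_of_isConstructible Λ P h)
    l hl hc
  apply pstratR_univ
  · intro T g O h n
    exact ftlc_of_iso Λ (pullCompObjM Λ _ _ _) (ftlc_pull Λ _ _ (h n))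
  · intro x
    obtain ⟨V, T, g, hg, hxV, hrange, hflc⟩ :=
      exists_common_local Λ x (F.obj (op 0)) (hc 0) Ls hLs
    refine ⟨V, T, g, hg, hxV, hrange, ?_⟩
    exact hLs' _ (ws_pull Λ g (F.obj (op 0)) (hflc _ List.mem_cons_self))
      (fun E hE => hflc E (List.mem_cons_of_mem _ hE))

end Groth.Agent.Helper6.ModCM
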