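import Mathlib
import Groth.Prelude.Def_EtBase
import Groth.Prelude.Def_EtCore
import Groth.Prelude.Def_EtMod2
import Groth.Agent.Helper4.ModPullAR

set_option autoImplicit false
set_option linter.style.haveILetI false
set_option linter.unusedSectionVars false
set_option linter.unusedVariables false
set_option linter.unusedSimpArgs false

/-!
# Free étale sheaves of modules on an object with values in a module

`IsFreeOn Λ E V A` says that `E` corepresents `F ↦ Hom_Λ(A, F(V))`; such sheaves exist, are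
unique up to isomorphism and are stable under inverse images.
-/

universe u

open CategoryTheory CategoryTheory.Limits AlgebraicGeometry Opposite

namespace Groth.Agent.Helper6.ModFA

variable (Λ : Type (u + 1)) [CommRing Λ] {X : Scheme.{u}}

/-- sections over `V` as a functor -/
noncomputable abbrev evalAt (V : X.Etale) : EtModW.Mod Λ X ⥤ ModuleCat.{u + 1} Λ :=
  (sheafSections X.smallEtaleTopology (ModuleCat.{u + 1} Λ)).obj (op V)

/-- `E` is free on `V` with values in `A` -/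
def IsFreeOn (E : EtModW.Mod Λ X) (V : X.Etale) (A : ModuleCat.{u + 1} Λ) : Prop :=
  ∃ e : A ⟶ (evalAt Λ V).obj E, ∀ (F : EtModW.Mod Λ X) (φ : A ⟶ (evalAt Λ V).obj F),
    ∃! a : E ⟶ F, e ≫ (evalAt Λ V).map a = φ

variable {Λ}

/-- a left adjoint of a functor isomorphic to evaluation at `V` produces free objects -/
theorem isFreeOn_of_adj {V : X.Etale} {L : ModuleCat.{u + 1} Λ ⥤ EtModW.Mod Λ X}
    {R : EtModW.Mod Λ X ⥤ ModuleCat.{u + 1} Λ} (adj : L ⊣ R) (ρ : R ≅ evalAt Λ V)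
    (A : ModuleCat.{u + 1} Λ) : IsFreeOn Λ (L.obj A) V A := by
  refine ⟨adj.unit.app A ≫ ρ.hom.app (L.obj A), fun F φ => ?_⟩
  have key : ∀ a : L.obj A ⟶ F, (adj.unit.app A ≫ ρ.hom.app (L.obj A)) ≫ (evalAt Λ V).map a =
      adj.homEquiv A F a ≫ ρ.hom.app F := by
    intro a
    rw [Category.assoc, ← ρ.hom.naturality, Adjunction.homEquiv_unit, Category.assoc]
  refine ⟨(adj.homEquiv A F).symm (φ ≫ ρ.inv.app F), ?_, ?_⟩
  · show (adj.unit.app A ≫ ρ.hom.app (L.obj A)) ≫ (evalAt Λ V).map _ = φ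
    rw [key, Equiv.apply_symm_apply, Category.assoc, Iso.inv_hom_id_app, Category.comp_id]
  · intro a ha
    have ha' : (adj.unit.app A ≫ ρ.hom.app (L.obj A)) ≫ (evalAt Λ V).map a = φ := ha
    rw [key] at ha'
    rw [← ha', Category.assoc, Iso.hom_inv_id_app, Category.comp_id, Equiv.symm_apply_apply]

/-- free objects on the same data are isomorphic -/
theorem nonempty_iso_of_isFreeOn {E E' : EtModW.Mod Λ X} {V : X.Etale}
    {A : ModuleCat.{u + 1} Λ} (h : IsFreeOn Λ E V A) (h' : IsFreeOn Λ E' V A) :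
    Nonempty (E ≅ E') := by
  obtain ⟨e, he⟩ := h
  obtain ⟨e', he'⟩ := h'
  obtain ⟨a, ha, -⟩ := he E' e'
  obtain ⟨b, hb, -⟩ := he' E e
  have h1 : a ≫ b = 𝟙 E := by
    obtain ⟨c, -, hc⟩ := he E e
    rw [hc (a ≫ b) (by
        show e ≫ (evalAt Λ V).map (a ≫ b) = e
        rw [Functor.map_comp, reassoc_of% ha, hb]),
      hc (𝟙 E) (by
        show e ≫ (evalAt Λ V).map (𝟙 E) = e
        rw [CategoryTheory.Functor.map_id, Category.comp_id])]
  have h2 : b ≫ a = 𝟙 E' := by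
    obtain ⟨c, -, hc⟩ := he' E' e'
    rw [hc (b ≫ a) (by
        show e' ≫ (evalAt Λ V).map (b ≫ a) = e'
        rw [Functor.map_comp, reassoc_of% hb, ha]),
      hc (𝟙 E') (by
        show e' ≫ (evalAt Λ V).map (𝟙 E') = e'
        rw [CategoryTheory.Functor.map_id, Category.comp_id])]
  exact ⟨⟨a, b, h1, h2⟩⟩

theorem isFreeOn_of_iso {E E' : EtModW.Mod Λ X} (i : E ≅ E') {V : X.Etale}
    {A : ModuleCat.{u + 1} Λ} (h : IsFreeOn Λ E V A) : IsFreeOn Λ E' V A := by
  obtain ⟨e, he⟩ := h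
  refine ⟨e ≫ (evalAt Λ V).map i.hom, fun F φ => ?_⟩
  obtain ⟨a, ha, hu⟩ := he F φ
  refine ⟨i.inv ≫ a, ?_, ?_⟩
  · show (e ≫ (evalAt Λ V).map i.hom) ≫ (evalAt Λ V).map (i.inv ≫ a) = φ
    rw [Category.assoc, ← Functor.map_comp, Iso.hom_inv_id_assoc, ha]
  · intro b hb
    have hb' : (e ≫ (evalAt Λ V).map i.hom) ≫ (evalAt Λ V).map b = φ := hb
    have := hu (i.hom ≫ b) (by
      show e ≫ (evalAt Λ V).map (i.hom ≫ b) = φ
      rw [Functor.map_comp, ← Category.assoc, hb'])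
    rw [← this, Iso.inv_hom_id_assoc]

theorem isFreeOn_of_iso_value {E : EtModW.Mod Λ X} {V : X.Etale}
    {A A' : ModuleCat.{u + 1} Λ} (i : A ≅ A') (h : IsFreeOn Λ E V A) : IsFreeOn Λ E V A' := by
  obtain ⟨e, he⟩ := h
  refine ⟨i.inv ≫ e, fun F φ => ?_⟩
  obtain ⟨a, ha, hu⟩ := he F (i.hom ≫ φ)
  refine ⟨a, ?_, ?_⟩
  · show (i.inv ≫ e) ≫ (evalAt Λ V).map a = φ
    rw [Category.assoc, ha, Iso.inv_hom_id_assoc]
  · intro b hb
    have hb' : (i.inv ≫ e) ≫ (evalAt Λ V).map b = φ := hb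
    apply hu
    show e ≫ (evalAt Λ V).map b = i.hom ≫ φ
    rw [← hb', Category.assoc, Iso.hom_inv_id_assoc]

/-- the constant sheaf is free on the terminal object -/
theorem isFreeOn_const (A : ModuleCat.{u + 1} Λ) :
    IsFreeOn Λ ((constantSheaf X.smallEtaleTopology (ModuleCat.{u + 1} Λ)).obj A)
      (EtCoh.top X) A :=
  isFreeOn_of_adj (constantSheafAdj X.smallEtaleTopology (ModuleCat.{u + 1} Λ)
    (EtCore.topIsTerminal X)) (Iso.refl _) A

variable (Λ) in
/-- the free sheaf of modules on `V` with values in `A` -/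
noncomputable def free (V : X.Etale) (A : ModuleCat.{u + 1} Λ) : EtModW.Mod Λ X :=
  (evaluationLeftAdjoint (ModuleCat.{u + 1} Λ) (op V) ⋙
    presheafToSheaf X.smallEtaleTopology (ModuleCat.{u + 1} Λ)).obj A

theorem isFreeOn_free (V : X.Etale) (A : ModuleCat.{u + 1} Λ) : IsFreeOn Λ (free Λ V A) V A :=
  isFreeOn_of_adj ((evaluationAdjunctionRight (ModuleCat.{u + 1} Λ) (op V)).comp
    (sheafificationAdjunction X.smallEtaleTopology (ModuleCat.{u + 1} Λ)))
    (NatIso.ofComponents (fun F => Iso.refl _) (fun f => by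
      simp only [Iso.refl_hom, Category.comp_id, Category.id_comp]
      rfl)) A

section Pull

variable {T : Scheme.{u}} (g : T ⟶ X)

/-- inverse images of free objects are free -/
theorem isFreeOn_pull {E : EtModW.Mod Λ X} {V : X.Etale} {A : ModuleCat.{u + 1} Λ}
    (h : IsFreeOn Λ E V A) :
    IsFreeOn Λ ((EtModW.pull Λ g).obj E) ((EtCoh.bc g).obj V) A := by
  obtain ⟨e, he⟩ := h
  let adj := Groth.Agent.Helper4.ModPullAR.adj Λ g
  refine ⟨e ≫ (evalAt Λ V).map (adj.unit.app E), fun H φ => ?_⟩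
  obtain ⟨a₀, ha₀, hu⟩ := he ((EtModW.push Λ g).obj H) φ
  have key : ∀ a : (EtModW.pull Λ g).obj E ⟶ H,
      (e ≫ (evalAt Λ V).map (adj.unit.app E)) ≫ (evalAt Λ ((EtCoh.bc g).obj V)).map a =
        e ≫ (evalAt Λ V).map (adj.homEquiv E H a) := by
    intro a
    have h1 : adj.homEquiv E H a = adj.unit.app E ≫ (EtModW.push Λ g).map a :=
      Adjunction.homEquiv_unit _ _ _ _
    rw [h1, Functor.map_comp, Category.assoc]
    rfl
  refine ⟨(adj.homEquiv E H).symm a₀, ?_, ?_⟩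
  · show (e ≫ (evalAt Λ V).map (adj.unit.app E)) ≫ (evalAt Λ ((EtCoh.bc g).obj V)).map _ = φ
    rw [key, Equiv.apply_symm_apply]
    exact ha₀
  · intro a ha
    have ha' : (e ≫ (evalAt Λ V).map (adj.unit.app E)) ≫
        (evalAt Λ ((EtCoh.bc g).obj V)).map a = φ := ha
    rw [key] at ha'
    rw [← hu _ ha', Equiv.symm_apply_apply]

end Pull

end Groth.Agent.Helper6.ModFA
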