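import Mathlib

set_option autoImplicit false
set_option linter.style.haveILetI false
set_option linter.unusedSectionVars false
set_option linter.unusedVariables false
set_option linter.unusedSimpArgs false

/-!
# Free objects with respect to a power of a module-valued functor
-/

universe w v u

open CategoryTheory CategoryTheory.Limits

namespace Groth.Agent.Helper6.ModFB

variable {𝒞 : Type u} [Category.{v} 𝒞] {Λ : Type w} [CommRing Λ]

/-- `E` corepresents `F ↦ Hom(A, Φ F)` -/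
def IsFreeFor (Φ : 𝒞 ⥤ ModuleCat.{w} Λ) (E : 𝒞) (A : ModuleCat.{w} Λ) : Prop :=
  ∃ e : A ⟶ Φ.obj E, ∀ (F : 𝒞) (φ : A ⟶ Φ.obj F), ∃! a : E ⟶ F, e ≫ Φ.map a = φ

variable (Φ₀ Φ₁ : 𝒞 ⥤ ModuleCat.{w} Λ) {d : ℕ} (ρ : Fin d → (Φ₁ ⟶ Φ₀))

/-- the comparison map `Φ₁ F → (Φ₀ F)^d` -/
def rho (F : 𝒞) : Φ₁.obj F →ₗ[Λ] (Fin d → Φ₀.obj F) :=
  LinearMap.pi (fun i => ((ρ i).app F).hom)

lemma rho_apply (F : 𝒞) (t : Φ₁.obj F) (i : Fin d) : rho Φ₀ Φ₁ ρ F t i = (ρ i).app F t := rfl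

lemma rho_naturality {F G : 𝒞} (a : F ⟶ G) (t : Φ₁.obj F) (i : Fin d) :
    (ρ i).app G (Φ₁.map a t) = Φ₀.map a ((ρ i).app F t) := by
  have := ConcreteCategory.congr_hom ((ρ i).naturality a) t
  exact this

theorem isFreeFor_of_pow (hρ : ∀ F : 𝒞, Function.Bijective (rho Φ₀ Φ₁ ρ F))
    {C : 𝒞} {A : ModuleCat.{w} Λ}
    (h : IsFreeFor Φ₀ C (ModuleCat.of Λ (Fin d → A))) : IsFreeFor Φ₁ C A := by
  classical
  obtain ⟨e₀, h₀⟩ := h
  let RR : ∀ F : 𝒞, Φ₁.obj F ≃ₗ[Λ] (Fin d → Φ₀.obj F) := fun F =>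
    LinearEquiv.ofBijective (rho Φ₀ Φ₁ ρ F) (hρ F)
  let e' : A →ₗ[Λ] Φ₁.obj C := (RR C).symm.toLinearMap.comp
    (LinearMap.pi fun i => (e₀.hom).comp (LinearMap.single Λ (fun _ : Fin d => (A : Type w)) i))
  have P1 : ∀ (m : A) (k : Fin d), (ρ k).app C (e' m) = e₀.hom (Pi.single k m) := by
    intro m k
    have h1 : rho Φ₀ Φ₁ ρ C (e' m) = fun i => e₀.hom (Pi.single i m) :=
      (RR C).apply_symm_apply _
    exact congrFun h1 k
  refine ⟨ModuleCat.ofHom e', fun F φ => ?_⟩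
  let ψ : (Fin d → A) →ₗ[Λ] Φ₀.obj F :=
    ∑ i : Fin d, (((ρ i).app F).hom.comp φ.hom).comp
      (LinearMap.proj (R := Λ) (φ := fun _ : Fin d => (A : Type w)) i)
  have hψ : ∀ n : Fin d → A, ψ n = ∑ i : Fin d, (ρ i).app F (φ (n i)) := by
    intro n
    simp only [ψ, LinearMap.sum_apply]
    rfl
  have hψ1 : ∀ (k : Fin d) (m : A), ψ (Pi.single k m) = (ρ k).app F (φ m) := by
    intro k m
    rw [hψ, Finset.sum_eq_single k]
    · rw [Pi.single_eq_same]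
    · intro i _ hik
      rw [Pi.single_eq_of_ne hik, map_zero, map_zero]
    · intro hk
      exact (hk (Finset.mem_univ k)).elim
  obtain ⟨a, ha, hu⟩ := h₀ F (ModuleCat.ofHom ψ)
  have ha' : ∀ n : Fin d → A, Φ₀.map a (e₀.hom n) = ψ n := fun n =>
    ConcreteCategory.congr_hom ha n
  refine ⟨a, ?_, ?_⟩
  · show ModuleCat.ofHom e' ≫ Φ₁.map a = φ
    ext m
    apply (hρ F).1
    funext k
    show (ρ k).app F (Φ₁.map a (e' m)) = (ρ k).app F (φ m)
    rw [rho_naturality, P1, ← hψ1]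
    exact ha' _
  · intro a' ha1
    have ha1' : ∀ m : A, Φ₁.map a' (e' m) = φ m := fun m =>
      ConcreteCategory.congr_hom (show ModuleCat.ofHom e' ≫ Φ₁.map a' = φ from ha1) m
    apply hu
    show e₀ ≫ Φ₀.map a' = ModuleCat.ofHom ψ
    ext : 1
    apply LinearMap.pi_ext
    intro k m
    show Φ₀.map a' (e₀.hom (Pi.single k m)) = ψ (Pi.single k m)
    rw [hψ1, ← P1, ← rho_naturality, ha1']

end Groth.Agent.Helper6.ModFB
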