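import Mathlib
import Groth.Agent.Helper6.ModFA
import Groth.Agent.Helper6.ModFB
import Groth.Agent.Helper6.FinPushA
import Groth.Agent.Helper5.FlcPush1
import Groth.Agent.Helper4.ModEtA
import Groth.Agent.Helper3.FRank2

set_option autoImplicit false
set_option linter.style.haveILetI false
set_option linter.unusedSectionVars false
set_option linter.unusedVariables false
set_option linter.unusedSimpArgs false

/-!
# The free sheaf of modules on a finite étale object of constant rank is locally constant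
-/

universe u

open CategoryTheory CategoryTheory.Limits AlgebraicGeometry Opposite

namespace Groth.Agent.Helper6.ModFC

open Groth.Agent.Helper6.ModFA Groth.Agent.Helper6.ModFB Groth.Agent.Helper4.ModEtA

variable {Λ : Type (u + 1)} [CommRing Λ] {T : Scheme.{u}}

section Split

variable (W : T.Etale) {d : ℕ} (inj : Fin d → (T ⟶ W.left)) (hinj : ∀ i, inj i ≫ W.hom = 𝟙 T)
  (hc : IsColimit (Cofan.mk W.left inj))

/-- the sections as morphisms of the small étale site -/
noncomputable def sec (i : Fin d) : EtCoh.top T ⟶ W :=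
  MorphismProperty.Over.homMk (inj i) (hinj i) trivial

lemma sec_left (i : Fin d) : (sec W inj hinj i).left = inj i := rfl

variable (Λ) in
/-- restriction to the `i`-th sheet -/
noncomputable def ρ (i : Fin d) : evalAt Λ W ⟶ evalAt Λ (EtCoh.top T) :=
  (sheafSections T.smallEtaleTopology (ModuleCat.{u + 1} Λ)).map (sec W inj hinj i).op

lemma ρ_app (i : Fin d) (F : EtModW.Mod Λ T) (t : F.obj.obj (op W)) :
    (ρ Λ W inj hinj i).app F t = F.obj.map (sec W inj hinj i).op t := rfl

include hinj in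
lemma etale_inj (i : Fin d) : Etale (inj i) :=
  EtCoh.etaleMP.of_postcomp (W' := EtCoh.etaleMP) (inj i) W.hom W.prop (by
    rw [hinj]
    exact (inferInstance : Etale (𝟙 T)))

include hc in
theorem bijective_rho (F : EtModW.Mod Λ T) :
    Function.Bijective (rho (evalAt Λ (EtCoh.top T)) (evalAt Λ W) (ρ Λ W inj hinj) F) := by
  haveI : ∀ i, Etale (inj i) := etale_inj W inj hinj
  have key : ∀ s : Fin d → F.obj.obj (op (EtCoh.top T)),
      ∃! t : F.obj.obj (op W), ∀ i, F.obj.map (sec W inj hinj i).op t = s i := by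
    intro s
    refine Groth.Agent.Helper9.EtDisjGlue.existsUnique_glue (fun _ => EtCoh.top T)
      (sec W inj hinj) ?_ ?_ ?_ (F.obj ⋙ forget (ModuleCat.{u + 1} Λ))
      (Groth.Agent.Helper6.FinPushA.isSheaf_forget Λ F) s
    · intro i
      apply Groth.Agent.Helper9.EtDisjGlue.mono_of_mono_left
      have : IsSplitMono (inj i) := ⟨⟨⟨W.hom, hinj i⟩⟩⟩
      exact (inferInstance : Mono (inj i))
    · intro p
      exact Groth.Agent.Helper5.FlcPush.exists_inj_eq inj hc p
    · intro i j hij v w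
      exact Groth.Agent.Helper5.FlcPush.inj_ne inj hc hij v w
  constructor
  · intro t t' htt'
    obtain ⟨t₀, -, hu⟩ := key (rho (evalAt Λ (EtCoh.top T)) (evalAt Λ W) (ρ Λ W inj hinj) F t)
    rw [hu t (fun i => rfl), hu t' (fun i => (congrFun htt' i).symm)]
  · intro s
    obtain ⟨t, ht, -⟩ := key s
    exact ⟨t, funext ht⟩

include hc hinj in
/-- a constant sheaf is free on a split finite étale object -/
theorem isFreeOn_const_of_split (A : ModuleCat.{u + 1} Λ) :
    IsFreeOn Λ ((constantSheaf T.smallEtaleTopology (ModuleCat.{u + 1} Λ)).obj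
      (ModuleCat.of Λ (Fin d → A))) W A :=
  isFreeFor_of_pow (evalAt Λ (EtCoh.top T)) (evalAt Λ W) (ρ Λ W inj hinj)
    (bijective_rho W inj hinj hc) (isFreeOn_const _)

end Split

/-- the free sheaf on a finite étale object of constant rank is, étale locally, constant with
value a power of the value module -/
theorem locfree_of_isFreeOn (W : T.Etale) [IsFinite W.hom] (d : ℕ)
    (hd : ∀ t, W.hom.finrank t = d) (E : EtModW.Mod Λ T) (A : ModuleCat.{u + 1} Λ)
    (hE : IsFreeOn Λ E W A) :
    ∃ (Y : Scheme.{u}) (ψ : Y ⟶ T), Etale ψ ∧ Surjective ψ ∧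
      Nonempty ((EtModW.pull Λ ψ).obj E ≅ cM Λ Y (ModuleCat.of Λ (Fin d → A))) := by
  haveI : Etale W.hom := W.prop
  obtain ⟨Y, ψ, hψf, hψe, hψs, -, inj, hinj, ⟨hc⟩⟩ :=
    Groth.Agent.Helper3.FSplit.splitDeg d W.hom hd
  refine ⟨Y, ψ, hψe, hψs, ?_⟩
  have h1 : IsFreeOn Λ ((EtModW.pull Λ ψ).obj E) ((EtCoh.bc ψ).obj W) A := isFreeOn_pull ψ hE
  have h2 : IsFreeOn Λ ((constantSheaf Y.smallEtaleTopology (ModuleCat.{u + 1} Λ)).obj
      (ModuleCat.of Λ (Fin d → A))) ((EtCoh.bc ψ).obj W) A :=
    isFreeOn_const_of_split ((EtCoh.bc ψ).obj W) inj hinj hc _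
  exact nonempty_iso_of_isFreeOn h1 h2

/-- the free sheaf with finite type values on a finite étale object of constant rank is finite
type locally constant -/
theorem ftlc_of_isFreeOn (W : T.Etale) [IsFinite W.hom] (d : ℕ) (hd : ∀ t, W.hom.finrank t = d)
    (E : EtModW.Mod Λ T) (A : ModuleCat.{u + 1} Λ) [Module.Finite Λ A]
    (hE : IsFreeOn Λ E W A) : EtModW.IsFTLocConst Λ E := by
  obtain ⟨Y, ψ, hψe, hψs, ⟨i⟩⟩ := locfree_of_isFreeOn W d hd E A hE
  rw [ftlc_iff]
  refine ⟨PUnit, fun _ => Scheme.Etale.mk ψ, ?_, fun _ => ?_⟩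
  · intro x
    obtain ⟨y, hy⟩ := hψs.surj x
    exact ⟨PUnit.unit, y, hy⟩
  · exact ⟨ModuleCat.of Λ (Fin d → A), inferInstance, ⟨i⟩⟩

end Groth.Agent.Helper6.ModFC
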