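import Mathlib
import Groth.Agent.Helper4.ModStrata
import Groth.Agent.Helper4.StrataE
import Groth.Agent.Helper9.EtRetr
import Groth.Agent.Helper6.ModFC
import Groth.Agent.Helper6.ConsG

set_option autoImplicit false
set_option linter.style.haveILetI false
set_option linter.unusedSectionVars false
set_option linter.unusedVariables false
set_option linter.unusedSimpArgs false

/-!
# Stratifications of sheaves of modules from finite coverings by constructible locally closed
pieces; free sheaves of modules on quasi-compact quasi-separated étale objects are constructible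
-/

universe u

open CategoryTheory CategoryTheory.Limits AlgebraicGeometry Opposite Topology

namespace Groth.Agent.Helper6.ModFD

open Groth.Agent.Helper4.StrataA Groth.Agent.Helper4.StrataC
  Groth.Agent.Helper4.StrataE Groth.Agent.Helper4.ConsTop Groth.Agent.Helper4.ModEtA
  Groth.Agent.Helper4.ModStrata Groth.Agent.Helper6.ModFA

variable (Λ : Type (u + 1)) [CommRing Λ] {X : Scheme.{u}}

set_option backward.isDefEq.respectTransparency.types false in
noncomputable def pushIdM (T : Scheme.{u}) : EtModW.push Λ (𝟙 T) ≅ 𝟭 (EtModW.Mod Λ T) :=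
  Functor.sheafPushforwardContinuousId' (Groth.Agent.Helper9.EtRetr.bcId T)
    (ModuleCat.{u + 1} Λ) T.smallEtaleTopology

noncomputable def pullIdM (T : Scheme.{u}) : EtModW.pull Λ (𝟙 T) ≅ 𝟭 (EtModW.Mod Λ T) :=
  Adjunction.leftAdjointUniq (Groth.Agent.Helper4.ModPullAR.adj Λ (𝟙 T))
    (Adjunction.id.ofNatIsoRight (pushIdM Λ T).symm)

theorem strat_of_cover [CompactSpace X] [QuasiSeparatedSpace X] (F : EtModW.Mod Λ X) {A : Type}
    [Finite A] (S : A → Scheme.{u}) (q : ∀ a, S a ⟶ X) [∀ a, IsImmersion (q a)]
    (hc : ∀ a, IsConstructible (Set.range (q a))) (hcov : (⋃ a, Set.range (q a)) = Set.univ)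
    (hflc : ∀ a, EtModW.IsFTLocConst Λ ((EtModW.pull Λ (q a)).obj F)) :
    Strat Λ F Set.univ := by
  rcases isEmpty_or_nonempty A with hA | hA
  · have hX : (Set.univ : Set X) = ∅ := by rw [← hcov]; exact Set.iUnion_of_empty _
    refine ⟨Empty, inferInstance, fun k => k.elim, fun k => k.elim, fun k => k.elim,
      fun k => k.elim, fun a => a.elim, ?_, fun k => k.elim⟩
    rw [hX]
    exact Set.iUnion_of_empty _
  · choose O P hO1 hO2 hP1 hP2 hOP using
      fun a => exists_eq_diff (hc a) (q a).isLocallyClosed_range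
    let B : A × Bool → Set X := fun b => if b.2 then O b.1 else P b.1
    have hB1 : ∀ b, IsOpen (B b) := fun b => by
      show IsOpen (if b.2 then O b.1 else P b.1)
      split_ifs
      · exact hO1 _
      · exact hP1 _
    have hB2 : ∀ b, IsCompact (B b) := fun b => by
      show IsCompact (if b.2 then O b.1 else P b.1)
      split_ifs
      · exact hO2 _
      · exact hP2 _
    have hBO : ∀ a, B (a, true) = O a := fun a => rfl
    have hBP : ∀ a, B (a, false) = P a := fun a => rfl
    have hatom : ∀ σ : A × Bool → Bool, ∃ a, atom B σ ⊆ Set.range (q a) := by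
      intro σ
      rcases (atom B σ).eq_empty_or_nonempty with he | ⟨x, hx⟩
      · exact ⟨Classical.arbitrary A, he ▸ Set.empty_subset _⟩
      · have hx' : x ∈ ⋃ a, Set.range (q a) := by rw [hcov]; trivial
        obtain ⟨a, ha⟩ := Set.mem_iUnion.1 hx'
        refine ⟨a, fun y hy => ?_⟩
        rw [hOP a] at ha ⊢
        rw [mem_atom] at hx hy
        refine ⟨?_, ?_⟩
        · rw [← hBO]
          exact (hy (a, true)).1 ((hx (a, true)).2 (hBO a ▸ ha.1))
        · intro hyP
          rw [← hBP] at hyP
          have := (hx (a, false)).1 ((hy (a, false)).2 hyP)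
          rw [hBP] at this
          exact ha.2 this
    choose α hα using hatom
    let Oσ : (A × Bool → Bool) → X.Opens := fun σ =>
      ⟨⋂ b, if σ b then B b else Set.univ, isOpen_iInter_of_finite fun b => by
        split_ifs
        · exact hB1 b
        · exact isOpen_univ⟩
    have hCσ : ∀ σ : A × Bool → Bool, IsClosed (⋂ b, if σ b then Set.univ else (B b)ᶜ) :=
      fun σ => isClosed_iInter fun b => by
        split_ifs
        · exact isClosed_univ
        · exact (hB1 b).isClosed_compl
    choose Z z hz1 hz2 using fun σ => exists_closedImmersion _ (hCσ σ)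
    haveI : ∀ σ, IsClosedImmersion (z σ) := hz1
    have hι : ∀ σ, Set.range (pullback.fst (Oσ σ).ι (z σ) ≫ (Oσ σ).ι) = atom B σ := by
      intro σ
      rw [Scheme.Pullback.range_fst_comp, hz2, Scheme.Opens.range_ι]
      rfl
    have hrange : ∀ σ, Set.range (pullback.fst (q (α σ))
        (pullback.fst (Oσ σ).ι (z σ) ≫ (Oσ σ).ι) ≫ q (α σ)) = atom B σ := by
      intro σ
      rw [Scheme.Pullback.range_fst_comp, hι]
      exact Set.inter_eq_right.2 (hα σ)
    have hBc : ∀ b, IsConstructible (B b) := fun b => (hB2 b).isConstructible (hB1 b)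
    refine ⟨(A × Bool → Bool), inferInstance,
      fun σ => pullback (q (α σ)) (pullback.fst (Oσ σ).ι (z σ) ≫ (Oσ σ).ι),
      fun σ => pullback.fst _ _ ≫ q (α σ), fun σ => inferInstance, fun σ => ?_, ?_, ?_,
      fun σ => ?_⟩
    · rw [hrange]
      exact cIn_univ (isConstructible_atom B hBc σ)
    · intro σ σ' hne
      show Disjoint (Set.range _) (Set.range _)
      rw [hrange, hrange, Set.disjoint_left]
      intro x hx hx'
      rw [mem_atom] at hx hx'
      apply hne
      funext b
      have h1 := hx b
      have h2 := hx' b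
      cases hb : σ b <;> cases hb' : σ' b <;> simp_all
    · apply Set.eq_univ_of_forall
      intro x
      classical
      refine Set.mem_iUnion.2 ⟨fun b => decide (x ∈ B b), ?_⟩
      rw [hrange, mem_atom]
      intro b
      simp
    · exact ftlc_of_iso Λ (pullCompObjM Λ _ _ F) (ftlc_pull Λ _ _ (hflc (α σ)))

theorem isConstructible_of_strat_univ (F : EtModW.Mod Λ X) (h : Strat Λ F Set.univ) :
    EtModW.IsConstructible Λ F := by
  intro U hU
  rw [← strat_iff]
  have h' : Strat Λ F ((⊤ : X.Opens) : Set X) := by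
    rw [TopologicalSpace.Opens.coe_top]
    exact h
  have h2 := strat_pull Λ (𝟙 X) F ⊤ U le_top h'
  exact strat_of_iso Λ ((pullIdM Λ X).app F) h2

theorem strat_univ_of_isConstructible [CompactSpace X] [QuasiSeparatedSpace X]
    (F : EtModW.Mod Λ X) (hF : EtModW.IsConstructible Λ F) : Strat Λ F Set.univ := by
  haveI : QuasiSeparatedSpace ↥((⊤ : X.Opens) : Set X) :=
    (isQuasiSeparated_iff_quasiSeparatedSpace _ (⊤ : X.Opens).2).1
      (IsQuasiSeparated.of_quasiSeparatedSpace _)
  have h := strat_of_local Λ F (⊤ : X.Opens)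
    (by rw [TopologicalSpace.Opens.coe_top]; exact isCompact_univ) (by
      intro x _
      obtain ⟨W, hW, hxW, hWU⟩ := (TopologicalSpace.Opens.isBasis_iff_nbhd.1 X.isBasis_affineOpens)
        (show x ∈ (⊤ : X.Opens) from trivial)
      exact ⟨W, hW, hxW, hWU, (strat_iff Λ F _).2 (hF W hW)⟩)
  rw [TopologicalSpace.Opens.coe_top] at h
  exact h

/-- a free sheaf of modules with finite type values on a quasi-compact quasi-separated étale
object is constructible -/
theorem isConstructible_of_isFreeOn [CompactSpace X] [QuasiSeparatedSpace X] (V : X.Etale)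
    (hqc : QuasiCompact (V.hom : V.left ⟶ X)) (hqs : QuasiSeparated (V.hom : V.left ⟶ X))
    (M : ModuleCat.{u + 1} Λ) [Module.Finite Λ M]
    (E : EtModW.Mod Λ X) (hE : IsFreeOn Λ E V M) :
    EtModW.IsConstructible Λ E := by
  let j : V.left ⟶ X := V.hom
  haveI : Etale j := V.prop
  haveI : QuasiCompact j := hqc
  haveI : QuasiSeparated j := hqs
  obtain ⟨n, Z, z, d, hcov, hz⟩ := Groth.Agent.Helper6.ConsG.exists_finite_cover_rank j
  haveI : ∀ i, IsImmersion (z i) := fun i => (hz i).1
  apply isConstructible_of_strat_univ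
  refine strat_of_cover Λ E (A := Fin n) Z z (fun i => ?_)
    (Set.eq_univ_of_forall fun y => Set.mem_iUnion.2 (hcov y)) (fun i => ?_)
  · haveI := (hz i).2.1
    haveI := (hz i).2.2.1
    exact Groth.Agent.Helper6.ConsC.isConstructible_range (z i)
  · obtain ⟨hfin, hd⟩ := (hz i).2.2.2
    haveI : IsFinite ((EtCoh.bc (z i)).obj V).hom := hfin
    exact Groth.Agent.Helper6.ModFC.ftlc_of_isFreeOn ((EtCoh.bc (z i)).obj V) (d i) hd _ M
      (isFreeOn_pull (z i) hE)

end Groth.Agent.Helper6.ModFD
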