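import Mathlib
import Groth.Agent.Helper6.ModFA
import Groth.Agent.Helper4.ModStalk

set_option autoImplicit false
set_option linter.style.haveILetI false
set_option linter.unusedSectionVars false
set_option linter.unusedVariables false
set_option linter.unusedSimpArgs false

/-!
# Geometric stalks of free sheaves of modules with projective values are projective
-/

universe u

open CategoryTheory CategoryTheory.Limits AlgebraicGeometry Opposite

namespace Groth.Agent.Helper6.ModFE

open Groth.Agent.Helper6.ModFA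

variable (Λ : Type (u + 1)) [CommRing Λ]

attribute [local instance] Groth.Agent.Helper4.ModStalk.ab5_mod
  Groth.Agent.Helper4.ModStalk.hasLimits_mod

theorem ab4star_mod : AB4StarOfSize.{u} (ModuleCat.{u + 1} Λ) :=
  AB4StarOfSize_shrink.{u, u + 1} _

/-- products of epimorphisms of modules are epimorphisms -/
theorem epi_piMap {J : Type u} {f g : J → ModuleCat.{u + 1} Λ} (p : ∀ j, f j ⟶ g j)
    (hp : ∀ j, Epi (p j)) : Epi (Limits.Pi.map p) := by
  haveI := ab4star_mod Λ
  haveI : HasExactLimitsOfShape (Discrete J) (ModuleCat.{u + 1} Λ) := inferInstance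
  haveI : PreservesFiniteColimits (lim : (Discrete J ⥤ ModuleCat.{u + 1} Λ) ⥤ _) :=
    HasExactLimitsOfShape.preservesFiniteColimits
  haveI : ∀ j : Discrete J, Epi ((Discrete.natTrans (F := Discrete.functor f)
      (G := Discrete.functor g) fun j => p j.as).app j) := fun j => hp j.as
  haveI : Epi (Discrete.natTrans (F := Discrete.functor f)
      (G := Discrete.functor g) fun j => p j.as) := NatTrans.epi_of_epi_app _
  exact (inferInstance : Epi ((lim : (Discrete J ⥤ ModuleCat.{u + 1} Λ) ⥤ _).map
    (Discrete.natTrans (F := Discrete.functor f) (G := Discrete.functor g) fun j => p j.as)))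

variable {X : Scheme.{u}} {Ω : Type u} [Field Ω] [IsSepClosed Ω]

/-- the geometric stalks of a free sheaf of modules with projective values are projective -/
theorem projective_stalk_of_isFreeOn (ξ : Spec (CommRingCat.of Ω) ⟶ X) {E : EtModW.Mod Λ X}
    {V : X.Etale} {A : ModuleCat.{u + 1} Λ} [Projective A] (hE : IsFreeOn Λ E V A) :
    Projective ((EtModW.stalk Λ ξ).obj E) := by
  obtain ⟨e, he⟩ := hE
  let Φ := Scheme.pointSmallEtale ξ
  let adj : EtModW.stalk Λ ξ ⊣ Φ.skyscraperSheafFunctor :=
    Φ.skyscraperSheafAdjunction (A := ModuleCat.{u + 1} Λ)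
  constructor
  intro M N f π hπ
  -- the transposed map
  let f' : E ⟶ Φ.skyscraperSheafFunctor.obj N := adj.homEquiv E N f
  let φ : A ⟶ (evalAt Λ V).obj (Φ.skyscraperSheafFunctor.obj N) := e ≫ (evalAt Λ V).map f'
  have hepi : Epi ((evalAt Λ V).map (Φ.skyscraperSheafFunctor.map π)) := by
    show Epi (Limits.Pi.map fun _ : Φ.fiber.obj V => π)
    exact epi_piMap Λ _ (fun _ => hπ)
  let φ' : A ⟶ (evalAt Λ V).obj (Φ.skyscraperSheafFunctor.obj M) :=
    Projective.factorThru φ ((evalAt Λ V).map (Φ.skyscraperSheafFunctor.map π))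
  have hφ' : φ' ≫ (evalAt Λ V).map (Φ.skyscraperSheafFunctor.map π) = φ :=
    Projective.factorThru_comp _ _
  obtain ⟨g', hg', -⟩ := he (Φ.skyscraperSheafFunctor.obj M) φ'
  obtain ⟨c, -, hc⟩ := he (Φ.skyscraperSheafFunctor.obj N) φ
  have h1 : g' ≫ Φ.skyscraperSheafFunctor.map π = f' := by
    rw [hc (g' ≫ Φ.skyscraperSheafFunctor.map π) (by
      show e ≫ (evalAt Λ V).map (g' ≫ Φ.skyscraperSheafFunctor.map π) = φ
      rw [Functor.map_comp, ← Category.assoc, hg', hφ']), hc f' rfl]
  refine ⟨(adj.homEquiv E M).symm g', ?_⟩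
  rw [← Adjunction.homEquiv_naturality_right_symm, h1]
  exact (adj.homEquiv E N).symm_apply_apply f

end Groth.Agent.Helper6.ModFE
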