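import Mathlib
import Groth.Prelude.Def_EtMod2
import Groth.Agent.Helper4.FtlcSerre
import Groth.Agent.Helper4.ModStrata
import Groth.Agent.Helper4.ModPullAR
import Groth.Agent.Helper6.ConsI

set_option autoImplicit false
set_option linter.style.haveILetI false
set_option linter.unusedSectionVars false
set_option linter.unusedVariables false
set_option linter.unusedSimpArgs false

/-!
# Constructible sheaves of modules (Noetherian coefficients) are stable under kernels, cokernels,
extensions and finite direct sums, on an arbitrary scheme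
-/

universe w u

open CategoryTheory CategoryTheory.Limits AlgebraicGeometry Opposite

namespace Groth.Agent.Helper6.ModFF

open Groth.Agent.Helper4.ModStrata Groth.Agent.Helper4.ModEtA Groth.Agent.Helper4.StrataA

variable (Λ : Type (u + 1)) [CommRing Λ] {X : Scheme.{u}}

attribute [local instance] Abelian.hasFiniteBiproducts

/-- if `H` is finite type locally constant wherever `F` and `G` are, then a stratification for
`H` is obtained from the common refinement of stratifications for `F` and `G` -/
theorem strat_of_common {F G H : EtModW.Mod Λ X} {S : Set X} (hF : Strat Λ F S)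
    (hG : Strat Λ G S)
    (hH : ∀ {T : Scheme.{u}} (g : T ⟶ X), EtModW.IsFTLocConst Λ ((EtModW.pull Λ g).obj F) →
      EtModW.IsFTLocConst Λ ((EtModW.pull Λ g).obj G) →
      EtModW.IsFTLocConst Λ ((EtModW.pull Λ g).obj H)) : Strat Λ H S := by
  obtain ⟨κ, hκ, T, g, h1, h2, h3, h4, h5⟩ := hF
  obtain ⟨κ', hκ', T', g', h1', h2', h3', h4', h5'⟩ := hG
  haveI := h1
  haveI := h1'
  refine ⟨κ × κ', inferInstance, fun k => pullback (g k.1) (g' k.2),
    fun k => pullback.fst (g k.1) (g' k.2) ≫ g k.1, fun k => inferInstance, fun k => ?_, ?_, ?_,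
    fun k => ?_⟩
  · rw [Scheme.Pullback.range_fst_comp]
    exact (h2 k.1).inter (h2' k.2)
  · intro a b hab
    rw [Scheme.Pullback.range_fst_comp, Scheme.Pullback.range_fst_comp]
    by_cases h : a.1 = b.1
    · have h' : a.2 ≠ b.2 := fun h'' => hab (Prod.ext h h'')
      exact (h3' h').mono Set.inter_subset_right Set.inter_subset_right
    · exact (h3 h).mono Set.inter_subset_left Set.inter_subset_left
  · ext x
    simp only [Set.mem_iUnion, Prod.exists]
    constructor
    · rintro ⟨a, b, hx⟩
      rw [Scheme.Pullback.range_fst_comp] at hx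
      rw [← h4]
      exact Set.mem_iUnion.2 ⟨a, hx.1⟩
    · intro hx
      have hx1 : x ∈ ⋃ k, Set.range (g k) := by rw [h4]; exact hx
      have hx2 : x ∈ ⋃ k, Set.range (g' k) := by rw [h4']; exact hx
      obtain ⟨a, ha⟩ := Set.mem_iUnion.1 hx1
      obtain ⟨b, hb⟩ := Set.mem_iUnion.1 hx2
      refine ⟨a, b, ?_⟩
      rw [Scheme.Pullback.range_fst_comp]
      exact ⟨ha, hb⟩
  · apply hH
    · exact ftlc_of_iso Λ (pullCompObjM Λ _ _ F) (ftlc_pull Λ _ _ (h5 k.1))
    · show EtModW.IsFTLocConst Λ
        ((EtModW.pull Λ (pullback.fst (g k.1) (g' k.2) ≫ g k.1)).obj G)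
      rw [pullback.condition]
      exact ftlc_of_iso Λ (pullCompObjM Λ _ _ G) (ftlc_pull Λ _ _ (h5' k.2))

variable [IsNoetherianRing Λ]

open Groth.Agent.Helper4.ModPullAR in
theorem isConstructible_kernel {F G : EtModW.Mod Λ X} (φ : F ⟶ G)
    (hF : EtModW.IsConstructible Λ F) (hG : EtModW.IsConstructible Λ G) :
    EtModW.IsConstructible Λ (kernel φ) := by
  intro U hU
  rw [← strat_iff]
  refine strat_of_common Λ ((strat_iff Λ F _).2 (hF U hU)) ((strat_iff Λ G _).2 (hG U hU)) ?_
  intro T g h1 h2
  exact ftlc_of_iso Λ (PreservesKernel.iso (EtModW.pull Λ g) φ).symm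
    (Groth.Agent.Helper4.FtlcSerre.ftlc_kernel_cokernel Λ ((EtModW.pull Λ g).map φ) h1 h2).1

open Groth.Agent.Helper4.ModPullAR in
theorem isConstructible_cokernel {F G : EtModW.Mod Λ X} (φ : F ⟶ G)
    (hF : EtModW.IsConstructible Λ F) (hG : EtModW.IsConstructible Λ G) :
    EtModW.IsConstructible Λ (cokernel φ) := by
  intro U hU
  rw [← strat_iff]
  refine strat_of_common Λ ((strat_iff Λ F _).2 (hF U hU)) ((strat_iff Λ G _).2 (hG U hU)) ?_
  intro T g h1 h2
  exact ftlc_of_iso Λ (PreservesCokernel.iso (EtModW.pull Λ g) φ).symm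
    (Groth.Agent.Helper4.FtlcSerre.ftlc_kernel_cokernel Λ ((EtModW.pull Λ g).map φ) h1 h2).2

open Groth.Agent.Helper4.ModPullAR in
theorem isConstructible_of_shortExact (S : ShortComplex (EtModW.Mod Λ X)) (hS : S.ShortExact)
    (h1 : EtModW.IsConstructible Λ S.X₁) (h3 : EtModW.IsConstructible Λ S.X₃) :
    EtModW.IsConstructible Λ S.X₂ := by
  intro U hU
  rw [← strat_iff]
  refine strat_of_common Λ ((strat_iff Λ S.X₁ _).2 (h1 U hU)) ((strat_iff Λ S.X₃ _).2 (h3 U hU)) ?_
  intro T g hg1 hg3
  exact Groth.Agent.Helper4.FtlcSerre.ftlc_ext Λ (S.map (EtModW.pull Λ g))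
    (hS.map_of_exact (EtModW.pull Λ g)) hg1 hg3

/-- a zero sheaf is constructible (as soon as some sheaf is) -/
theorem isConstructible_of_isZero {Z : EtModW.Mod Λ X} (hZ : IsZero Z) {K : EtModW.Mod Λ X}
    (hK : EtModW.IsConstructible Λ K) : EtModW.IsConstructible Λ Z := by
  have h1 : EtModW.IsConstructible Λ (cokernel (𝟙 K)) := isConstructible_cokernel Λ (𝟙 K) hK hK
  have h2 : IsZero (cokernel (𝟙 K)) := isZero_cokernel_of_epi (𝟙 K)
  exact isConstructible_of_iso Λ (h2.iso hZ) h1

open Groth.Agent.Helper6.ConsI in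
/-- finite biproducts of constructible sheaves of modules are constructible -/
theorem isConstructible_biproduct {K₀ : EtModW.Mod Λ X} (hK₀ : EtModW.IsConstructible Λ K₀)
    (J : Type w) [Finite J] (f : J → EtModW.Mod Λ X) (hf : ∀ j, EtModW.IsConstructible Λ (f j)) :
    EtModW.IsConstructible Λ (⨁ f) := by
  revert f
  refine Finite.induction_empty_option (P := fun J : Type w => ∀ [Finite J]
    (f : J → EtModW.Mod Λ X), (∀ j, EtModW.IsConstructible Λ (f j)) →
      EtModW.IsConstructible Λ (⨁ f)) ?_ ?_ ?_ J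
  · intro α β e h _ f hf
    haveI : Finite α := Finite.of_equiv β e.symm
    exact isConstructible_of_iso Λ
      (biproduct.whiskerEquiv (f := f ∘ e) (g := f) e (fun j => Iso.refl _))
      (h (f ∘ e) (fun j => hf _))
  · intro _ f hf
    refine isConstructible_of_isZero Λ ?_ hK₀
    rw [IsZero.iff_id_eq_zero]
    apply biproduct.hom_ext
    intro j
    exact j.elim
  · intro α _ h _ f hf
    exact isConstructible_of_shortExact Λ (optionComplex f) (optionSplitting f).shortExact
      (hf none) (h (f ∘ some) (fun a => hf _))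

end Groth.Agent.Helper6.ModFF
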