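import Mathlib
import Groth.Agent.Helper6.ModFD
import Groth.Agent.Helper6.ModFE
import Groth.Agent.Helper6.ModFF
import Groth.Agent.Helper6.ModCF

set_option autoImplicit false
set_option linter.style.haveILetI false
set_option linter.unusedSectionVars false
set_option linter.unusedVariables false
set_option linter.unusedSimpArgs false

/-!
# Constructible quotients are covered by finite sums of free sheaves on affine étale objects
(Noetherian schemes)
-/

universe u

open CategoryTheory CategoryTheory.Limits AlgebraicGeometry Opposite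

namespace Groth.Agent.Helper6.ModFG

open Groth.Agent.Helper6.ModFA

variable (Λ : Type (u + 1)) [CommRing Λ] {X : Scheme.{u}}

attribute [local instance] Abelian.hasFiniteBiproducts

set_option backward.isDefEq.respectTransparency.types false in
/-- a morphism of sheaves of modules vanishing on all sections over affine étale objects is zero -/
theorem hom_eq_zero_of_affine {A Q : EtModW.Mod Λ X} (a : A ⟶ Q)
    (h : ∀ (V : X.Etale), IsAffine V.left → ∀ s : A.obj.obj (op V), a.hom.app (op V) s = 0) :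
    a = 0 := by
  have hQ := Groth.Agent.Helper6.FinPushA.isSheaf_forget Λ Q
  apply Sheaf.hom_ext
  apply NatTrans.ext
  funext V
  apply ModuleCat.hom_ext
  apply LinearMap.ext
  intro s
  show a.hom.app V s = 0
  obtain ⟨V⟩ := V
  let S : Sieve V :=
    { arrows := fun W p => Q.obj.map p.op (a.hom.app (op V) s) = 0
      downward_closed := by
        intro W W' p hp q
        show Q.obj.map (q ≫ p).op _ = 0
        rw [op_comp, Functor.map_comp, ModuleCat.comp_apply, hp, map_zero] }
  have hS : S ∈ X.smallEtaleTopology V := by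
    rw [Groth.Agent.Helper9.EtAlmostCocont.mem_iff]
    intro x
    obtain ⟨_, ⟨(O : V.left.Opens), hO : IsAffineOpen O, rfl⟩, hxO, -⟩ :=
      (V.left.isBasis_affineOpens).exists_subset_of_mem_open (Set.mem_univ x) isOpen_univ
    have hV : Etale V.hom := V.prop
    let W : X.Etale := Scheme.Etale.mk (O.ι ≫ V.hom)
    let p : W ⟶ V := MorphismProperty.Over.homMk O.ι rfl trivial
    haveI : IsAffine W.left := hO
    refine ⟨W, p, ⟨x, hxO⟩, ?_, Groth.Agent.Helper9.EtPropA.etale_left p, rfl⟩
    show Q.obj.map p.op (a.hom.app (op V) s) = 0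
    have n1 : Q.obj.map p.op (a.hom.app (op V) s) = a.hom.app (op W) (A.obj.map p.op s) :=
      (NatTrans.naturality_apply a.hom p.op s).symm
    rw [n1]
    exact h W hO _
  refine (hQ S hS).isSeparatedFor.ext ?_
  intro W p hp
  show Q.obj.map p.op _ = Q.obj.map p.op 0
  rw [map_zero]
  exact hp

/-- generators: sections of `A` over affine étale objects -/
structure Gen (A : EtModW.Mod Λ X) where
  V : X.Etale
  aff : IsAffine V.left
  s : A.obj.obj (op V)

/-- the coefficient ring as a module -/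
noncomputable abbrev Lam : ModuleCat.{u + 1} Λ := ModuleCat.of Λ Λ

/-- the free sheaf `Λ_V` -/
noncomputable abbrev freeΛ (V : X.Etale) : EtModW.Mod Λ X := free Λ V (Lam Λ)

/-- the universal section of `Λ_V` -/
noncomputable def unit (V : X.Etale) : Lam Λ ⟶ (evalAt Λ V).obj (freeΛ Λ V) :=
  (isFreeOn_free V (Lam Λ)).choose

theorem unit_spec (V : X.Etale) (F : EtModW.Mod Λ X) (φ : Lam Λ ⟶ (evalAt Λ V).obj F) :
    ∃! a : freeΛ Λ V ⟶ F, unit Λ V ≫ (evalAt Λ V).map a = φ :=
  (isFreeOn_free V (Lam Λ)).choose_spec F φ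

theorem isFreeOn_freeΛ (V : X.Etale) : IsFreeOn Λ (freeΛ Λ V) V (Lam Λ) := isFreeOn_free V _

/-- the linear map `Λ → A(V)` determined by a section -/
noncomputable def secHom {A : EtModW.Mod Λ X} {V : X.Etale} (s : A.obj.obj (op V)) :
    Lam Λ ⟶ (evalAt Λ V).obj A :=
  ModuleCat.ofHom (LinearMap.toSpanSingleton Λ (A.obj.obj (op V)) s)

/-- the map `Λ_V ⟶ A` determined by a section of `A` over `V` -/
noncomputable def gen {A : EtModW.Mod Λ X} (i : Gen Λ A) : freeΛ Λ i.V ⟶ A :=
  (unit_spec Λ i.V A (secHom Λ i.s)).exists.choose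

theorem gen_spec {A : EtModW.Mod Λ X} (i : Gen Λ A) :
    unit Λ i.V ≫ (evalAt Λ i.V).map (gen Λ i) = secHom Λ i.s :=
  (unit_spec Λ i.V A (secHom Λ i.s)).exists.choose_spec

theorem gen_apply {A : EtModW.Mod Λ X} (i : Gen Λ A) :
    (gen Λ i).hom.app (op i.V) (unit Λ i.V (1 : Λ)) = i.s := by
  have h := ConcreteCategory.congr_hom (gen_spec Λ i) (1 : Λ)
  have h2 : secHom Λ i.s (1 : Λ) = i.s := by
    show LinearMap.toSpanSingleton Λ _ i.s (1 : Λ) = i.s
    rw [LinearMap.toSpanSingleton_apply, one_smul]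
  exact h.trans h2

section Main

variable [IsNoetherianRing Λ] [IsNoetherian X]

/-- **finite generation**: an epimorphism onto a constructible sheaf of modules on a Noetherian
scheme is already epimorphic on a finite sum of free sheaves on affine étale objects -/
theorem exists_finset_epi {A B : EtModW.Mod Λ X} (v : A ⟶ B) [Epi v]
    (hB : EtModW.IsConstructible Λ B) :
    ∃ S : Finset (Gen Λ A),
      Epi ((biproduct.desc (fun i : S => gen Λ i.1) : (⨁ fun i : S => freeΛ Λ i.1.V) ⟶ A) ≫ v) := by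
  classical
  haveI : IsNoetherianObject B :=
    Groth.Agent.Helper6.ModCF.isNoetherianObject_of_isConstructible Λ B hB
  let P : Finset (Gen Λ A) → EtModW.Mod Λ X := fun S => ⨁ fun i : S => freeΛ Λ i.1.V
  let p : ∀ S : Finset (Gen Λ A), P S ⟶ A := fun S => biproduct.desc (fun i : S => gen Λ i.1)
  let I : Finset (Gen Λ A) → Subobject B := fun S => imageSubobject (p S ≫ v)
  obtain ⟨m, ⟨S₀, rfl⟩, hmax⟩ := (wellFounded_gt (α := Subobject B)).has_min (Set.range I)
    ⟨_, ⟨∅, rfl⟩⟩
  refine ⟨S₀, ?_⟩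
  have hmono : ∀ S S' : Finset (Gen Λ A), S ⊆ S' → I S ≤ I S' := by
    intro S S' hSS'
    let incl : P S ⟶ P S' := biproduct.desc (fun i : S =>
      biproduct.ι (fun i : S' => freeΛ Λ i.1.V) ⟨i.1, hSS' i.2⟩)
    have hincl : incl ≫ p S' = p S := by
      apply biproduct.hom_ext'
      intro i
      simp only [incl, p, biproduct.ι_desc_assoc, biproduct.ι_desc]
    show imageSubobject (p S ≫ v) ≤ imageSubobject (p S' ≫ v)
    rw [← hincl, Category.assoc]
    exact imageSubobject_comp_le _ _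
  have harrow : ∀ S : Finset (Gen Λ A), (I S).arrow ≫ cokernel.π (p S ≫ v) = 0 := by
    intro S
    rw [← cancel_epi (factorThruImageSubobject (p S ≫ v)), ← Category.assoc,
      imageSubobject_arrow_comp, cokernel.condition, comp_zero]
  have key : v ≫ cokernel.π (p S₀ ≫ v) = 0 := by
    apply hom_eq_zero_of_affine
    intro V hV s
    let i : Gen Λ A := ⟨V, hV, s⟩
    let S₁ : Finset (Gen Λ A) := insert i S₀
    have hle : I S₀ ≤ I S₁ := hmono S₀ S₁ (Finset.subset_insert i S₀)
    have heq : I S₁ = I S₀ := by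
      by_contra hne
      exact hmax (I S₁) ⟨S₁, rfl⟩ (lt_of_le_of_ne hle (Ne.symm hne))
    have h1 : (p S₁ ≫ v) ≫ cokernel.π (p S₀ ≫ v) = 0 := by
      have e1 : (I S₁).arrow = Subobject.ofLE (I S₁) (I S₀) (le_of_eq heq) ≫ (I S₀).arrow :=
        (Subobject.ofLE_arrow _).symm
      rw [← imageSubobject_arrow_comp (p S₁ ≫ v), Category.assoc]
      show factorThruImageSubobject (p S₁ ≫ v) ≫ (I S₁).arrow ≫ _ = 0
      rw [e1, Category.assoc, harrow S₀, comp_zero, comp_zero]
    have hi : i ∈ S₁ := Finset.mem_insert_self i S₀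
    have h2 : gen Λ i ≫ v ≫ cokernel.π (p S₀ ≫ v) = 0 := by
      have : gen Λ i = biproduct.ι (fun j : S₁ => freeΛ Λ j.1.V) ⟨i, hi⟩ ≫ p S₁ :=
        (biproduct.ι_desc (fun j : S₁ => gen Λ j.1) ⟨i, hi⟩).symm
      rw [this, Category.assoc, ← Category.assoc (p S₁), h1, comp_zero]
    have h3 := congrArg (fun b : freeΛ Λ i.V ⟶ cokernel (p S₀ ≫ v) =>
      b.hom.app (op V) (unit Λ V (1 : Λ))) h2
    have h4 : (gen Λ i ≫ v ≫ cokernel.π (p S₀ ≫ v)).hom.app (op V) (unit Λ V (1 : Λ)) =
        (v ≫ cokernel.π (p S₀ ≫ v)).hom.app (op V) s := by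
      show (v ≫ cokernel.π (p S₀ ≫ v)).hom.app (op V)
        ((gen Λ i).hom.app (op V) (unit Λ V (1 : Λ))) = _
      rw [gen_apply]
    exact h4.symm.trans h3
  have hzero : cokernel.π (p S₀ ≫ v) = 0 := by
    rw [← cancel_epi v, key, comp_zero]
  exact Abelian.epi_of_cokernel_π_eq_zero _ hzero

/-- the free sheaf `Λ_V` on an affine étale object of a Noetherian scheme is constructible -/
theorem isConstructible_freeΛ (V : X.Etale) (hV : IsAffine V.left) :
    EtModW.IsConstructible Λ (freeΛ Λ V) := by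
  haveI : IsAffine V.left := hV
  have hc : CompactSpace ↥V.left := inferInstance
  have hqs' : QuasiSeparatedSpace ↥V.left := inferInstance
  have hX : QuasiSeparatedSpace ↥X := inferInstance
  have hqc : QuasiCompact (V.hom : V.left ⟶ X) :=
    @quasiCompact_of_compactSpace V.left X V.hom hc hX
  have hqs : QuasiSeparated (V.hom : V.left ⟶ X) :=
    @QuasiSeparated.of_quasiSeparatedSpace V.left X V.hom hqs'
  exact Groth.Agent.Helper6.ModFD.isConstructible_of_isFreeOn Λ V hqc hqs (Lam Λ) _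
    (isFreeOn_freeΛ Λ V)

omit [IsNoetherianRing Λ] [AlgebraicGeometry.IsNoetherian X] in
theorem projective_lam : Projective (Lam Λ) :=
  (IsProjective.iff_projective.{u + 1, u + 1} (R := Λ) Λ).1 inferInstance

omit [IsNoetherianRing Λ] [AlgebraicGeometry.IsNoetherian X] in
/-- the geometric stalks of a finite sum of sheaves `Λ_V` are flat -/
theorem flat_stalk_biproduct {n : ℕ} (V : Fin n → X.Etale)
    {Ω : Type u} [Field Ω] [IsSepClosed Ω] (ξ : Spec (CommRingCat.of Ω) ⟶ X) :
    Module.Flat Λ ((EtModW.stalk Λ ξ).obj (⨁ fun j => freeΛ Λ (V j))) := by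
  haveI := projective_lam Λ
  haveI : ∀ j, Projective ((EtModW.stalk Λ ξ).obj (freeΛ Λ (V j))) := fun j =>
    Groth.Agent.Helper6.ModFE.projective_stalk_of_isFreeOn Λ ξ (isFreeOn_freeΛ Λ (V j))
  let e : (EtModW.stalk Λ ξ).obj (⨁ fun j => freeΛ Λ (V j)) ≅
      ⨁ fun j => (EtModW.stalk Λ ξ).obj (freeΛ Λ (V j)) :=
    (EtModW.stalk Λ ξ).mapBiproduct _
  haveI : Projective (⨁ fun j => (EtModW.stalk Λ ξ).obj (freeΛ Λ (V j))) :=
    ⟨fun f e _ => ⟨biproduct.desc fun b => Projective.factorThru
        (biproduct.ι (fun j => (EtModW.stalk Λ ξ).obj (freeΛ Λ (V j))) b ≫ f) e, by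
      apply biproduct.hom_ext'
      intro b
      rw [biproduct.ι_desc_assoc, Projective.factorThru_comp]⟩⟩
  haveI : Projective ((EtModW.stalk Λ ξ).obj (⨁ fun j => freeΛ Λ (V j))) :=
    Projective.of_iso e.symm inferInstance
  haveI : Module.Projective Λ ((EtModW.stalk Λ ξ).obj (⨁ fun j => freeΛ Λ (V j))) :=
    (IsProjective.iff_projective.{u + 1, u + 1} (R := Λ) _).2 (by assumption)
  infer_instance

/-- finite generation, indexed by `Fin n` -/
theorem exists_fin_epi {A B : EtModW.Mod Λ X} (v : A ⟶ B) [Epi v]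
    (hB : EtModW.IsConstructible Λ B) :
    ∃ (n : ℕ) (i : Fin n → Gen Λ A),
      Epi ((biproduct.desc (fun k => gen Λ (i k)) : (⨁ fun k => freeΛ Λ (i k).V) ⟶ A) ≫ v) := by
  classical
  obtain ⟨S, hS⟩ := exists_finset_epi Λ v hB
  let e : Fin S.card ≃ S := S.equivFin.symm
  refine ⟨S.card, fun k => (e k).1, ?_⟩
  let φ : (⨁ fun k : Fin S.card => freeΛ Λ (e k).1.V) ≅ ⨁ fun i : S => freeΛ Λ i.1.V :=
    biproduct.whiskerEquiv (f := fun k : Fin S.card => freeΛ Λ (e k).1.V)
      (g := fun i : S => freeΛ Λ i.1.V) e (fun k => Iso.refl _)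
  have h1 : (biproduct.desc (fun k : Fin S.card => gen Λ (e k).1) :
      (⨁ fun k : Fin S.card => freeΛ Λ (e k).1.V) ⟶ A) =
      φ.hom ≫ biproduct.desc (fun i : S => gen Λ i.1) := by
    apply biproduct.hom_ext'
    intro k
    simp [φ, biproduct.whiskerEquiv]
  rw [h1, Category.assoc]
  infer_instance

/-- **flat constructible covers**: an epimorphism onto a constructible sheaf of modules on a
Noetherian scheme is dominated by a constructible sheaf with flat stalks -/
theorem exists_flat_constructible {A B : EtModW.Mod Λ X} (v : A ⟶ B) [Epi v]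
    (hB : EtModW.IsConstructible Λ B) :
    ∃ (K : EtModW.Mod Λ X) (w : K ⟶ A), EtModW.IsConstructible Λ K ∧
      (∀ (Ω : Type u) [Field Ω] [IsSepClosed Ω] (ξ : Spec (CommRingCat.of Ω) ⟶ X),
        Module.Flat Λ ((EtModW.stalk Λ ξ).obj K)) ∧ Epi (w ≫ v) := by
  obtain ⟨n, i, hS⟩ := exists_fin_epi Λ v hB
  refine ⟨_, biproduct.desc (fun k => gen Λ (i k)), ?_, ?_, hS⟩
  · have h0 : EtModW.IsConstructible Λ (freeΛ Λ (EtCoh.top X)) := by
      have hqc : QuasiCompact ((EtCoh.top X).hom : (EtCoh.top X).left ⟶ X) :=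
        (inferInstance : QuasiCompact (𝟙 X))
      have hqs : QuasiSeparated ((EtCoh.top X).hom : (EtCoh.top X).left ⟶ X) :=
        (inferInstance : QuasiSeparated (𝟙 X))
      exact Groth.Agent.Helper6.ModFD.isConstructible_of_isFreeOn Λ _ hqc hqs (Lam Λ) _
        (isFreeOn_freeΛ Λ _)
    exact Groth.Agent.Helper6.ModFF.isConstructible_biproduct Λ h0 _ _
      (fun k => isConstructible_freeΛ Λ (i k).V (i k).aff)
  · intro Ω _ _ ξ
    exact flat_stalk_biproduct Λ (fun k => (i k).V) ξ

end Main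

end Groth.Agent.Helper6.ModFG
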