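import Mathlib
import Groth.Prelude.Def_SixF2
import Groth.Agent.Helper9.EtShriekBC
import Groth.Agent.Helper4.ModPullAR
import Groth.Agent.Helper6.ModFA

set_option autoImplicit false
set_option linter.style.haveILetI false
set_option linter.unusedSectionVars false
set_option linter.unusedVariables false
set_option linter.unusedSimpArgs false

/-!
# Extension by zero of sheaves of modules: base change and free sheaves
-/

universe u

open CategoryTheory CategoryTheory.Limits AlgebraicGeometry Opposite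

namespace Groth.Agent.Helper6.ModShBC

open Groth.Agent.Helper9.EtShriekBC Groth.Agent.Helper6.ModFA

variable (Λ : Type (u + 1)) [CommRing Λ]

section BC

variable {V' V Y X : Scheme.{u}} (j : V ⟶ X) [hj : Etale j] (f : Y ⟶ X)
  (j' : V' ⟶ Y) [hj' : Etale j'] (f' : V' ⟶ V) (h : IsPullback j' f' f j)
  [EtShriek.JCont j] [EtShriek.JCont j']

set_option backward.isDefEq.respectTransparency false in
/-- the isomorphism of the right adjoints -/
noncomputable def rightIso :
    EtSix.restrMod Λ j' ⋙ EtModW.push Λ f' ≅ EtModW.push Λ f ⋙ EtSix.restrMod Λ j := by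
  haveI : (F2 j f).IsContinuous V.smallEtaleTopology Y.smallEtaleTopology :=
    Functor.isContinuous_comp _ _ _ X.smallEtaleTopology _
  exact Functor.sheafPushforwardContinuousComp' (α j f j' f' h) (ModuleCat.{u + 1} Λ)
      V.smallEtaleTopology V'.smallEtaleTopology Y.smallEtaleTopology ≪≫
    (Functor.sheafPushforwardContinuousComp (EtShriek.compEtale j) (EtCoh.bc f)
      (ModuleCat.{u + 1} Λ) V.smallEtaleTopology X.smallEtaleTopology Y.smallEtaleTopology).symm

include h in
/-- extension by zero commutes with base change -/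
theorem nonempty_iso :
    Nonempty (EtModW.pull Λ f' ⋙ EtSix.extZeroMod Λ j' ≅ EtSix.extZeroMod Λ j ⋙ EtModW.pull Λ f) := by
  let adj1 : EtModW.pull Λ f' ⋙ EtSix.extZeroMod Λ j' ⊣ EtSix.restrMod Λ j' ⋙ EtModW.push Λ f' :=
    (Groth.Agent.Helper4.ModPullAR.adj Λ f').comp (EtSix.extZeroModAdj Λ j')
  let adj2 : EtSix.extZeroMod Λ j ⋙ EtModW.pull Λ f ⊣ EtModW.push Λ f ⋙ EtSix.restrMod Λ j :=
    (EtSix.extZeroModAdj Λ j).comp (Groth.Agent.Helper4.ModPullAR.adj Λ f)
  exact ⟨adj1.leftAdjointUniq (adj2.ofNatIsoRight (rightIso Λ j f j' f' h).symm)⟩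

end BC

section Free

variable {U X : Scheme.{u}} (j : U ⟶ X) [Etale j] [EtShriek.JCont j]

/-- extension by zero preserves free sheaves -/
theorem isFreeOn_extZero {E : EtModW.Mod Λ U} {V : U.Etale} {A : ModuleCat.{u + 1} Λ}
    (h : IsFreeOn Λ E V A) :
    IsFreeOn Λ ((EtSix.extZeroMod Λ j).obj E) ((EtShriek.compEtale j).obj V) A := by
  obtain ⟨e, he⟩ := h
  let adj := EtSix.extZeroModAdj Λ j
  refine ⟨e ≫ (evalAt Λ V).map (adj.unit.app E), fun H φ => ?_⟩
  obtain ⟨a₀, ha₀, hu⟩ := he ((EtSix.restrMod Λ j).obj H) φ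
  have key : ∀ a : (EtSix.extZeroMod Λ j).obj E ⟶ H,
      (e ≫ (evalAt Λ V).map (adj.unit.app E)) ≫
        (evalAt Λ ((EtShriek.compEtale j).obj V)).map a =
        e ≫ (evalAt Λ V).map (adj.homEquiv E H a) := by
    intro a
    have h1 : adj.homEquiv E H a = adj.unit.app E ≫ (EtSix.restrMod Λ j).map a :=
      Adjunction.homEquiv_unit _ _ _ _
    rw [h1, Functor.map_comp, Category.assoc]
    rfl
  refine ⟨(adj.homEquiv E H).symm a₀, ?_, ?_⟩
  · show (e ≫ (evalAt Λ V).map (adj.unit.app E)) ≫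
      (evalAt Λ ((EtShriek.compEtale j).obj V)).map _ = φ
    rw [key, Equiv.apply_symm_apply]
    exact ha₀
  · intro a ha
    have ha' : (e ≫ (evalAt Λ V).map (adj.unit.app E)) ≫
        (evalAt Λ ((EtShriek.compEtale j).obj V)).map a = φ := ha
    rw [key] at ha'
    rw [← hu _ ha', Equiv.symm_apply_apply]

end Free

end Groth.Agent.Helper6.ModShBC
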