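import Mathlib
import Groth.Prelude.Def_EtMod2
import Groth.Agent.Helper4.ModStalk
import Groth.Agent.Helper4.SuppB
import Groth.Agent.Helper4.StrataF
import Groth.Agent.Helper4.ConsTop

set_option autoImplicit false
set_option linter.style.haveILetI false
set_option linter.unusedSectionVars false
set_option linter.unusedVariables false
set_option linter.unusedSimpArgs false

/-!
# Supports of constructible sheaves of modules are locally constructible
-/

universe u

open CategoryTheory CategoryTheory.Limits AlgebraicGeometry Opposite Topology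

namespace Groth.Agent.Helper6.ModSuppA

open Groth.Agent.Helper4.ModStalk Groth.Agent.Helper4.ModEtA Groth.Agent.Helper4.OverEtC
open Groth.Agent.Helper4.ModStrata Groth.Agent.Helper4.StrataA Groth.Agent.Helper4.StrataB
open Groth.Agent.Helper4.ConsTop Groth.Agent.Helper4.SuppA Groth.Agent.Helper4.SuppB
open Groth.Agent.Helper9.EtStalkExact

variable (Λ : Type (u + 1)) [CommRing Λ] {X T : Scheme.{u}}

attribute [local instance] ab5_mod hasLimits_mod

/-- the support of a sheaf of modules: the points under a geometric point with nonzero stalk -/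
def suppM (F : EtModW.Mod Λ X) : Set X :=
  {x | ∃ (Ω : Type u) (_ : Field Ω) (_ : IsSepClosed Ω) (ξ : Spec (CommRingCat.of Ω) ⟶ X),
    ξ default = x ∧ ¬ IsZero ((EtModW.stalk Λ ξ).obj F)}

variable {Λ}

theorem mem_suppM_of_stalk (F : EtModW.Mod Λ X) {Ω : Type u} [Field Ω] [IsSepClosed Ω]
    (ξ : Spec (CommRingCat.of Ω) ⟶ X) (h : ¬ IsZero ((EtModW.stalk Λ ξ).obj F)) :
    ξ default ∈ suppM Λ F :=
  ⟨Ω, inferInstance, inferInstance, ξ, rfl, h⟩

theorem isZero_stalk_of_not_mem (F : EtModW.Mod Λ X) {Ω : Type u} [Field Ω] [IsSepClosed Ω]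
    (ξ : Spec (CommRingCat.of Ω) ⟶ X) (h : ξ default ∉ suppM Λ F) :
    IsZero ((EtModW.stalk Λ ξ).obj F) := by
  by_contra hnz
  exact h (mem_suppM_of_stalk F ξ hnz)

theorem stalk_isZero_iff_of_constM {F : EtModW.Mod Λ X} (V : X.Etale) (N : ModuleCat.{u + 1} Λ)
    (a : (EtModW.pull Λ (homS V)).obj F ≅ cM Λ V.left N)
    {Ω : Type u} [Field Ω] [IsSepClosed Ω]
    (ξ : Spec (CommRingCat.of Ω) ⟶ X) (v : V.left) (hv : (homS V) v = ξ default) :
    IsZero ((EtModW.stalk Λ ξ).obj F) ↔ IsZero N := by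
  obtain ⟨e⟩ := stalk_iso_of_constM Λ V N a ξ v hv
  exact e.isZero_iff

/-- the support of a finite type locally constant sheaf of modules is open and closed -/
theorem isClopen_suppM_of_ftlc (G : EtModW.Mod Λ T) (h : EtModW.IsFTLocConst Λ G) :
    IsClopen (suppM Λ G) := by
  rw [ftlc_iff] at h
  obtain ⟨ι, V, hV, hM⟩ := h
  choose i v hv using hV
  choose N fN a using hM
  have key : ∀ (t t' : T), t' ∈ Set.range (homS (V (i t))) →
      (t' ∈ suppM Λ G ↔ ¬ IsZero (N (i t))) := by
    rintro t t' ⟨w, hw⟩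
    constructor
    · rintro ⟨Ω', _, _, ξ, hξ, hnz⟩ hz
      exact hnz ((stalk_isZero_iff_of_constM (V (i t)) (N (i t)) (a (i t)).some ξ w
        (hw.trans hξ.symm)).2 hz)
    · intro hnz
      have h1 := mem_suppM_of_stalk G (geomPt t') (fun hz => hnz
        ((stalk_isZero_iff_of_constM (V (i t)) (N (i t)) (a (i t)).some (geomPt t') w
          (hw.trans (geomPt_default t').symm)).1 hz))
      rwa [geomPt_default] at h1
  have hopen : ∀ t, IsOpen (Set.range (homS (V (i t)))) := fun t =>
    (V (i t)).hom.isOpenMap.isOpen_range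
  have hmem : ∀ t, t ∈ Set.range (homS (V (i t))) := fun t => ⟨v t, hv t⟩
  constructor
  · rw [← isOpen_compl_iff, isOpen_iff_forall_mem_open]
    intro t ht
    refine ⟨Set.range (homS (V (i t))), fun t' ht' hs => ?_, hopen t, hmem t⟩
    exact ht ((key t t (hmem t)).2 ((key t t' ht').1 hs))
  · rw [isOpen_iff_forall_mem_open]
    intro t ht
    refine ⟨Set.range (homS (V (i t))), fun t' ht' => ?_, hopen t, hmem t⟩
    exact (key t t' ht').2 ((key t t (hmem t)).1 ht)

/-- the support of an inverse image, one direction (any morphism) -/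
theorem map_mem_suppM_of_mem_suppM_pull (g : T ⟶ X) (F : EtModW.Mod Λ X) (t : T)
    (h : t ∈ suppM Λ ((EtModW.pull Λ g).obj F)) : g t ∈ suppM Λ F := by
  obtain ⟨Ω, _, _, ξ, hξ, hnz⟩ := h
  have h1 := mem_suppM_of_stalk F (ξ ≫ g) (fun hz => hnz
    (((stalkPullIsoM Λ g ξ).app F).isZero_iff.2 hz))
  have h2 : (ξ ≫ g) default = g t := by rw [← hξ]; rfl
  rwa [h2] at h1

/-- the support of an inverse image along an immersion -/
theorem mem_suppM_pull_iff (g : T ⟶ X) [IsImmersion g] (F : EtModW.Mod Λ X) (t : T) :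
    t ∈ suppM Λ ((EtModW.pull Λ g).obj F) ↔ g t ∈ suppM Λ F := by
  constructor
  · exact map_mem_suppM_of_mem_suppM_pull g F t
  · rintro ⟨Ω, _, _, ξ, hξ, hnz⟩
    obtain ⟨l, rfl⟩ := exists_lift_of_isImmersion g ξ t hξ.symm
    have h1 := mem_suppM_of_stalk ((EtModW.pull Λ g).obj F) l (fun hz => hnz
      (((stalkPullIsoM Λ g l).app F).isZero_iff.1 hz))
    have h2 : l default = t := g.isEmbedding.injective hξ
    rwa [h2] at h1

/-- the support of a constructible sheaf of modules is constructible in every affine open -/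
theorem suppM_cIn (F : EtModW.Mod Λ X) (hF : EtModW.IsConstructible Λ F) (U : X.Opens)
    (hU : IsAffineOpen U) : CIn (U : Set X) (suppM Λ F) := by
  obtain ⟨κ, hκ, T, g, h1, h2, h3, h4, h5⟩ := (strat_iff Λ F _).2 (hF U hU)
  haveI := h1
  haveI : CompactSpace ↥(U : Set X) := isCompact_iff_compactSpace.1 hU.isCompact
  haveI : QuasiSeparatedSpace ↥(U : Set X) :=
    (isQuasiSeparated_iff_quasiSeparatedSpace _ U.2).1 hU.isQuasiSeparated
  haveI : PrespectralSpace ↥(U : Set X) := inferInstanceAs (PrespectralSpace U.toScheme)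
  have hsub : ∀ k, Set.range (g k) ⊆ (U : Set X) := fun k => by
    rw [← h4]
    exact Set.subset_iUnion (fun k => Set.range (g k)) k
  have hdecomp : (Subtype.val : ↥(U : Set X) → X) ⁻¹' suppM Λ F =
      ⋃ k, Subtype.val ⁻¹' ((g k) '' suppM Λ ((EtModW.pull Λ (g k)).obj F)) := by
    ext ⟨x, hx⟩
    simp only [Set.mem_preimage, Set.mem_iUnion, Set.mem_image]
    constructor
    · intro hxs
      have : x ∈ ⋃ k, Set.range (g k) := by rw [h4]; exact hx
      obtain ⟨k, t, rfl⟩ := Set.mem_iUnion.1 this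
      exact ⟨k, t, (mem_suppM_pull_iff (g k) F t).2 hxs, rfl⟩
    · rintro ⟨k, t, ht, rfl⟩
      exact (mem_suppM_pull_iff (g k) F t).1 ht
  unfold CIn
  rw [hdecomp]
  refine IsConstructible.iUnion fun k => ?_
  let g' : T k → ↥(U : Set X) := fun t => ⟨g k t, hsub k ⟨t, rfl⟩⟩
  have hg' : IsEmbedding g' := (g k).isEmbedding.codRestrict _ _
  have hr : Set.range g' = Subtype.val ⁻¹' Set.range (g k) := by
    ext ⟨x, hx⟩
    constructor
    · rintro ⟨t, ht⟩
      exact ⟨t, congrArg Subtype.val ht⟩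
    · rintro ⟨t, ht⟩
      exact ⟨t, Subtype.ext ht⟩
  have hrc : IsConstructible (Set.range g') := hr ▸ h2 k
  haveI : CompactSpace (T k) := by
    rw [← isCompact_univ_iff, hg'.isCompact_iff, Set.image_univ]
    exact isCompact_of_isConstructible hrc
  have hW := isClopen_suppM_of_ftlc _ (h5 k)
  have hWc : IsConstructible (suppM Λ ((EtModW.pull Λ (g k)).obj F)) :=
    IsRetrocompact.isConstructible hW.isOpen (fun K hK _ => hK.inter_left hW.isClosed)
  have h6 := isConstructible_image hg' hrc hWc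
  have h7 : g' '' suppM Λ ((EtModW.pull Λ (g k)).obj F) =
      Subtype.val ⁻¹' ((g k) '' suppM Λ ((EtModW.pull Λ (g k)).obj F)) := by
    ext ⟨x, hx⟩
    constructor
    · rintro ⟨t, ht, hx'⟩
      exact ⟨t, ht, congrArg Subtype.val hx'⟩
    · rintro ⟨t, ht, hx'⟩
      exact ⟨t, ht, Subtype.ext hx'⟩
  rw [← h7]
  exact h6

/-- the support of a constructible sheaf of modules is locally constructible -/
theorem isLocallyConstructible_suppM (F : EtModW.Mod Λ X) (hF : EtModW.IsConstructible Λ F) :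
    IsLocallyConstructible (suppM Λ F) := by
  intro x
  obtain ⟨_, ⟨U, hU : IsAffineOpen U, rfl⟩, hxU, -⟩ :=
    (X.isBasis_affineOpens).exists_subset_of_mem_open (Set.mem_univ x) isOpen_univ
  exact ⟨(U : Set X), U.2.mem_nhds hxU, U.2, suppM_cIn F hF U hU⟩

end Groth.Agent.Helper6.ModSuppA
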