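import Mathlib

set_option autoImplicit false
set_option linter.style.haveILetI false
set_option linter.unusedSectionVars false
set_option linter.unusedVariables false
set_option linter.unusedSimpArgs false

/-!
# An abstract resolution lemma

Let `𝒜` be an abelian category, `CC` a class of objects closed under kernels (of maps between
objects of `CC`) and `PP ⊆ CC` a class closed under binary sums such that every epimorphism `A ⟶ B`
with `B ∈ CC` is dominated by an object of `PP`. Then every chain complex (indexed by `ℕ`) with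
homology in `CC` receives a quasi-isomorphism from a chain complex with terms in `PP`.
-/

universe v u

open CategoryTheory CategoryTheory.Limits

namespace Groth.Agent.Helper6.ResA

variable {𝒜 : Type u} [Category.{v} 𝒜] [Abelian 𝒜]

/-- hypotheses of the abstract resolution lemma -/
structure Hyp (CC PP : 𝒜 → Prop) : Prop where
  ker : ∀ {A B : 𝒜} (f : A ⟶ B), CC A → CC B → CC (kernel f)
  le : ∀ A, PP A → CC A
  sum : ∀ A B, PP A → PP B → PP (A ⊞ B)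
  star : ∀ {A B : 𝒜} (v : A ⟶ B), Epi v → CC B → ∃ (P : 𝒜) (w : P ⟶ A), PP P ∧ Epi (w ≫ v)

/-- the next index in a chain complex -/
noncomputable abbrev nx (k : ℕ) : ℕ := (ComplexShape.down ℕ).next k

theorem nx_succ (k : ℕ) : nx (k + 1) = k := ChainComplex.next_nat_succ k

theorem d_zero_eq (L : ChainComplex 𝒜 ℕ) (j : ℕ) : L.d 0 j = 0 := by
  apply L.shape
  intro h
  have h' : j + 1 = 0 := h
  omega

theorem comp_d_nx_succ (L : ChainComplex 𝒜 ℕ) (k : ℕ) {A : 𝒜} (x : A ⟶ L.X (k + 1)) :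
    x ≫ L.d (k + 1) (nx (k + 1)) = 0 ↔ x ≫ L.d (k + 1) k = 0 := by
  have h : nx (k + 1) = k := nx_succ k
  obtain ⟨m, hm⟩ : ∃ m, m = nx (k + 1) := ⟨_, rfl⟩
  rw [← hm]
  have : m = k := hm.trans h
  subst this
  exact Iff.rfl

variable (CC PP : 𝒜 → Prop) (K : ChainComplex 𝒜 ℕ)

/-- the inductive datum in degree `k`: the term `P`, its cycles `Z` and the map to `K` -/
structure State (k : ℕ) where
  P : 𝒜
  Z : 𝒜
  ι : Z ⟶ P
  f : P ⟶ K.X k
  hP : PP P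
  hZ : CC Z
  hcyc : ∀ j, ι ≫ f ≫ K.d k j = 0
  hE : ∀ ⦃A : 𝒜⦄ (y : A ⟶ K.X k), y ≫ K.d k (nx k) = 0 →
    ∃ (A' : 𝒜) (π : A' ⟶ A) (_ : Epi π) (z : A' ⟶ Z) (y₁ : A' ⟶ K.X (k + 1)),
      π ≫ y = z ≫ ι ≫ f + y₁ ≫ K.d (k + 1) k

variable {CC PP}

/-- cycles of `K` are, up to refinements and boundaries, in the image of any `w₂` which is
epimorphic onto the homology -/
theorem hE_of_epi {k : ℕ} {P₂ : 𝒜} (w₂ : P₂ ⟶ K.cycles k) (hw₂ : Epi (w₂ ≫ K.homologyπ k))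
    ⦃A : 𝒜⦄ (y : A ⟶ K.X k) (hy : y ≫ K.d k (nx k) = 0) :
    ∃ (A' : 𝒜) (π : A' ⟶ A) (_ : Epi π) (a : A' ⟶ P₂) (y₁ : A' ⟶ K.X (k + 1)),
      π ≫ y = a ≫ w₂ ≫ K.iCycles k + y₁ ≫ K.d (k + 1) k := by
  have hprev : (ComplexShape.down ℕ).prev k = k + 1 := ChainComplex.prev ℕ k
  let yc : A ⟶ K.cycles k := K.liftCycles y (nx k) rfl hy
  obtain ⟨A₁, π₁, hπ₁, a, ha⟩ :=
    surjective_up_to_refinements_of_epi (w₂ ≫ K.homologyπ k) (yc ≫ K.homologyπ k)
  have ha' : (π₁ ≫ yc) ≫ K.homologyπ k = (a ≫ w₂) ≫ K.homologyπ k := by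
    rw [Category.assoc, Category.assoc]
    exact ha
  obtain ⟨A₂, π₂, hπ₂, x₁, hx₁⟩ :=
    (K.comp_homologyπ_eq_iff_up_to_refinements (k + 1) k hprev (π₁ ≫ yc) (a ≫ w₂)).1 ha'
  refine ⟨A₂, π₂ ≫ π₁, epi_comp _ _, π₂ ≫ a, x₁, ?_⟩
  have h := congrArg (fun t => t ≫ K.iCycles k) hx₁
  simp only [Category.assoc, Preadditive.add_comp, HomologicalComplex.toCycles_i] at h
  have hyc : yc ≫ K.iCycles k = y := K.liftCycles_i y (nx k) rfl hy
  rw [hyc] at h
  rw [Category.assoc, Category.assoc]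
  exact h

variable (H : Hyp CC PP)
include H

/-- the initial state -/
theorem exists_init (hK : ∀ k, CC (K.homology k)) : ∃ s : State CC PP K 0, IsIso s.ι := by
  obtain ⟨P₂, w₂, hP₂, hw₂⟩ := H.star (K.homologyπ 0) inferInstance (hK 0)
  refine ⟨{ P := P₂, Z := P₂, ι := 𝟙 _, f := w₂ ≫ K.iCycles 0, hP := hP₂, hZ := H.le _ hP₂,
            hcyc := ?_, hE := ?_ }, ?_⟩
  · intro j
    rw [d_zero_eq, comp_zero, comp_zero]
  · intro A y hy
    obtain ⟨A', π, hπ, a, y₁, h⟩ := hE_of_epi K w₂ hw₂ y hy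
    refine ⟨A', π, hπ, a, y₁, ?_⟩
    rw [Category.id_comp]
    exact h
  · show IsIso (𝟙 P₂)
    infer_instance

/-- the inductive step -/
theorem exists_step (hK : ∀ k, CC (K.homology k)) {k : ℕ} (s : State CC PP K k) :
    ∃ (t : State CC PP K (k + 1)) (d : t.P ⟶ s.P),
      (∃ d' : t.P ⟶ s.Z, d = d' ≫ s.ι) ∧ t.ι ≫ d = 0 ∧
      (∀ ⦃A : 𝒜⦄ (x : A ⟶ t.P), x ≫ d = 0 → ∃ z : A ⟶ t.Z, z ≫ t.ι = x) ∧
      d ≫ s.f = t.f ≫ K.d (k + 1) k ∧
      (∀ ⦃A : 𝒜⦄ (z : A ⟶ s.Z) (y₁ : A ⟶ K.X (k + 1)),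
        z ≫ s.ι ≫ s.f = y₁ ≫ K.d (k + 1) k →
        ∃ (A' : 𝒜) (π : A' ⟶ A) (_ : Epi π) (x₁ : A' ⟶ t.P), π ≫ z ≫ s.ι = x₁ ≫ d) := by
  have hprev : (ComplexShape.down ℕ).prev k = k + 1 := ChainComplex.prev ℕ k
  have hcyc' : (s.ι ≫ s.f) ≫ K.d k (nx k) = 0 := by
    rw [Category.assoc]
    exact s.hcyc _
  let cyc : s.Z ⟶ K.cycles k := K.liftCycles (s.ι ≫ s.f) (nx k) rfl hcyc'
  have hcyc_i : cyc ≫ K.iCycles k = s.ι ≫ s.f := K.liftCycles_i _ _ rfl hcyc'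
  let θ : s.Z ⟶ K.homology k := cyc ≫ K.homologyπ k
  have hZ' : CC (kernel θ) := H.ker θ s.hZ (hK k)
  let j : kernel θ ⟶ K.cycles k := kernel.ι θ ≫ cyc
  have hj : j ≫ K.homologyπ k = 0 := by
    show (kernel.ι θ ≫ cyc) ≫ K.homologyπ k = 0
    rw [Category.assoc]
    exact kernel.condition θ
  let pr₁ : pullback (K.toCycles (k + 1) k) j ⟶ K.X (k + 1) := pullback.fst _ _
  let pr₂ : pullback (K.toCycles (k + 1) k) j ⟶ kernel θ := pullback.snd _ _
  have hpb : pr₁ ≫ K.toCycles (k + 1) k = pr₂ ≫ j := pullback.condition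
  have hpb' : pr₁ ≫ K.d (k + 1) k = pr₂ ≫ kernel.ι θ ≫ s.ι ≫ s.f := by
    have h := congrArg (fun t => t ≫ K.iCycles k) hpb
    simp only [Category.assoc, HomologicalComplex.toCycles_i] at h
    rw [h]
    show pr₂ ≫ (kernel.ι θ ≫ cyc) ≫ K.iCycles k = _
    rw [Category.assoc, hcyc_i]
  have hepi : Epi pr₂ := by
    rw [epi_iff_surjective_up_to_refinements]
    intro A a
    obtain ⟨A', π, hπ, x, hx⟩ :=
      (K.comp_homologyπ_eq_zero_iff_up_to_refinements (k + 1) k hprev (a ≫ j)).1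
        (by rw [Category.assoc, hj, comp_zero])
    refine ⟨A', π, hπ, pullback.lift x (π ≫ a) (by rw [← hx, Category.assoc]), ?_⟩
    exact (pullback.lift_snd _ _ _).symm
  obtain ⟨P₁, w₁, hP₁, hw₁⟩ := H.star pr₂ hepi hZ'
  obtain ⟨P₂, w₂, hP₂, hw₂⟩ := H.star (K.homologyπ (k + 1)) inferInstance (hK (k + 1))
  let d : P₁ ⊞ P₂ ⟶ s.P := biprod.desc (w₁ ≫ pr₂ ≫ kernel.ι θ ≫ s.ι) 0
  let tf : P₁ ⊞ P₂ ⟶ K.X (k + 1) := biprod.desc (w₁ ≫ pr₁) (w₂ ≫ K.iCycles (k + 1))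
  have hcomm : d ≫ s.f = tf ≫ K.d (k + 1) k := by
    apply biprod.hom_ext'
    · show biprod.inl ≫ biprod.desc (w₁ ≫ pr₂ ≫ kernel.ι θ ≫ s.ι) 0 ≫ s.f =
        biprod.inl ≫ biprod.desc (w₁ ≫ pr₁) (w₂ ≫ K.iCycles (k + 1)) ≫ K.d (k + 1) k
      rw [biprod.inl_desc_assoc, biprod.inl_desc_assoc]
      simp only [Category.assoc]
      rw [hpb']
    · show biprod.inr ≫ biprod.desc (w₁ ≫ pr₂ ≫ kernel.ι θ ≫ s.ι) 0 ≫ s.f =
        biprod.inr ≫ biprod.desc (w₁ ≫ pr₁) (w₂ ≫ K.iCycles (k + 1)) ≫ K.d (k + 1) k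
      rw [biprod.inr_desc_assoc, biprod.inr_desc_assoc]
      simp only [Category.assoc, zero_comp, HomologicalComplex.iCycles_d, comp_zero]
  have hPt : PP (P₁ ⊞ P₂) := H.sum _ _ hP₁ hP₂
  let t : State CC PP K (k + 1) :=
    { P := P₁ ⊞ P₂
      Z := kernel d
      ι := kernel.ι d
      f := tf
      hP := hPt
      hZ := H.ker d (H.le _ hPt) (H.le _ s.hP)
      hcyc := by
        intro m
        by_cases hm : (ComplexShape.down ℕ).Rel (k + 1) m
        · have hm' : m + 1 = k + 1 := hm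
          obtain rfl : m = k := by omega
          rw [← hcomm, kernel.condition_assoc, zero_comp]
        · rw [K.shape _ _ hm, comp_zero, comp_zero]
      hE := by
        intro A y hy
        obtain ⟨A', π, hπ, a, y₁, h⟩ := hE_of_epi K w₂ hw₂ y hy
        refine ⟨A', π, hπ, kernel.lift d (a ≫ biprod.inr) ?_, y₁, ?_⟩
        · show (a ≫ biprod.inr) ≫ biprod.desc (w₁ ≫ pr₂ ≫ kernel.ι θ ≫ s.ι) 0 = 0
          rw [Category.assoc, biprod.inr_desc, comp_zero]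
        · rw [kernel.lift_ι_assoc, h]
          congr 1
          show _ = (a ≫ biprod.inr) ≫ biprod.desc (w₁ ≫ pr₁) (w₂ ≫ K.iCycles (k + 1))
          rw [Category.assoc, biprod.inr_desc] }
  refine ⟨t, d, ⟨biprod.desc (w₁ ≫ pr₂ ≫ kernel.ι θ) 0, ?_⟩, kernel.condition d, ?_, hcomm, ?_⟩
  · apply biprod.hom_ext'
    · show biprod.inl ≫ biprod.desc (w₁ ≫ pr₂ ≫ kernel.ι θ ≫ s.ι) 0 =
        biprod.inl ≫ biprod.desc (w₁ ≫ pr₂ ≫ kernel.ι θ) 0 ≫ s.ι
      rw [biprod.inl_desc, biprod.inl_desc_assoc]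
      simp only [Category.assoc]
    · show biprod.inr ≫ biprod.desc (w₁ ≫ pr₂ ≫ kernel.ι θ ≫ s.ι) 0 =
        biprod.inr ≫ biprod.desc (w₁ ≫ pr₂ ≫ kernel.ι θ) 0 ≫ s.ι
      rw [biprod.inr_desc, biprod.inr_desc_assoc, zero_comp]
  · intro A x hx
    exact ⟨kernel.lift d x hx, kernel.lift_ι _ _ _⟩
  · intro A z y₁ hz
    have hzθ : z ≫ θ = 0 := by
      have h1 : z ≫ cyc = y₁ ≫ K.toCycles (k + 1) k := by
        rw [← cancel_mono (K.iCycles k), Category.assoc, hcyc_i, Category.assoc,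
          HomologicalComplex.toCycles_i]
        exact hz
      show z ≫ cyc ≫ K.homologyπ k = 0
      rw [← Category.assoc, h1, Category.assoc, HomologicalComplex.toCycles_comp_homologyπ,
        comp_zero]
    obtain ⟨A', π, hπ, x, hx⟩ :=
      surjective_up_to_refinements_of_epi (w₁ ≫ pr₂) (kernel.lift θ z hzθ)
    refine ⟨A', π, hπ, x ≫ biprod.inl, ?_⟩
    show π ≫ z ≫ s.ι = (x ≫ biprod.inl) ≫ biprod.desc (w₁ ≫ pr₂ ≫ kernel.ι θ ≫ s.ι) 0
    rw [Category.assoc, biprod.inl_desc]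
    have h2 := congrArg (fun t => t ≫ kernel.ι θ ≫ s.ι) hx
    simp only [Category.assoc, kernel.lift_ι_assoc] at h2
    exact h2


end Groth.Agent.Helper6.ResA

namespace Groth.Agent.Helper6.ResA

variable {𝒜 : Type u} [Category.{v} 𝒜] [Abelian 𝒜] {CC PP : 𝒜 → Prop}
  (K : ChainComplex 𝒜 ℕ) (H : Hyp CC PP) (hK : ∀ k, CC (K.homology k))

/-- the sequence of states -/
noncomputable def seq : ∀ k, State CC PP K k :=
  fun k => Nat.rec (exists_init K H hK).choose (fun k s => (exists_step K H hK s).choose) k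

theorem isIso_seq_zero : IsIso (seq K H hK 0).ι := (exists_init K H hK).choose_spec

/-- the differentials -/
noncomputable def dd (k : ℕ) : (seq K H hK (k + 1)).P ⟶ (seq K H hK k).P :=
  (exists_step K H hK (seq K H hK k)).choose_spec.choose

theorem dd_fac (k : ℕ) : ∃ d' : (seq K H hK (k + 1)).P ⟶ (seq K H hK k).Z,
    dd K H hK k = d' ≫ (seq K H hK k).ι :=
  (exists_step K H hK (seq K H hK k)).choose_spec.choose_spec.1

theorem ι_dd (k : ℕ) : (seq K H hK (k + 1)).ι ≫ dd K H hK k = 0 :=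
  (exists_step K H hK (seq K H hK k)).choose_spec.choose_spec.2.1

theorem lift_dd (k : ℕ) ⦃A : 𝒜⦄ (x : A ⟶ (seq K H hK (k + 1)).P) (hx : x ≫ dd K H hK k = 0) :
    ∃ z : A ⟶ (seq K H hK (k + 1)).Z, z ≫ (seq K H hK (k + 1)).ι = x :=
  (exists_step K H hK (seq K H hK k)).choose_spec.choose_spec.2.2.1 x hx

theorem dd_f (k : ℕ) :
    dd K H hK k ≫ (seq K H hK k).f = (seq K H hK (k + 1)).f ≫ K.d (k + 1) k :=
  (exists_step K H hK (seq K H hK k)).choose_spec.choose_spec.2.2.2.1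

theorem hM (k : ℕ) ⦃A : 𝒜⦄ (z : A ⟶ (seq K H hK k).Z) (y₁ : A ⟶ K.X (k + 1))
    (hz : z ≫ (seq K H hK k).ι ≫ (seq K H hK k).f = y₁ ≫ K.d (k + 1) k) :
    ∃ (A' : 𝒜) (π : A' ⟶ A) (_ : Epi π) (x₁ : A' ⟶ (seq K H hK (k + 1)).P),
      π ≫ z ≫ (seq K H hK k).ι = x₁ ≫ dd K H hK k :=
  (exists_step K H hK (seq K H hK k)).choose_spec.choose_spec.2.2.2.2 z y₁ hz

theorem dd_sq (k : ℕ) : dd K H hK (k + 1) ≫ dd K H hK k = 0 := by
  obtain ⟨d', hd'⟩ := dd_fac K H hK (k + 1)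
  rw [hd', Category.assoc, ι_dd, comp_zero]

/-- the resolving complex -/
noncomputable abbrev Pc : ChainComplex 𝒜 ℕ :=
  ChainComplex.of (fun k => (seq K H hK k).P) (dd K H hK) (dd_sq K H hK)

theorem Pc_d (k : ℕ) : (Pc K H hK).d (k + 1) k = dd K H hK k := by
  exact ChainComplex.of_d (fun k => (seq K H hK k).P) (dd K H hK) k

/-- the resolving morphism -/
noncomputable def φ : Pc K H hK ⟶ K where
  f k := (seq K H hK k).f
  comm' i j hij := by
    have h : j + 1 = i := hij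
    subst h
    rw [Pc_d]
    exact (dd_f K H hK j).symm

theorem hPP (k : ℕ) : PP ((Pc K H hK).X k) := (seq K H hK k).hP

theorem ι_d (k j : ℕ) : (seq K H hK k).ι ≫ (Pc K H hK).d k j = 0 := by
  cases k with
  | zero => rw [d_zero_eq, comp_zero]
  | succ k =>
    by_cases hm : (ComplexShape.down ℕ).Rel (k + 1) j
    · have hm' : j + 1 = k + 1 := hm
      obtain rfl : j = k := by omega
      rw [Pc_d]
      exact ι_dd K H hK j
    · rw [(Pc K H hK).shape _ _ hm, comp_zero]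

theorem lift_d (k : ℕ) ⦃A : 𝒜⦄ (x : A ⟶ (Pc K H hK).X k)
    (hx : x ≫ (Pc K H hK).d k (nx k) = 0) :
    ∃ z : A ⟶ (seq K H hK k).Z, z ≫ (seq K H hK k).ι = x := by
  cases k with
  | zero =>
    haveI := isIso_seq_zero K H hK
    exact ⟨x ≫ inv (seq K H hK 0).ι, by rw [Category.assoc, IsIso.inv_hom_id]; exact Category.comp_id x⟩
  | succ k =>
    rw [comp_d_nx_succ, Pc_d] at hx
    exact lift_dd K H hK k x hx

theorem quasiIso_φ : QuasiIso (φ K H hK) := by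
  rw [quasiIso_iff]
  intro k
  rw [quasiIsoAt_iff_isIso_homologyMap]
  have hprev : (ComplexShape.down ℕ).prev k = k + 1 := ChainComplex.prev ℕ k
  have hmono : Mono (HomologicalComplex.homologyMap (φ K H hK) k) := by
    rw [HomologicalComplex.mono_homologyMap_iff_up_to_refinements (φ K H hK) (k + 1) k (nx k)
      hprev rfl]
    intro A x₂ hx₂ y₁ hy₁
    obtain ⟨z, hz⟩ := lift_d K H hK k x₂ hx₂
    have h1 : z ≫ (seq K H hK k).ι ≫ (seq K H hK k).f = y₁ ≫ K.d (k + 1) k := by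
      rw [← Category.assoc, hz]
      exact hy₁
    obtain ⟨A', π, hπ, x₁, hx₁⟩ := hM K H hK k z y₁ h1
    refine ⟨A', π, hπ, x₁, ?_⟩
    rw [Pc_d, ← hx₁, hz]
  have hepi : Epi (HomologicalComplex.homologyMap (φ K H hK) k) := by
    rw [HomologicalComplex.epi_homologyMap_iff_up_to_refinements (φ K H hK) (k + 1) k (nx k)
      hprev rfl]
    intro A y₂ hy₂
    obtain ⟨A', π, hπ, z, y₁, h⟩ := (seq K H hK k).hE y₂ hy₂
    refine ⟨A', π, hπ, z ≫ (seq K H hK k).ι, ?_, y₁, ?_⟩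
    · rw [Category.assoc]
      have := ι_d K H hK k (nx k)
      rw [this, comp_zero]
    · rw [h, Category.assoc]
      rfl
  exact isIso_of_mono_of_epi _

include H hK in
/-- **abstract resolution lemma** (chain complexes indexed by `ℕ`) -/
theorem exists_resolution : ∃ (P : ChainComplex 𝒜 ℕ) (φ : P ⟶ K), QuasiIso φ ∧ ∀ k, PP (P.X k) :=
  ⟨Pc K H hK, φ K H hK, quasiIso_φ K H hK, hPP K H hK⟩

end Groth.Agent.Helper6.ResA
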