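import Mathlib
import Groth.Agent.Helper6.ResA

set_option autoImplicit false
set_option linter.style.haveILetI false
set_option linter.unusedSectionVars false
set_option linter.unusedVariables false
set_option linter.unusedSimpArgs false

/-!
# The abstract resolution lemma for bounded above cochain complexes
-/

universe v u

open CategoryTheory CategoryTheory.Limits

namespace Groth.Agent.Helper6.ResB

open Groth.Agent.Helper6.ResA

variable {𝒜 : Type u} [Category.{v} 𝒜] [Abelian 𝒜]

/-- a strictly bounded above cochain complex is the extension of its restriction -/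
theorem exists_iso_extend (K : CochainComplex 𝒜 ℤ) (n : ℤ) [K.IsStrictlyLE n] :
    ∃ ψ : K ⟶ (K.restriction (ComplexShape.embeddingUpIntLE n)).extend
      (ComplexShape.embeddingUpIntLE n), IsIso ψ := by
  let e := ComplexShape.embeddingUpIntLE n
  have hlift : e.HasLift (𝟙 (K.restriction e)) := by
    intro j hj
    exfalso
    have h1 := hj.2 (j + 1)
    apply h1
    show (n - ((j + 1 : ℕ) : ℤ)) + 1 = n - (j : ℤ)
    push_cast
    ring
  refine ⟨e.liftExtend (𝟙 _) hlift, ?_⟩
  haveI : ∀ i, IsIso ((e.liftExtend (𝟙 (K.restriction e)) hlift).f i) := by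
    intro i
    by_cases hi : ∃ k, e.f k = i
    · obtain ⟨k, hk⟩ := hi
      rw [e.isIso_liftExtend_f_iff (𝟙 (K.restriction e)) hlift hk]
      show IsIso (𝟙 _)
      infer_instance
    · have hi' : ∀ k, e.f k ≠ i := fun k hk => hi ⟨k, hk⟩
      have h1 : IsZero (K.X i) := K.isZero_X_of_isStrictlySupported e i hi'
      have h2 : IsZero (((K.restriction e).extend e).X i) :=
        (K.restriction e).isZero_extend_X e i hi'
      exact ⟨⟨0, h1.eq_of_src _ _, h2.eq_of_src _ _⟩⟩
  exact HomologicalComplex.Hom.isIso_of_components _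

/-- **abstract resolution lemma** for strictly bounded above cochain complexes -/
theorem exists_resolution_cochain {CC PP : 𝒜 → Prop} (H : Hyp CC PP)
    (hCiso : ∀ {A B : 𝒜}, (A ≅ B) → CC A → CC B) (hPiso : ∀ {A B : 𝒜}, (A ≅ B) → PP A → PP B)
    (hP0 : ∀ Z : 𝒜, IsZero Z → PP Z)
    (K : CochainComplex 𝒜 ℤ) (n : ℤ) [K.IsStrictlyLE n] (hK : ∀ i, CC (K.homology i)) :
    ∃ (C : CochainComplex 𝒜 ℤ) (φ : C ⟶ K), QuasiIso φ ∧ (∀ i, n < i → IsZero (C.X i)) ∧
      ∀ i, PP (C.X i) := by
  let e := ComplexShape.embeddingUpIntLE n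
  obtain ⟨ψ, hψ⟩ := exists_iso_extend K n
  let Kc : ChainComplex 𝒜 ℕ := K.restriction e
  have hKc : ∀ k, CC (Kc.homology k) := by
    intro k
    let i1 : K.homology (e.f k) ≅ (Kc.extend e).homology (e.f k) :=
      (HomologicalComplex.homologyFunctor 𝒜 _ (e.f k)).mapIso (asIso ψ)
    let i2 : (Kc.extend e).homology (e.f k) ≅ Kc.homology k := Kc.extendHomologyIso e rfl
    exact hCiso (i1 ≪≫ i2) (hK _)
  obtain ⟨Pc, φc, hφc, hPc⟩ := exists_resolution Kc H hKc
  refine ⟨Pc.extend e, HomologicalComplex.extendMap φc e ≫ inv ψ, ?_, ?_, ?_⟩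
  · infer_instance
  · intro i hi
    exact Pc.isZero_extend_X e i ((ComplexShape.notMem_range_embeddingUpIntLE_iff n i).2 hi)
  · intro i
    by_cases hi : ∃ k, e.f k = i
    · obtain ⟨k, hk⟩ := hi
      exact hPiso (Pc.extendXIso e hk).symm (hPc k)
    · exact hP0 _ (Pc.isZero_extend_X e i (fun k hk => hi ⟨k, hk⟩))

end Groth.Agent.Helper6.ResB
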