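import Mathlib
import Groth.Agent.Helper6.ResB
import Groth.Agent.Helper6.ModFG

set_option autoImplicit false
set_option linter.style.haveILetI false
set_option linter.unusedSectionVars false
set_option linter.unusedVariables false
set_option linter.unusedSimpArgs false

/-!
# Finite sums of free sheaves `Λ_V` on affine étale objects, and resolutions by them
-/

universe w v u'  u

open CategoryTheory CategoryTheory.Limits AlgebraicGeometry Opposite

namespace Groth.Agent.Helper6.ResC

section Abstract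

variable {C : Type u'} [Category.{v} C] [Preadditive C] [HasFiniteBiproducts C]
  [HasBinaryBiproducts C]

/-- a binary sum of finite sums is the finite sum over the disjoint union -/
noncomputable def sumIso {J K : Type w} [Finite J] [Finite K] (f : J → C) (g : K → C) :
    (⨁ f) ⊞ (⨁ g) ≅ ⨁ (Sum.elim f g) where
  hom := biprod.desc (biproduct.desc fun j => biproduct.ι (Sum.elim f g) (Sum.inl j))
    (biproduct.desc fun k => biproduct.ι (Sum.elim f g) (Sum.inr k))
  inv := biproduct.desc (fun s => Sum.rec (motive := fun s => Sum.elim f g s ⟶ (⨁ f) ⊞ (⨁ g))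
    (fun j => biproduct.ι f j ≫ biprod.inl) (fun k => biproduct.ι g k ≫ biprod.inr) s)
  hom_inv_id := by
    apply biprod.hom_ext'
    · apply biproduct.hom_ext'
      intro j
      rw [biprod.inl_desc_assoc, biproduct.ι_desc_assoc, Category.comp_id]
      exact biproduct.ι_desc _ (Sum.inl j)
    · apply biproduct.hom_ext'
      intro j
      rw [biprod.inr_desc_assoc, biproduct.ι_desc_assoc, Category.comp_id]
      exact biproduct.ι_desc _ (Sum.inr j)
  inv_hom_id := by
    apply biproduct.hom_ext'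
    intro s
    rw [biproduct.ι_desc_assoc, Category.comp_id]
    cases s with
    | inl j =>
      show (biproduct.ι f j ≫ biprod.inl) ≫ _ = _
      rw [Category.assoc, biprod.inl_desc, biproduct.ι_desc]
    | inr j =>
      show (biproduct.ι g j ≫ biprod.inr) ≫ _ = _
      rw [Category.assoc, biprod.inr_desc, biproduct.ι_desc]

theorem isZero_biproduct_of_isEmpty {J : Type w} [IsEmpty J] (f : J → C) [HasBiproduct f] :
    IsZero (⨁ f) := by
  rw [IsZero.iff_id_eq_zero]
  apply biproduct.hom_ext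
  intro j
  exact isEmptyElim j

end Abstract

open Groth.Agent.Helper6.ModFA Groth.Agent.Helper6.ModFG

variable (Λ : Type (u + 1)) [CommRing Λ] {X : Scheme.{u}}

attribute [local instance] Abelian.hasFiniteBiproducts

/-- `P` is a finite sum of free sheaves `Λ_V` with `V` affine étale over `X` -/
def IsFinFree (P : EtModW.Mod Λ X) : Prop :=
  ∃ (n : ℕ) (V : Fin n → X.Etale), (∀ k, IsAffine (V k).left) ∧
    Nonempty (P ≅ ⨁ fun k => freeΛ Λ (V k))

variable {Λ}

theorem isFinFree_of_iso {P Q : EtModW.Mod Λ X} (e : P ≅ Q) (hP : IsFinFree Λ P) :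
    IsFinFree Λ Q := by
  obtain ⟨n, V, hV, ⟨i⟩⟩ := hP
  exact ⟨n, V, hV, ⟨e.symm ≪≫ i⟩⟩

theorem isFinFree_of_isZero {Z : EtModW.Mod Λ X} (hZ : IsZero Z) : IsFinFree Λ Z :=
  ⟨0, Fin.elim0, fun k => k.elim0, ⟨hZ.iso (isZero_biproduct_of_isEmpty _)⟩⟩

theorem isFinFree_sum {P Q : EtModW.Mod Λ X} (hP : IsFinFree Λ P) (hQ : IsFinFree Λ Q) :
    IsFinFree Λ (P ⊞ Q) := by
  obtain ⟨n, V, hV, ⟨i⟩⟩ := hP
  obtain ⟨m, W, hW, ⟨j⟩⟩ := hQ
  let e : Fin n ⊕ Fin m ≃ Fin (n + m) := finSumFinEquiv
  let VW : Fin (n + m) → X.Etale := fun k => Sum.elim V W (e.symm k)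
  refine ⟨n + m, VW, ?_, ⟨?_⟩⟩
  · intro k
    show IsAffine (Sum.elim V W (e.symm k)).left
    cases h : e.symm k with
    | inl a => exact hV a
    | inr b => exact hW b
  · refine biprod.mapIso i j ≪≫ sumIso (fun k => freeΛ Λ (V k)) (fun k => freeΛ Λ (W k)) ≪≫ ?_
    refine biproduct.whiskerEquiv (f := Sum.elim (fun k => freeΛ Λ (V k)) (fun k => freeΛ Λ (W k)))
      (g := fun k => freeΛ Λ (VW k)) e (fun s => eqToIso ?_)
    show freeΛ Λ (Sum.elim V W (e.symm (e s))) = _
    rw [Equiv.symm_apply_apply]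
    cases s <;> rfl


variable (Λ)

/-- the free sheaf `Λ_V` on an affine étale object of a quasi-separated scheme is constructible -/
theorem isConstructible_freeΛ [CompactSpace X] [QuasiSeparatedSpace X] (V : X.Etale) (hV : IsAffine V.left) :
    EtModW.IsConstructible Λ (freeΛ Λ V) := by
  haveI : IsAffine V.left := hV
  have hc : CompactSpace ↥V.left := inferInstance
  have hqs' : QuasiSeparatedSpace ↥V.left := inferInstance
  have hX : QuasiSeparatedSpace ↥X := inferInstance
  have hqc : QuasiCompact (V.hom : V.left ⟶ X) :=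
    @quasiCompact_of_compactSpace V.left X V.hom hc hX
  have hqs : QuasiSeparated (V.hom : V.left ⟶ X) :=
    @QuasiSeparated.of_quasiSeparatedSpace V.left X V.hom hqs'
  exact Groth.Agent.Helper6.ModFD.isConstructible_of_isFreeOn Λ V hqc hqs (Lam Λ) _
    (isFreeOn_freeΛ Λ V)

theorem isConstructible_freeΛ_top [CompactSpace X] [QuasiSeparatedSpace X] : EtModW.IsConstructible Λ (freeΛ Λ (EtCoh.top X)) := by
  have hqc : QuasiCompact ((EtCoh.top X).hom : (EtCoh.top X).left ⟶ X) :=
    (inferInstance : QuasiCompact (𝟙 X))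
  have hqs : QuasiSeparated ((EtCoh.top X).hom : (EtCoh.top X).left ⟶ X) :=
    (inferInstance : QuasiSeparated (𝟙 X))
  exact Groth.Agent.Helper6.ModFD.isConstructible_of_isFreeOn Λ _ hqc hqs (Lam Λ) _
    (isFreeOn_freeΛ Λ _)

theorem isConstructible_of_isFinFree [IsNoetherianRing Λ] [CompactSpace X] [QuasiSeparatedSpace X]
    {P : EtModW.Mod Λ X} (hP : IsFinFree Λ P) : EtModW.IsConstructible Λ P := by
  obtain ⟨n, V, hV, ⟨i⟩⟩ := hP
  refine Groth.Agent.Helper4.ModStrata.isConstructible_of_iso Λ i.symm ?_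
  exact Groth.Agent.Helper6.ModFF.isConstructible_biproduct Λ (isConstructible_freeΛ_top Λ) _ _
    (fun k => isConstructible_freeΛ Λ (V k) (hV k))

theorem flat_stalk_of_isFinFree {P : EtModW.Mod Λ X} (hP : IsFinFree Λ P)
    {Ω : Type u} [Field Ω] [IsSepClosed Ω] (ξ : Spec (CommRingCat.of Ω) ⟶ X) :
    Module.Flat Λ ((EtModW.stalk Λ ξ).obj P) := by
  obtain ⟨n, V, hV, ⟨i⟩⟩ := hP
  haveI := flat_stalk_biproduct Λ V ξ
  exact Module.Flat.of_linearEquiv (((EtModW.stalk Λ ξ).mapIso i).toLinearEquiv)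

/-- the hypotheses of the abstract resolution lemma, given the domination property -/
theorem hyp [IsNoetherianRing Λ] [CompactSpace X] [QuasiSeparatedSpace X]
    (hstar : ∀ {A B : EtModW.Mod Λ X} (v : A ⟶ B), Epi v → EtModW.IsConstructible Λ B →
      ∃ (P : EtModW.Mod Λ X) (w : P ⟶ A), IsFinFree Λ P ∧ Epi (w ≫ v)) :
    Groth.Agent.Helper6.ResA.Hyp (EtModW.IsConstructible Λ (X := X)) (IsFinFree Λ) where
  ker f hA hB := Groth.Agent.Helper6.ModFF.isConstructible_kernel Λ f hA hB
  le _ hP := isConstructible_of_isFinFree Λ hP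
  sum _ _ hP hQ := isFinFree_sum hP hQ
  star v hv hB := hstar v hv hB

/-- resolutions of strictly bounded above complexes with constructible cohomology -/
theorem exists_resolution [IsNoetherianRing Λ] [CompactSpace X] [QuasiSeparatedSpace X]
    (hstar : ∀ {A B : EtModW.Mod Λ X} (v : A ⟶ B), Epi v → EtModW.IsConstructible Λ B →
      ∃ (P : EtModW.Mod Λ X) (w : P ⟶ A), IsFinFree Λ P ∧ Epi (w ≫ v))
    (K : CochainComplex (EtModW.Mod Λ X) ℤ) (n : ℤ) [K.IsStrictlyLE n]
    (hK : ∀ i, EtModW.IsConstructible Λ (K.homology i)) :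
    ∃ (C : CochainComplex (EtModW.Mod Λ X) ℤ) (φ : C ⟶ K), QuasiIso φ ∧
      (∀ i, n < i → IsZero (C.X i)) ∧ ∀ i, IsFinFree Λ (C.X i) :=
  Groth.Agent.Helper6.ResB.exists_resolution_cochain (hyp Λ hstar)
    (fun e h => Groth.Agent.Helper4.ModStrata.isConstructible_of_iso Λ e h)
    (fun e h => isFinFree_of_iso e h) (fun _ hZ => isFinFree_of_isZero hZ) K n hK

/-- resolutions of complexes with constructible cohomology vanishing in large degrees -/
theorem exists_resolution_of_vanishing [IsNoetherianRing Λ] [CompactSpace X] [QuasiSeparatedSpace X]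
    (hstar : ∀ {A B : EtModW.Mod Λ X} (v : A ⟶ B), Epi v → EtModW.IsConstructible Λ B →
      ∃ (P : EtModW.Mod Λ X) (w : P ⟶ A), IsFinFree Λ P ∧ Epi (w ≫ v))
    (K : CochainComplex (EtModW.Mod Λ X) ℤ) (n : ℤ)
    (hK : ∀ i, EtModW.IsConstructible Λ (K.homology i))
    (hb : ∀ i, n < i → IsZero (K.homology i)) :
    ∃ (C : CochainComplex (EtModW.Mod Λ X) ℤ) (φ : C ⟶ K), QuasiIso φ ∧
      (∀ i, n < i → IsZero (C.X i)) ∧ ∀ i, IsFinFree Λ (C.X i) := by
  haveI : K.IsLE n := by
    rw [CochainComplex.isLE_iff]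
    intro i hi
    rw [HomologicalComplex.exactAt_iff_isZero_homology]
    exact hb i hi
  have hK' : ∀ i, EtModW.IsConstructible Λ ((K.truncLE n).homology i) := by
    intro i
    have hq : QuasiIso (K.ιTruncLE n) := inferInstance
    haveI : QuasiIsoAt (K.ιTruncLE n) i := hq.quasiIsoAt i
    exact Groth.Agent.Helper4.ModStrata.isConstructible_of_iso Λ
      (asIso (HomologicalComplex.homologyMap (K.ιTruncLE n) i)).symm (hK i)
  obtain ⟨C, φ, hφ, hC0, hC⟩ := exists_resolution Λ hstar (K.truncLE n) n hK'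
  exact ⟨C, φ ≫ K.ιTruncLE n, inferInstance, hC0, hC⟩

/-- the domination property on Noetherian schemes -/
theorem star_noeth [IsNoetherianRing Λ] [IsNoetherian X]
    {A B : EtModW.Mod Λ X} (v : A ⟶ B) (hv : Epi v) (hB : EtModW.IsConstructible Λ B) :
    ∃ (P : EtModW.Mod Λ X) (w : P ⟶ A), IsFinFree Λ P ∧ Epi (w ≫ v) := by
  obtain ⟨n, i, hS⟩ := exists_fin_epi Λ v hB
  exact ⟨_, biproduct.desc (fun k => gen Λ (i k)), ⟨n, fun k => (i k).V, fun k => (i k).aff,
    ⟨Iso.refl _⟩⟩, hS⟩

end Groth.Agent.Helper6.ResC
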