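import Mathlib
import Groth.Agent.Helper6.ModSuppA
import Groth.Agent.Helper6.ResC
import Groth.Agent.Helper9.EtSectSupp
import Groth.Agent.Lead.ProConsLib
import Groth.Agent.Lead.ProConsLib2
import Groth.Agent.Lead.ProConsLib7

set_option autoImplicit false
set_option linter.style.haveILetI false
set_option linter.unusedSectionVars false
set_option linter.unusedVariables false
set_option linter.unusedSimpArgs false

/-!
# Finite generation of constructible sheaves of modules on quasi-compact quasi-separated schemes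
-/

universe u

open CategoryTheory CategoryTheory.Limits AlgebraicGeometry Opposite Topology

namespace Groth.Agent.Helper6.ModSuppB

open Groth.Agent.Helper4.ModStalk Groth.Agent.Helper6.ModSuppA
open Groth.Agent.Helper9.EtStalkExact
open Groth.Agent.Helper6.ModFA Groth.Agent.Helper6.ModFG

variable {Λ : Type (u + 1)} [CommRing Λ] {X : Scheme.{u}}

attribute [local instance] ab5_mod hasLimits_mod
attribute [local instance] Groth.Agent.Helper4.GenStalkMod.preservesFilteredColimits_forget_mod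
attribute [local instance] Abelian.hasFiniteBiproducts

section Indep

variable {Ω Ω' : Type u} [Field Ω] [IsSepClosed Ω] [Field Ω'] [IsSepClosed Ω']

set_option backward.isDefEq.respectTransparency.types false in
/-- vanishing of a stalk only depends on the underlying point -/
theorem isZero_stalk_of_isZero_stalk (F : EtModW.Mod Λ X) (ξ : Spec (CommRingCat.of Ω) ⟶ X)
    (ξ' : Spec (CommRingCat.of Ω') ⟶ X) (h : ξ default = ξ' default)
    (hz : IsZero ((EtModW.stalk Λ ξ).obj F)) : IsZero ((EtModW.stalk Λ ξ').obj F) := by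
  have hsub : Subsingleton ↑((EtModW.stalk Λ ξ).obj F) := ModuleCat.subsingleton_of_isZero hz
  suffices hs : ∀ t : ↑((EtModW.stalk Λ ξ').obj F), t = 0 by
    haveI : Subsingleton ↑((EtModW.stalk Λ ξ').obj F) := ⟨fun a b => by rw [hs a, hs b]⟩
    exact ModuleCat.isZero_of_subsingleton _
  intro t
  obtain ⟨U, l', σ, rfl⟩ := (Scheme.pointSmallEtale ξ').toPresheafFiber_jointly_surjective
    (P := F.obj) t
  let lU' : Spec (CommRingCat.of Ω') ⟶ U.left := l'.left
  have hlU' : lU' ≫ U.hom = ξ' := Over.w l'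
  let y : U.left := lU' default
  have hy : U.hom y = ξ default := by
    rw [h, ← hlU']
    rfl
  haveI : Etale (Groth.Agent.Helper4.OverEtC.homS U) := U.prop
  obtain ⟨l₀, hl₀, hl₀y⟩ := Scheme.exists_fac_of_etale_of_isSepClosed
    (Groth.Agent.Helper4.OverEtC.homS U) ξ y hy
  let l : (Scheme.pointSmallEtale ξ).fiber.obj U := Over.homMk l₀ hl₀
  have h0 : (Scheme.pointSmallEtale ξ).toPresheafFiber U l F.obj σ =
      (Scheme.pointSmallEtale ξ).toPresheafFiber U l F.obj 0 :=
    @Subsingleton.elim _ hsub _ _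
  obtain ⟨W, g, l₁, hl₁, hg⟩ :=
    ((Scheme.pointSmallEtale ξ).toPresheafFiber_eq_iff' U l σ 0).1 h0
  let lW : Spec (CommRingCat.of Ω) ⟶ W.left := l₁.left
  have h1 : lW ≫ g.left = l₀ := by
    have := congrArg (fun m => m.left) hl₁
    exact this
  have hw : g.left (lW default) = (show Spec (CommRingCat.of Ω') ⟶ U.left from l'.left) default := by
    rw [← Scheme.Hom.comp_apply, h1]
    exact hl₀y
  obtain ⟨l'', hl'', -⟩ := Groth.Agent.Helper9.EtSectSupp.exists_lift_fiber ξ' g l' (lW default) hw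
  have e := (Scheme.pointSmallEtale ξ').toPresheafFiber_w_apply g l'' F.obj σ
  rw [hl''] at e
  rw [← e, hg, map_zero]
  exact map_zero ((Scheme.pointSmallEtale ξ').toPresheafFiber W l'' F.obj).hom

/-- membership in the support can be tested at any geometric point -/
theorem not_mem_suppM_of_isZero_stalk (F : EtModW.Mod Λ X) (ξ : Spec (CommRingCat.of Ω) ⟶ X)
    (hz : IsZero ((EtModW.stalk Λ ξ).obj F)) : ξ default ∉ suppM Λ F := by
  rintro ⟨Ω', _, _, ξ', hξ', hnz⟩
  exact hnz (isZero_stalk_of_isZero_stalk F ξ ξ' hξ'.symm hz)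

end Indep

/-- the stalk of `Q` at the canonical geometric point over `x` vanishes iff `x ∉ supp Q` -/
theorem not_mem_suppM_iff (Q : EtModW.Mod Λ X) (x : X) :
    x ∉ suppM Λ Q ↔ IsZero ((EtModW.stalk Λ (geomPt x)).obj Q) := by
  constructor
  · intro h
    apply isZero_stalk_of_not_mem
    rwa [geomPt_default]
  · intro h
    have := not_mem_suppM_of_isZero_stalk Q (geomPt x) h
    rwa [geomPt_default] at this

section Stalk

variable {Ω : Type u} [Field Ω] [IsSepClosed Ω]

/-- the stalk functor is a left adjoint, hence right exact -/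
theorem stalk_preservesFiniteColimits (ξ : Spec (CommRingCat.of Ω) ⟶ X) :
    PreservesFiniteColimits (EtModW.stalk Λ ξ) := by
  let adj : EtModW.stalk Λ ξ ⊣ (Scheme.pointSmallEtale ξ).skyscraperSheafFunctor :=
    (Scheme.pointSmallEtale ξ).skyscraperSheafAdjunction (A := ModuleCat.{u + 1} Λ)
  haveI : PreservesColimitsOfSize.{0, 0} (EtModW.stalk Λ ξ) := adj.leftAdjoint_preservesColimits
  exact PreservesColimitsOfSize.preservesFiniteColimits _

theorem isZero_stalk_cokernel_iff (ξ : Spec (CommRingCat.of Ω) ⟶ X) {F G : EtModW.Mod Λ X}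
    (φ : F ⟶ G) :
    IsZero ((EtModW.stalk Λ ξ).obj (cokernel φ)) ↔
      Function.Surjective ((EtModW.stalk Λ ξ).map φ) := by
  haveI := stalk_preservesFiniteColimits (Λ := Λ) ξ
  rw [← ModuleCat.epi_iff_surjective, Preadditive.epi_iff_isZero_cokernel]
  exact (PreservesCokernel.iso (EtModW.stalk Λ ξ) φ).isZero_iff

theorem stalk_map_surjective_of_epi (ξ : Spec (CommRingCat.of Ω) ⟶ X) {F G : EtModW.Mod Λ X}
    (φ : F ⟶ G) [Epi φ] : Function.Surjective ((EtModW.stalk Λ ξ).map φ) := by
  haveI := stalk_preservesFiniteColimits (Λ := Λ) ξ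
  rw [← ModuleCat.epi_iff_surjective]
  infer_instance

set_option backward.isDefEq.respectTransparency.types false in
/-- every element of a stalk is the image of the universal section of a free sheaf on an affine
étale object -/
theorem exists_gen_of_stalk (A : EtModW.Mod Λ X) (ξ : Spec (CommRingCat.of Ω) ⟶ X)
    (α : ↑((EtModW.stalk Λ ξ).obj A)) :
    ∃ (i : Gen Λ A) (β : ↑((EtModW.stalk Λ ξ).obj (freeΛ Λ i.V))),
      (EtModW.stalk Λ ξ).map (gen Λ i) β = α := by
  obtain ⟨U, l, σ, rfl⟩ := (Scheme.pointSmallEtale ξ).toPresheafFiber_jointly_surjective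
    (P := A.obj) α
  let lU : Spec (CommRingCat.of Ω) ⟶ U.left := l.left
  let y : U.left := lU default
  obtain ⟨_, ⟨(O : U.left.Opens), hO : IsAffineOpen O, rfl⟩, hyO, -⟩ :=
    (U.left.isBasis_affineOpens).exists_subset_of_mem_open (Set.mem_univ y) isOpen_univ
  have hU : Etale U.hom := U.prop
  let W : X.Etale := Scheme.Etale.mk (O.ι ≫ U.hom)
  let p : W ⟶ U := MorphismProperty.Over.homMk O.ι rfl trivial
  have hW : IsAffine W.left := hO
  have hw : p.left (⟨y, hyO⟩ : O) =
      (show Spec (CommRingCat.of Ω) ⟶ U.left from l.left) default := rfl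
  obtain ⟨l', hl', -⟩ := Groth.Agent.Helper9.EtSectSupp.exists_lift_fiber ξ p l ⟨y, hyO⟩ hw
  let i : Gen Λ A := ⟨W, hW, A.obj.map p.op σ⟩
  refine ⟨i, (Scheme.pointSmallEtale ξ).toPresheafFiber W l' (freeΛ Λ W).obj (unit Λ W (1 : Λ)), ?_⟩
  have e := (Scheme.pointSmallEtale ξ).toPresheafFiber_w_apply p l' A.obj σ
  rw [hl'] at e
  rw [← e]
  have n := (Scheme.pointSmallEtale ξ).toPresheafFiber_naturality_apply (gen Λ i).hom W l'
    (unit Λ W (1 : Λ))
  refine n.trans ?_
  exact congrArg _ (gen_apply Λ i)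

end Stalk

section Gen

open Groth.Agent.Lead.ProConsLib Groth.Agent.Helper6.ResC

variable [IsNoetherianRing Λ] [CompactSpace X] [QuasiSeparatedSpace X]

/-- **finite generation** on quasi-compact quasi-separated schemes: an epimorphism onto a
constructible sheaf of modules is already epimorphic on a finite sum of free sheaves on affine étale
objects -/
theorem exists_finset_epi {A B : EtModW.Mod Λ X} (v : A ⟶ B) [Epi v]
    (hB : EtModW.IsConstructible Λ B) :
    ∃ S : Finset (Gen Λ A),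
      Epi ((biproduct.desc (fun i : S => gen Λ i.1) : (⨁ fun i : S => freeΛ Λ i.1.V) ⟶ A) ≫ v) := by
  classical
  let P : Finset (Gen Λ A) → EtModW.Mod Λ X := fun S => ⨁ fun i : S => freeΛ Λ i.1.V
  let p : ∀ S : Finset (Gen Λ A), P S ⟶ A := fun S => biproduct.desc (fun i : S => gen Λ i.1)
  let Q : Finset (Gen Λ A) → EtModW.Mod Λ X := fun S => cokernel (p S ≫ v)
  have hP : ∀ S, EtModW.IsConstructible Λ (P S) := fun S =>
    Groth.Agent.Helper6.ModFF.isConstructible_biproduct Λ (isConstructible_freeΛ_top Λ) _ _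
      (fun i => isConstructible_freeΛ Λ i.1.V i.1.aff)
  have hQ : ∀ S, EtModW.IsConstructible Λ (Q S) := fun S =>
    Groth.Agent.Helper6.ModFF.isConstructible_cokernel Λ (p S ≫ v) (hP S) hB
  let G : Finset (Gen Λ A) → Set X := fun S => (suppM Λ (Q S))ᶜ
  have hG : ∀ S, ProCons.IsIndConstructible (G S) := fun S =>
    ind_of_isLocallyConstructible
      (isLocallyConstructible_compl (isLocallyConstructible_suppM (Q S) (hQ S)))
  have hincl : ∀ S S' : Finset (Gen Λ A), S ⊆ S' → ∃ incl : P S ⟶ P S', incl ≫ p S' = p S := by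
    intro S S' hSS'
    refine ⟨biproduct.desc (fun i : S =>
      biproduct.ι (fun i : S' => freeΛ Λ i.1.V) ⟨i.1, hSS' i.2⟩), ?_⟩
    apply biproduct.hom_ext'
    intro i
    simp only [p, biproduct.ι_desc_assoc, biproduct.ι_desc]
  have hmono : ∀ S S' : Finset (Gen Λ A), S ⊆ S' → G S ⊆ G S' := by
    intro S S' hSS' x hx
    have hx' : IsZero ((EtModW.stalk Λ (geomPt x)).obj (Q S)) := (not_mem_suppM_iff _ x).1 hx
    show x ∉ suppM Λ (Q S')
    rw [not_mem_suppM_iff]
    obtain ⟨incl, hincl'⟩ := hincl S S' hSS'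
    let q : Q S ⟶ Q S' := cokernel.desc (p S ≫ v) (cokernel.π (p S' ≫ v)) (by
      have hc : (p S' ≫ v) ≫ cokernel.π (p S' ≫ v) = 0 := cokernel.condition _
      rw [← hincl', Category.assoc, Category.assoc, ← Category.assoc (p S'), hc, comp_zero])
    have hq : cokernel.π (p S ≫ v) ≫ q = cokernel.π (p S' ≫ v) := cokernel.π_desc _ _ _
    haveI : Epi q := by
      haveI : Epi (cokernel.π (p S ≫ v) ≫ q) := by rw [hq]; infer_instance
      exact epi_of_epi (cokernel.π (p S ≫ v)) q
    haveI := stalk_preservesFiniteColimits (Λ := Λ) (geomPt x)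
    exact IsZero.of_epi ((EtModW.stalk Λ (geomPt x)).map q) hx'
  have hcov : (Set.univ : Set X) ⊆ ⋃ S, G S := by
    intro x _
    let ξ := geomPt x
    haveI : Module.Finite Λ ↑((EtModW.stalk Λ ξ).obj B) :=
      finite_stalk_of_constructible Λ B hB ξ
    obtain ⟨s, hs⟩ := (Module.Finite.fg_top : (⊤ : Submodule Λ ↑((EtModW.stalk Λ ξ).obj B)).FG)
    have hlift : ∀ γ : ↑((EtModW.stalk Λ ξ).obj B), ∃ (i : Gen Λ A)
        (β : ↑((EtModW.stalk Λ ξ).obj (freeΛ Λ i.V))),
        (EtModW.stalk Λ ξ).map (gen Λ i ≫ v) β = γ := by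
      intro γ
      obtain ⟨α, hα⟩ := stalk_map_surjective_of_epi ξ v γ
      obtain ⟨i, β, hβ⟩ := exists_gen_of_stalk A ξ α
      refine ⟨i, β, ?_⟩
      rw [Functor.map_comp, ModuleCat.comp_apply, hβ, hα]
    choose i β h using hlift
    refine Set.mem_iUnion.2 ⟨s.image i, ?_⟩
    show x ∉ suppM Λ (Q (s.image i))
    rw [not_mem_suppM_iff, isZero_stalk_cokernel_iff]
    have hle : (⊤ : Submodule Λ ↑((EtModW.stalk Λ ξ).obj B)) ≤
        LinearMap.range ((EtModW.stalk Λ ξ).map (p (s.image i) ≫ v)).hom := by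
      rw [← hs, Submodule.span_le]
      intro γ hγ
      have hmem : i γ ∈ s.image i := Finset.mem_image_of_mem _ hγ
      refine ⟨(EtModW.stalk Λ ξ).map
        (biproduct.ι (fun j : (s.image i : Finset (Gen Λ A)) => freeΛ Λ j.1.V) ⟨i γ, hmem⟩)
        (β γ), ?_⟩
      show ((EtModW.stalk Λ ξ).map (p (s.image i) ≫ v)) (((EtModW.stalk Λ ξ).map
        (biproduct.ι (fun j : (s.image i : Finset (Gen Λ A)) => freeΛ Λ j.1.V) ⟨i γ, hmem⟩))
        (β γ)) = γ
      rw [← ModuleCat.comp_apply, ← Functor.map_comp]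
      have : biproduct.ι (fun j : (s.image i : Finset (Gen Λ A)) => freeΛ Λ j.1.V) ⟨i γ, hmem⟩ ≫
          p (s.image i) ≫ v = gen Λ (i γ) ≫ v := by
        rw [← Category.assoc]
        congr 1
        exact biproduct.ι_desc _ _
      rw [this]
      exact h γ
    intro γ
    exact hle (Submodule.mem_top : γ ∈ (⊤ : Submodule Λ ↑((EtModW.stalk Λ ξ).obj B)))
  obtain ⟨J, hJ⟩ := exists_finite_subcover pro_univ G hG hcov
  refine ⟨J.sup id, ?_⟩
  apply Preadditive.epi_of_isZero_cokernel
  apply isZero_of_stalksM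
  intro Ω _ _ ξ
  by_contra hnz
  have hx := mem_suppM_of_stalk (Q (J.sup id)) ξ hnz
  obtain ⟨S, hS, hxS⟩ := Set.mem_iUnion₂.1 (hJ (Set.mem_univ (ξ default)))
  exact hmono S (J.sup id) (Finset.le_sup (f := id) hS) hxS hx

/-- finite generation, indexed by `Fin n` -/
theorem exists_fin_epi {A B : EtModW.Mod Λ X} (v : A ⟶ B) [Epi v]
    (hB : EtModW.IsConstructible Λ B) :
    ∃ (n : ℕ) (i : Fin n → Gen Λ A),
      Epi ((biproduct.desc (fun k => gen Λ (i k)) : (⨁ fun k => freeΛ Λ (i k).V) ⟶ A) ≫ v) := by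
  classical
  obtain ⟨S, hS⟩ := exists_finset_epi v hB
  let e : Fin S.card ≃ S := S.equivFin.symm
  refine ⟨S.card, fun k => (e k).1, ?_⟩
  let φ : (⨁ fun k : Fin S.card => freeΛ Λ (e k).1.V) ≅ ⨁ fun i : S => freeΛ Λ i.1.V :=
    biproduct.whiskerEquiv (f := fun k : Fin S.card => freeΛ Λ (e k).1.V)
      (g := fun i : S => freeΛ Λ i.1.V) e (fun k => Iso.refl _)
  have h1 : (biproduct.desc (fun k : Fin S.card => gen Λ (e k).1) :
      (⨁ fun k : Fin S.card => freeΛ Λ (e k).1.V) ⟶ A) =
      φ.hom ≫ biproduct.desc (fun i : S => gen Λ i.1) := by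
    apply biproduct.hom_ext'
    intro k
    simp [φ, biproduct.whiskerEquiv]
  rw [h1, Category.assoc]
  infer_instance

/-- the domination property on quasi-compact quasi-separated schemes -/
theorem star_qcqs {A B : EtModW.Mod Λ X} (v : A ⟶ B) (hv : Epi v)
    (hB : EtModW.IsConstructible Λ B) :
    ∃ (P : EtModW.Mod Λ X) (w : P ⟶ A), IsFinFree Λ P ∧ Epi (w ≫ v) := by
  obtain ⟨n, i, hS⟩ := exists_fin_epi v hB
  exact ⟨_, biproduct.desc (fun k => gen Λ (i k)), ⟨n, fun k => (i k).V, fun k => (i k).aff,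
    ⟨Iso.refl _⟩⟩, hS⟩

end Gen

end Groth.Agent.Helper6.ModSuppB
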