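import Mathlib
import Groth.Agent.Helper6.ModShBC
import Groth.Agent.Helper6.ModSuppB
import Groth.Agent.Helper9.EtJCont

set_option autoImplicit false
set_option linter.style.haveILetI false
set_option linter.unusedSectionVars false
set_option linter.unusedVariables false
set_option linter.unusedSimpArgs false

/-!
# Extension by zero along a quasi-compact quasi-separated étale morphism preserves constructibility
-/

universe u

open CategoryTheory CategoryTheory.Limits AlgebraicGeometry Opposite

namespace Groth.Agent.Helper6.ModShC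

open Groth.Agent.Helper6.ModFA Groth.Agent.Helper6.ModFG Groth.Agent.Helper6.ResC
open Groth.Agent.Helper4.ModStrata Groth.Agent.Helper4.StrataA Groth.Agent.Helper4.StrataE

variable (Λ : Type (u + 1)) [CommRing Λ]

attribute [local instance] Abelian.hasFiniteBiproducts

section Local

variable {X : Scheme.{u}}

/-- a stratification of an open subscheme adapted to the restriction is a stratification of the
open subset -/
theorem strat_of_open (G : EtModW.Mod Λ X) (W : X.Opens)
    (h : Strat Λ ((EtModW.pull Λ W.ι).obj G) Set.univ) : Strat Λ G (W : Set X) := by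
  obtain ⟨κ, hκ, T, g, h1, h2, h3, h4, h5⟩ := h
  haveI := h1
  let val : ↥W.toScheme → X := fun w => W.ι w
  have hval : Function.Injective val := W.ι.isEmbedding.injective
  have hr : ∀ k, Set.range (g k ≫ W.ι) = val '' Set.range (g k) := by
    intro k
    ext x
    constructor
    · rintro ⟨t, rfl⟩
      exact ⟨g k t, ⟨t, rfl⟩, rfl⟩
    · rintro ⟨_, ⟨t, rfl⟩, rfl⟩
      exact ⟨t, rfl⟩
  have hrange : Set.range val = (W : Set X) := Scheme.Opens.range_ι W
  refine ⟨κ, hκ, T, fun k => g k ≫ W.ι, fun k => inferInstance, fun k => ?_, ?_, ?_, fun k => ?_⟩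
  · have h2' : Topology.IsConstructible (Set.range (g k) : Set ↥W.toScheme) :=
      isConstructible_of_cIn_univ (h2 k)
    have hpre : ((Subtype.val : ↥(W : Set X) → X) ⁻¹' Set.range (g k ≫ W.ι)) =
        (Set.range (g k) : Set ↥W.toScheme) := by
      ext x
      constructor
      · rintro ⟨t, ht⟩
        exact ⟨t, Subtype.ext ht⟩
      · rintro ⟨t, rfl⟩
        exact ⟨t, rfl⟩
    unfold CIn
    rw [hpre]
    exact h2'
  · intro a b hab
    show Disjoint (Set.range (g a ≫ W.ι)) (Set.range (g b ≫ W.ι))
    rw [hr, hr]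
    exact (Set.disjoint_image_iff hval).2 (h3 hab)
  · have : (⋃ k, Set.range (g k ≫ W.ι)) = val '' (⋃ k, Set.range (g k)) := by
      rw [Set.image_iUnion]
      exact Set.iUnion_congr hr
    rw [this, h4, Set.image_univ]
    exact hrange
  · exact ftlc_of_iso Λ (pullCompObjM Λ _ _ G) (h5 k)

/-- constructibility is local for the Zariski topology -/
theorem isConstructible_of_affine_local (G : EtModW.Mod Λ X)
    (h : ∀ W : X.Opens, IsAffineOpen W → EtModW.IsConstructible Λ ((EtModW.pull Λ W.ι).obj G)) :
    EtModW.IsConstructible Λ G := by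
  intro W hW
  rw [← strat_iff]
  apply strat_of_open
  haveI : IsAffine W.toScheme := hW
  exact Groth.Agent.Helper6.ModFD.strat_univ_of_isConstructible Λ _ (h W hW)

end Local

section Base

variable [IsNoetherianRing Λ] {U W : Scheme.{u}} [CompactSpace W] [QuasiSeparatedSpace W]

/-- a free sheaf `Λ_V` on an affine étale object is constructible -/
theorem isConstructible_of_isFreeOn_affine (V : W.Etale) (hV : IsAffine V.left)
    (E : EtModW.Mod Λ W) (hE : IsFreeOn Λ E V (Lam Λ)) : EtModW.IsConstructible Λ E := by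
  obtain ⟨i⟩ := nonempty_iso_of_isFreeOn (isFreeOn_freeΛ Λ V) hE
  exact isConstructible_of_iso Λ i (isConstructible_freeΛ Λ V hV)

variable (j : U ⟶ W) [Etale j] [EtShriek.JCont j]

/-- extension by zero of a finite sum of free sheaves on affine étale objects is constructible -/
theorem isConstructible_extZero_of_isFinFree {P : EtModW.Mod Λ U} (hP : IsFinFree Λ P) :
    EtModW.IsConstructible Λ ((EtSix.extZeroMod Λ j).obj P) := by
  obtain ⟨n, V, hV, ⟨i⟩⟩ := hP
  have h1 : ∀ k, EtModW.IsConstructible Λ ((EtSix.extZeroMod Λ j).obj (freeΛ Λ (V k))) := fun k =>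
    isConstructible_of_isFreeOn_affine Λ ((EtShriek.compEtale j).obj (V k)) (hV k) _
      (Groth.Agent.Helper6.ModShBC.isFreeOn_extZero Λ j (isFreeOn_freeΛ Λ (V k)))
  have h2 : EtModW.IsConstructible Λ (⨁ fun k => (EtSix.extZeroMod Λ j).obj (freeΛ Λ (V k))) :=
    Groth.Agent.Helper6.ModFF.isConstructible_biproduct Λ (isConstructible_freeΛ_top Λ) _ _ h1
  exact isConstructible_of_iso Λ
    (((EtSix.extZeroMod Λ j).mapBiproduct (fun k => freeΛ Λ (V k))).symm ≪≫
      (EtSix.extZeroMod Λ j).mapIso i.symm) h2

variable [QuasiCompact j] [QuasiSeparated j]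

/-- extension by zero along a quasi-compact quasi-separated étale morphism to a quasi-compact
quasi-separated scheme preserves constructibility -/
theorem isConstructible_extZero_qcqs (F : EtModW.Mod Λ U) (hF : EtModW.IsConstructible Λ F) :
    EtModW.IsConstructible Λ ((EtSix.extZeroMod Λ j).obj F) := by
  haveI : CompactSpace U := QuasiCompact.compactSpace_of_compactSpace j
  haveI : QuasiSeparatedSpace U := quasiSeparatedSpace_of_quasiSeparated j
  obtain ⟨P, p, hP, hp⟩ := Groth.Agent.Helper6.ModSuppB.star_qcqs (𝟙 F) inferInstance hF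
  have hp' : Epi p := by
    rw [Category.comp_id] at hp
    exact hp
  have hK : EtModW.IsConstructible Λ (kernel p) :=
    Groth.Agent.Helper6.ModFF.isConstructible_kernel Λ p (isConstructible_of_isFinFree Λ hP) hF
  obtain ⟨P', p', hP', hp''⟩ := Groth.Agent.Helper6.ModSuppB.star_qcqs (𝟙 (kernel p))
    inferInstance hK
  have hp''' : Epi p' := by
    rw [Category.comp_id] at hp''
    exact hp''
  let q : P' ⟶ P := p' ≫ kernel.ι p
  let i1 : cokernel q ≅ cokernel (kernel.ι p) := cokernelEpiComp p' (kernel.ι p)
  let i2 : cokernel (kernel.ι p) ≅ F :=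
    IsColimit.coconePointUniqueUpToIso (colimit.isColimit _) (Abelian.epiIsCokernelOfKernel _
      (kernelIsKernel p))
  let i3 : (EtSix.extZeroMod Λ j).obj (cokernel q) ≅ cokernel ((EtSix.extZeroMod Λ j).map q) :=
    PreservesCokernel.iso (EtSix.extZeroMod Λ j) q
  have h3 : EtModW.IsConstructible Λ (cokernel ((EtSix.extZeroMod Λ j).map q)) :=
    Groth.Agent.Helper6.ModFF.isConstructible_cokernel Λ _
      (isConstructible_extZero_of_isFinFree Λ j hP') (isConstructible_extZero_of_isFinFree Λ j hP)
  exact isConstructible_of_iso Λ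
    (i3.symm ≪≫ (EtSix.extZeroMod Λ j).mapIso (i1 ≪≫ i2)) h3

end Base

section General

variable [IsNoetherianRing Λ] {U X : Scheme.{u}} (j : U ⟶ X) [Etale j] [EtShriek.JCont j]
  [QuasiCompact j] [QuasiSeparated j]

/-- extension by zero along a quasi-compact quasi-separated étale morphism preserves
constructibility -/
theorem isConstructible_extZero (F : EtModW.Mod Λ U) (hF : EtModW.IsConstructible Λ F) :
    EtModW.IsConstructible Λ ((EtSix.extZeroMod Λ j).obj F) := by
  apply isConstructible_of_affine_local
  intro W hW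
  haveI : IsAffine W.toScheme := hW
  haveI : EtShriek.JCont (j ∣_ W) := Groth.Agent.Helper9.EtJCont.jCont_of_etale (j ∣_ W)
  obtain ⟨e⟩ := Groth.Agent.Helper6.ModShBC.nonempty_iso Λ j W.ι (j ∣_ W) (j ⁻¹ᵁ W).ι
    (isPullback_morphismRestrict j W)
  refine isConstructible_of_iso Λ (e.app F) ?_
  exact isConstructible_extZero_qcqs Λ (j ∣_ W) _ (isConstructible_pull Λ _ F hF)

end General

end Groth.Agent.Helper6.ModShC
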