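import Mathlib
import Groth.Prelude.Def_EtModD2
import Groth.Agent.Helper6.ModShC

set_option autoImplicit false
set_option linter.style.haveILetI false
set_option linter.unusedSectionVars false
set_option linter.unusedVariables false
set_option linter.unusedSimpArgs false

/-!
# Extension by zero on derived categories preserves constructibility of the cohomology sheaves
-/

universe u

open CategoryTheory CategoryTheory.Limits AlgebraicGeometry Opposite

attribute [local instance] HasDerivedCategory.standard

namespace Groth.Agent.Helper6.ModShD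

variable (Λ : Type (u + 1)) [CommRing Λ] [IsNoetherianRing Λ]
  {U X : Scheme.{u}} (j : U ⟶ X) [Etale j] [QuasiCompact j] [QuasiSeparated j] [EtShriek.JCont j]
  [PreservesFiniteLimits (EtSix.extZeroMod Λ j)]

theorem isConstructible_HD_extZero (M : EtModD.D Λ U)
    (hM : ∀ i : ℤ, EtModW.IsConstructible Λ (EtModD.HD M i)) (i : ℤ) :
    EtModW.IsConstructible Λ (EtModD.HD ((EtSix.extZeroMod Λ j).mapDerivedCategory.obj M) i) := by
  let F := EtSix.extZeroMod Λ j
  let M₀ : CochainComplex (EtModW.Mod Λ U) ℤ := DerivedCategory.Q.objPreimage M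
  let e : DerivedCategory.Q.obj M₀ ≅ M := DerivedCategory.Q.objObjPreimageIso M
  let K' : CochainComplex (EtModW.Mod Λ X) ℤ :=
    (F.mapHomologicalComplex (ComplexShape.up ℤ)).obj M₀
  let i0 : EtModD.HD (F.mapDerivedCategory.obj M) i ≅
      EtModD.HD (F.mapDerivedCategory.obj (DerivedCategory.Q.obj M₀)) i :=
    (DerivedCategory.homologyFunctor (EtModW.Mod Λ X) i).mapIso (F.mapDerivedCategory.mapIso e.symm)
  let i1 : F.mapDerivedCategory.obj (DerivedCategory.Q.obj M₀) ≅ DerivedCategory.Q.obj K' :=
    F.mapDerivedCategoryFactors.app M₀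
  let i2 : (DerivedCategory.homologyFunctor (EtModW.Mod Λ X) i).obj (DerivedCategory.Q.obj K') ≅
      K'.homology i :=
    (DerivedCategory.homologyFunctorFactors (EtModW.Mod Λ X) i).app K'
  let i3 : K'.homology i ≅ F.obj (M₀.homology i) := (M₀.sc i).mapHomologyIso F
  let i4 : M₀.homology i ≅ EtModD.HD M i :=
    ((DerivedCategory.homologyFunctorFactors (EtModW.Mod Λ U) i).app M₀).symm ≪≫
      (DerivedCategory.homologyFunctor (EtModW.Mod Λ U) i).mapIso e
  have h1 : EtModW.IsConstructible Λ (M₀.homology i) :=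
    Groth.Agent.Helper4.ModStrata.isConstructible_of_iso Λ i4.symm (hM i)
  have h2 : EtModW.IsConstructible Λ (F.obj (M₀.homology i)) :=
    Groth.Agent.Helper6.ModShC.isConstructible_extZero Λ j _ h1
  exact Groth.Agent.Helper4.ModStrata.isConstructible_of_iso Λ
    (i0 ≪≫ (DerivedCategory.homologyFunctor (EtModW.Mod Λ X) i).mapIso i1 ≪≫ i2 ≪≫ i3).symm h2

end Groth.Agent.Helper6.ModShD
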