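import Mathlib
import Groth.Prelude.Def_W4c1hilbpnTgt

set_option autoImplicit false

namespace Groth.Agent.Helper6.MonoIdeal

open MvPolynomial W4c1hilbpn

variable {σ : Type*} {k : Type*} [Field k]

/-- Monomials outside a monomial ideal are linearly independent modulo the ideal. -/
theorem linearIndependent_compl (I : Ideal (MvPolynomial σ k)) (hI : IsMonomial I) :
    LinearIndependent k (fun β : {β : σ →₀ ℕ // β ∉ exps I} =>
      Ideal.Quotient.mk I (monomial (β : σ →₀ ℕ) (1 : k))) := by
  classical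
  rw [linearIndependent_iff']
  intro s g hg β hβ
  by_contra hne
  have h1 : (∑ γ ∈ s, g γ • Ideal.Quotient.mk I (monomial (γ : σ →₀ ℕ) (1 : k)))
      = Ideal.Quotient.mk I (∑ γ ∈ s, monomial (γ : σ →₀ ℕ) (g γ)) := by
    rw [map_sum]
    apply Finset.sum_congr rfl
    intro γ _
    have : monomial (γ : σ →₀ ℕ) (g γ) = g γ • monomial (γ : σ →₀ ℕ) (1 : k) := by
      rw [smul_monomial, smul_eq_mul, mul_one]
    rw [this]
    rfl
  rw [h1, Ideal.Quotient.eq_zero_iff_mem] at hg
  have hcoeff : coeff (β : σ →₀ ℕ) (∑ γ ∈ s, monomial (γ : σ →₀ ℕ) (g γ)) = g β := by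
    rw [coeff_sum]
    rw [Finset.sum_eq_single β]
    · simp
    · intro γ _ hγ
      rw [coeff_monomial, if_neg]
      intro h
      exact hγ (Subtype.ext h)
    · intro h; exact absurd hβ h
  have hsupp : (β : σ →₀ ℕ) ∈ (∑ γ ∈ s, monomial (γ : σ →₀ ℕ) (g γ)).support := by
    rw [mem_support_iff, hcoeff]; exact hne
  exact β.2 (hI _ hg _ hsupp)

/-- For a monomial ideal of finite colength, only finitely many monomials lie outside. -/
theorem finite_compl_exps (I : Ideal (MvPolynomial σ k)) (hI : IsMonomial I)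
    [Module.Finite k (MvPolynomial σ k ⧸ I)] : {β : σ →₀ ℕ | β ∉ exps I}.Finite := by
  haveI : IsNoetherian k (MvPolynomial σ k ⧸ I) := inferInstance
  have h : Finite {β : σ →₀ ℕ // β ∉ exps I} := (linearIndependent_compl I hI).finite_of_isNoetherian
  exact Set.finite_coe_iff.mp h

end Groth.Agent.Helper6.MonoIdeal
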