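import Mathlib
import Groth.Agent.Helper1.QuotDualB
import Groth.Agent.Helper1.ExtBridgeLin

/-!
# The `Ext` module of a quotient of a Gorenstein local ring is a canonical module
(an explicit version of `Helper1.QuotDual.exists_dual`)
-/

set_option autoImplicit false
set_option linter.style.haveILetI false
set_option linter.unusedSectionVars false

namespace Groth.Agent.Helper6.Murthy
open CategoryTheory Limits Opposite IsLocalRing
open Groth.Agent.Helper1 Groth.Agent.Helper1.QuotDual

universe u

variable {S R : Type u} [CommRing S] [CommRing R] [Algebra S R]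

/-- explicit local duality over a quotient of a Gorenstein local ring: any `R`-module `X` which is
`S`-linearly `Ext^i_S(N, S)` is dual to `H^j_𝔪(N)`, `i + j = dim S`. -/
theorem canon_of_ext [LocCoh.IsGorensteinLocalRing S] [IsNoetherianRing R] [IsLocalRing R]
    (hg : Function.Surjective (algebraMap S R))
    (d : ℕ) (hd : ringKrullDim S = d)
    (E : Type u) [AddCommGroup E] [Module R E] (f : ResidueField R →ₗ[R] E)
    (hf : InjHull.IsInjectiveHull f)
    (N : Type u) [AddCommGroup N] [Module R N] [Module S N] [IsScalarTower S R N]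
    [Module.Finite R N] (i j : ℕ) (hij : i + j = d)
    (X : Type u) [AddCommGroup X] [Module S X] [Module R X] [IsScalarTower S R X]
    (ε : X ≃ₗ[S] Abelian.Ext (ModuleCat.of S N) (ModuleCat.of S S) i) :
    Module.Finite R X ∧ Nonempty ((X →ₗ[R] E) ≃ₗ[R] LocCoh.H (maximalIdeal R) j N) := by
  haveI : Module.Finite S R := Module.Finite.of_surjective (Algebra.linearMap S R) hg
  haveI : Module.Finite S N := Module.Finite.trans R N
  have hcm : LocCoh.IsCohenMacaulayLocalRing S := Groth.Agent.Helper6.Bass.cm_of_gorenstein
  -- the injective hull over `S`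
  obtain ⟨gS, hgS⟩ := GorTop.exists_isInjectiveHull (R := S) d hd
  haveI := hgS.isInjective
  -- local duality over `S`
  obtain ⟨e1⟩ := LDual.nonempty_equiv_ext (R := S) (maximalIdeal S) d
    (LDual.isZero_lc_succ_dim (maximalIdeal S) d hd)
    (fun j hj => LDual.isZero_lc_of_cm d hd j hj) S (LocCoh.H (maximalIdeal S) d S)
    (LinearMap.ringLmapEquivSelf S S _) i j hij N
  haveI : Module.Finite S (Abelian.Ext (ModuleCat.of S N) (ModuleCat.of S S) i) :=
    Groth.Agent.Helper6.ExtFin.finite_ext S i N
  haveI : Module.Finite S X := Module.Finite.equiv ε.symm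
  have hfinX : Module.Finite R X := Module.Finite.of_restrictScalars_finite S R X
  refine ⟨hfinX, ?_⟩
  -- the hull over `R`
  obtain ⟨g', hg'⟩ := Groth.Agent.S5156.result S R (LocCoh.H (maximalIdeal S) d S) gS hgS
  obtain ⟨e2, -⟩ := Groth.Agent.S0302.result R (ResidueField R) E _ f hf g' hg'
  -- base independence
  have key : ∀ J : Ideal R, J = (maximalIdeal S).map (algebraMap S R) →
      ∃ φ : (localCohomology J j).obj (ModuleCat.of R N) ≃+
        (localCohomology (maximalIdeal S) j).obj (ModuleCat.of S N),
      ∀ (r : S) (x : (localCohomology J j).obj (ModuleCat.of R N)),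
        φ (algebraMap S R r • x) = r • φ x := by
    rintro _ rfl
    exact LocCohBase.exists_addEquiv (R := S) (R' := R) (maximalIdeal S) N j
  obtain ⟨φ, hφ⟩ := key _ (map_maximalIdeal hg).symm
  let Φ : (X →ₗ[R] E) ≃+ (localCohomology (maximalIdeal R) j).obj (ModuleCat.of R N) :=
    ((LinearEquiv.congrRight e2).toAddEquiv.trans (coextEquiv _ _)).trans
      ((LinearEquiv.congrLeft _ S ε).toAddEquiv.trans (e1.symm.toAddEquiv.trans φ.symm))
  have hΦ : ∀ (s : S) (x : X →ₗ[R] E), Φ (algebraMap S R s • x) = algebraMap S R s • Φ x := by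
    intro s x
    show φ.symm (e1.symm (LinearEquiv.congrLeft _ S ε
        (coextEquiv _ _ (LinearEquiv.congrRight e2 (algebraMap S R s • x))))) =
      algebraMap S R s • φ.symm (e1.symm (LinearEquiv.congrLeft _ S ε
        (coextEquiv _ _ (LinearEquiv.congrRight e2 x))))
    rw [map_smul, coextEquiv_smul, map_smul, map_smul]
    apply φ.injective
    rw [hφ, AddEquiv.apply_symm_apply, AddEquiv.apply_symm_apply]
  exact ⟨{ toFun := Φ
           map_add' := Φ.map_add
           map_smul' := fun r x => by
             obtain ⟨s, rfl⟩ := hg r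
             exact hΦ s x
           invFun := Φ.symm
           left_inv := Φ.left_inv
           right_inv := Φ.right_inv }⟩

end Groth.Agent.Helper6.Murthy
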