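import Mathlib
import Groth.Agent.Helper1.CanonI
import Groth.Agent.Helper1.CanonF
import Groth.Agent.Helper1.CanonD
import Groth.Agent.Helper1.CoreF
import Groth.Agent.Helper6.SuppTensor
import Groth.Agent.Helper6.CMCaten

/-!
# The canonical module of a Cohen–Macaulay local domain is an ideal, unmixed of height one
-/

set_option autoImplicit false
set_option linter.style.haveILetI false
set_option linter.unusedSectionVars false

namespace Groth.Agent.Helper6.Murthy
open CategoryTheory Limits Opposite IsLocalRing Abelian TensorProduct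
open Groth.Agent.Helper1

universe u

section ext
variable {R : Type u} [CommRing R]

/-- if `Ext^1(R/q, Y) = 0`, every linear map `q → Y` is a multiplication. -/
lemma exists_extension (q : Ideal R) (Y : Type u) [AddCommGroup Y] [Module R Y]
    (h : Subsingleton (Ext (ModuleCat.of R (R ⧸ q)) (ModuleCat.of R Y) 1))
    (ψ : q →ₗ[R] Y) : ∃ y : Y, ∀ a : q, ψ a = (a : R) • y := by
  let p : R →ₗ[R] R ⧸ q := Submodule.mkQ q
  have hp : Function.Surjective p := Submodule.mkQ_surjective q
  let S := p.shortComplexKer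
  have hS : S.ShortExact := LinearMap.shortExact_shortComplexKer hp
  have hker : LinearMap.ker p = q := Submodule.ker_mkQ q
  let ψ' : LinearMap.ker p →ₗ[R] Y := ψ ∘ₗ (Submodule.inclusion hker.le)
  haveI : Subsingleton (Ext S.X₃ (ModuleCat.of R Y) 1) := h
  obtain ⟨x₂, hx₂⟩ := Ext.contravariant_sequence_exact₁ hS (ModuleCat.of R Y)
    (Ext.mk₀ (ModuleCat.ofHom ψ')) (show 1 + 0 = 1 by omega) (Subsingleton.elim _ _)
  obtain ⟨g, rfl⟩ := (Ext.mk₀_bijective S.X₂ (ModuleCat.of R Y)).2 x₂
  rw [Ext.mk₀_comp_mk₀] at hx₂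
  have h1 : S.f ≫ g = ModuleCat.ofHom ψ' := (Ext.mk₀_bijective _ _).1 hx₂
  refine ⟨g.hom (1 : R), fun a => ?_⟩
  have h2 : g.hom (a : R) = ψ a :=
    LinearMap.congr_fun (congrArg ModuleCat.Hom.hom h1) (⟨a.1, hker.ge a.2⟩ : LinearMap.ker p)
  rw [← h2]
  have h3 : (a : R) = (a : R) • (1 : R) := by rw [smul_eq_mul, mul_one]
  conv_lhs => rw [h3]
  exact map_smul g.hom (a : R) (1 : R)

end ext

section canon
variable {R : Type u} [CommRing R] [LocCoh.IsCohenMacaulayLocalRing R] [IsDomain R]
  (n : ℕ) (hn : ringKrullDim R = n)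
  (E : Type u) [AddCommGroup E] [Module R E] (f : ResidueField R →ₗ[R] E)
  (hf : InjHull.IsInjectiveHull f)
  (K : Type u) [AddCommGroup K] [Module R K] [Module.Finite R K]
  (eK : (K →ₗ[R] E) ≃ₗ[R] LocCoh.H (maximalIdeal R) n R)

include hn hf eK

/-- a canonical module of a CM local domain is torsion-free -/
lemma torsionFree (a : R) (x : K) (h : a • x = 0) : a = 0 ∨ x = 0 := by
  by_cases ha : a = 0
  · exact Or.inl ha
  right
  by_cases hm : a ∈ maximalIdeal R
  · have hreg : IsSMulRegular R a := by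
      intro b c hbc
      exact mul_left_cancel₀ ha hbc
    obtain ⟨hdim, -⟩ := Canon.dim_quot_lt n hn a hm hreg
    have hregK := Canon.isSMulRegular_of_dim_lt n hn E f hf K eK a hdim
    exact hregK (show a • x = a • (0 : K) by rw [h, smul_zero])
  · have hu : IsUnit a := by
      by_contra hnu
      exact hm ((mem_maximalIdeal a).2 hnu)
    obtain ⟨u, rfl⟩ := hu
    have h4 := congrArg (fun y => (↑u⁻¹ : R) • y) h
    simpa [smul_smul] using h4

/-- a canonical module of a CM local domain embeds in the ring as an ideal -/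
theorem exists_ideal_equiv : ∃ I : Ideal R, Nonempty (K ≃ₗ[R] I) := by
  haveI hnt : Nontrivial K := Canon.nontrivial_canon n hn E f hf K eK
  have htf := torsionFree n hn E f hf K eK
  have hbij := Canon.bijective_toEnd n hn E f hf K eK
  let η : PrimeSpectrum R := ⟨⊥, Ideal.isPrime_bot⟩
  have hηK : η ∈ Module.support R K := by
    rw [Module.mem_support_iff_of_finite]
    intro a ha
    obtain ⟨x, hx⟩ := exists_ne (0 : K)
    rcases htf a x (Module.mem_annihilator.1 ha x) with h | h
    · rw [h]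
      exact Ideal.zero_mem _
    · exact absurd h hx
  have hηKK : η ∈ Module.support R (K ⊗[R] K) := by
    apply Groth.Agent.Helper6.SuppTensor.mem_support_tensor_of η hηK
    have h1 : η.comap (algebraMap R R) = η := by
      apply PrimeSpectrum.ext
      show Ideal.comap (algebraMap R R) ⊥ = ⊥
      rw [Algebra.algebraMap_self, Ideal.comap_id]
    rw [h1]
    exact hηK
  have hdim : Module.supportDim R (K ⊗[R] K) = n := by
    have hann : Module.annihilator R (K ⊗[R] K) = ⊥ :=
      eq_bot_iff.2 (Module.mem_support_iff_of_finite.1 hηKK)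
    rw [Module.supportDim_eq_ringKrullDim_quotient_annihilator, hann, ← hn]
    exact (RingEquiv.quotientBot R).ringKrullDim
  haveI : Nontrivial (K ⊗[R] K →ₗ[R] K) :=
    (Canon.nontrivial_hom_iff n hn E f hf K eK (K ⊗[R] K)).2 hdim
  obtain ⟨Φ, hΦ⟩ := exists_ne (0 : K ⊗[R] K →ₗ[R] K)
  let L : R →ₗ[R] (K →ₗ[R] K) := LinearMap.toSpanSingleton R (K →ₗ[R] K) LinearMap.id
  have hL : ∀ r, L r = r • (LinearMap.id : K →ₗ[R] K) := fun r => rfl
  have hLbij : Function.Bijective L := by
    have h1 : (L : R → (K →ₗ[R] K)) = fun r => r • (LinearMap.id : K →ₗ[R] K) := funext hL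
    rw [h1]
    exact hbij
  let e := LinearEquiv.ofBijective L hLbij
  let β : K →ₗ[R] K →ₗ[R] K := TensorProduct.curry Φ
  let φ : K →ₗ[R] R := e.symm.toLinearMap ∘ₗ β
  have hφ : ∀ x y : K, Φ (x ⊗ₜ[R] y) = φ x • y := by
    intro x y
    have h1 : L (φ x) = β x := e.apply_symm_apply (β x)
    have h2 := LinearMap.congr_fun h1 y
    rw [hL, LinearMap.smul_apply, LinearMap.id_apply] at h2
    exact h2.symm
  have hφ0 : φ ≠ 0 := by
    intro h0
    apply hΦ
    apply TensorProduct.ext'
    intro x y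
    rw [hφ, h0, LinearMap.zero_apply, zero_smul, LinearMap.zero_apply]
  have hinj : Function.Injective φ := by
    rw [← LinearMap.ker_eq_bot, LinearMap.ker_eq_bot']
    intro k hk
    by_contra hk0
    obtain ⟨c, hc⟩ := hbij.2 (φ.smulRight k)
    have hc' : c • (LinearMap.id : K →ₗ[R] K) = φ.smulRight k := hc
    have h1 : c • k = 0 := by
      have h2 := LinearMap.congr_fun hc' k
      rw [LinearMap.smul_apply, LinearMap.id_apply, LinearMap.smulRight_apply, hk, zero_smul] at h2
      exact h2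
    have hc0 : c = 0 := (htf c k h1).resolve_right hk0
    apply hφ0
    apply LinearMap.ext
    intro k'
    have h2 := LinearMap.congr_fun hc' k'
    rw [hc0, zero_smul, LinearMap.zero_apply, LinearMap.smulRight_apply] at h2
    exact (htf (φ k') k h2.symm).resolve_right hk0
  exact ⟨LinearMap.range φ, ⟨LinearEquiv.ofInjective φ hinj⟩⟩

end canon

section ass
variable {R : Type u} [CommRing R] [LocCoh.IsCohenMacaulayLocalRing R] [IsDomain R]
  (n : ℕ) (hn : ringKrullDim R = n)
  (E : Type u) [AddCommGroup E] [Module R E] (f : ResidueField R →ₗ[R] E)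
  (hf : InjHull.IsInjectiveHull f)
  (I : Ideal R) (eI : (I →ₗ[R] E) ≃ₗ[R] LocCoh.H (maximalIdeal R) n R)

include hn hf eI

/-- an ideal which is a canonical module is unmixed of height one -/
theorem ass_quot (q : Ideal R) (hq : q ∈ associatedPrimes R (R ⧸ I)) :
    I ≤ q ∧ q.height = 1 := by
  obtain ⟨hqp, g, hg⟩ := (isAssociatedPrime_iff_exists_injective_linearMap q (R ⧸ I)).1 hq
  haveI := hqp
  haveI hntI : Nontrivial I := Canon.nontrivial_canon n hn E f hf I eI
  obtain ⟨x, hx⟩ := Ideal.Quotient.mk_surjective (g 1)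
  have hmem : ∀ a : R, a ∈ q ↔ a * x ∈ I := by
    intro a
    have h1 : g (Ideal.Quotient.mk q a) = Ideal.Quotient.mk I (a * x) := by
      have h2 : (Ideal.Quotient.mk q a : R ⧸ q) = a • (1 : R ⧸ q) := by
        rw [Algebra.smul_def, mul_one, Ideal.Quotient.algebraMap_eq]
      rw [h2, map_smul, ← hx, Algebra.smul_def, Ideal.Quotient.algebraMap_eq, ← map_mul]
    rw [← Ideal.Quotient.eq_zero_iff_mem, ← Ideal.Quotient.eq_zero_iff_mem, ← h1]
    constructor
    · intro h
      rw [h, map_zero]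
    · intro h
      exact hg (by rw [h, map_zero])
  have hxI : x ∉ I := fun hxI =>
    hqp.ne_top ((Ideal.eq_top_iff_one q).2 ((hmem 1).2 (by rwa [one_mul])))
  have hIq : I ≤ q := fun a ha => (hmem a).2 (I.mul_mem_right x ha)
  have hq0 : q ≠ ⊥ := by
    obtain ⟨b, hb⟩ := exists_ne (0 : I)
    intro h
    have h1 : (b : R) ∈ q := hIq b.2
    rw [h, Ideal.mem_bot] at h1
    exact hb (Subtype.ext h1)
  refine ⟨hIq, le_antisymm ?_ ?_⟩
  · by_contra hlt
    have hlt' : 1 < q.height := not_le.1 hlt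
    have hfull := Groth.Agent.Helper6.CMCaten.hasCMFull_of_cm R
    have h1 : (n : WithBot ℕ∞) = ringKrullDim (R ⧸ q) + ((q.height : ℕ∞) : WithBot ℕ∞) := by
      rw [← hn]
      exact Groth.Agent.Helper6.CMCaten.dim_eq hfull ⟨q, hqp⟩
    obtain ⟨c, hc⟩ := Core.exists_nat_ringKrullDim_quotient R q
    obtain ⟨h, hh⟩ := ENat.ne_top_iff_exists.1 (Ideal.height_ne_top_of_isPrime (I := q))
    rw [hc, ← hh] at h1
    have h3 : (n : WithBot ℕ∞) = ((c + h : ℕ) : WithBot ℕ∞) := by
      rw [h1]
      push_cast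
      rfl
    have h4 : n = c + h := by exact_mod_cast h3
    have h5 : 2 ≤ h := by
      rw [← hh] at hlt'
      have : 1 < h := by exact_mod_cast hlt'
      omega
    have hlc : IsZero ((localCohomology (maximalIdeal R) (n - 1)).obj
        (ModuleCat.of R (R ⧸ q))) := by
      apply LocCohVanish.isZero_lc_of_supportDim_lt (maximalIdeal R) (R ⧸ q) (n - 1)
      rw [Module.supportDim_quotient_eq_ringKrullDim, hc]
      have : c < n - 1 := by omega
      exact_mod_cast this
    have hext := Canon.subsingleton_ext_of_isZero_lc n hn E f hf I eI 1 (n - 1) (by omega)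
      (R ⧸ q) hlc
    let ψ : q →ₗ[R] I :=
      { toFun := fun a => ⟨a.1 * x, (hmem a.1).1 a.2⟩
        map_add' := fun a b => Subtype.ext (add_mul a.1 b.1 x)
        map_smul' := fun r a => Subtype.ext (mul_assoc r a.1 x) }
    obtain ⟨y, hy⟩ := exists_extension q I hext ψ
    obtain ⟨a, haq, ha0⟩ : ∃ a ∈ q, a ≠ 0 := Submodule.exists_mem_ne_zero_of_ne_bot hq0
    have h6 := hy ⟨a, haq⟩
    have h7 : a * x = a * (y : R) := congrArg Subtype.val h6
    have h8 : x = y := mul_left_cancel₀ ha0 h7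
    exact hxI (h8 ▸ y.2)
  · exact Order.one_le_iff_ne_zero.2 (fun h => hq0 (Ideal.height_eq_zero_iff_eq_bot.1 h))

end ass

section ufd
variable {R : Type u} [CommRing R] [LocCoh.IsCohenMacaulayLocalRing R] [IsDomain R]
  [UniqueFactorizationMonoid R]
  (n : ℕ) (hn : ringKrullDim R = n)
  (E : Type u) [AddCommGroup E] [Module R E] (f : ResidueField R →ₗ[R] E)
  (hf : InjHull.IsInjectiveHull f)
  (K : Type u) [AddCommGroup K] [Module R K] [Module.Finite R K]
  (eK : (K →ₗ[R] E) ≃ₗ[R] LocCoh.H (maximalIdeal R) n R)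

include hn hf eK

/-- over a factorial CM local domain the canonical module is free -/
theorem exists_equiv_self_of_ufd : Nonempty (K ≃ₗ[R] R) := by
  haveI hnt : Nontrivial K := Canon.nontrivial_canon n hn E f hf K eK
  obtain ⟨I₀, ⟨e₀⟩⟩ := exists_ideal_equiv n hn E f hf K eK
  obtain ⟨I, ⟨e⟩, hmax⟩ := set_has_maximal_iff_noetherian.2 (inferInstance : IsNoetherian R R)
    {J : Ideal R | Nonempty (K ≃ₗ[R] J)} ⟨I₀, ⟨e₀⟩⟩
  by_cases hI : I = ⊤
  · subst hI
    exact ⟨e.trans Submodule.topEquiv⟩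
  exfalso
  have eI : (I →ₗ[R] E) ≃ₗ[R] LocCoh.H (maximalIdeal R) n R :=
    (LinearEquiv.congrLeft E R e).symm.trans eK
  haveI : Nontrivial (R ⧸ I) := Ideal.Quotient.nontrivial_iff.2 hI
  obtain ⟨q, hq⟩ := associatedPrimes.nonempty R (R ⧸ I)
  obtain ⟨hIq, hht⟩ := ass_quot n hn E f hf I eI q hq
  haveI hqp : q.IsPrime := (AssociatedPrimes.mem_iff.1 hq).isPrime
  have hq0 : q ≠ ⊥ := Ideal.ne_bot_of_height_eq_one hht
  obtain ⟨π, hπq, hπ⟩ := Ideal.IsPrime.exists_mem_prime_of_ne_bot hqp hq0
  have hspan : q = Ideal.span {π} := Ideal.eq_span_singleton_of_height_eq_one hht hπq hπ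
  let I' : Ideal R := Submodule.comap (LinearMap.mul R R π) I
  let m : I' →ₗ[R] I := (LinearMap.mul R R π).restrict (fun b hb => hb)
  have hm : ∀ b : I', ((m b : I) : R) = π * (b : R) := fun b => rfl
  have hminj : Function.Injective m := by
    intro b b' h
    have h1 := congrArg Subtype.val h
    rw [hm, hm] at h1
    exact Subtype.ext (mul_left_cancel₀ hπ.ne_zero h1)
  have hdiv : ∀ a ∈ I, ∃ b : R, b * π = a := by
    intro a ha
    have h1 : a ∈ Ideal.span {π} := hspan ▸ hIq ha
    exact Ideal.mem_span_singleton'.1 h1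
  have hmsurj : Function.Surjective m := by
    intro a
    obtain ⟨b, hb⟩ := hdiv a.1 a.2
    have hbI' : b ∈ I' := by
      show π * b ∈ I
      rw [mul_comm, hb]
      exact a.2
    refine ⟨⟨b, hbI'⟩, Subtype.ext ?_⟩
    rw [hm]
    show π * b = a.1
    rw [mul_comm, hb]
  let e' : K ≃ₗ[R] I' := e.trans (LinearEquiv.ofBijective m ⟨hminj, hmsurj⟩).symm
  have hII' : I ≤ I' := fun a ha => Ideal.mul_mem_left I π ha
  have hEq : I = I' := eq_of_le_of_not_lt hII' (hmax I' ⟨e'⟩)
  have hle : I ≤ Ideal.span {π} • I := by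
    intro a ha
    obtain ⟨b, hb⟩ := hdiv a ha
    have hbI : b ∈ I := by
      rw [hEq]
      show π * b ∈ I
      rw [mul_comm, hb]
      exact ha
    rw [← hb, mul_comm]
    exact Submodule.smul_mem_smul (Ideal.mem_span_singleton_self π) hbI
  have hbot : I = ⊥ := Submodule.eq_bot_of_le_smul_of_le_jacobson_bot (Ideal.span {π}) I
    (IsNoetherian.noetherian I) hle (by
      rw [IsLocalRing.jacobson_eq_maximalIdeal ⊥ bot_ne_top, Ideal.span_singleton_le_iff_mem]
      exact (mem_maximalIdeal π).2 hπ.not_isUnit)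
  have h0 : ∀ a ∈ I, a = 0 := by
    intro a ha
    rw [hbot] at ha
    exact ha
  obtain ⟨k, hk⟩ := exists_ne (0 : K)
  apply hk
  apply e.injective
  rw [map_zero]
  exact Subtype.ext (h0 _ (e k).2)

end ufd

end Groth.Agent.Helper6.Murthy
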