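import Mathlib
import Groth.Agent.Helper6.Murthy1
import Groth.Agent.Helper6.Murthy2
import Groth.Agent.Helper1.LDualI
import Groth.Agent.S0342
import Groth.Agent.S0299
import Groth.Agent.S7708
import Groth.Agent.S7701

/-!
# Murthy's theorem: `Ext^r_B(B/p, B)` for a CM quotient of a regular local ring
-/

set_option autoImplicit false
set_option linter.style.haveILetI false
set_option linter.unusedSectionVars false

namespace Groth.Agent.Helper6.Murthy
open CategoryTheory Limits Opposite IsLocalRing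
open Groth.Agent.Helper1

universe u

theorem murthy (B : Type u) [CommRing B] [IsRegularLocalRing B] (p : Ideal B) [p.IsPrime]
    [LocCoh.IsCohenMacaulayLocalRing (B ⧸ p)] (r : ℕ) (hr : p.height = r)
    (X : Type u) [AddCommGroup X] [Module B X]
    (ε : X ≃ₗ[B] Abelian.Ext (ModuleCat.of B (B ⧸ p)) (ModuleCat.of B B) r) :
    Nonempty (X ≃ₗ[B] (B ⧸ p)) ∨ ∃ I : Ideal (B ⧸ p), I ≠ ⊤ ∧
      (∀ q ∈ associatedPrimes (B ⧸ p) ((B ⧸ p) ⧸ I), q.height = 1) ∧
        Nonempty (X ≃ₗ[B] I) := by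
  haveI : LocCoh.IsGorensteinLocalRing B := Groth.Agent.S0342.result B
  haveI hcmB : LocCoh.IsCohenMacaulayLocalRing B := Groth.Agent.Helper6.Bass.cm_of_gorenstein
  have hsurj : Function.Surjective (algebraMap B (B ⧸ p)) := Ideal.Quotient.mk_surjective
  obtain ⟨N, hN⟩ := Core.exists_nat_ringKrullDim B
  obtain ⟨n, hn⟩ := Core.exists_nat_ringKrullDim (B ⧸ p)
  have hrn : r + n = N := LDual.height_add_dim p r n N hr hn hN
  have hkill : ∀ a : B, algebraMap B (B ⧸ p) a = 0 → ∀ x : X, a • x = 0 := by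
    intro a ha x
    apply ε.injective
    rw [map_smul, map_zero]
    refine LDual.smul_ext_eq_zero a (fun (y : B ⧸ p) => ?_) r (ε x)
    rw [← algebraMap_smul (B ⧸ p) a y, ha, zero_smul]
  letI modX : Module (B ⧸ p) X := QuotDual.modOfKill hsurj X hkill
  haveI : IsScalarTower B (B ⧸ p) X := QuotDual.isScalarTower_modOfKill hsurj X hkill
  obtain ⟨E, _, _, f, hf⟩ := Groth.Agent.S0299.result (B ⧸ p) (ResidueField (B ⧸ p))
  obtain ⟨hfin, ⟨eK⟩⟩ := canon_of_ext hsurj N hN E f hf (B ⧸ p) r n hrn X ε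
  haveI := hfin
  obtain ⟨I, ⟨e⟩⟩ := exists_ideal_equiv n hn E f hf X eK
  by_cases hI : I = ⊤
  · left
    subst hI
    exact ⟨(e.trans Submodule.topEquiv).restrictScalars B⟩
  · right
    have eI : (I →ₗ[B ⧸ p] E) ≃ₗ[B ⧸ p] LocCoh.H (maximalIdeal (B ⧸ p)) n (B ⧸ p) :=
      (LinearEquiv.congrLeft E (B ⧸ p) e).symm.trans eK
    exact ⟨I, hI, fun q hq => (ass_quot n hn E f hf I eI q hq).2, ⟨e.restrictScalars B⟩⟩

theorem gorenstein_of_ufd (B : Type u) [CommRing B] [IsRegularLocalRing B] (p : Ideal B)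
    [p.IsPrime] [UniqueFactorizationMonoid (B ⧸ p)] [LocCoh.IsCohenMacaulayLocalRing (B ⧸ p)] :
    LocCoh.IsGorensteinLocalRing (B ⧸ p) := by
  haveI : LocCoh.IsGorensteinLocalRing B := Groth.Agent.S0342.result B
  obtain ⟨n, hn⟩ := Core.exists_nat_ringKrullDim (B ⧸ p)
  obtain ⟨E, _, _, f, hf⟩ := Groth.Agent.S0299.result (B ⧸ p) (ResidueField (B ⧸ p))
  obtain ⟨K, hK, ⟨eK⟩⟩ := Groth.Agent.S7708.result (B ⧸ p) n hn E f hf B
    (algebraMap B (B ⧸ p)) Ideal.Quotient.mk_surjective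
  haveI := hK
  rw [Groth.Agent.S7701.result (B ⧸ p) n hn E f hf K eK]
  exact exists_equiv_self_of_ufd n hn E f hf K eK

end Groth.Agent.Helper6.Murthy
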