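import Mathlib
import Groth.Prelude
import Groth.Agent.Helper6.NagataCrit2

/-!
# Nagata's criterion: quotient form
-/

set_option autoImplicit false
universe u

namespace Groth.Agent.Helper6.NagataCrit

open IsLocalRing PrimeSpectrum

section Transfer

variable {R S : Type u} [CommRing R] [CommRing S]

theorem regular_comap_equiv (e : R ≃+* S) (q : Ideal S) [q.IsPrime]
    (h : IsRegularLocalRing (Localization.AtPrime q)) :
    IsRegularLocalRing (Localization.AtPrime (q.comap (e : R →+* S))) := by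
  have H : (q.comap (e : R →+* S)).primeCompl.map e.toMonoidHom = q.primeCompl := by
    ext z
    constructor
    · rintro ⟨a, ha, rfl⟩
      exact ha
    · intro hz
      refine ⟨e.symm z, ?_, by simp⟩
      show e.symm z ∉ q.comap (e : R →+* S)
      rw [Ideal.mem_comap]
      simpa using hz
  let e' := IsLocalization.ringEquivOfRingEquiv
    (Localization.AtPrime (q.comap (e : R →+* S))) (Localization.AtPrime q) e H
  exact IsRegularLocalRing.of_ringEquiv e'.symm

theorem regLocus_comap_equiv (e : R ≃+* S) (q : PrimeSpectrum S) (h : q ∈ EGA4.regLocus S) :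
    PrimeSpectrum.comap (e : R →+* S) q ∈ EGA4.regLocus R :=
  regular_comap_equiv e q.asIdeal h

omit [CommRing S] in
theorem bot_mem_regLocus [IsDomain R] [IsNoetherianRing R] :
    (⟨⊥, Ideal.isPrime_bot⟩ : PrimeSpectrum R) ∈ EGA4.regLocus R := by
  show IsRegularLocalRing (Localization.AtPrime (⊥ : Ideal R))
  apply IsRegularLocalRing.of_spanFinrank_maximalIdeal_le
  have h1 : maximalIdeal (Localization.AtPrime (⊥ : Ideal R)) = ⊥ := by
    rw [← Localization.AtPrime.map_eq_maximalIdeal, Ideal.map_bot]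
  rw [h1]
  have h2 : (⊥ : Ideal (Localization.AtPrime (⊥ : Ideal R))).spanFinrank = 0 :=
    (Submodule.spanFinrank_eq_zero_iff_eq_bot Submodule.fg_bot).mpr rfl
  rw [h2]
  exact_mod_cast ringKrullDim_nonneg_of_nontrivial

end Transfer

section Main

variable (A : Type u) [CommRing A] [IsNoetherianRing A]

theorem isOpen_regLocus_quotient_iff :
    (∀ I : Ideal A, IsOpen (EGA4.regLocus (A ⧸ I))) ↔
      ∀ (p : Ideal A) [p.IsPrime],
        ∃ U : Set (PrimeSpectrum (A ⧸ p)), IsOpen U ∧ U.Nonempty ∧ U ⊆ EGA4.regLocus (A ⧸ p) := by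
  constructor
  · intro h p _
    exact ⟨EGA4.regLocus (A ⧸ p), h p, ⟨_, bot_mem_regLocus⟩, le_rfl⟩
  · intro h I
    apply isOpen_regLocus_of
    intro P _
    set p' : Ideal A := P.asIdeal.comap (Ideal.Quotient.mk I) with hp'
    haveI : p'.IsPrime := Ideal.comap_isPrime _ _
    obtain ⟨U', hU'o, hU'ne, hU'reg⟩ := h p'
    have hIp' : I ≤ p' := by
      intro x hx
      rw [hp', Ideal.mem_comap, Ideal.Quotient.eq_zero_iff_mem.mpr hx]
      exact zero_mem _
    have hmap : p'.map (Ideal.Quotient.mk I) = P.asIdeal :=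
      Ideal.map_comap_of_surjective _ Ideal.Quotient.mk_surjective _
    let e : ((A ⧸ I) ⧸ P.asIdeal) ≃+* (A ⧸ p') :=
      (Ideal.quotEquivOfEq hmap.symm).trans (DoubleQuot.quotQuotEquivQuotOfLE hIp')
    have hhom : IsHomeomorph (PrimeSpectrum.comap (e : ((A ⧸ I) ⧸ P.asIdeal) →+* (A ⧸ p'))) :=
      PrimeSpectrum.isHomeomorph_comap_of_bijective e.bijective
    refine ⟨PrimeSpectrum.comap (e : ((A ⧸ I) ⧸ P.asIdeal) →+* (A ⧸ p')) '' U',
      hhom.isOpenMap _ hU'o, hU'ne.image _, ?_⟩
    rintro _ ⟨q', hq', rfl⟩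
    exact regLocus_comap_equiv e q' (hU'reg hq')

end Main

end Groth.Agent.Helper6.NagataCrit
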