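import Mathlib

/-!
Helper for the NeronHD rows: formal manipulations of the Néron mapping property
"`g ↦ R.map g` is bijective on `Hom(Z, N)` for all smooth `Z`".
-/

open CategoryTheory Limits AlgebraicGeometry

namespace Groth.Agent.Helper6.NeronMP

universe u v w

section General

variable {C : Type u} [Category.{v} C] {D : Type*} [Category D]

lemma bijective_map_iff_of_natIso {F G : C ⥤ D} (e : F ≅ G) (X Y : C) :
    Function.Bijective (fun g : X ⟶ Y => F.map g) ↔ Function.Bijective (fun g : X ⟶ Y => G.map g) := by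
  have key : ∀ {F G : C ⥤ D} (e : F ≅ G), Function.Bijective (fun g : X ⟶ Y => F.map g) →
      Function.Bijective (fun g : X ⟶ Y => G.map g) := by
    intro F G e h
    have hG : (fun g : X ⟶ Y => G.map g) =
        (fun k => e.inv.app X ≫ k ≫ e.hom.app Y) ∘ (fun g : X ⟶ Y => F.map g) := by
      funext g
      simp
    rw [hG]
    refine Function.Bijective.comp ?_ h
    refine Function.bijective_iff_has_inverse.2 ⟨fun k => e.hom.app X ≫ k ≫ e.inv.app Y, ?_, ?_⟩
    · intro k; simp
    · intro k; simp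
  exact ⟨key e, key e.symm⟩

lemma bijective_map_comp_iff {E' : Type*} [Category E'] (F : C ⥤ D) (E : D ⥤ E') [E.Full] [E.Faithful]
    (X Y : C) :
    Function.Bijective (fun g : X ⟶ Y => (F ⋙ E).map g) ↔ Function.Bijective (fun g : X ⟶ Y => F.map g) := by
  have hE : Function.Bijective (fun k : F.obj X ⟶ F.obj Y => E.map k) :=
    ⟨E.map_injective, E.map_surjective⟩
  have : (fun g : X ⟶ Y => (F ⋙ E).map g) =
      (fun k : F.obj X ⟶ F.obj Y => E.map k) ∘ (fun g : X ⟶ Y => F.map g) := rfl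
  rw [this]
  exact Function.Bijective.of_comp_iff' hE _

end General

variable {B : Scheme.{u}}

/-- the abstract mapping property -/
def NMP {D : Type*} [Category D] (R : Over B ⥤ D) (N : Over B) : Prop :=
  ∀ Z : Over B, Smooth Z.hom → Function.Bijective (fun g : Z ⟶ N => R.map g)

lemma NMP.of_natIso {D : Type*} [Category D] {R R' : Over B ⥤ D} (e : R ≅ R') {N : Over B}
    (h : NMP R N) : NMP R' N := fun Z hZ => (bijective_map_iff_of_natIso e Z N).1 (h Z hZ)

/-- a morphism between smooth objects with the mapping property whose image is an isomorphism is one -/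
lemma isIso_of_isIso_map {D : Type*} [Category D] (R : Over B ⥤ D) {A A' : Over B}
    (hA : Smooth A.hom) (hA' : Smooth A'.hom) (nA : NMP R A) (nA' : NMP R A') (φ : A ⟶ A')
    [IsIso (R.map φ)] : IsIso φ := by
  obtain ⟨ψ, hψ⟩ := (nA A' hA').2 (inv (R.map φ))
  dsimp only at hψ
  refine ⟨ψ, ?_, ?_⟩
  · apply (nA A hA).1
    dsimp only
    rw [R.map_comp, hψ, IsIso.hom_inv_id, R.map_id]
  · apply (nA' A' hA').1
    dsimp only
    rw [R.map_comp, hψ, IsIso.inv_hom_id, R.map_id]

/-- products -/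
lemma NMP.prod {D : Type*} [Category D] (R : Over B ⥤ D) [PreservesLimitsOfShape (Discrete WalkingPair) R]
    {N M P : Over B} (fst : P ⟶ N) (snd : P ⟶ M) (hP : IsLimit (BinaryFan.mk fst snd))
    (hN : NMP R N) (hM : NMP R M) : NMP R P := by
  intro Z hZ
  have hRP : IsLimit (BinaryFan.mk (R.map fst) (R.map snd)) :=
    (isLimitMapConeBinaryFanEquiv R fst snd) (isLimitOfPreserves R hP)
  constructor
  · intro g g' h
    dsimp only at h
    apply BinaryFan.IsLimit.hom_ext hP
    · apply (hN Z hZ).1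
      change R.map (g ≫ fst) = R.map (g' ≫ fst)
      rw [R.map_comp, R.map_comp, h]
    · apply (hM Z hZ).1
      change R.map (g ≫ snd) = R.map (g' ≫ snd)
      rw [R.map_comp, R.map_comp, h]
  · intro h
    obtain ⟨a, ha⟩ := (hN Z hZ).2 (h ≫ R.map fst)
    obtain ⟨b, hb⟩ := (hM Z hZ).2 (h ≫ R.map snd)
    dsimp only at ha hb
    refine ⟨BinaryFan.IsLimit.lift hP a b, ?_⟩
    dsimp only
    apply BinaryFan.IsLimit.hom_ext hRP
    · change R.map _ ≫ R.map fst = h ≫ R.map fst
      rw [← R.map_comp, ← ha]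
      congr 1
      exact BinaryFan.IsLimit.lift_fst hP a b
    · change R.map _ ≫ R.map snd = h ≫ R.map snd
      rw [← R.map_comp, ← hb]
      congr 1
      exact BinaryFan.IsLimit.lift_snd hP a b


/-- equalizer-type subobjects -/
lemma NMP.of_equalizer {D : Type*} [Category D] (R : Over B ⥤ D) {G H K : Over B} (i : K ⟶ G) (f f' : G ⟶ H)
    [Mono i] [Mono (R.map i)] (hi : i ≫ f = i ≫ f')
    (huniv : ∀ (Z : Over B) (a : Z ⟶ G), a ≫ f = a ≫ f' → ∃ k : Z ⟶ K, k ≫ i = a)
    (hG : NMP R G) (hH : NMP R H) : NMP R K := by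
  intro Z hZ
  constructor
  · intro k k' h
    dsimp only at h
    rw [← cancel_mono i]
    apply (hG Z hZ).1
    dsimp only
    rw [R.map_comp, R.map_comp, h]
  · intro h
    obtain ⟨a, ha⟩ := (hG Z hZ).2 (h ≫ R.map i)
    dsimp only at ha
    have haf : a ≫ f = a ≫ f' := by
      apply (hH Z hZ).1
      dsimp only
      rw [R.map_comp, R.map_comp, ha, Category.assoc, Category.assoc, ← R.map_comp, ← R.map_comp, hi]
    obtain ⟨k, hk⟩ := huniv Z a haf
    refine ⟨k, ?_⟩
    dsimp only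
    rw [← cancel_mono (R.map i), ← R.map_comp, hk, ha]


section TwoStep

variable {B₁ B₀' B₀ : Scheme.{u}} (a : B₁ ⟶ B) (b : B₀' ⟶ B₁) (c : B₀ ⟶ B) (j : B₀' ≅ B₀)
  (w : j.hom ≫ c = b ≫ a)

include w in
/-- the comparison of iterated base change with base change along an isomorphic open -/
lemma exists_twoStepIso :
    Nonempty (Over.pullback a ⋙ Over.pullback b ≅ Over.pullback c ⋙ Over.pullback j.hom) := by
  have key : ∀ (f : B₀' ⟶ B) (_ : f = b ≫ a) (_ : f = j.hom ≫ c),
      Nonempty (Over.pullback a ⋙ Over.pullback b ≅ Over.pullback c ⋙ Over.pullback j.hom) := by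
    intro f hf hf'
    have e1 : Nonempty (Over.pullback f ≅ Over.pullback a ⋙ Over.pullback b) := by
      subst hf
      exact ⟨Over.pullbackComp b a⟩
    have e2 : Nonempty (Over.pullback f ≅ Over.pullback c ⋙ Over.pullback j.hom) := by
      subst hf'
      exact ⟨Over.pullbackComp j.hom c⟩
    exact ⟨e1.some.symm ≪≫ e2.some⟩
  exact key (b ≫ a) rfl w.symm

include w in
lemma bijective_comp_iff (Z N : Over B) :
    Function.Bijective (fun g : Z ⟶ N => (Over.pullback b).map ((Over.pullback a).map g)) ↔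
      Function.Bijective (fun g : Z ⟶ N => (Over.pullback c).map g) := by
  haveI : (Over.pullback j.hom).IsEquivalence :=
    (Over.mapPullbackAdj j.hom).isEquivalence_right_of_isEquivalence_left
  obtain ⟨e⟩ := exists_twoStepIso a b c j w
  have h1 := bijective_map_iff_of_natIso e Z N
  have h2 := bijective_map_comp_iff (Over.pullback c) (Over.pullback j.hom) Z N
  exact h1.trans h2

include w in
lemma NMP.of_twoStep {N : Over B} (h1 : NMP (Over.pullback a) N)
    (h10 : NMP (Over.pullback b) ((Over.pullback a).obj N)) : NMP (Over.pullback c) N := by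
  intro Z hZ
  rw [← bijective_comp_iff a b c j w Z N]
  have hZ1 : Smooth ((Over.pullback a).obj Z).hom := by
    change Smooth (Limits.pullback.snd Z.hom a)
    infer_instance
  exact (h10 _ hZ1).comp (h1 Z hZ)

include w in
lemma NMP.of_twoStep' {N : Over B} (h0 : NMP (Over.pullback c) N)
    (h10 : NMP (Over.pullback b) ((Over.pullback a).obj N)) : NMP (Over.pullback a) N := by
  intro Z hZ
  have hZ1 : Smooth ((Over.pullback a).obj Z).hom := by
    change Smooth (Limits.pullback.snd Z.hom a)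
    infer_instance
  have hcomp := (bijective_comp_iff a b c j w Z N).2 (h0 Z hZ)
  exact (Function.Bijective.of_comp_iff' (h10 _ hZ1) _).1 hcomp

end TwoStep

/-- for opens `S₀ ≤ S₁` of `S`, the open `S₁.ι ⁻¹ᵁ S₀` of `S₁` is `S₀` -/
noncomputable def opensIso {S : Scheme.{u}} (S₀ S₁ : S.Opens) (h01 : S₀ ≤ S₁) :
    (↑(S₁.ι ⁻¹ᵁ S₀) : Scheme.{u}) ≅ (↑S₀ : Scheme.{u}) :=
  IsOpenImmersion.isoOfRangeEq ((S₁.ι ⁻¹ᵁ S₀).ι ≫ S₁.ι) S₀.ι (by
    rw [Scheme.Hom.comp_base, TopCat.coe_comp, Set.range_comp, Scheme.Opens.range_ι, Scheme.Opens.range_ι]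
    ext x
    simp only [Set.mem_image, SetLike.mem_coe]
    constructor
    · rintro ⟨y, hy, rfl⟩
      exact hy
    · intro hx
      exact ⟨⟨x, h01 hx⟩, hx, rfl⟩)

lemma opensIso_hom_ι {S : Scheme.{u}} (S₀ S₁ : S.Opens) (h01 : S₀ ≤ S₁) :
    (opensIso S₀ S₁ h01).hom ≫ S₀.ι = (S₁.ι ⁻¹ᵁ S₀).ι ≫ S₁.ι :=
  IsOpenImmersion.isoOfRangeEq_hom_fac _ _ _


section Plain

variable {S : Scheme.{u}}

/-- the mapping property for `Z`, `N` in terms of plain morphisms of schemes: every `χ : Z|_U ⟶ N` over `S`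
extends uniquely to `Z ⟶ N` over `S`. -/
def PlainExt (U : S.Opens) (Z N : Over S) : Prop :=
  ∀ χ : (↑(Z.hom ⁻¹ᵁ U) : Scheme.{u}) ⟶ N.left, χ ≫ N.hom = (Z.hom ⁻¹ᵁ U).ι ≫ Z.hom →
    ∃! φ : Z.left ⟶ N.left, φ ≫ N.hom = Z.hom ∧ (Z.hom ⁻¹ᵁ U).ι ≫ φ = χ

lemma map_left_fst (U : S.Opens) {Z N : Over S} (g : Z ⟶ N) :
    ((Over.pullback U.ι).map g).left ≫ Limits.pullback.fst N.hom U.ι =
      Limits.pullback.fst Z.hom U.ι ≫ g.left := by
  simp only [Over.pullback_map_left]
  exact Limits.pullback.lift_fst _ _ _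

lemma hom_ext_pullback (U : S.Opens) {Z N : Over S}
    (h h' : (Over.pullback U.ι).obj Z ⟶ (Over.pullback U.ι).obj N)
    (e : h.left ≫ Limits.pullback.fst N.hom U.ι = h'.left ≫ Limits.pullback.fst N.hom U.ι) : h = h' := by
  apply Over.OverMorphism.ext
  apply Limits.pullback.hom_ext e
  have h1 := Over.w h
  have h2 := Over.w h'
  change h.left ≫ Limits.pullback.snd N.hom U.ι = Limits.pullback.snd Z.hom U.ι at h1
  change h'.left ≫ Limits.pullback.snd N.hom U.ι = Limits.pullback.snd Z.hom U.ι at h2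
  rw [h1, h2]

lemma bijective_iff_plainExt (U : S.Opens) (Z N : Over S) :
    Function.Bijective (fun g : Z ⟶ N => (Over.pullback U.ι).map g) ↔ PlainExt U Z N := by
  let iso := pullbackRestrictIsoRestrict Z.hom U
  have hiso : iso.hom ≫ (Z.hom ⁻¹ᵁ U).ι = Limits.pullback.fst Z.hom U.ι :=
    pullbackRestrictIsoRestrict_hom_ι Z.hom U
  constructor
  · rintro ⟨hinj, hsurj⟩ χ hχ
    have hc : (iso.hom ≫ χ) ≫ N.hom = Limits.pullback.snd Z.hom U.ι ≫ U.ι := by
      rw [Category.assoc, hχ, ← Category.assoc, hiso, Limits.pullback.condition]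
    let h : (Over.pullback U.ι).obj Z ⟶ (Over.pullback U.ι).obj N :=
      Over.homMk (Limits.pullback.lift (iso.hom ≫ χ) (Limits.pullback.snd Z.hom U.ι) hc)
        (Limits.pullback.lift_snd _ _ _)
    have hh : h.left ≫ Limits.pullback.fst N.hom U.ι = iso.hom ≫ χ := Limits.pullback.lift_fst _ _ _
    obtain ⟨g, hg⟩ := hsurj h
    dsimp only at hg
    refine ⟨g.left, ⟨Over.w g, ?_⟩, ?_⟩
    · rw [← cancel_epi iso.hom, ← Category.assoc, hiso, ← map_left_fst, hg, hh]
    · rintro φ' ⟨h1, h2⟩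
      have : (Over.homMk φ' h1 : Z ⟶ N) = g := by
        apply hinj
        dsimp only
        rw [hg]
        apply hom_ext_pullback
        rw [map_left_fst, hh]
        change Limits.pullback.fst Z.hom U.ι ≫ φ' = _
        rw [← hiso, Category.assoc, h2]
      rw [← this]
      rfl
  · intro hP
    constructor
    · intro g g' hgg
      dsimp only at hgg
      have e1 : (Z.hom ⁻¹ᵁ U).ι ≫ g.left = (Z.hom ⁻¹ᵁ U).ι ≫ g'.left := by
        rw [← cancel_epi iso.hom, ← Category.assoc, ← Category.assoc, hiso, ← map_left_fst, ← map_left_fst, hgg]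
      have hχ : ((Z.hom ⁻¹ᵁ U).ι ≫ g.left) ≫ N.hom = (Z.hom ⁻¹ᵁ U).ι ≫ Z.hom := by
        rw [Category.assoc, Over.w g]
      obtain ⟨φ, -, hu⟩ := hP _ hχ
      apply Over.OverMorphism.ext
      rw [hu g.left ⟨Over.w g, rfl⟩, hu g'.left ⟨Over.w g', e1.symm⟩]
    · intro h
      let χ := iso.inv ≫ h.left ≫ Limits.pullback.fst N.hom U.ι
      have hw : h.left ≫ Limits.pullback.snd N.hom U.ι = Limits.pullback.snd Z.hom U.ι := Over.w h
      have hinv : iso.inv ≫ Limits.pullback.fst Z.hom U.ι = (Z.hom ⁻¹ᵁ U).ι :=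
        pullbackRestrictIsoRestrict_inv_fst Z.hom U
      have hχ : χ ≫ N.hom = (Z.hom ⁻¹ᵁ U).ι ≫ Z.hom := by
        simp only [χ, Category.assoc]
        rw [Limits.pullback.condition, ← Category.assoc h.left, hw, ← Limits.pullback.condition,
          ← Category.assoc, hinv]
      obtain ⟨φ, ⟨h1, h2⟩, -⟩ := hP χ hχ
      refine ⟨Over.homMk φ h1, ?_⟩
      dsimp only
      apply hom_ext_pullback
      rw [map_left_fst]
      change Limits.pullback.fst Z.hom U.ι ≫ φ = _
      rw [← hiso, Category.assoc, h2]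
      simp only [χ, Iso.hom_inv_id_assoc]

end Plain


lemma smooth_of_comp_etale {X Y Z : Scheme.{u}} (s : X ⟶ Y) (f : Y ⟶ Z) [Etale f] [Smooth (s ≫ f)] :
    Smooth s := by
  haveI : MorphismProperty.IsMultiplicative @Smooth.{u} :=
    { id_mem := fun X => (inferInstance : Smooth (𝟙 X)) }
  haveI : MorphismProperty.HasOfPostcompProperty @Smooth.{u} @Etale.{u} := by
    refine (MorphismProperty.hasOfPostcompProperty_iff_le_diagonal).2 ?_
    intro X Y f hf
    haveI : Etale f := hf
    exact inferInstanceAs (Smooth (Limits.pullback.diagonal f))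
  exact MorphismProperty.of_postcomp (W := @Smooth.{u}) (W' := @Etale.{u}) s f ‹_› ‹_›

end Groth.Agent.Helper6.NeronMP
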