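import Mathlib

/-!
# Finite type descends along quotients by finitely generated nilpotent ideals
-/

namespace Groth.Agent.Helper6.NilFT

open Pointwise

/-- If `I` is a finitely generated nilpotent ideal of a `B`-algebra `A` and `A ⧸ I` is of finite
type over `B`, then so is `A`. -/
theorem finiteType_of_quotient {B A : Type*} [CommRing B] [CommRing A] [Algebra B A]
    (I : Ideal A) (hfg : I.FG) (hnil : IsNilpotent I) (hq : Algebra.FiniteType B (A ⧸ I)) :
    Algebra.FiniteType B A := by
  classical
  obtain ⟨s₀, hs₀⟩ := hq.out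
  obtain ⟨t, ht⟩ := hfg
  obtain ⟨N, hN⟩ := hnil
  choose lift hlift using fun x : A ⧸ I => Ideal.Quotient.mk_surjective x
  let s : Finset A := s₀.image lift
  let A' : Subalgebra B A := Algebra.adjoin B ((s : Set A) ∪ (t : Set A))
  have hsA' : ∀ x ∈ s, x ∈ A' := fun x hx => Algebra.subset_adjoin (Or.inl hx)
  have htA' : ∀ x ∈ t, x ∈ A' := fun x hx => Algebra.subset_adjoin (Or.inr hx)
  -- Step 1: A = A' + I
  have hmap : A'.map (Ideal.Quotient.mkₐ B I) = ⊤ := by
    rw [eq_top_iff, ← hs₀]
    apply Algebra.adjoin_le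
    intro x hx
    refine ⟨lift x, hsA' _ (Finset.mem_image_of_mem lift hx), ?_⟩
    exact hlift x
  have hstep1 : ∀ a : A, ∃ a' ∈ A', a - a' ∈ I := by
    intro a
    have : Ideal.Quotient.mkₐ B I a ∈ A'.map (Ideal.Quotient.mkₐ B I) := by
      rw [hmap]; trivial
    obtain ⟨a', ha', h⟩ := this
    refine ⟨a', ha', ?_⟩
    rw [← Ideal.Quotient.eq_zero_iff_mem, map_sub]
    have h' : Ideal.Quotient.mk I a' = Ideal.Quotient.mk I a := h
    rw [h', sub_self]
  -- Step 2: powers of t lie in A'
  have htpow : ∀ n : ℕ, ((t : Set A) ^ n) ⊆ (A' : Set A) := by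
    intro n
    induction n with
    | zero =>
      rw [pow_zero]
      intro x hx
      rw [Set.mem_one] at hx
      rw [hx]
      exact A'.one_mem
    | succ n ih =>
      rw [pow_succ]
      intro x hx
      obtain ⟨a, ha, b, hb, rfl⟩ := Set.mem_mul.1 hx
      exact A'.mul_mem (ih ha) (htA' b hb)
  have hIpow : ∀ n : ℕ, I ^ n = Submodule.span A ((t : Set A) ^ n) := by
    intro n
    rw [← ht]
    exact Submodule.span_pow _ n
  -- Step 3: downward induction
  have hdown : ∀ n : ℕ, (∀ x ∈ I ^ (n + 1), x ∈ A') → ∀ x ∈ I ^ n, x ∈ A' := by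
    intro n hn x hx
    rw [hIpow n] at hx
    induction hx using Submodule.span_induction with
    | mem y hy => exact htpow n hy
    | zero => exact A'.zero_mem
    | add y z _ _ hy hz => exact A'.add_mem hy hz
    | smul c y hy hy' =>
      obtain ⟨c', hc', hd⟩ := hstep1 c
      have : c • y = c' * y + (c - c') * y := by
        rw [smul_eq_mul]; ring
      rw [this]
      refine A'.add_mem (A'.mul_mem hc' hy') (hn _ ?_)
      rw [pow_succ']
      refine Ideal.mul_mem_mul hd ?_
      rw [hIpow n]
      exact hy
  have hall : ∀ k : ℕ, k ≤ N → ∀ x ∈ I ^ (N - k), x ∈ A' := by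
    intro k
    induction k with
    | zero =>
      intro _ x hx
      rw [Nat.sub_zero, hN] at hx
      have : x = 0 := hx
      rw [this]
      exact A'.zero_mem
    | succ k ih =>
      intro hk x hx
      apply hdown (N - (k + 1)) _ x hx
      have : N - (k + 1) + 1 = N - k := by omega
      rw [this]
      exact ih (by omega)
  have htop : A' = ⊤ := by
    rw [eq_top_iff]
    intro x _
    have := hall N le_rfl x
    rw [Nat.sub_self, pow_zero, Ideal.one_eq_top] at this
    exact this trivial
  refine ⟨⟨s ∪ t, ?_⟩⟩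
  rw [Finset.coe_union]
  exact htop

/-- Ring-hom form: if `π ∘ φ` is of finite type, with `π` surjective with finitely generated
nilpotent kernel, then `φ` is of finite type. -/
theorem ringHom_finiteType_of_comp {B A A₀ : Type*} [CommRing B] [CommRing A] [CommRing A₀]
    (φ : B →+* A) (π : A →+* A₀) (hπ : Function.Surjective π) (hfg : (RingHom.ker π).FG)
    (hnil : IsNilpotent (RingHom.ker π)) (h : (π.comp φ).FiniteType) : φ.FiniteType := by
  algebraize [φ]
  apply finiteType_of_quotient (RingHom.ker π) hfg hnil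
  let e : (A ⧸ RingHom.ker π) ≃+* A₀ := RingHom.quotientKerEquivOfSurjective hπ
  -- transport finite type along e
  have h1 : (e.symm.toRingHom.comp (π.comp φ)).FiniteType :=
    RingHom.FiniteType.comp (RingHom.FiniteType.of_surjective _ e.symm.surjective) h
  have h2 : e.symm.toRingHom.comp (π.comp φ) = algebraMap B (A ⧸ RingHom.ker π) := by
    ext b
    simp only [RingHom.coe_comp, Function.comp_apply, RingEquiv.toRingHom_eq_coe, RingHom.coe_coe]
    rw [RingEquiv.symm_apply_eq]
    rfl
  rw [h2] at h1
  exact h1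

end Groth.Agent.Helper6.NilFT
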