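import Groth.Agent.Helper9.NineHom
import Groth.Agent.Helper9.FM3
import Mathlib

/-!
# Sections of `H → C₁` and subobjects extending the nine diagram (Freyd–Mitchell chase)
-/

set_option autoImplicit false
set_option linter.style.haveILetI false
set_option linter.unusedSectionVars false
set_option linter.unusedVariables false

namespace Groth.Agent.Helper6.Nine2

open CategoryTheory CategoryTheory.Limits
open Groth.Agent.Helper9.FM Groth.Agent.Helper9.FMS

universe v u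

variable {C : Type u} [Category.{v} C] [Abelian C]

theorem sub_map {X Y : C} (f : X ⟶ Y) [Mono f] (T : Subobject X) :
    sub ((Subobject.map f).obj T) = (sub T).map (m f) := by
  have h : (Subobject.map f).obj T = Subobject.mk (T.arrow ≫ f) := by
    conv_lhs => rw [← Subobject.mk_arrow T]
    exact Subobject.map_mk T.arrow f
  rw [h, sub_mk, m_comp, LinearMap.range_comp]
  rfl

theorem mem_Bs_iff (S : ShortComplex C) {C₁ : C} (s : C₁ ⟶ S.homology) (b : (F C).obj S.X₂) :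
    b ∈ sub ((Subobject.map S.iCycles).obj
        ((Subobject.pullback S.homologyπ).obj (imageSubobject s))) ↔
      ∃ hb : m S.g b = 0, cls S b hb ∈ LinearMap.range (m s) := by
  rw [sub_map, sub_pullback, sub_image]
  constructor
  · rintro ⟨z, hz, rfl⟩
    refine ⟨iCycles_g_apply S z, ?_⟩
    rw [cls_eq S _ z rfl]
    exact hz
  · rintro ⟨hb, h⟩
    obtain ⟨z, hz⟩ := exists_cycle S b hb
    refine ⟨z, ?_, hz⟩
    rw [cls_eq S hb z hz] at h
    exact h

theorem main2 {A₂ A₃ C₁ C₂ : C} (S : ShortComplex C)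
    (i₁ : S.X₁ ⟶ A₂) (p₁ : A₂ ⟶ A₃) (wA : i₁ ≫ p₁ = 0) (hA : (ShortComplex.mk i₁ p₁ wA).ShortExact)
    (i₂ : A₂ ⟶ S.X₂) (π₂ : S.X₂ ⟶ C₂) (wB : i₂ ≫ π₂ = 0) (hB : (ShortComplex.mk i₂ π₂ wB).ShortExact)
    (j : C₁ ⟶ C₂) (q : C₂ ⟶ S.X₃) (wC : j ≫ q = 0) (hC : (ShortComplex.mk j q wC).ShortExact)
    (hSf : S.f = i₁ ≫ i₂) (hSg : S.g = π₂ ≫ q)
    (h₂ : i₂ ≫ S.g = 0) (h₃ : S.f ≫ π₂ = 0)
    (f : A₃ ⟶ S.homology) (g : S.homology ⟶ C₁)
    (hf : p₁ ≫ f = S.liftCycles i₂ h₂ ≫ S.homologyπ)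
    (hg : g ≫ j = S.homologyι ≫ S.descOpcycles π₂ h₃) :
    (∀ B₁ : Subobject S.X₂,
      (∃ (a : S.X₁ ⟶ (B₁ : C)) (c : (B₁ : C) ⟶ C₁) (wac : a ≫ c = 0)
         (a' : A₃ ⟶ cokernel B₁.arrow) (c' : cokernel B₁.arrow ⟶ S.X₃) (wac' : a' ≫ c' = 0),
         a ≫ B₁.arrow = S.f ∧ c ≫ j = B₁.arrow ≫ π₂ ∧ (ShortComplex.mk a c wac).ShortExact ∧
         p₁ ≫ a' = i₂ ≫ cokernel.π B₁.arrow ∧ cokernel.π B₁.arrow ≫ c' = S.g ∧
         (ShortComplex.mk a' c' wac').ShortExact) ↔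
      ∃ s : C₁ ⟶ S.homology, s ≫ g = 𝟙 C₁ ∧
        (Subobject.map S.iCycles).obj
          ((Subobject.pullback S.homologyπ).obj (imageSubobject s)) = B₁) ∧
    (∀ s s' : C₁ ⟶ S.homology, s ≫ g = 𝟙 C₁ → s' ≫ g = 𝟙 C₁ →
      (Subobject.map S.iCycles).obj ((Subobject.pullback S.homologyπ).obj (imageSubobject s)) =
        (Subobject.map S.iCycles).obj ((Subobject.pullback S.homologyπ).obj (imageSubobject s')) →
      s = s') := by
  obtain ⟨wfg, hfg⟩ := Groth.Agent.Helper9.NineHom.main S i₁ p₁ wA hA i₂ π₂ wB hB j q wC hC rfl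
    (by rw [eqToHom_refl, Category.id_comp]; exact hSf) hSg h₂ h₃ f g hf hg
  have hAe := (exact_iff _).1 hA.exact
  have hBe := (exact_iff _).1 hB.exact
  have hCe := (exact_iff _).1 hC.exact
  have hFe := (exact_iff _).1 hfg.exact
  have hi₁ := (mono_iff _).1 hA.mono_f
  have hp₁ := (epi_iff _).1 hA.epi_g
  have hi₂ := (mono_iff _).1 hB.mono_f
  have hπ₂ := (epi_iff _).1 hB.epi_g
  have hj := (mono_iff _).1 hC.mono_f
  have hq := (epi_iff _).1 hC.epi_g
  have hfm := (mono_iff _).1 hfg.mono_f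
  have hgE := (epi_iff _).1 hfg.epi_g
  dsimp only at hAe hBe hCe hFe hi₁ hp₁ hi₂ hπ₂ hj hq hfm hgE
  have hi₂g : ∀ a₂ : (F C).obj A₂, m S.g (m i₂ a₂) = 0 := by
    intro a₂; rw [← m_comp_apply, h₂]; simp
  have hfe : ∀ a : (F C).obj A₂, m f (m p₁ a) = cls S (m i₂ a) (hi₂g a) := by
    intro a; rw [← m_comp_apply, hf, liftCycles_cls]
  have hge : ∀ (b : (F C).obj S.X₂) (hb : m S.g b = 0), m j (m g (cls S b hb)) = m π₂ b := by
    intro b hb; rw [← m_comp_apply, hg, homologyι_desc_cls]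
  have hgf : ∀ a₃, m g (m f a₃) = 0 := by
    intro a₃; rw [← m_comp_apply, wfg]; simp
  have hSg' : ∀ b, m S.g b = m q (m π₂ b) := by
    intro b; rw [hSg, m_comp_apply]
  have hSf' : ∀ x, m S.f x = m i₂ (m i₁ x) := by
    intro x; rw [hSf, m_comp_apply]
  have hsec : ∀ (s : C₁ ⟶ S.homology), s ≫ g = 𝟙 C₁ → ∀ c₁, m g (m s c₁) = c₁ := by
    intro s hs c₁
    rw [← m_comp_apply, hs, m_id]; rfl
  have hkey : ∀ (s : C₁ ⟶ S.homology), s ≫ g = 𝟙 C₁ →
      ∀ h, h ∈ LinearMap.range (m s) → m g h = 0 → h = 0 := by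
    rintro s hs _ ⟨c₁, rfl⟩ h0
    rw [hsec s hs] at h0
    rw [h0, map_zero]
  refine ⟨fun B₁ => ⟨?_, ?_⟩, ?_⟩
  · -- forward
    rintro ⟨a, c, wac, a', c', wac', ha, hc, hac, ha', hc', hac'⟩
    have hace := (exact_iff _).1 hac.exact
    have hcE := (epi_iff _).1 hac.epi_g
    dsimp only at hace hcE
    haveI : Epi c := hac.epi_g
    have hB₁g : B₁.arrow ≫ S.g = 0 := by
      rw [hSg, ← Category.assoc, ← hc, Category.assoc, wC, comp_zero]
    obtain ⟨s, hs⟩ := exists_desc_of_ker_le c (S.liftCycles B₁.arrow hB₁g ≫ S.homologyπ) (by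
      intro y hy
      obtain ⟨x, rfl⟩ := hace y hy
      rw [LinearMap.mem_ker, liftCycles_cls, cls_eq_zero_iff]
      exact ⟨x, by rw [← m_comp_apply, ha]⟩)
    have hBy : ∀ y, m S.g (m B₁.arrow y) = 0 := by
      intro y; rw [← m_comp_apply, hB₁g]; simp
    have hst : ∀ y, m s (m c y) = cls S (m B₁.arrow y) (hBy y) := by
      intro y
      rw [← m_comp_apply, hs, liftCycles_cls]
    have hsg : s ≫ g = 𝟙 C₁ := by
      rw [ext_iff]
      intro c₁
      obtain ⟨y, rfl⟩ := hcE c₁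
      apply hj
      rw [m_comp_apply, hst, hge, m_id, ← m_comp_apply, ← hc, m_comp_apply]; rfl
    refine ⟨s, hsg, ?_⟩
    rw [eq_iff_sub_eq]
    ext b
    rw [mem_Bs_iff]
    constructor
    · rintro ⟨hb, c₁, hc₁⟩
      obtain ⟨y, rfl⟩ := hcE c₁
      rw [hst, cls_eq_cls_iff] at hc₁
      obtain ⟨x, hx⟩ := hc₁
      refine ⟨y - m a x, ?_⟩
      rw [map_sub, ← m_comp_apply, ha, hx]; abel
    · rintro ⟨y, rfl⟩
      exact ⟨hBy y, m c y, hst y⟩
  · -- backward
    rintro ⟨s, hsg, hBeq⟩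
    have hmem : ∀ b, b ∈ sub B₁ ↔ ∃ hb : m S.g b = 0, cls S b hb ∈ LinearMap.range (m s) := by
      intro b; rw [← hBeq, mem_Bs_iff]
    haveI : Mono j := hC.mono_f
    haveI : Epi p₁ := hA.epi_g
    obtain ⟨a, ha⟩ := exists_lift_of_range_le S.f B₁.arrow (by
      rintro _ ⟨x, rfl⟩
      show m S.f x ∈ sub B₁
      rw [hmem]
      have h0 : m S.g (m S.f x) = 0 := by rw [← m_comp_apply, S.zero]; simp
      refine ⟨h0, 0, ?_⟩
      rw [map_zero]; symm; rw [cls_eq_zero_iff]; exact ⟨x, rfl⟩)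
    have hB₁g : B₁.arrow ≫ S.g = 0 := by
      rw [comp_eq_zero_iff]
      intro y
      obtain ⟨hb, -⟩ := (hmem (m B₁.arrow y)).1 ⟨y, rfl⟩
      exact hb
    obtain ⟨c, hc⟩ := exists_lift_of_range_le (B₁.arrow ≫ π₂) j (by
      rintro _ ⟨y, rfl⟩
      have : m q (m (B₁.arrow ≫ π₂) y) = 0 := by
        rw [m_comp_apply, ← hSg', ← m_comp_apply, hB₁g]; simp
      obtain ⟨c₁, hc₁⟩ := hCe _ this
      exact ⟨c₁, hc₁⟩)
    have wac : a ≫ c = 0 := by
      rw [← cancel_mono j, Category.assoc, hc, ← Category.assoc, ha, h₃, zero_comp]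
    obtain ⟨a', ha'⟩ := exists_desc_of_ker_le p₁ (i₂ ≫ cokernel.π B₁.arrow) (by
      intro a₂ ha₂
      obtain ⟨x, rfl⟩ := hAe a₂ ha₂
      rw [LinearMap.mem_ker, m_comp_apply, cokernel_π_eq_zero_iff]
      refine ⟨m a x, ?_⟩
      rw [← m_comp_apply, ha, hSf'])
    have wac' : a' ≫ cokernel.desc B₁.arrow S.g hB₁g = 0 := by
      rw [← cancel_epi p₁, ← Category.assoc, ha', Category.assoc, cokernel.π_desc, h₂, comp_zero]
    refine ⟨a, c, wac, a', cokernel.desc B₁.arrow S.g hB₁g, wac', ha, hc, ?_, ha',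
      cokernel.π_desc _ _ _, ?_⟩
    · haveI : Mono (a ≫ B₁.arrow) := by
        rw [ha, hSf]; haveI : Mono i₁ := hA.mono_f; haveI : Mono i₂ := hB.mono_f; exact mono_comp i₁ i₂
      refine { exact := ?_, mono_f := mono_of_mono a B₁.arrow, epi_g := ?_ }
      · rw [exact_iff]
        intro y hy
        change m c y = 0 at hy
        change ∃ x, m a x = y
        obtain ⟨hb, hr⟩ := (hmem (m B₁.arrow y)).1 ⟨y, rfl⟩
        have hg0 : m g (cls S _ hb) = 0 := by
          apply hj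
          rw [hge, map_zero, ← m_comp_apply, ← hc, m_comp_apply, hy, map_zero]
        have h0 := hkey s hsg _ hr hg0
        rw [cls_eq_zero_iff] at h0
        obtain ⟨x, hx⟩ := h0
        refine ⟨x, ?_⟩
        apply (mono_iff B₁.arrow).1 inferInstance
        rw [← m_comp_apply, ha, hx]
      · change Epi c
        rw [epi_iff]
        intro c₁
        obtain ⟨b, hb, hbe⟩ := exists_cls S (m s c₁)
        obtain ⟨y, hy⟩ := (mem_sub_iff _ _).1 ((hmem b).2 ⟨hb, c₁, hbe.symm⟩)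
        refine ⟨y, ?_⟩
        apply hj
        rw [← m_comp_apply, hc, m_comp_apply, hy, ← hge b hb, hbe, hsec s hsg]
    · haveI : Epi (cokernel.π B₁.arrow ≫ cokernel.desc B₁.arrow S.g hB₁g) := by
        rw [cokernel.π_desc, hSg]; haveI : Epi π₂ := hB.epi_g; haveI : Epi q := hC.epi_g; exact epi_comp π₂ q
      refine { exact := ?_, mono_f := ?_, epi_g := epi_of_epi (cokernel.π B₁.arrow) _ }
      · rw [exact_iff]
        intro w hw
        change m (cokernel.desc B₁.arrow S.g hB₁g) w = 0 at hw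
        change ∃ a₃, m a' a₃ = w
        obtain ⟨b, rfl⟩ := cokernel_π_surjective B₁.arrow w
        rw [← m_comp_apply, cokernel.π_desc] at hw
        obtain ⟨a₃, ha₃⟩ := hFe (cls S b hw - m s (m g (cls S b hw))) (by
          rw [map_sub, hsec s hsg, sub_self])
        obtain ⟨a₂, rfl⟩ := hp₁ a₃
        refine ⟨m p₁ a₂, ?_⟩
        rw [← m_comp_apply, ha', m_comp_apply, cokernel_π_eq_iff]
        rw [hfe] at ha₃
        have hsub : m S.g (b - m i₂ a₂) = 0 := by rw [map_sub, hw, hi₂g, sub_self]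
        have e1 : cls S (b - m i₂ a₂) hsub = cls S b hw - cls S (m i₂ a₂) (hi₂g a₂) :=
          (cls_sub S hw (hi₂g a₂)).symm
        have hin : (b - m i₂ a₂) ∈ sub B₁ := by
          rw [hmem]
          refine ⟨hsub, m g (cls S b hw), ?_⟩
          rw [e1, ha₃, sub_sub_cancel]
        obtain ⟨y, hy⟩ := (mem_sub_iff _ _).1 hin
        refine ⟨-y, ?_⟩
        rw [map_neg, hy, neg_sub]
      · change Mono a'
        rw [mono_iff, injective_iff_map_eq_zero]
        intro a₃ h0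
        obtain ⟨a₂, rfl⟩ := hp₁ a₃
        rw [← m_comp_apply, ha', m_comp_apply, cokernel_π_eq_zero_iff] at h0
        obtain ⟨y, hy⟩ := h0
        obtain ⟨hb, hr⟩ := (hmem (m i₂ a₂)).1 ⟨y, hy⟩
        have hcl : cls S (m i₂ a₂) hb = m f (m p₁ a₂) := (hfe a₂).symm
        have h0' := hkey s hsg _ hr (by rw [hcl, hgf])
        rw [hcl] at h0'
        exact hfm (by rw [h0', map_zero])
  · intro s s' hs hs' hBeq
    rw [ext_iff]
    intro c₁
    obtain ⟨b, hb, hbe⟩ := exists_cls S (m s c₁)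
    have h1 : b ∈ sub ((Subobject.map S.iCycles).obj
        ((Subobject.pullback S.homologyπ).obj (imageSubobject s))) := by
      rw [mem_Bs_iff]; exact ⟨hb, c₁, hbe.symm⟩
    rw [hBeq, mem_Bs_iff] at h1
    obtain ⟨hb', c₁', hc₁'⟩ := h1
    have : c₁' = c₁ := by
      rw [← hsec s' hs' c₁', hc₁', hbe, hsec s hs]
    rw [← hbe, ← hc₁', this]

end Groth.Agent.Helper6.Nine2
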