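import Mathlib
import Groth.Agent.Helper1.TorCrit

/-!
# `Ext¹(R/(y), R/(x))` is one-dimensional for a "node-like" `k`-algebra `R`
-/

set_option autoImplicit false
universe u

namespace Groth.Agent.Helper6.NodeExt

open CategoryTheory Abelian
open Groth.Agent.Helper1.TorLib

section Generic

universe w v u'

variable {k : Type*} [Field k] {C : Type u'} [Category.{v} C] [Abelian C] [Linear k C]
  [HasExt.{w} C] {T : ShortComplex C} (hT : T.ShortExact)

include hT in
theorem finrank_ext_eq_one (hP : ∀ x : Ext T.X₂ T.X₁ 1, x = 0)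
    (hdecomp : ∀ ψ : T.X₁ ⟶ T.X₁, ∃ (c : k) (φ : T.X₂ ⟶ T.X₁), ψ = c • 𝟙 _ + T.f ≫ φ)
    (hns : ∀ φ : T.X₂ ⟶ T.X₁, T.f ≫ φ ≠ 𝟙 _) :
    Module.finrank k (Ext T.X₃ T.X₁ 1) = 1 := by
  have hne : hT.extClass ≠ 0 := by
    intro h0
    have h1 : hT.extClass.comp (Ext.mk₀ (𝟙 T.X₁)) (add_zero 1) = 0 := by
      rw [Ext.comp_mk₀_id]
      exact h0
    obtain ⟨x₂, hx₂⟩ := Ext.contravariant_sequence_exact₁ hT _ _ (add_zero 1) h1
    obtain ⟨φ, rfl⟩ := (Ext.mk₀_bijective _ _).2 x₂
    rw [Ext.mk₀_comp_mk₀] at hx₂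
    exact hns φ ((Ext.mk₀_bijective _ _).1 hx₂)
  rw [finrank_eq_one_iff_of_nonzero' hT.extClass hne]
  intro w
  obtain ⟨x₁, rfl⟩ := Ext.contravariant_sequence_exact₃ hT T.X₁ w (hP _) (add_zero 1)
  obtain ⟨ψ, rfl⟩ := (Ext.mk₀_bijective _ _).2 x₁
  obtain ⟨c, φ, rfl⟩ := hdecomp ψ
  refine ⟨c, ?_⟩
  rw [Ext.mk₀_add, Ext.comp_add, Ext.mk₀_smul, Ext.comp_smul, Ext.comp_mk₀_id,
    ← Ext.mk₀_comp_mk₀, hT.extClass_comp_assoc, add_zero]

end Generic

section Abstract

variable {k : Type u} [Field k] {R : Type u} [CommRing R] [Algebra k R] (x y : R)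
  (hxy : x * y = 0) (hann : ∀ r : R, r * y = 0 → r ∈ Ideal.span {x})
  (hgen : ∀ r : R, ∃ c : k, r - algebraMap k R c ∈ Ideal.span {x, y})
  (hne : (1 : R) ∉ Ideal.span {x, y})

/-- `R/(x) → R`, `[r] ↦ r * y` -/
def iota : (R ⧸ Ideal.span {x}) →ₗ[R] R :=
  Submodule.liftQ (Ideal.span {x}) (LinearMap.toSpanSingleton R R y) (by
    rw [Ideal.span_le, Set.singleton_subset_iff]
    show x ∈ LinearMap.ker _
    rw [LinearMap.mem_ker, LinearMap.toSpanSingleton_apply, smul_eq_mul, hxy])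

theorem iota_mk (r : R) : iota x y hxy (Submodule.Quotient.mk r) = r * y := by
  rw [iota, Submodule.liftQ_apply, LinearMap.toSpanSingleton_apply, smul_eq_mul]

include hann in
theorem iota_injective : Function.Injective (iota x y hxy) := by
  rw [← LinearMap.ker_eq_bot, iota]
  apply Submodule.ker_liftQ_eq_bot'
  apply le_antisymm
  · rw [Ideal.span_le, Set.singleton_subset_iff]
    show x ∈ LinearMap.ker _
    rw [LinearMap.mem_ker, LinearMap.toSpanSingleton_apply, smul_eq_mul, hxy]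
  · intro r hr
    rw [LinearMap.mem_ker, LinearMap.toSpanSingleton_apply, smul_eq_mul] at hr
    exact hann r hr

theorem exact_iota : Function.Exact (iota x y hxy) (Submodule.mkQ (Ideal.span {y})) := by
  intro r
  rw [Submodule.mkQ_apply, Submodule.Quotient.mk_eq_zero, Ideal.mem_span_singleton']
  constructor
  · rintro ⟨a, rfl⟩
    exact ⟨Submodule.Quotient.mk a, iota_mk x y hxy a⟩
  · rintro ⟨z, rfl⟩
    obtain ⟨a, rfl⟩ := Submodule.Quotient.mk_surjective _ z
    exact ⟨a, (iota_mk x y hxy a).symm⟩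

include hann in
theorem ses : (scOfLinear (iota x y hxy) (Submodule.mkQ (Ideal.span {y}))
    (exact_iota x y hxy)).ShortExact :=
  scOfLinear_shortExact _ _ (iota_injective x y hxy hann) (Submodule.mkQ_surjective _) _

include hxy hann hgen hne in
theorem finrank_abstract :
    Module.finrank k (Ext (ModuleCat.of R (R ⧸ Ideal.span {y}))
      (ModuleCat.of R (R ⧸ Ideal.span {x})) 1) = 1 := by
  have hT := ses x y hxy hann
  refine finrank_ext_eq_one (k := k) hT ?_ ?_ ?_
  · intro e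
    have hP : Projective (ModuleCat.of R R) := (IsProjective.iff_projective _).1 inferInstance
    exact Ext.eq_zero_of_projective (P := ModuleCat.of R R) e
  · intro ψ
    let ψ' : (R ⧸ Ideal.span {x}) →ₗ[R] (R ⧸ Ideal.span {x}) := ψ.hom
    obtain ⟨r, hr⟩ := Submodule.Quotient.mk_surjective _ (ψ' (Submodule.Quotient.mk 1))
    obtain ⟨c, hc⟩ := hgen r
    obtain ⟨a, b, hab⟩ := Ideal.mem_span_pair.1 hc
    refine ⟨c, ModuleCat.ofHom (LinearMap.toSpanSingleton R (R ⧸ Ideal.span {x})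
      (Submodule.Quotient.mk b)), ?_⟩
    apply ModuleCat.hom_ext
    apply Submodule.linearMap_qext
    apply LinearMap.ext_ring
    show ψ' (Submodule.Quotient.mk 1) =
      (algebraMap k R c) • (Submodule.Quotient.mk (1 : R) : R ⧸ Ideal.span {x}) +
        (iota x y hxy (Submodule.Quotient.mk 1)) • (Submodule.Quotient.mk b : R ⧸ Ideal.span {x})
    rw [← hr, iota_mk, ← Submodule.Quotient.mk_smul, ← Submodule.Quotient.mk_smul,
      ← Submodule.Quotient.mk_add, Submodule.Quotient.eq, Ideal.mem_span_singleton']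
    refine ⟨a, ?_⟩
    simp only [smul_eq_mul]
    linear_combination hab
  · intro φ h
    let φ' : R →ₗ[R] (R ⧸ Ideal.span {x}) := φ.hom
    have h3 : φ' (iota x y hxy (Submodule.Quotient.mk 1)) =
        (Submodule.Quotient.mk (1 : R) : R ⧸ Ideal.span {x}) :=
      congrArg (fun g : (scOfLinear (iota x y hxy) (Submodule.mkQ (Ideal.span {y}))
        (exact_iota x y hxy)).X₁ ⟶ (scOfLinear (iota x y hxy) (Submodule.mkQ (Ideal.span {y}))
        (exact_iota x y hxy)).X₁ => g.hom (Submodule.Quotient.mk (1 : R))) h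
    rw [iota_mk, one_mul] at h3
    obtain ⟨b, hb⟩ := Submodule.Quotient.mk_surjective _ (φ' (1 : R))
    have h5 : φ' y = y • φ' (1 : R) := by
      rw [← map_smul, smul_eq_mul, mul_one]
    rw [h5, ← hb, ← Submodule.Quotient.mk_smul, smul_eq_mul,
      Submodule.Quotient.eq, Ideal.mem_span_singleton'] at h3
    obtain ⟨a, ha⟩ := h3
    apply hne
    rw [Ideal.mem_span_pair]
    refine ⟨-a, b, ?_⟩
    linear_combination -ha

end Abstract

section Node

variable (k : Type u) [Field k]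

open MvPowerSeries

/-- the decomposition of a power series in two variables -/
theorem exists_decomp (p : MvPowerSeries (Fin 2) k) :
    ∃ p0 p1 : MvPowerSeries (Fin 2) k,
      p - C (constantCoeff p) = p0 * X 0 + p1 * X 1 := by
  classical
  let q : MvPowerSeries (Fin 2) k := fun m => if m 0 = 0 then coeff m p else 0
  have hq : ∀ m, coeff m q = if m 0 = 0 then coeff m p else 0 := fun m => rfl
  have h0 : (X 0 : MvPowerSeries (Fin 2) k) ∣ p - q := by
    rw [X_dvd_iff]
    intro m hm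
    rw [map_sub, hq, if_pos hm, sub_self]
  have h1 : (X 1 : MvPowerSeries (Fin 2) k) ∣ q - C (constantCoeff p) := by
    rw [X_dvd_iff]
    intro m hm
    rw [map_sub, hq, coeff_C]
    by_cases hm0 : m 0 = 0
    · have hmz : m = 0 := by
        ext i
        fin_cases i
        · exact hm0
        · exact hm
      rw [if_pos hm0, if_pos hmz, hmz, coeff_zero_eq_constantCoeff_apply, sub_self]
    · have hmz : m ≠ 0 := by
        intro h
        apply hm0
        rw [h]
        rfl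
      rw [if_neg hm0, if_neg hmz, sub_self]
  obtain ⟨p0, hp0⟩ := h0
  obtain ⟨p1, hp1⟩ := h1
  refine ⟨p0, p1, ?_⟩
  linear_combination hp0 + hp1

/-- the node relation ideal -/
noncomputable abbrev I0 : Ideal (MvPowerSeries (Fin 2) k) :=
  Ideal.span {(X (0 : Fin 2) : MvPowerSeries (Fin 2) k) * X (1 : Fin 2)}

theorem X1_ne_zero : (X (1 : Fin 2) : MvPowerSeries (Fin 2) k) ≠ 0 := by
  classical
  intro h
  have h1 := congrArg (coeff (Finsupp.single (1 : Fin 2) 1)) h
  rw [coeff_X, if_pos rfl, map_zero] at h1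
  exact one_ne_zero h1

theorem node_hxy : Ideal.Quotient.mk (I0 k) (X 0) * Ideal.Quotient.mk (I0 k) (X 1) = 0 := by
  rw [← map_mul, Ideal.Quotient.eq_zero_iff_mem]
  exact Ideal.mem_span_singleton_self _

theorem node_hann (r : MvPowerSeries (Fin 2) k ⧸ I0 k)
    (hr : r * Ideal.Quotient.mk (I0 k) (X 1) = 0) :
    r ∈ Ideal.span {Ideal.Quotient.mk (I0 k) (X 0)} := by
  obtain ⟨p, rfl⟩ := Ideal.Quotient.mk_surjective r
  rw [← map_mul, Ideal.Quotient.eq_zero_iff_mem, Ideal.mem_span_singleton'] at hr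
  obtain ⟨h, hh⟩ := hr
  have h1 : (h * X 0 - p) * X 1 = 0 := by linear_combination hh
  have h2 : h * X 0 - p = 0 := (mul_eq_zero.1 h1).resolve_right (X1_ne_zero k)
  rw [Ideal.mem_span_singleton']
  refine ⟨Ideal.Quotient.mk (I0 k) h, ?_⟩
  rw [← map_mul]
  congr 1
  linear_combination h2

theorem node_hgen (r : MvPowerSeries (Fin 2) k ⧸ I0 k) :
    ∃ c : k, r - algebraMap k (MvPowerSeries (Fin 2) k ⧸ I0 k) c ∈
      Ideal.span {Ideal.Quotient.mk (I0 k) (X 0), Ideal.Quotient.mk (I0 k) (X 1)} := by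
  obtain ⟨p, rfl⟩ := Ideal.Quotient.mk_surjective r
  obtain ⟨p0, p1, hp⟩ := exists_decomp k p
  refine ⟨constantCoeff p, ?_⟩
  have h1 : algebraMap k (MvPowerSeries (Fin 2) k ⧸ I0 k) (constantCoeff p) =
      Ideal.Quotient.mk (I0 k) (C (constantCoeff p)) := rfl
  rw [h1, ← map_sub, hp, Ideal.mem_span_pair]
  refine ⟨Ideal.Quotient.mk (I0 k) p0, Ideal.Quotient.mk (I0 k) p1, ?_⟩
  simp only [map_add, map_mul]

theorem node_hne : (1 : MvPowerSeries (Fin 2) k ⧸ I0 k) ∉
    Ideal.span {Ideal.Quotient.mk (I0 k) (X 0), Ideal.Quotient.mk (I0 k) (X 1)} := by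
  intro h
  obtain ⟨a, b, hab⟩ := Ideal.mem_span_pair.1 h
  let ε : (MvPowerSeries (Fin 2) k ⧸ I0 k) →+* k :=
    Ideal.Quotient.lift (I0 k) (constantCoeff (σ := Fin 2) (R := k)) (by
      intro z hz
      obtain ⟨w, rfl⟩ := Ideal.mem_span_singleton'.1 hz
      simp)
  have h1 := congrArg ε hab
  simp only [map_add, map_mul, map_one, ε, Ideal.Quotient.lift_mk, constantCoeff_X, mul_zero,
    add_zero] at h1
  exact zero_ne_one h1

theorem main : Module.finrank k (Ext
    (ModuleCat.of (MvPowerSeries (Fin 2) k ⧸ I0 k)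
      ((MvPowerSeries (Fin 2) k ⧸ I0 k) ⧸ Ideal.span {Ideal.Quotient.mk (I0 k) (X 1)}))
    (ModuleCat.of (MvPowerSeries (Fin 2) k ⧸ I0 k)
      ((MvPowerSeries (Fin 2) k ⧸ I0 k) ⧸ Ideal.span {Ideal.Quotient.mk (I0 k) (X 0)})) 1) = 1 :=
  finrank_abstract _ _ (node_hxy k) (node_hann k) (node_hgen k) (node_hne k)

end Node

end Groth.Agent.Helper6.NodeExt
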