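import Mathlib
import Groth.Agent.Helper1.TorRelative
import Groth.Agent.Helper1.TorPrimes
import Groth.Agent.Helper1.TorBalance
import Groth.Agent.Helper1.TorProjDim
import Groth.Agent.Helper6.NodeExt

/-!
# `Tor_i(k, k)` over a node has length two
-/

set_option autoImplicit false
universe u

namespace Groth.Agent.Helper6.NodeTor

open CategoryTheory CategoryTheory.Limits MonoidalCategory
open Groth.Agent.Helper1.TorLib

section Generic

variable {A : Type u} [CommRing A]

/-- scalars killing the second variable kill `Tor` -/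
theorem smul_tor_eq_zero (n : ℕ) (M N : ModuleCat.{u} A) (a : A) (ha : ∀ z : N, a • z = 0)
    (t : ((Tor (ModuleCat.{u} A) n).obj M).obj N) : a • t = 0 := by
  obtain ⟨e⟩ := nonempty_tor_symm_iso M N n
  have hinj : Function.Injective e.hom.hom := (ModuleCat.mono_iff_injective _).1 inferInstance
  apply hinj
  rw [map_smul, map_zero, ← tor_map_smul_id_apply n N M a (e.hom.hom t)]
  have h0 : a • 𝟙 N = (0 : A) • 𝟙 N := by
    ext z
    simp [ha z]
  rw [h0, tor_map_smul, zero_smul]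
  rfl

/-- `Tor_n(a • 𝟙, N) = 0` if `a` kills `N` -/
theorem tor_map_smul_id_eq_zero (n : ℕ) (M N : ModuleCat.{u} A) (a : A) (ha : ∀ z : N, a • z = 0) :
    ((Tor (ModuleCat.{u} A) n).map (a • 𝟙 M)).app N = 0 := by
  ext t
  rw [tor_map_smul_id_apply, smul_tor_eq_zero n M N a ha t]
  rfl

variable (X : ModuleCat.{u} A) {S : ShortComplex (ModuleCat.{u} A)} (hS : S.ShortExact)

include hS in
/-- additivity of length along the `Tor` sequence when `Tor(f) = 0` -/
theorem length_tor_succ (hf : ∀ i, ((Tor (ModuleCat.{u} A) i).map S.f).app X = 0) (i : ℕ) :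
    Module.length A (((Tor (ModuleCat.{u} A) (i + 1)).obj S.X₃).obj X) =
      Module.length A (((Tor (ModuleCat.{u} A) (i + 1)).obj S.X₂).obj X) +
        Module.length A (((Tor (ModuleCat.{u} A) i).obj S.X₁).obj X) := by
  refine Module.length_eq_add_of_exact (((Tor (ModuleCat.{u} A) (i + 1)).map S.g).app X).hom
    (torδ X hS i).hom ?_ ?_ (exact_tor_g_δ X hS i)
  · -- injectivity of `g_*`
    rw [← LinearMap.ker_eq_bot, eq_bot_iff]
    intro t ht
    obtain ⟨s, rfl⟩ := (exact_tor_f_g X hS (i + 1) t).1 ht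
    rw [hf (i + 1)]
    rfl
  · -- surjectivity of `δ`
    intro t
    refine (exact_torδ_f X hS i t).1 ?_
    rw [hf i]
    rfl

omit hS in
/-- `Tor_i(f) = 0` when `f` has flat target and becomes `a • 𝟙` after an epi, with `a` killing `X` -/
theorem tor_map_f_eq_zero [Module.Flat A S.X₂] (p : S.X₂ ⟶ S.X₁) [Epi p] (a : A)
    (hp : p ≫ S.f = a • 𝟙 S.X₂) (ha : ∀ z : X, a • z = 0) (i : ℕ) :
    ((Tor (ModuleCat.{u} A) i).map S.f).app X = 0 := by
  cases i with
  | zero =>
    have := epi_tor_zero_map₁ X p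
    rw [← cancel_epi (((Tor (ModuleCat.{u} A) 0).map p).app X), ← NatTrans.comp_app,
      ← Functor.map_comp, hp, tor_map_smul_id_eq_zero 0 S.X₂ X a ha, comp_zero]
  | succ n => exact (isZero_tor_of_flat_left S.X₂ X n).eq_of_tgt _ _

/-- `Tor_0(A/I, X) ≅ X` when `I` kills `X` -/
theorem length_tor_zero_quot (I : Ideal A) (hI : ∀ a ∈ I, ∀ z : X, a • z = 0) :
    Module.length A (((Tor (ModuleCat.{u} A) 0).obj (ModuleCat.of A (A ⧸ I))).obj X) =
      Module.length A X := by
  have e1 : ((Tor (ModuleCat.{u} A) 0).obj (ModuleCat.of A (A ⧸ I))).obj X ≅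
      ModuleCat.of A (A ⧸ I) ⊗ X := (torZeroNatIso X).app (ModuleCat.of A (A ⧸ I))
  have hbot : I • (⊤ : Submodule A X) = ⊥ := by
    rw [eq_bot_iff, Submodule.smul_le]
    intro a ha z _
    rw [hI a ha z]
    exact Submodule.zero_mem _
  let e2 : (TensorProduct A (A ⧸ I) X) ≃ₗ[A] X :=
    (TensorProduct.quotTensorEquivQuotSMul X I) ≪≫ₗ Submodule.quotEquivOfEqBot _ hbot
  rw [e1.toLinearEquiv.length_eq]
  exact e2.length_eq

end Generic

section Abstract

open Groth.Agent.Helper6.NodeExt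

variable {R : Type u} [CommRing R] (x y : R) (hxy : x * y = 0)
  (hannY : ∀ r : R, r * y = 0 → r ∈ Ideal.span {x})
  (X : ModuleCat.{u} R) (hy : ∀ z : X, y • z = 0)

include hxy hannY hy in
/-- `ℓ Tor_{i+1}(R/(y), X) = ℓ Tor_i(R/(x), X)` -/
theorem length_shift (i : ℕ) :
    Module.length R (((Tor (ModuleCat.{u} R) (i + 1)).obj
      (ModuleCat.of R (R ⧸ Ideal.span {y}))).obj X) =
    Module.length R (((Tor (ModuleCat.{u} R) i).obj
      (ModuleCat.of R (R ⧸ Ideal.span {x}))).obj X) := by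
  have hT := ses x y hxy hannY
  haveI : Module.Flat R (scOfLinear (iota x y hxy) (Submodule.mkQ (Ideal.span {y}))
      (exact_iota x y hxy)).X₂ := inferInstanceAs (Module.Flat R R)
  let p : (scOfLinear (iota x y hxy) (Submodule.mkQ (Ideal.span {y}))
      (exact_iota x y hxy)).X₂ ⟶ (scOfLinear (iota x y hxy) (Submodule.mkQ (Ideal.span {y}))
      (exact_iota x y hxy)).X₁ := ModuleCat.ofHom (Submodule.mkQ (Ideal.span {x}))
  haveI : Epi p := (ModuleCat.epi_iff_surjective _).2 (Submodule.mkQ_surjective _)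
  have hp : p ≫ (scOfLinear (iota x y hxy) (Submodule.mkQ (Ideal.span {y}))
      (exact_iota x y hxy)).f = y • 𝟙 _ := by
    apply ModuleCat.hom_ext
    apply LinearMap.ext_ring
    show iota x y hxy (Submodule.Quotient.mk (1 : R)) = y • (1 : R)
    rw [iota_mk, one_mul, smul_eq_mul, mul_one]
  have h1 := length_tor_succ X hT (tor_map_f_eq_zero X p y hp hy) i
  have h2 : Module.length R (((Tor (ModuleCat.{u} R) (i + 1)).obj
      (scOfLinear (iota x y hxy) (Submodule.mkQ (Ideal.span {y}))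
      (exact_iota x y hxy)).X₂).obj X) = 0 := by
    rw [Module.length_eq_zero_iff]
    exact ModuleCat.subsingleton_of_isZero (isZero_tor_of_flat_left _ X i)
  rw [h2, zero_add] at h1
  exact h1

/-- multiplication by `y` on `R/(x)` -/
def muy : (R ⧸ Ideal.span {x}) →ₗ[R] (R ⧸ Ideal.span {x}) := y • LinearMap.id

/-- the projection `R/(x) → R/(x, y)` -/
def gq : (R ⧸ Ideal.span {x}) →ₗ[R] (R ⧸ Ideal.span {x, y}) :=
  Submodule.mapQ _ _ LinearMap.id (by
    rw [Submodule.comap_id]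
    exact Ideal.span_mono (Set.singleton_subset_iff.2 (Set.mem_insert _ _)))

theorem gq_mk (r : R) : gq x y (Submodule.Quotient.mk r) = Submodule.Quotient.mk r := rfl

theorem gq_surjective : Function.Surjective (gq x y) := by
  intro z
  obtain ⟨r, rfl⟩ := Submodule.Quotient.mk_surjective _ z
  exact ⟨Submodule.Quotient.mk r, rfl⟩

theorem muy_injective (hcy : ∀ r : R, r * y ∈ Ideal.span {x} → r ∈ Ideal.span {x}) :
    Function.Injective (muy x y) := by
  rw [← LinearMap.ker_eq_bot, eq_bot_iff]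
  intro z hz
  obtain ⟨r, rfl⟩ := Submodule.Quotient.mk_surjective _ z
  rw [LinearMap.mem_ker, muy, LinearMap.smul_apply, LinearMap.id_apply,
    ← Submodule.Quotient.mk_smul, Submodule.Quotient.mk_eq_zero, smul_eq_mul, mul_comm] at hz
  rw [Submodule.mem_bot, Submodule.Quotient.mk_eq_zero]
  exact hcy r hz

theorem exact_muy_gq : Function.Exact (muy x y) (gq x y) := by
  intro z
  obtain ⟨r, rfl⟩ := Submodule.Quotient.mk_surjective _ z
  rw [gq_mk, Submodule.Quotient.mk_eq_zero, Ideal.mem_span_pair]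
  constructor
  · rintro ⟨a, b, hab⟩
    refine ⟨Submodule.Quotient.mk b, ?_⟩
    rw [muy, LinearMap.smul_apply, LinearMap.id_apply, ← Submodule.Quotient.mk_smul,
      Submodule.Quotient.eq, Ideal.mem_span_singleton']
    refine ⟨-a, ?_⟩
    rw [smul_eq_mul]
    linear_combination -hab
  · rintro ⟨w, hw⟩
    obtain ⟨b, rfl⟩ := Submodule.Quotient.mk_surjective _ w
    rw [muy, LinearMap.smul_apply, LinearMap.id_apply, ← Submodule.Quotient.mk_smul,
      Submodule.Quotient.eq, Ideal.mem_span_singleton'] at hw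
    obtain ⟨a, ha⟩ := hw
    refine ⟨-a, b, ?_⟩
    rw [smul_eq_mul] at ha
    linear_combination -ha

include hy in
/-- `ℓ Tor_{i+1}(R/(x,y), X) = ℓ Tor_{i+1}(R/(x), X) + ℓ Tor_i(R/(x), X)` -/
theorem length_K (hcy : ∀ r : R, r * y ∈ Ideal.span {x} → r ∈ Ideal.span {x}) (i : ℕ) :
    Module.length R (((Tor (ModuleCat.{u} R) (i + 1)).obj
      (ModuleCat.of R (R ⧸ Ideal.span {x, y}))).obj X) =
    Module.length R (((Tor (ModuleCat.{u} R) (i + 1)).obj
      (ModuleCat.of R (R ⧸ Ideal.span {x}))).obj X) +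
    Module.length R (((Tor (ModuleCat.{u} R) i).obj
      (ModuleCat.of R (R ⧸ Ideal.span {x}))).obj X) := by
  have hT := scOfLinear_shortExact (muy x y) (gq x y) (muy_injective x y hcy) (gq_surjective x y)
    (exact_muy_gq x y)
  have hf : ∀ j, ((Tor (ModuleCat.{u} R) j).map
      (scOfLinear (muy x y) (gq x y) (exact_muy_gq x y)).f).app X = 0 := by
    intro j
    have e : (scOfLinear (muy x y) (gq x y) (exact_muy_gq x y)).f =
        y • 𝟙 (ModuleCat.of R (R ⧸ Ideal.span {x})) := by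
      apply ModuleCat.hom_ext
      rfl
    rw [e]
    exact tor_map_smul_id_eq_zero j _ X y hy
  exact length_tor_succ X hT hf i

include hxy hannY hy in
/-- all `Tor_i(R/(x), X)` and `Tor_i(R/(y), X)` have the length of `X` -/
theorem length_branches (hannX : ∀ r : R, r * x = 0 → r ∈ Ideal.span {y})
    (hx : ∀ z : X, x • z = 0) (i : ℕ) :
    Module.length R (((Tor (ModuleCat.{u} R) i).obj
      (ModuleCat.of R (R ⧸ Ideal.span {x}))).obj X) = Module.length R X ∧
    Module.length R (((Tor (ModuleCat.{u} R) i).obj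
      (ModuleCat.of R (R ⧸ Ideal.span {y}))).obj X) = Module.length R X := by
  have hyx : y * x = 0 := by rw [mul_comm]; exact hxy
  induction i with
  | zero =>
    constructor
    · refine length_tor_zero_quot X _ ?_
      intro a ha z
      obtain ⟨c, rfl⟩ := Ideal.mem_span_singleton'.1 ha
      rw [mul_smul, hx, smul_zero]
    · refine length_tor_zero_quot X _ ?_
      intro a ha z
      obtain ⟨c, rfl⟩ := Ideal.mem_span_singleton'.1 ha
      rw [mul_smul, hy, smul_zero]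
  | succ i ih =>
    constructor
    · rw [length_shift y x hyx hannX X hx i]
      exact ih.2
    · rw [length_shift x y hxy hannY X hy i]
      exact ih.1

include hxy hannY hy in
theorem length_tor_node (hannX : ∀ r : R, r * x = 0 → r ∈ Ideal.span {y})
    (hx : ∀ z : X, x • z = 0)
    (hcy : ∀ r : R, r * y ∈ Ideal.span {x} → r ∈ Ideal.span {x}) (i : ℕ) :
    Module.length R (((Tor (ModuleCat.{u} R) (i + 1)).obj
      (ModuleCat.of R (R ⧸ Ideal.span {x, y}))).obj X) =
    Module.length R X + Module.length R X := by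
  rw [length_K x y X hy hcy i,
    (length_branches x y hxy hannY X hy hannX hx (i + 1)).1,
    (length_branches x y hxy hannY X hy hannX hx i).1]

end Abstract

section Node

variable (k : Type u) [Field k]

open MvPolynomial

/-- the node relation ideal in the polynomial ring -/
noncomputable abbrev J0 : Ideal (MvPolynomial (Fin 2) k) :=
  Ideal.span {(X (0 : Fin 2) : MvPolynomial (Fin 2) k) * X (1 : Fin 2)}

theorem poly_decomp (p : MvPolynomial (Fin 2) k) :
    ∃ p0 p1 : MvPolynomial (Fin 2) k, p - C (constantCoeff p) = p0 * X 0 + p1 * X 1 := by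
  induction p using MvPolynomial.induction_on with
  | C a => exact ⟨0, 0, by simp⟩
  | add p q hp hq =>
    obtain ⟨p0, p1, hp⟩ := hp
    obtain ⟨q0, q1, hq⟩ := hq
    refine ⟨p0 + q0, p1 + q1, ?_⟩
    rw [map_add, map_add]
    linear_combination hp + hq
  | mul_X p i _ =>
    fin_cases i
    · exact ⟨p, 0, by simp⟩
    · exact ⟨0, p, by simp⟩

theorem pnode_hxy : Ideal.Quotient.mk (J0 k) (X 0) * Ideal.Quotient.mk (J0 k) (X 1) = 0 := by
  rw [← map_mul, Ideal.Quotient.eq_zero_iff_mem]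
  exact Ideal.mem_span_singleton_self _

theorem pnode_hann (i j : Fin 2) (hij : i ≠ j)
    (hJ' : J0 k ≤ Ideal.span {(X i : MvPolynomial (Fin 2) k) * X j})
    (r : MvPolynomial (Fin 2) k ⧸ J0 k)
    (hr : r * Ideal.Quotient.mk (J0 k) (X j) ∈ Ideal.span {Ideal.Quotient.mk (J0 k) (X i)}) :
    r ∈ Ideal.span {Ideal.Quotient.mk (J0 k) (X i)} := by
  obtain ⟨p, rfl⟩ := Ideal.Quotient.mk_surjective r
  obtain ⟨q', hq'⟩ := Ideal.mem_span_singleton'.1 hr
  obtain ⟨q, rfl⟩ := Ideal.Quotient.mk_surjective q'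
  rw [← map_mul, ← map_mul, Ideal.Quotient.eq] at hq'
  obtain ⟨h, hh⟩ := Ideal.mem_span_singleton'.1 (hJ' hq')
  have h1 : (X i : MvPolynomial (Fin 2) k) ∣ p * X j :=
    ⟨q - h * X j, by linear_combination hh⟩
  rcases X_dvd_mul_iff.1 h1 with h2 | h2
  · obtain ⟨p', rfl⟩ := h2
    rw [Ideal.mem_span_singleton']
    exact ⟨Ideal.Quotient.mk (J0 k) p', by rw [← map_mul, mul_comm]⟩
  · exact absurd (X_dvd_X.1 h2) hij

theorem pnode_hne : (1 : MvPolynomial (Fin 2) k ⧸ J0 k) ∉
    Ideal.span {Ideal.Quotient.mk (J0 k) (X 0), Ideal.Quotient.mk (J0 k) (X 1)} := by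
  intro h
  obtain ⟨a, b, hab⟩ := Ideal.mem_span_pair.1 h
  let ε : (MvPolynomial (Fin 2) k ⧸ J0 k) →+* k :=
    Ideal.Quotient.lift (J0 k) (constantCoeff (σ := Fin 2) (R := k)) (by
      intro z hz
      obtain ⟨w, rfl⟩ := Ideal.mem_span_singleton'.1 hz
      simp)
  have h1 := congrArg ε hab
  simp only [map_add, map_mul, map_one, ε, Ideal.Quotient.lift_mk, constantCoeff_X, mul_zero,
    add_zero] at h1
  exact zero_ne_one h1

theorem pnode_isMaximal : (Ideal.span {Ideal.Quotient.mk (J0 k) (X 0),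
    Ideal.Quotient.mk (J0 k) (X 1)}).IsMaximal := by
  rw [Ideal.isMaximal_iff]
  refine ⟨pnode_hne k, ?_⟩
  intro J r hIJ hrI hrJ
  obtain ⟨p, rfl⟩ := Ideal.Quotient.mk_surjective r
  obtain ⟨p0, p1, hp⟩ := poly_decomp k p
  have h1 : Ideal.Quotient.mk (J0 k) p - Ideal.Quotient.mk (J0 k) (C (constantCoeff p)) ∈
      Ideal.span {Ideal.Quotient.mk (J0 k) (X 0), Ideal.Quotient.mk (J0 k) (X 1)} := by
    rw [← map_sub, hp, Ideal.mem_span_pair]
    exact ⟨Ideal.Quotient.mk (J0 k) p0, Ideal.Quotient.mk (J0 k) p1, by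
      simp only [map_add, map_mul]⟩
  have hc : constantCoeff p ≠ 0 := by
    intro h0
    apply hrI
    rw [h0, map_zero, map_zero, sub_zero] at h1
    exact h1
  have h2 : Ideal.Quotient.mk (J0 k) (C (constantCoeff p)) ∈ J := by
    have h3 := J.sub_mem hrJ (hIJ h1)
    rwa [sub_sub_cancel] at h3
  have h4 : (1 : MvPolynomial (Fin 2) k ⧸ J0 k) =
      Ideal.Quotient.mk (J0 k) (C (constantCoeff p)⁻¹) *
        Ideal.Quotient.mk (J0 k) (C (constantCoeff p)) := by
    rw [← map_mul, ← C_mul, inv_mul_cancel₀ hc, C_1, map_one]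
  rw [h4]
  exact J.mul_mem_left _ h2

theorem pnode_length_K : Module.length (MvPolynomial (Fin 2) k ⧸ J0 k)
    ((MvPolynomial (Fin 2) k ⧸ J0 k) ⧸ Ideal.span {Ideal.Quotient.mk (J0 k) (X 0),
      Ideal.Quotient.mk (J0 k) (X 1)}) = 1 := by
  rw [Module.length_eq_one_iff]
  exact isSimpleModule_iff_isCoatom.2 (Ideal.isMaximal_def.1 (pnode_isMaximal k))

theorem pnode_kill (i : Fin 2) (z : (MvPolynomial (Fin 2) k ⧸ J0 k) ⧸
    Ideal.span {Ideal.Quotient.mk (J0 k) (X 0), Ideal.Quotient.mk (J0 k) (X 1)}) :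
    Ideal.Quotient.mk (J0 k) (X i) • z = 0 := by
  obtain ⟨r, rfl⟩ := Submodule.Quotient.mk_surjective _ z
  rw [← Submodule.Quotient.mk_smul, Submodule.Quotient.mk_eq_zero, smul_eq_mul]
  apply Ideal.mul_mem_right
  apply Ideal.subset_span
  fin_cases i
  · exact Set.mem_insert _ _
  · exact Set.mem_insert_of_mem _ rfl

theorem main_length (i : ℕ) (hi : 1 ≤ i) :
    Module.length (MvPolynomial (Fin 2) k ⧸ J0 k)
      (((Tor (ModuleCat.{u} (MvPolynomial (Fin 2) k ⧸ J0 k)) i).obj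
        (ModuleCat.of (MvPolynomial (Fin 2) k ⧸ J0 k) ((MvPolynomial (Fin 2) k ⧸ J0 k) ⧸
          Ideal.span {Ideal.Quotient.mk (J0 k) (X 0), Ideal.Quotient.mk (J0 k) (X 1)}))).obj
        (ModuleCat.of (MvPolynomial (Fin 2) k ⧸ J0 k) ((MvPolynomial (Fin 2) k ⧸ J0 k) ⧸
          Ideal.span {Ideal.Quotient.mk (J0 k) (X 0), Ideal.Quotient.mk (J0 k) (X 1)}))) = 2 := by
  obtain ⟨j, rfl⟩ : ∃ j, i = j + 1 := ⟨i - 1, by omega⟩
  have hle01 : J0 k ≤ Ideal.span {(X (0 : Fin 2) : MvPolynomial (Fin 2) k) * X (1 : Fin 2)} :=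
    le_rfl
  have hle10 : J0 k ≤ Ideal.span {(X (1 : Fin 2) : MvPolynomial (Fin 2) k) * X (0 : Fin 2)} := by
    rw [mul_comm]
  have hannY : ∀ r : MvPolynomial (Fin 2) k ⧸ J0 k, r * Ideal.Quotient.mk (J0 k) (X 1) = 0 →
      r ∈ Ideal.span {Ideal.Quotient.mk (J0 k) (X 0)} := fun r hr =>
    pnode_hann k 0 1 (by decide) hle01 r (by rw [hr]; exact Submodule.zero_mem _)
  have hannX : ∀ r : MvPolynomial (Fin 2) k ⧸ J0 k, r * Ideal.Quotient.mk (J0 k) (X 0) = 0 →
      r ∈ Ideal.span {Ideal.Quotient.mk (J0 k) (X 1)} := fun r hr =>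
    pnode_hann k 1 0 (by decide) hle10 r (by rw [hr]; exact Submodule.zero_mem _)
  rw [length_tor_node _ _ (pnode_hxy k) hannY _ (pnode_kill k 1) hannX (pnode_kill k 0)
    (pnode_hann k 0 1 (by decide) hle01) j]
  have h1 := pnode_length_K k
  change Module.length _ _ + Module.length _ _ = 2
  rw [h1]
  rfl

theorem main_pd (n : ℕ) :
    ¬ HasProjectiveDimensionLT
      (ModuleCat.of (MvPolynomial (Fin 2) k ⧸ J0 k) ((MvPolynomial (Fin 2) k ⧸ J0 k) ⧸
          Ideal.span {Ideal.Quotient.mk (J0 k) (X 0), Ideal.Quotient.mk (J0 k) (X 1)})) n := by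
  intro h
  haveI : HasProjectiveDimensionLE
      (ModuleCat.of (MvPolynomial (Fin 2) k ⧸ J0 k) ((MvPolynomial (Fin 2) k ⧸ J0 k) ⧸
          Ideal.span {Ideal.Quotient.mk (J0 k) (X 0), Ideal.Quotient.mk (J0 k) (X 1)})) n :=
    hasProjectiveDimensionLT_of_ge _ n (n + 1) (Nat.le_succ n)
  have hz := isZero_tor_of_hasProjectiveDimensionLE
    (ModuleCat.of (MvPolynomial (Fin 2) k ⧸ J0 k) ((MvPolynomial (Fin 2) k ⧸ J0 k) ⧸
          Ideal.span {Ideal.Quotient.mk (J0 k) (X 0), Ideal.Quotient.mk (J0 k) (X 1)}))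
    (ModuleCat.of (MvPolynomial (Fin 2) k ⧸ J0 k) ((MvPolynomial (Fin 2) k ⧸ J0 k) ⧸
          Ideal.span {Ideal.Quotient.mk (J0 k) (X 0), Ideal.Quotient.mk (J0 k) (X 1)}))
    n (n + 1) (Nat.lt_succ_self n)
  have h2 := main_length k (n + 1) (by omega)
  have h0 : Module.length (MvPolynomial (Fin 2) k ⧸ J0 k)
      (((Tor (ModuleCat.{u} (MvPolynomial (Fin 2) k ⧸ J0 k)) (n + 1)).obj
        (ModuleCat.of (MvPolynomial (Fin 2) k ⧸ J0 k) ((MvPolynomial (Fin 2) k ⧸ J0 k) ⧸
          Ideal.span {Ideal.Quotient.mk (J0 k) (X 0), Ideal.Quotient.mk (J0 k) (X 1)}))).obj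
        (ModuleCat.of (MvPolynomial (Fin 2) k ⧸ J0 k) ((MvPolynomial (Fin 2) k ⧸ J0 k) ⧸
          Ideal.span {Ideal.Quotient.mk (J0 k) (X 0), Ideal.Quotient.mk (J0 k) (X 1)}))) = 0 := by
    rw [Module.length_eq_zero_iff]
    exact ModuleCat.subsingleton_of_isZero hz
  rw [h0] at h2
  exact absurd h2 (by norm_num)

end Node

end Groth.Agent.Helper6.NodeTor
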