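import Mathlib
import Groth.Agent.Helper6.TrRes
import Groth.Agent.Helper5.FFAdele
import Groth.Agent.Helper5.FGIntFin
import Groth.Agent.Helper5.FGWeak
import Groth.Agent.Helper5.FGOrd
import Groth.Agent.Helper5.FGInt
import Groth.Agent.Helper5.FGExt

set_option autoImplicit false
set_option linter.style.haveILetI false
set_option linter.unusedSectionVars false

/-!
# The order of a norm: `deg P · ord_P (N x) = ∑_{Q | P} deg Q · ord_Q x`
-/

namespace Groth.Agent.Helper6.NormOrd

open FunFld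
open Groth.Agent.Helper5 Groth.Agent.Helper5.RelQuot Groth.Agent.Helper5.FF

universe u v w

section adele

variable {k : Type*} {L : Type*} [Field k] [Field L] [Algebra k L]

theorem isRel_AD_step' (hL : FG.IsFF k L) (A : Divisor k L) (P : Place k L) :
    IsRel (AD A) (AD (A + Finsupp.single P 1)) P.deg := by
  obtain ⟨t, ht⟩ := exists_uniformizer P
  haveI := FG.finiteDimensional_residueField hL P
  exact isRel_of_surjective (adStepMap A P t ht) (adStepMap_surjective A P t ht)
    (ker_adStepMap A P t ht)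

theorem isRel_AD_add' (hL : FG.IsFF k L) (F : Place k L →₀ ℕ) :
    ∀ A : Divisor k L, ∃ n : ℕ, (n : ℤ) = (toZ F).deg ∧ IsRel (AD A) (AD (A + toZ F)) n := by
  induction F using Finsupp.induction_linear with
  | zero =>
    intro A
    refine ⟨0, ?_, ?_⟩
    · rw [map_zero, deg_zero]; rfl
    · rw [map_zero, add_zero]; exact isRel_self _
  | add f g hf hg =>
    intro A
    obtain ⟨m, hm, h1⟩ := hf A
    obtain ⟨n, hn, h2⟩ := hg (A + toZ f)
    refine ⟨m + n, ?_, ?_⟩
    · rw [map_add, deg_add]; push_cast; omega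
    · rw [map_add, ← add_assoc]
      refine isRel_trans (AD_mono ?_) (AD_mono ?_) h1 h2
      · exact le_add_of_nonneg_right (fun P => by rw [toZ_apply]; exact Nat.cast_nonneg _)
      · exact le_add_of_nonneg_right (fun P => by rw [toZ_apply]; exact Nat.cast_nonneg _)
  | single P m =>
    induction m with
    | zero =>
      intro A
      refine ⟨0, ?_, ?_⟩
      · rw [Finsupp.single_zero, map_zero, deg_zero]; rfl
      · rw [Finsupp.single_zero, map_zero, add_zero]; exact isRel_self _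
    | succ m ih =>
      intro A
      obtain ⟨n, hn, h1⟩ := ih A
      have h2 := isRel_AD_step' hL (A + toZ (Finsupp.single P m)) P
      have heq : toZ (Finsupp.single P (m + 1)) =
          toZ (Finsupp.single P m) + Finsupp.single P 1 := by
        rw [toZ_single, toZ_single, ← Finsupp.single_add]; simp
      refine ⟨n + P.deg, ?_, ?_⟩
      · rw [heq, deg_add, deg_single]; push_cast; omega
      · rw [heq, ← add_assoc]
        refine isRel_trans (AD_mono ?_) (AD_mono ?_) h1 h2
        · exact le_add_of_nonneg_right (fun P => by rw [toZ_apply]; exact Nat.cast_nonneg _)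
        · exact le_add_of_nonneg_right (fun Q => by
            rw [Finsupp.zero_apply]
            by_cases h : Q = P
            · subst h; simp
            · rw [Finsupp.single_eq_of_ne h])

theorem isRel_AD' (hL : FG.IsFF k L) {D₁ D₂ : Divisor k L} (h : D₁ ≤ D₂) :
    ∃ n : ℕ, (n : ℤ) = D₂.deg - D₁.deg ∧ IsRel (AD D₁) (AD D₂) n := by
  obtain ⟨F, hF⟩ := exists_toZ_eq (E := D₂ - D₁) (sub_nonneg.mpr h)
  obtain ⟨n, hn, h1⟩ := isRel_AD_add' hL F D₁
  rw [hF, add_sub_cancel] at h1
  rw [hF, deg_sub] at hn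
  exact ⟨n, hn, h1⟩

open scoped Classical in
/-- the repartition equal to `z` at the places of `Qs` and `0` elsewhere -/
noncomputable def ind (Qs : Finset (Place k L)) : L →ₗ[k] (Place k L → L) :=
  LinearMap.pi fun Q => if Q ∈ Qs then LinearMap.id else 0

theorem ind_apply_mem {Qs : Finset (Place k L)} {Q : Place k L} (hQ : Q ∈ Qs) (z : L) :
    ind Qs z Q = z := by
  unfold ind
  rw [LinearMap.pi_apply, if_pos hQ]; rfl

theorem ind_apply_not_mem {Qs : Finset (Place k L)} {Q : Place k L} (hQ : Q ∉ Qs) (z : L) :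
    ind Qs z Q = 0 := by
  unfold ind
  rw [LinearMap.pi_apply, if_neg hQ]; rfl

/-- the `k`-dimension of `A / x A` for the ring `A` of elements integral at the places of `Qs`. -/
theorem finrank_quotient_span (hL : FG.IsFF k L) (Qs : Finset (Place k L))
    (A : Type*) [CommRing A] [Algebra k A] (ι : A →ₐ[k] L) (hinj : Function.Injective ι)
    (hrange : ∀ z : L, z ∈ Set.range ι ↔ ∀ R ∈ Qs, R.1 z ≤ 1) (x : A) (hx : x ≠ 0) :
    Module.Finite k (A ⧸ Ideal.span {x}) ∧
    (Module.finrank k (A ⧸ Ideal.span {x}) : ℤ) = ∑ R ∈ Qs, (R.deg : ℤ) * R.ord (ι x) := by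
  classical
  have hιx : ι x ≠ 0 := fun h => hx (hinj (by rw [h, map_zero]))
  have hxle : ∀ R ∈ Qs, R.1 (ι x) ≤ 1 := (hrange (ι x)).1 ⟨x, rfl⟩
  have hord0 : ∀ R ∈ Qs, 0 ≤ R.ord (ι x) := fun R hR =>
    (FG.ord_nonneg_iff R hιx).2 (hxle R hR)
  obtain ⟨D, hD⟩ : ∃ D : Divisor k L, D = ∑ R ∈ Qs, Finsupp.single R (R.ord (ι x)) := ⟨_, rfl⟩
  have hDin : ∀ R ∈ Qs, D R = R.ord (ι x) := by
    intro R hR
    rw [hD, Finsupp.finset_sum_apply, Finset.sum_eq_single R]
    · rw [Finsupp.single_eq_same]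
    · intro R' _ hne
      rw [Finsupp.single_eq_of_ne hne.symm]
    · intro h; exact absurd hR h
  have hDout : ∀ R ∉ Qs, D R = 0 := by
    intro R hR
    rw [hD, Finsupp.finset_sum_apply]
    apply Finset.sum_eq_zero
    intro R' hR'
    rw [Finsupp.single_eq_of_ne (fun h : R = R' => hR (h ▸ hR'))]
  have hD0 : 0 ≤ D := by
    intro R
    by_cases hR : R ∈ Qs
    · rw [hDin R hR]; exact hord0 R hR
    · rw [hDout R hR]; exact le_refl _
  have hDdeg : D.deg = ∑ R ∈ Qs, (R.deg : ℤ) * R.ord (ι x) := by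
    rw [← degHom_apply, hD, map_sum]
    apply Finset.sum_congr rfl
    intro R _
    rw [degHom_apply, deg_single, mul_comm]
  obtain ⟨n, hn, hrel⟩ := isRel_AD' hL (neg_nonpos.mpr hD0 : -D ≤ 0)
  rw [deg_zero, deg_neg, sub_neg_eq_add, zero_add] at hn
  obtain ⟨hfin, hrank⟩ := hrel
  -- the map
  have hmem : ∀ a : A, ind Qs (ι a) ∈ AD (0 : Divisor k L) := by
    intro a R
    rw [Finsupp.zero_apply, WithZero.exp_zero]
    by_cases hR : R ∈ Qs
    · rw [ind_apply_mem hR]; exact (hrange (ι a)).1 ⟨a, rfl⟩ R hR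
    · rw [ind_apply_not_mem hR, map_zero]; exact zero_le_one
  obtain ⟨f, hf⟩ : ∃ f : A →ₗ[k] RelQuot.Q (AD (-D)) (AD (0 : Divisor k L)),
      f = (Submodule.mkQ _).comp
        (((ind Qs).comp ι.toLinearMap).codRestrict (AD (0 : Divisor k L)) hmem) := ⟨_, rfl⟩
  have hfa : ∀ a, f a = Submodule.Quotient.mk ⟨ind Qs (ι a), hmem a⟩ := fun a => by
    rw [hf]; rfl
  have hker : LinearMap.ker f = (Ideal.span {x}).restrictScalars k := by
    ext a
    rw [LinearMap.mem_ker, hfa, RelQuot.mk_eq_zero_iff, Submodule.restrictScalars_mem,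
      Ideal.mem_span_singleton']
    show ind Qs (ι a) ∈ AD (-D) ↔ _
    constructor
    · intro h
      have h1 : ∀ R ∈ Qs, R.1 (ι a / ι x) ≤ 1 := by
        intro R hR
        have h2 := h R
        rw [ind_apply_mem hR, Finsupp.neg_apply, hDin R hR,
          ← FG.val_eq_exp_neg_ord R hιx] at h2
        rw [map_div₀]
        exact div_le_one_of_le₀ h2 zero_le
      obtain ⟨c, hc⟩ := (hrange _).2 h1
      refine ⟨c, hinj ?_⟩
      rw [map_mul, hc, div_mul_cancel₀ _ hιx]
    · rintro ⟨c, rfl⟩ R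
      by_cases hR : R ∈ Qs
      · rw [ind_apply_mem hR, Finsupp.neg_apply, hDin R hR, ← FG.val_eq_exp_neg_ord R hιx,
          map_mul, map_mul]
        calc R.1 (ι c) * R.1 (ι x) ≤ 1 * R.1 (ι x) :=
              mul_le_mul' ((hrange (ι c)).1 ⟨c, rfl⟩ R hR) le_rfl
          _ = _ := one_mul _
      · rw [ind_apply_not_mem hR, map_zero]; exact zero_le
  have hsurj : Function.Surjective f := by
    intro q
    obtain ⟨b, rfl⟩ := Submodule.Quotient.mk_surjective _ q
    obtain ⟨r, hr⟩ : ∃ r : ℤ, ∀ R ∈ Qs, R.ord (ι x) ≤ r :=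
      ⟨∑ R ∈ Qs, R.ord (ι x), fun R hR =>
        Finset.single_le_sum (fun R' hR' => hord0 R' hR') hR⟩
    obtain ⟨z, hz⟩ := FG.weak_approx Qs b.1 r
    have hzle : ∀ R ∈ Qs, R.1 (z - b.1 R) ≤ WithZero.exp (-(R.ord (ι x))) := fun R hR =>
      (hz R hR).le.trans (WithZero.exp_le_exp.mpr (by have := hr R hR; omega))
    have hb1 : ∀ R : Place k L, R.1 (b.1 R) ≤ 1 := by
      intro R
      have := b.2 R
      rwa [Finsupp.zero_apply, WithZero.exp_zero] at this
    have hzO : ∀ R ∈ Qs, R.1 z ≤ 1 := by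
      intro R hR
      have e : z = (z - b.1 R) + b.1 R := by ring
      rw [e]
      refine (R.1.map_add _ _).trans (max_le ((hzle R hR).trans ?_) (hb1 R))
      rw [← WithZero.exp_zero, WithZero.exp_le_exp]
      have := hord0 R hR
      omega
    obtain ⟨a, ha⟩ := (hrange z).2 hzO
    refine ⟨a, ?_⟩
    rw [hfa, Submodule.Quotient.eq]
    show ((⟨ind Qs (ι a), hmem a⟩ - b : AD (0 : Divisor k L)) : Place k L → L) ∈ AD (-D)
    intro R
    show R.1 (ind Qs (ι a) R - b.1 R) ≤ _
    by_cases hR : R ∈ Qs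
    · rw [ind_apply_mem hR, ha, Finsupp.neg_apply, hDin R hR]; exact hzle R hR
    · rw [ind_apply_not_mem hR, zero_sub, Valuation.map_neg, Finsupp.neg_apply, hDout R hR,
        neg_zero, WithZero.exp_zero]
      exact hb1 R
  -- the equivalences
  have e : (A ⧸ Ideal.span {x}) ≃ₗ[k] RelQuot.Q (AD (-D)) (AD (0 : Divisor k L)) :=
    (Submodule.Quotient.restrictScalarsEquiv k (Ideal.span {x})).symm ≪≫ₗ
      (Submodule.quotEquivOfEq _ _ hker.symm) ≪≫ₗ (f.quotKerEquivOfSurjective hsurj)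
  refine ⟨Module.Finite.equiv e.symm, ?_⟩
  rw [e.finrank_eq, hrank, hn, hDdeg]

end adele

section main

variable {k : Type u} {K : Type v} {K' : Type w} [Field k] [Field K] [Field K'] [Algebra k K]
  [Algebra K K'] [Algebra k K'] [IsScalarTower k K K']

theorem ord_zero (P : Place k K) : P.ord (0 : K) = 0 := by
  unfold Place.ord
  rw [map_zero, WithZero.log_zero, neg_zero]

theorem ord_unit (P : Place k K) (u : P.Oˣ) : P.ord ((u : P.O) : K) = 0 := by
  have h1 : P.1 ((u : P.O) : K) ≤ 1 := (u : P.O).2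
  have h2 : P.1 (((u⁻¹ : P.Oˣ) : P.O) : K) ≤ 1 := ((u⁻¹ : P.Oˣ) : P.O).2
  have h3 : ((u : P.O) : K) * (((u⁻¹ : P.Oˣ) : P.O) : K) = 1 := by
    have := congrArg (fun z : P.O => (z : K)) u.mul_inv
    exact this
  have h4 := congrArg P.1 h3
  rw [map_mul, map_one] at h4
  have h5 : P.1 ((u : P.O) : K) = 1 := by
    by_contra hne
    have hlt : P.1 ((u : P.O) : K) < 1 := lt_of_le_of_ne h1 hne
    have : P.1 ((u : P.O) : K) * P.1 (((u⁻¹ : P.Oˣ) : P.O) : K) < 1 :=
      calc P.1 ((u : P.O) : K) * P.1 (((u⁻¹ : P.Oˣ) : P.O) : K)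
          ≤ P.1 ((u : P.O) : K) * 1 := mul_le_mul' le_rfl h2
        _ < 1 := by rwa [mul_one]
    rw [h4] at this
    exact lt_irrefl _ this
  unfold Place.ord
  rw [h5, WithZero.log_one, neg_zero]

theorem ord_prod (P : Place k K) {ι : Type*} (s : Finset ι) (g : ι → K)
    (h : ∀ i ∈ s, g i ≠ 0) : P.ord (∏ i ∈ s, g i) = ∑ i ∈ s, P.ord (g i) := by
  classical
  induction s using Finset.induction_on with
  | empty =>
    rw [Finset.prod_empty, Finset.sum_empty]
    unfold Place.ord
    rw [map_one, WithZero.log_one, neg_zero]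
  | insert a s ha ih =>
    rw [Finset.prod_insert ha, Finset.sum_insert ha,
      FG.ord_mul P (h a (Finset.mem_insert_self a s))
        (Finset.prod_ne_zero_iff.2 fun i hi => h i (Finset.mem_insert_of_mem hi)),
      ih fun i hi => h i (Finset.mem_insert_of_mem hi)]

theorem key [FiniteDimensional K K'] (hK : IsFunctionField k K) (P : Place k K)
    (Qs : Finset (Place k K')) (hQs : ∀ Q, Q ∈ Qs ↔ IsOver Q P)
    (z : K') (hz0 : z ≠ 0) (hz : IsIntegral P.O z) :
    (P.deg : ℤ) * P.ord (Algebra.norm K z) = ∑ Q ∈ Qs, (Q.deg : ℤ) * Q.ord z := by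
  classical
  have hK' : FG.IsFF k K' := FG.isFF_of_finite hK.1
  haveI := TrRes.isPrincipalIdealRing_O P
  haveI : IsScalarTower k P.O K' := IsScalarTower.of_algebraMap_eq (fun c => by
    rw [IsScalarTower.algebraMap_apply P.O K K', IsScalarTower.algebraMap_apply k K K']; rfl)
  haveI : Module.IsTorsionFree P.O K' := Module.IsTorsionFree.trans_faithfulSMul P.O K K'
  haveI : Module.IsTorsionFree P.O (integralClosure P.O K') :=
    IsIntegralClosure.isTorsionFree P.O K'
  haveI : Module.Finite P.O (integralClosure P.O K') := FG.integralClosure_finite hK P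
  haveI : IsLocalization (Algebra.algebraMapSubmonoid (integralClosure P.O K')
      (nonZeroDivisors P.O)) K' :=
    IsIntegralClosure.isLocalization P.O K K' (integralClosure P.O K')
  haveI : IsScalarTower k P.O (integralClosure P.O K') :=
    ⟨fun c r s => Subtype.ext (smul_assoc c r (s : K'))⟩
  obtain ⟨b, -⟩ : ∃ b : Module.Basis (Module.Free.ChooseBasisIndex P.O (integralClosure P.O K'))
      P.O (integralClosure P.O K'), b = Module.Free.chooseBasis P.O (integralClosure P.O K') :=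
    ⟨_, rfl⟩
  obtain ⟨zS, hzS⟩ : ∃ zS : integralClosure P.O K', zS = ⟨z, hz⟩ := ⟨_, rfl⟩
  have hzSc : (zS : K') = z := by rw [hzS]
  have hzS0 : zS ≠ 0 := by
    intro h
    apply hz0
    rw [← hzSc, h]; rfl
  have hI : Ideal.span {zS} ≠ ⊥ := Ideal.span_singleton_eq_bot.not.2 hzS0
  -- the norm
  have E2 := Algebra.norm_localization P.O (nonZeroDivisors P.O) (Rₘ := K) (Sₘ := K') zS
  have e1 : algebraMap (integralClosure P.O K') K' zS = z := hzSc
  rw [e1] at E2
  obtain ⟨u, hu⟩ := _root_.associated_norm_prod_smith b hzS0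
  have ha0 : ∀ i, ((Ideal.smithCoeffs b _ hI i : P.O) : K) ≠ 0 := fun i h =>
    Ideal.smithCoeffs_ne_zero b _ hI i (Subtype.ext h)
  have hNK : algebraMap P.O K (Algebra.norm P.O zS) * ((u : P.O) : K) =
      ∏ i, ((Ideal.smithCoeffs b _ hI i : P.O) : K) := by
    have := congrArg (algebraMap P.O K) hu
    rw [map_mul, map_prod] at this
    exact this
  have hprod0 : ∏ i, ((Ideal.smithCoeffs b _ hI i : P.O) : K) ≠ 0 :=
    Finset.prod_ne_zero_iff.2 fun i _ => ha0 i
  have hN0 : algebraMap P.O K (Algebra.norm P.O zS) ≠ 0 := by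
    intro h
    rw [h, zero_mul] at hNK
    exact hprod0 hNK.symm
  have hu0 : ((u : P.O) : K) ≠ 0 := by
    intro h
    rw [h, mul_zero] at hNK
    exact hprod0 hNK.symm
  have hordN : P.ord (Algebra.norm K z) =
      ∑ i, P.ord ((Ideal.smithCoeffs b _ hI i : P.O) : K) := by
    rw [E2, ← ord_prod P Finset.univ _ (fun i _ => ha0 i), ← hNK, FG.ord_mul P hN0 hu0,
      ord_unit P u, add_zero]
  -- the two dimension counts
  obtain ⟨ιP, hιP⟩ : ∃ ιP : P.O →ₐ[k] K, ∀ r : P.O, ιP r = (r : K) :=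
    ⟨{ P.O.subtype with commutes' := fun c => rfl }, fun r => rfl⟩
  have hinjP : Function.Injective ιP := by
    intro r s h
    rw [hιP, hιP] at h
    exact Subtype.ext h
  have hrangeP : ∀ w : K, w ∈ Set.range ιP ↔ ∀ R ∈ ({P} : Finset (Place k K)), R.1 w ≤ 1 := by
    intro w
    constructor
    · rintro ⟨r, rfl⟩ R hR
      rw [Finset.mem_singleton] at hR
      rw [hR, hιP]; exact r.2
    · intro h
      exact ⟨⟨w, h P (Finset.mem_singleton_self P)⟩, hιP _⟩
  have GP := fun i => finrank_quotient_span hK.1 {P} P.O ιP hinjP hrangeP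
    (Ideal.smithCoeffs b _ hI i) (Ideal.smithCoeffs_ne_zero b _ hI i)
  haveI hfinq : ∀ i, Module.Finite k (P.O ⧸ Ideal.span {Ideal.smithCoeffs b _ hI i}) :=
    fun i => (GP i).1
  have E3 := Ideal.finrank_quotient_eq_sum k hI b
  have E4 : ∀ i, (Module.finrank k (P.O ⧸ Ideal.span {Ideal.smithCoeffs b _ hI i}) : ℤ) =
      (P.deg : ℤ) * P.ord ((Ideal.smithCoeffs b _ hI i : P.O) : K) := by
    intro i
    have := (GP i).2
    rw [Finset.sum_singleton, hιP] at this
    exact this
  obtain ⟨ιS, hιS⟩ : ∃ ιS : integralClosure P.O K' →ₐ[k] K',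
      ∀ s : integralClosure P.O K', ιS s = (s : K') :=
    ⟨(Subalgebra.val (integralClosure P.O K')).restrictScalars k, fun s => rfl⟩
  have hinjS : Function.Injective ιS := by
    intro r s h
    rw [hιS, hιS] at h
    exact Subtype.ext h
  have hrangeS : ∀ w : K', w ∈ Set.range ιS ↔ ∀ R ∈ Qs, R.1 w ≤ 1 := by
    intro w
    constructor
    · rintro ⟨s, rfl⟩ R hR
      rw [hιS]
      exact FG.val_le_one_of_isIntegral ((hQs R).1 hR) s.2
    · intro h
      have hw : IsIntegral P.O w :=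
        FG.isIntegral_of_forall_val_le_one hK.1 P (fun R hR => h R ((hQs R).2 hR))
      exact ⟨⟨w, hw⟩, hιS _⟩
  have E5 := (finrank_quotient_span hK' Qs (integralClosure P.O K') ιS hinjS hrangeS zS hzS0).2
  rw [hιS, hzSc] at E5
  rw [hordN, Finset.mul_sum, ← E5, E3, Nat.cast_sum]
  exact Finset.sum_congr rfl fun i _ => (E4 i).symm

theorem s11033 (k : Type u) (K : Type v) (K' : Type w) [Field k] [Field K] [Field K']
    [Algebra k K] [Algebra K K'] [Algebra k K'] [IsScalarTower k K K'] [FiniteDimensional K K']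
    (hK : IsFunctionField k K) (P : Place k K) (x : K')
    (Qs : Finset (Place k K')) (hQs : ∀ Q, Q ∈ Qs ↔ IsOver Q P) :
    (P.deg : ℤ) * P.ord (Algebra.norm K x) = ∑ Q ∈ Qs, (Q.deg : ℤ) * Q.ord x := by
  classical
  by_cases hx0 : x = 0
  · rw [hx0, Algebra.norm_zero, ord_zero, mul_zero]
    symm
    apply Finset.sum_eq_zero
    intro Q _
    rw [ord_zero, mul_zero]
  · obtain ⟨m, hm⟩ := IsIntegral.exists_multiple_integral_of_isLocalization
      (nonZeroDivisors P.O) x (Algebra.IsIntegral.isIntegral (R := K) x)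
    obtain ⟨c, hc⟩ : ∃ c : K', c = algebraMap K K' ((m : P.O) : K) := ⟨_, rfl⟩
    have hmx : m • x = c * x := by
      rw [Submonoid.smul_def, Algebra.smul_def, hc, IsScalarTower.algebraMap_apply P.O K K']
      rfl
    rw [hmx] at hm
    have hm0 : ((m : P.O) : K) ≠ 0 := fun h =>
      nonZeroDivisors.coe_ne_zero m (Subtype.ext h)
    have hc0 : c ≠ 0 := by
      rw [hc]; exact (_root_.map_ne_zero (algebraMap K K')).mpr hm0
    have hcint : IsIntegral P.O c := by
      have e : c = algebraMap P.O K' (m : P.O) := by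
        rw [hc, IsScalarTower.algebraMap_apply P.O K K']; rfl
      rw [e]; exact isIntegral_algebraMap
    have h1 := key hK P Qs hQs c hc0 hcint
    have h2 := key hK P Qs hQs (c * x) (mul_ne_zero hc0 hx0) hm
    have hNc : Algebra.norm K c ≠ 0 := Algebra.norm_ne_zero_iff.mpr hc0
    have hNx : Algebra.norm K x ≠ 0 := Algebra.norm_ne_zero_iff.mpr hx0
    rw [map_mul, FG.ord_mul P hNc hNx, mul_add] at h2
    have h3 : ∑ Q ∈ Qs, (Q.deg : ℤ) * Q.ord (c * x) =
        ∑ Q ∈ Qs, (Q.deg : ℤ) * Q.ord c + ∑ Q ∈ Qs, (Q.deg : ℤ) * Q.ord x := by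
      rw [← Finset.sum_add_distrib]
      apply Finset.sum_congr rfl
      intro Q _
      rw [FG.ord_mul Q hc0 hx0, mul_add]
    rw [h3] at h2
    linarith

end main

end Groth.Agent.Helper6.NormOrd
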