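import Mathlib

set_option autoImplicit false
universe u

namespace Groth.Agent.Helper6.NormProd

open Module

section Mat
variable {o : Type*} [Fintype o] [DecidableEq o] {n : o → Type*} [∀ i, Fintype (n i)]
  [∀ i, DecidableEq (n i)] {R : Type*} [CommRing R]

theorem det_blockDiagonal' (N : ∀ i, Matrix (n i) (n i) R) :
    (Matrix.blockDiagonal' N).det = ∏ i, (N i).det := by
  classical
  letI : LinearOrder o := LinearOrder.lift' (Fintype.equivFin o) (Fintype.equivFin o).injective
  have hT : Matrix.BlockTriangular (Matrix.blockDiagonal' N) Sigma.fst := by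
    rintro ⟨i, a⟩ ⟨j, b⟩ hlt
    exact Matrix.blockDiagonal'_apply_ne N a b (ne_of_gt hlt)
  rw [hT.det_fintype]
  refine Finset.prod_congr rfl (fun k _ => ?_)
  rw [← Matrix.det_submatrix_equiv_self (Equiv.sigmaSubtype k).symm]
  congr 1
  ext x y
  simp only [Matrix.toSquareBlock_def, Matrix.submatrix_apply, Matrix.of_apply]
  exact Matrix.blockDiagonal'_apply_eq N k x y

end Mat

section Det
variable {k : Type*} [Field k] {ι : Type*} [Fintype ι] [DecidableEq ι] {M : ι → Type*}
  [∀ i, AddCommGroup (M i)] [∀ i, Module k (M i)] [∀ i, Module.Finite k (M i)]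

theorem det_piMap (f : ∀ i, M i →ₗ[k] M i) : (LinearMap.piMap f).det = ∏ i, (f i).det := by
  classical
  let b : ∀ i, Basis (Module.Free.ChooseBasisIndex k (M i)) k (M i) :=
    fun i => Module.Free.chooseBasis k (M i)
  let B := Pi.basis b
  rw [← LinearMap.det_toMatrix B]
  have hM : LinearMap.toMatrix B B (LinearMap.piMap f) =
      Matrix.blockDiagonal' (fun i => LinearMap.toMatrix (b i) (b i) (f i)) := by
    ext ⟨i₁, i₂⟩ ⟨j₁, j₂⟩
    rw [LinearMap.toMatrix_apply, Matrix.blockDiagonal'_apply]
    by_cases h : i₁ = j₁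
    · subst h
      simp [B, LinearMap.toMatrix_apply, Pi.basis_apply, Pi.basis_repr]
    · have h' : ¬ j₁ = i₁ := fun e => h e.symm
      simp [B, h, Pi.basis_apply, Pi.basis_repr]
  rw [hM, det_blockDiagonal']
  refine Finset.prod_congr rfl (fun i _ => ?_)
  rw [LinearMap.det_toMatrix]

end Det

end Groth.Agent.Helper6.NormProd

namespace Groth.Agent.Helper6.NormProd

section Local
variable {k B : Type*} [Field k] [CommRing B] [Algebra k B] [IsLocalRing B] [Module.Finite k B]

theorem norm_local (b : B) (c : k) (hxm : b - algebraMap k B c ∈ IsLocalRing.maximalIdeal B) :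
    Algebra.norm k b = c ^ Module.finrank k B := by
  classical
  have hart : IsArtinianRing B := IsArtinianRing.of_finite k B
  have hxnil : IsNilpotent (b - algebraMap k B c) := by
    have h1 := IsArtinianRing.isNilpotent_jacobson_bot (R := B)
    rw [IsLocalRing.jacobson_eq_maximalIdeal ⊥ bot_ne_top] at h1
    obtain ⟨N, hN⟩ := h1
    refine ⟨N, ?_⟩
    have : (b - algebraMap k B c) ^ N ∈ IsLocalRing.maximalIdeal B ^ N := Ideal.pow_mem_pow hxm N
    rw [hN] at this
    exact this
  have hlnil : IsNilpotent (Algebra.lmul k B (algebraMap k B c - b)) := by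
    have : algebraMap k B c - b = -(b - algebraMap k B c) := by ring
    rw [this]
    exact hxnil.neg.map (Algebra.lmul k B)
  rw [Algebra.norm_apply]
  have h1 : Algebra.lmul k B b = algebraMap k (Module.End k B) c -
      Algebra.lmul k B (algebraMap k B c - b) := by
    rw [map_sub, AlgHom.commutes, sub_sub_cancel]
  rw [h1, ← LinearMap.eval_charpoly, IsNilpotent.charpoly_eq_X_pow_finrank hlnil]
  simp

end Local

section Pi
variable {k : Type*} [Field k] {ι : Type*} [Fintype ι] [DecidableEq ι] {B : ι → Type*}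
  [∀ i, CommRing (B i)] [∀ i, Algebra k (B i)] [∀ i, Module.Finite k (B i)]

theorem norm_pi (x : ∀ i, B i) : Algebra.norm k x = ∏ i, Algebra.norm k (x i) := by
  rw [Algebra.norm_apply]
  have h : Algebra.lmul k (∀ i, B i) x = LinearMap.piMap (fun i => Algebra.lmul k (B i) (x i)) := by
    apply LinearMap.ext
    intro y
    funext i
    simp
  rw [h, det_piMap]
  rfl

end Pi

section Main
variable (k A : Type u) [Field k] [IsAlgClosed k] [CommRing A] [Algebra k A] [Module.Finite k A]

/-- the prime attached to a point -/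
def E (φ : A →ₐ[k] k) : PrimeSpectrum A := ⟨Ideal.comap φ ⊥, inferInstance⟩

variable {k A}

theorem sub_mem (φ : A →ₐ[k] k) (a : A) : a - algebraMap k A (φ a) ∈ Ideal.comap φ ⊥ := by
  rw [Ideal.mem_comap, Ideal.mem_bot, map_sub, AlgHom.commutes, Algebra.algebraMap_self_apply,
    sub_self]

theorem E_injective : Function.Injective (E k A) := by
  intro φ ψ h
  have h' : Ideal.comap φ ⊥ = Ideal.comap ψ ⊥ := congrArg PrimeSpectrum.asIdeal h
  apply AlgHom.ext
  intro a
  have h1 := sub_mem φ a
  rw [h', Ideal.mem_comap, Ideal.mem_bot, map_sub, AlgHom.commutes, Algebra.algebraMap_self_apply,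
    sub_eq_zero] at h1
  exact h1.symm

theorem E_surjective : Function.Surjective (E k A) := by
  intro p
  haveI : Algebra.IsIntegral k (A ⧸ p.asIdeal) := Algebra.IsIntegral.of_finite k _
  have hbij := IsAlgClosed.algebraMap_bijective_of_isIntegral (k := k) (K := A ⧸ p.asIdeal)
  let e : k ≃ₐ[k] (A ⧸ p.asIdeal) := AlgEquiv.ofBijective (Algebra.ofId k (A ⧸ p.asIdeal)) hbij
  refine ⟨(e.symm : (A ⧸ p.asIdeal) →ₐ[k] k).comp (Ideal.Quotient.mkₐ k p.asIdeal), ?_⟩
  apply PrimeSpectrum.ext
  ext x
  change x ∈ Ideal.comap _ ⊥ ↔ x ∈ p.asIdeal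
  rw [Ideal.mem_comap, Ideal.mem_bot]
  change e.symm (Ideal.Quotient.mk p.asIdeal x) = 0 ↔ _
  rw [map_eq_zero_iff _ e.symm.injective, Ideal.Quotient.eq_zero_iff_mem]

theorem finite_loc (p : Ideal A) [p.IsPrime] : Module.Finite k (Localization.AtPrime p) := by
  haveI : IsArtinianRing A := IsArtinianRing.of_finite k A
  exact Module.Finite.of_surjective (Algebra.algHom k A (Localization.AtPrime p)).toLinearMap
    (IsArtinianRing.localization_surjective p.primeCompl (Localization.AtPrime p))

theorem norm_eq_prod (f : A) [Fintype (PrimeSpectrum A)] :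
    haveI : ∀ p : PrimeSpectrum A, Module.Finite k (Localization.AtPrime p.asIdeal) :=
      fun p => finite_loc p.asIdeal
    Algebra.norm k f = ∏ p : PrimeSpectrum A,
      Algebra.norm k (algebraMap A (Localization.AtPrime p.asIdeal) f) := by
  classical
  haveI : IsArtinianRing A := IsArtinianRing.of_finite k A
  haveI : ∀ p : PrimeSpectrum A, Module.Finite k (Localization.AtPrime p.asIdeal) :=
    fun p => finite_loc p.asIdeal
  let e : A ≃ₐ[k] PrimeSpectrum.PiLocalization A :=
    (PrimeSpectrum.toPiLocalizationEquiv A).restrictScalars k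
  rw [← Algebra.norm_eq_of_algEquiv e f]
  exact norm_pi (B := fun p : PrimeSpectrum A => Localization.AtPrime p.asIdeal) (e f)

theorem main (f : A) :
    Algebra.norm k f =
      ∏ᶠ φ : A →ₐ[k] k, φ f ^ Module.finrank k (Localization.AtPrime (Ideal.comap φ ⊥)) := by
  classical
  haveI : IsArtinianRing A := IsArtinianRing.of_finite k A
  haveI : Fintype (PrimeSpectrum A) := Fintype.ofFinite _
  haveI : ∀ p : PrimeSpectrum A, Module.Finite k (Localization.AtPrime p.asIdeal) :=
    fun p => finite_loc p.asIdeal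
  rw [norm_eq_prod f, ← finprod_eq_prod_of_fintype]
  symm
  refine finprod_eq_of_bijective (E k A) ⟨E_injective, E_surjective⟩ (fun φ => ?_)
  symm
  change Algebra.norm k (algebraMap A (Localization.AtPrime (Ideal.comap φ ⊥)) f) = _
  haveI : Module.Finite k (Localization.AtPrime (Ideal.comap φ ⊥)) := finite_loc _
  refine norm_local _ (φ f) ?_
  have h1 : algebraMap k (Localization.AtPrime (Ideal.comap φ ⊥)) (φ f) =
      algebraMap A (Localization.AtPrime (Ideal.comap φ ⊥)) (algebraMap k A (φ f)) :=
    IsScalarTower.algebraMap_apply k A _ _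
  rw [h1, ← map_sub,
    IsLocalization.AtPrime.to_map_mem_maximal_iff (Localization.AtPrime (Ideal.comap φ ⊥))
      (Ideal.comap φ ⊥)]
  exact sub_mem φ f

end Main

end Groth.Agent.Helper6.NormProd
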