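import Mathlib
import Groth.Prelude.Def_Models
import Groth.Agent.Helper1.Models
import Groth.Agent.Helper8.NumB

set_option autoImplicit false
set_option linter.style.haveILetI false
set_option linter.unusedSectionVars false

open Finset

/-!
# Bounding the multiplicities of `(-2)`-indices of a numerical type

For a `(-2)`-index `i` put `μ_i = m_i w_i`.  If `μ_i ≤ τ` for every `(-2)`-index adjacent to a
non-`(-2)`-index, then `μ_i ≤ 8 τ` for every `(-2)`-index.
-/

namespace Groth.Agent.Helper6.NumMu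

open _root_.Models

variable {n : ℕ} (T : Models.NumericalType n)

/-- `μ_i = m_i w_i` -/
def mu (i : Fin n) : ℤ := T.m i * T.w i

theorem mu_pos (i : Fin n) : 0 < mu T i := mul_pos (T.m_pos i) (T.w_pos i)

theorem a_symm (i j : Fin n) : T.a i j = T.a j i := Matrix.IsSymm.apply T.symm j i

/-- the off-diagonal row term -/
def F (v j : Fin n) : ℤ := if j = v then 0 else T.a v j * T.m j

theorem F_self (v : Fin n) : F T v v = 0 := by simp [F]

theorem F_of_ne {v j : Fin n} (h : j ≠ v) : F T v j = T.a v j * T.m j := by simp [F, h]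

theorem F_nonneg (v j : Fin n) : 0 ≤ F T v j := by
  unfold F
  split_ifs with h
  · exact le_refl 0
  · exact mul_nonneg (T.offDiag_nonneg v j (Ne.symm h)) (T.m_pos j).le

theorem sum_F {v : Fin n} (hv : T.IsMinusTwo v) : ∑ j, F T v j = 2 * mu T v := by
  have h := Groth.Agent.Helper1.Models.row_sum T v
  rw [← Finset.add_sum_erase univ _ (Finset.mem_univ v)] at h
  rw [← Finset.add_sum_erase univ _ (Finset.mem_univ v), F_self, zero_add]
  have h2 : ∑ j ∈ univ.erase v, F T v j = ∑ j ∈ univ.erase v, T.a v j * T.m j :=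
    Finset.sum_congr rfl (fun j hj => F_of_ne T (Finset.ne_of_mem_erase hj))
  rw [h2]
  have h3 : T.a v v = -2 * T.w v := hv.2
  rw [h3] at h
  unfold mu
  linear_combination h

theorem w_le_left {i j : Fin n} (h : 0 < T.a i j) : T.w i ≤ T.a i j :=
  Int.le_of_dvd h (T.w_dvd i j)

theorem w_le_right {i j : Fin n} (h : 0 < T.a i j) : T.w j ≤ T.a i j := by
  have h2 : 0 < T.a j i := by rw [a_symm T j i]; exact h
  rw [a_symm T i j]
  exact Int.le_of_dvd h2 (T.w_dvd j i)

/-- `μ_j ≤ a_vj m_j` when `a_vj > 0` -/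
theorem mu_le_F {v j : Fin n} (hne : j ≠ v) (h : 0 < T.a v j) : mu T j ≤ F T v j := by
  rw [F_of_ne T hne]
  unfold mu
  calc T.m j * T.w j ≤ T.m j * T.a v j :=
        mul_le_mul_of_nonneg_left (w_le_right T h) (T.m_pos j).le
    _ = T.a v j * T.m j := mul_comm _ _

theorem F_le {v : Fin n} (hv : T.IsMinusTwo v) (j : Fin n) : F T v j ≤ 2 * mu T v := by
  rw [← sum_F T hv]
  exact Finset.single_le_sum (f := fun j => F T v j) (fun k _ => F_nonneg T v k)
    (Finset.mem_univ j)

theorem F_add_le {v : Fin n} (hv : T.IsMinusTwo v) {j j' : Fin n} (h : j ≠ j') :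
    F T v j + F T v j' ≤ 2 * mu T v := by
  rw [← sum_F T hv, ← Finset.add_sum_erase univ _ (Finset.mem_univ j)]
  have : F T v j' ≤ ∑ k ∈ univ.erase j, F T v k :=
    Finset.single_le_sum (f := fun k => F T v k) (fun k _ => F_nonneg T v k)
      (Finset.mem_erase.2 ⟨h.symm, Finset.mem_univ j'⟩)
  linarith

theorem mu_le_two_mu {v j : Fin n} (hv : T.IsMinusTwo v) (hne : j ≠ v) (h : 0 < T.a v j) :
    mu T j ≤ 2 * mu T v :=
  (mu_le_F T hne h).trans (F_le T hv j)

theorem sum_dich (s : Finset (Fin n)) (f : Fin n → ℤ) (B : ℤ) (hf : ∀ j, 0 ≤ f j)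
    (hd : ∀ j, f j = 0 ∨ B ≤ 2 * f j) : ∑ j ∈ s, f j = 0 ∨ B ≤ 2 * ∑ j ∈ s, f j := by
  by_cases h : ∀ j ∈ s, f j = 0
  · left; exact Finset.sum_eq_zero h
  · right
    push Not at h
    obtain ⟨j, hj, hne⟩ := h
    have h1 : f j ≤ ∑ k ∈ s, f k := Finset.single_le_sum (fun k _ => hf k) hj
    rcases hd j with h0 | hB
    · exact absurd h0 hne
    · linarith

theorem interior {τ : ℤ}
    (hB : ∀ i j, T.IsMinusTwo i → ¬ T.IsMinusTwo j → 0 < T.a i j → mu T i ≤ τ)
    {v : Fin n} (hv : T.IsMinusTwo v) (hτ : τ < mu T v) (j : Fin n) :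
    F T v j = 0 ∨ (T.IsMinusTwo j ∧ j ≠ v ∧ 0 < T.a v j ∧ mu T v ≤ 2 * mu T j ∧
      ∃ c : ℤ, 1 ≤ c ∧ F T v j = c * mu T j) := by
  by_cases hjv : j = v
  · left; rw [hjv]; exact F_self T v
  by_cases h0 : T.a v j = 0
  · left; rw [F_of_ne T hjv, h0, zero_mul]
  right
  have hpos : 0 < T.a v j := lt_of_le_of_ne (T.offDiag_nonneg v j (Ne.symm hjv)) (Ne.symm h0)
  have hj : T.IsMinusTwo j := by
    by_contra hj
    have := hB v j hv hj hpos
    linarith
  have hpos' : 0 < T.a j v := by rw [a_symm T j v]; exact hpos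
  refine ⟨hj, hjv, hpos, mu_le_two_mu T hj (Ne.symm hjv) hpos', ?_⟩
  obtain ⟨c, hc⟩ := T.w_dvd j v
  have hc' : T.a v j = T.w j * c := by rw [a_symm T v j]; exact hc
  refine ⟨c, ?_, ?_⟩
  · have h1 : 0 < T.w j * c := by rw [← hc']; exact hpos
    have hw := T.w_pos j
    by_contra hcn
    have hcn' : c ≤ 0 := by omega
    nlinarith
  · rw [F_of_ne T hjv, hc']; unfold mu; ring

theorem leaf {τ : ℤ} (hτ0 : 0 ≤ τ)
    (hB : ∀ i j, T.IsMinusTwo i → ¬ T.IsMinusTwo j → 0 < T.a i j → mu T i ≤ τ)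
    {y v : Fin n} (hy : T.IsMinusTwo y) (hyv : v ≠ y) (hpos : 0 < T.a y v)
    (hM : 8 * τ < mu T v) (hle : 2 * mu T y ≤ mu T v + 2 * τ) : 2 * mu T y = mu T v := by
  have h1 : mu T v ≤ F T y v := mu_le_F T hyv hpos
  have h2 : F T y v ≤ 2 * mu T y := F_le T hy v
  have hτy : τ < mu T y := by linarith
  have hz : ∀ j, j ≠ v → F T y j = 0 := by
    intro j hjv
    rcases interior T hB hy hτy j with h0 | ⟨_, _, _, h3, c, hc1, hc⟩
    · exact h0
    · exfalso
      have h4 := F_add_le T hy (Ne.symm hjv)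
      have h5 : mu T j ≤ F T y j := by
        rw [hc]
        nlinarith [mul_nonneg (sub_nonneg.2 hc1) (mu_pos T j).le]
      linarith
  have hsum : ∑ j, F T y j = F T y v := by
    rw [← Finset.add_sum_erase univ _ (Finset.mem_univ v)]
    rw [Finset.sum_eq_zero (fun j hj => hz j (Finset.ne_of_mem_erase hj)), add_zero]
  rw [sum_F T hy] at hsum
  obtain ⟨c, hc⟩ := T.w_dvd v y
  have hc' : T.a y v = T.w v * c := by rw [a_symm T y v]; exact hc
  have hF : F T y v = c * mu T v := by rw [F_of_ne T hyv, hc']; unfold mu; ring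
  have hMpos := mu_pos T v
  have hypos := mu_pos T y
  have hc1 : c ≤ 1 := by
    by_contra hcn
    have h2c : (0 : ℤ) ≤ c - 2 := by omega
    nlinarith [mul_nonneg h2c hMpos.le]
  have hc0 : 1 ≤ c := by
    by_contra hcn
    have h0c : (0 : ℤ) ≤ -c := by omega
    nlinarith [mul_nonneg h0c hMpos.le]
  have hceq : c = 1 := le_antisymm hc1 hc0
  rw [hsum, hF, hceq, one_mul]

theorem main_local {τ : ℤ} (hτ0 : 0 ≤ τ)
    (hB : ∀ i j, T.IsMinusTwo i → ¬ T.IsMinusTwo j → 0 < T.a i j → mu T i ≤ τ)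
    {i0 q : Fin n} (hi0 : T.IsMinusTwo i0) (hM : 8 * τ < mu T i0)
    (hmax : ∀ j, T.IsMinusTwo j → mu T j ≤ mu T i0)
    (hqne : q ≠ i0) (hqpos : 0 < T.a i0 q)
    (hq1 : mu T i0 ≤ mu T q + τ) (hq2 : mu T q < mu T i0) : False := by
  have hM' := hM
  obtain ⟨M, hMdef⟩ : ∃ M, M = mu T i0 := ⟨_, rfl⟩
  rw [← hMdef] at hM hmax hq1 hq2
  have hτM : τ < mu T i0 := by rw [← hMdef]; linarith
  have hint := interior T hB hi0 hτM
  have hd : ∀ j, F T i0 j = 0 ∨ M ≤ 2 * F T i0 j := by
    intro j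
    rcases hint j with h0 | ⟨_, hjne, hjpos, h3, _⟩
    · left; exact h0
    · right
      have := mu_le_F T hjne hjpos
      rw [← hMdef] at h3
      linarith
  have hnn : ∀ j, 0 ≤ F T i0 j := F_nonneg T i0
  obtain ⟨R1, hR1⟩ : ∃ R1, R1 = ∑ j ∈ univ.erase q, F T i0 j := ⟨_, rfl⟩
  have hsum : F T i0 q + R1 = 2 * M := by
    rw [hR1, Finset.add_sum_erase univ (fun j => F T i0 j) (Finset.mem_univ q), sum_F T hi0,
      hMdef]
  have hR1nn : 0 ≤ R1 := by rw [hR1]; exact Finset.sum_nonneg (fun j _ => hnn j)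
  have hR1d : R1 = 0 ∨ M ≤ 2 * R1 := by rw [hR1]; exact sum_dich _ _ M hnn hd
  rcases hint q with h0 | ⟨_, _, _, _, c, hc1, hc⟩
  · rw [F_of_ne T hqne] at h0
    have := mul_pos hqpos (T.m_pos q)
    omega
  have hμq := mu_pos T q
  rcases eq_or_lt_of_le hc1 with hceq | hc2
  swap
  · -- c ≥ 2
    have hc2' : 2 ≤ c := by omega
    have h5 : 2 * mu T q ≤ F T i0 q := by
      rw [hc]
      nlinarith [mul_nonneg (sub_nonneg.2 hc2') hμq.le]
    have hR10 : R1 = 0 := by
      rcases hR1d with h | h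
      · exact h
      · exfalso; linarith
    rw [hR10, add_zero, hc] at hsum
    rcases eq_or_lt_of_le hc2' with hc2e | hc3
    · rw [← hc2e] at hsum; linarith
    · have hc3' : (0 : ℤ) ≤ c - 3 := by omega
      nlinarith [mul_nonneg hc3' hμq.le]
  · -- c = 1
    rw [← hceq, one_mul] at hc
    rw [hc] at hsum
    have hR1ne : R1 ≠ 0 := by
      intro h; rw [h] at hsum; linarith
    rw [hR1] at hR1ne
    obtain ⟨y, hy, hFy⟩ := Finset.exists_ne_zero_of_sum_ne_zero hR1ne
    obtain ⟨R2, hR2⟩ : ∃ R2, R2 = ∑ j ∈ (univ.erase q).erase y, F T i0 j := ⟨_, rfl⟩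
    have hR1' : R1 = F T i0 y + R2 := by
      rw [hR1, hR2, Finset.add_sum_erase (univ.erase q) (fun j => F T i0 j) hy]
    have hR2nn : 0 ≤ R2 := by rw [hR2]; exact Finset.sum_nonneg (fun j _ => hnn j)
    have hR2d : R2 = 0 ∨ M ≤ 2 * R2 := by rw [hR2]; exact sum_dich _ _ M hnn hd
    rcases hint y with h0 | ⟨hyD, hyne, hypos, hy3, cy, hcy1, hcy⟩
    · exact hFy h0
    rw [← hMdef] at hy3
    have hμy := mu_pos T y
    have hymax := hmax y hyD
    have hkey : 2 * mu T y ≤ M + 2 * (M - mu T q) := by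
      rcases eq_or_lt_of_le hcy1 with hcye | hcy2
      · rw [← hcye, one_mul] at hcy
        rcases hR2d with h | h
        · exfalso; rw [h, add_zero, hcy] at hR1'; linarith
        · rw [hcy] at hR1'; linarith
      · have h2c : (0 : ℤ) ≤ cy - 2 := by omega
        have : 2 * mu T y ≤ F T i0 y := by
          rw [hcy]
          nlinarith [mul_nonneg h2c hμy.le]
        linarith
    have hypos' : 0 < T.a y i0 := by rw [a_symm T y i0]; exact hypos
    have hleaf : 2 * mu T y = mu T i0 :=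
      leaf T hτ0 hB hyD (Ne.symm hyne) hypos' hM' (by rw [← hMdef]; linarith)
    rw [← hMdef] at hleaf
    rcases eq_or_lt_of_le hcy1 with hcye | hcy2
    swap
    · have hcy2' : 2 ≤ cy := by omega
      rcases eq_or_lt_of_le hcy2' with hcy2e | hcy3
      · rw [← hcy2e] at hcy
        rcases hR2d with h | h
        · rw [h] at hR1'; linarith
        · linarith
      · have hcy3' : (0 : ℤ) ≤ cy - 3 := by omega
        have : 3 * mu T y ≤ F T i0 y := by
          rw [hcy]
          nlinarith [mul_nonneg hcy3' hμy.le]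
        linarith
    · rw [← hcye, one_mul] at hcy
      have hR2ne : R2 ≠ 0 := by
        intro h; rw [h, add_zero, hcy] at hR1'; linarith
      rw [hR2] at hR2ne
      obtain ⟨z, hz, hFz⟩ := Finset.exists_ne_zero_of_sum_ne_zero hR2ne
      obtain ⟨R3, hR3⟩ : ∃ R3, R3 = ∑ j ∈ ((univ.erase q).erase y).erase z, F T i0 j :=
        ⟨_, rfl⟩
      have hR2' : R2 = F T i0 z + R3 := by
        rw [hR2, hR3, Finset.add_sum_erase ((univ.erase q).erase y) (fun j => F T i0 j) hz]
      have hR3nn : 0 ≤ R3 := by rw [hR3]; exact Finset.sum_nonneg (fun j _ => hnn j)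
      have hR3d : R3 = 0 ∨ M ≤ 2 * R3 := by rw [hR3]; exact sum_dich _ _ M hnn hd
      rcases hint z with h0 | ⟨hzD, hzne, hzpos, hz3, cz, hcz1, hcz⟩
      · exact hFz h0
      rw [← hMdef] at hz3
      have hμz := mu_pos T z
      have hz5 : mu T z ≤ F T i0 z := by
        rw [hcz]
        nlinarith [mul_nonneg (sub_nonneg.2 hcz1) hμz.le]
      have hzpos' : 0 < T.a z i0 := by rw [a_symm T z i0]; exact hzpos
      have hleafz : 2 * mu T z = mu T i0 :=
        leaf T hτ0 hB hzD (Ne.symm hzne) hzpos' hM' (by rw [← hMdef]; linarith)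
      rw [← hMdef] at hleafz
      rcases eq_or_lt_of_le hcz1 with hcze | hcz2
      · rw [← hcze, one_mul] at hcz
        rcases hR3d with h | h
        · rw [h] at hR2'; linarith
        · linarith
      · have h2c : (0 : ℤ) ≤ cz - 2 := by omega
        have : 2 * mu T z ≤ F T i0 z := by
          rw [hcz]
          nlinarith [mul_nonneg h2c hμz.le]
        linarith

open Classical in
/-- layers by distance to the set of non-`(-2)`-indices -/
noncomputable def R : ℕ → Finset (Fin n)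
  | 0 => univ.filter (fun j => ¬ T.IsMinusTwo j)
  | (k + 1) => R k ∪ univ.filter (fun i => ∃ j ∈ R k, T.a i j ≠ 0)

theorem mem_R_zero {j : Fin n} : j ∈ R T 0 ↔ ¬ T.IsMinusTwo j := by
  simp [R]

theorem mem_R_succ {k : ℕ} {i : Fin n} :
    i ∈ R T (k + 1) ↔ i ∈ R T k ∨ ∃ j ∈ R T k, T.a i j ≠ 0 := by
  simp [R]

theorem R_mono (k : ℕ) : R T k ⊆ R T (k + 1) := fun _ hi => (mem_R_succ T).2 (Or.inl hi)

theorem R_zero_subset (k : ℕ) : R T 0 ⊆ R T k := by
  induction k with
  | zero => exact Finset.Subset.refl _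
  | succ k ih => exact ih.trans (R_mono T k)

theorem layer {τ : ℤ}
    (hB : ∀ i j, T.IsMinusTwo i → ¬ T.IsMinusTwo j → 0 < T.a i j → mu T i ≤ τ) :
    ∀ k i, i ∈ R T (k + 1) → i ∉ R T k →
      ∃ j ∈ R T k, j ≠ i ∧ 0 < T.a i j ∧
        (mu T i ≤ τ ∨ (T.IsMinusTwo j ∧ mu T i ≤ mu T j + τ)) := by
  intro k
  induction k with
  | zero =>
    intro i hi hni
    rcases (mem_R_succ T).1 hi with h | ⟨j, hj, hne⟩
    · exact absurd h hni
    have hji : j ≠ i := by rintro rfl; exact hni hj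
    have hpos : 0 < T.a i j :=
      lt_of_le_of_ne (T.offDiag_nonneg i j (Ne.symm hji)) (Ne.symm hne)
    have hiD : T.IsMinusTwo i := by
      by_contra h; exact hni ((mem_R_zero T).2 h)
    exact ⟨j, hj, hji, hpos, Or.inl (hB i j hiD ((mem_R_zero T).1 hj) hpos)⟩
  | succ k ih =>
    intro i hi hni
    rcases (mem_R_succ T).1 hi with h | ⟨j, hj, hne⟩
    · exact absurd h hni
    have hji : j ≠ i := by rintro rfl; exact hni hj
    have hpos : 0 < T.a i j :=
      lt_of_le_of_ne (T.offDiag_nonneg i j (Ne.symm hji)) (Ne.symm hne)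
    have hjk : j ∉ R T k := by
      intro hjk
      exact hni ((mem_R_succ T).2 (Or.inr ⟨j, hjk, hne⟩))
    have hjD : T.IsMinusTwo j := by
      by_contra h; exact hjk (R_zero_subset T k ((mem_R_zero T).2 h))
    have hpos' : 0 < T.a j i := by rw [a_symm T j i]; exact hpos
    obtain ⟨j', hj', hj'j, hpos2, halt⟩ := ih j hj hjk
    refine ⟨j, hj, hji, hpos, Or.inr ⟨hjD, ?_⟩⟩
    have h1 : mu T i ≤ F T j i := mu_le_F T (Ne.symm hji) hpos'
    rcases halt with h | ⟨_, h⟩
    · have := F_le T hjD i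
      linarith
    · have hij' : i ≠ j' := by
        rintro rfl; exact hni (R_mono T k hj')
      have h2 : mu T j' ≤ F T j j' := mu_le_F T hj'j hpos2
      have h3 := F_add_le T hjD hij'
      linarith

theorem R_cover (hJ : ∃ j, ¬ T.IsMinusTwo j) :
    ∀ k, R T k = univ ∨ k + 1 ≤ (R T k).card := by
  intro k
  induction k with
  | zero =>
    right
    obtain ⟨j, hj⟩ := hJ
    have := Finset.card_pos.2 ⟨j, (mem_R_zero T).2 hj⟩
    omega
  | succ k ih =>
    by_cases hu : R T k = univ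
    · left
      exact Finset.eq_univ_of_forall (fun i => R_mono T k (by rw [hu]; exact Finset.mem_univ i))
    · right
      rcases ih with h | h
      · exact absurd h hu
      have hne : (R T k).Nonempty := Finset.card_pos.1 (by omega)
      obtain ⟨i, hi, j, hj, hij⟩ := T.connected (R T k) hne hu
      have hj' : j ∈ R T (k + 1) :=
        (mem_R_succ T).2 (Or.inr ⟨i, hi, by rw [a_symm T j i]; exact hij⟩)
      have hss : R T k ⊂ R T (k + 1) :=
        (Finset.ssubset_iff_of_subset (R_mono T k)).2 ⟨j, hj', hj⟩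
      have := Finset.card_lt_card hss
      omega

theorem mu_le (τ : ℤ) (hτ0 : 0 ≤ τ)
    (hB : ∀ i j, T.IsMinusTwo i → ¬ T.IsMinusTwo j → 0 < T.a i j → mu T i ≤ τ)
    (hJ : ∃ j, ¬ T.IsMinusTwo j) (i : Fin n) (hi : T.IsMinusTwo i) : mu T i ≤ 8 * τ := by
  classical
  by_contra hcon
  push Not at hcon
  have hDne : (univ.filter (fun j => T.IsMinusTwo j)).Nonempty := ⟨i, by simp [hi]⟩
  obtain ⟨i1, hi1, hmax1⟩ := Finset.exists_max_image _ (fun j => mu T j) hDne
  have hi1D : T.IsMinusTwo i1 := (Finset.mem_filter.1 hi1).2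
  have hmax : ∀ j, T.IsMinusTwo j → mu T j ≤ mu T i1 := fun j hj => hmax1 j (by simp [hj])
  have hM : 8 * τ < mu T i1 := lt_of_lt_of_le hcon (hmax i hi)
  have hRn : R T n = univ := by
    rcases R_cover T hJ n with h | h
    · exact h
    · exfalso
      have := Finset.card_le_univ (R T n)
      rw [Fintype.card_fin] at this
      omega
  have hex : ∃ k, ∃ j, T.IsMinusTwo j ∧ mu T j = mu T i1 ∧ j ∈ R T k :=
    ⟨n, i1, hi1D, rfl, by rw [hRn]; exact Finset.mem_univ _⟩
  obtain ⟨k0, ⟨i0, hi0D, hi0M, hi0R⟩, hmin⟩ :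
      ∃ k0, (∃ j, T.IsMinusTwo j ∧ mu T j = mu T i1 ∧ j ∈ R T k0) ∧
        ∀ k < k0, ¬ ∃ j, T.IsMinusTwo j ∧ mu T j = mu T i1 ∧ j ∈ R T k :=
    ⟨Nat.find hex, Nat.find_spec hex, fun k hk => Nat.find_min hex hk⟩
  cases k0 with
  | zero => exact (mem_R_zero T).1 hi0R hi0D
  | succ k1 =>
    have hni : i0 ∉ R T k1 := fun h => hmin k1 (Nat.lt_succ_self k1) ⟨i0, hi0D, hi0M, h⟩
    obtain ⟨q, hqR, hqne, hqpos, halt⟩ := layer T hB k1 i0 hi0R hni
    rcases halt with h | ⟨hqD, hq1⟩
    · rw [hi0M] at h; linarith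
    · have hq2 : mu T q < mu T i0 := by
        have hle := hmax q hqD
        rw [hi0M]
        rcases lt_or_eq_of_le hle with h | h
        · exact h
        · exact absurd ⟨q, hqD, h, hqR⟩ (hmin k1 (Nat.lt_succ_self k1))
      exact main_local T hτ0 hB hi0D (by rw [hi0M]; exact hM)
        (fun j hj => by rw [hi0M]; exact hmax j hj) hqne hqpos hq1 hq2

theorem main (T : Models.NumericalType n) (hmin : T.IsMinimal) (hg : 2 ≤ T.genus)
    (i j : Fin n) : T.m i * |T.a i j| ≤ 768 * T.genus := by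
  rcases Nat.lt_or_ge 1 n with hn | hn
  swap
  · have hij : i = j := by
      apply Fin.ext
      have := i.2
      have := j.2
      omega
    subst hij
    have h := Groth.Agent.Helper1.Models.row_sum T i
    have huniv : (univ : Finset (Fin n)) = {i} := by
      ext k
      simp only [Finset.mem_univ, Finset.mem_singleton, true_iff]
      apply Fin.ext
      have := i.2
      have := k.2
      omega
    rw [huniv, Finset.sum_singleton] at h
    have h0 : T.a i i = 0 := by
      rcases mul_eq_zero.1 h with h | h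
      · exact h
      · exact absurd h (T.m_pos i).ne'
    rw [h0, abs_zero, mul_zero]; linarith
  · obtain ⟨-, hS⟩ := Groth.Agent.Helper8.NumB.main T hmin hn hg
    obtain ⟨τ, hτ⟩ : ∃ τ, τ = 6 * T.genus - 6 := ⟨_, rfl⟩
    rw [← hτ] at hS
    have hτ0 : 0 ≤ τ := by rw [hτ]; linarith
    have hB : ∀ i j, T.IsMinusTwo i → ¬ T.IsMinusTwo j → 0 < T.a i j → mu T i ≤ τ := by
      intro i j _ hj hpos
      have h1 := (hS j hj).2.2 i
      have h2 : T.m i * T.w i ≤ T.m i * T.a i j :=
        mul_le_mul_of_nonneg_left (w_le_left T hpos) (T.m_pos i).le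
      unfold mu
      linarith
    have hJ : ∃ j, ¬ T.IsMinusTwo j := by
      by_contra hcon
      push Not at hcon
      have h2 := Groth.Agent.Helper8.NumB.two_genus T
      have h3 : ∑ i, T.m i * Groth.Agent.Helper8.NumB.U T i = 0 := by
        apply Finset.sum_eq_zero
        intro k _
        obtain ⟨hg0, ha⟩ := hcon k
        unfold Groth.Agent.Helper8.NumB.U
        rw [hg0, ha]; ring
      rw [h3] at h2; omega
    have hdiag : ∀ k, T.m k * |T.a k k| ≤ 16 * τ := by
      intro k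
      by_cases hk : T.IsMinusTwo k
      · have h1 := mu_le T τ hτ0 hB hJ k hk
        have hw := T.w_pos k
        have h2 : |T.a k k| = 2 * T.w k := by
          rw [hk.2, abs_of_nonpos (by linarith)]; ring
        rw [h2]
        unfold mu at h1
        have h3 : T.m k * (2 * T.w k) = 2 * (T.m k * T.w k) := by ring
        rw [h3]; linarith
      · have := (hS k hk).2.1
        linarith
    by_cases hij : i = j
    · subst hij
      have := hdiag i
      linarith
    · have hnn := T.offDiag_nonneg i j hij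
      rw [abs_of_nonneg hnn]
      have h1 := Groth.Agent.Helper1.Models.offDiag_term_le T j i hij
      have habs : |T.a j j| = - T.a j j :=
        abs_of_nonpos (Groth.Agent.Helper1.Models.diag_nonpos T j)
      have h2 := hdiag j
      rw [habs] at h2
      rw [a_symm T i j]
      nlinarith

end Groth.Agent.Helper6.NumMu
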