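import Mathlib
import Groth.Prelude.Def_Models
import Groth.Agent.Helper6.NumMu
import Groth.Agent.Helper8.NumPerm
import Groth.Agent.Helper8.NumG
import Groth.Agent.S2172
import Groth.Agent.S2179
import Groth.Agent.S2175
import Groth.Agent.S2180

set_option autoImplicit false
set_option linter.style.haveILetI false
set_option linter.unusedSectionVars false

open Finset

/-!
# The `ℓ`-torsion of the Picard group of a numerical type
-/

namespace Groth.Agent.Helper6.NumTors

open _root_.Models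

/-- finiteness of `a`-torsion in a finitely generated abelian group -/
theorem finite_torsionBy (M : Type*) [AddCommGroup M] [Module ℤ M] [Module.Finite ℤ M] (a : ℤ)
    (ha : a ≠ 0) : Finite (Submodule.torsionBy ℤ M a) := by
  haveI : IsNoetherian ℤ M := inferInstance
  have h1 : @IsNoetherian ℤ (Submodule.torsionBy ℤ M a) _ _ (Submodule.module _) :=
    isNoetherian_submodule' _
  have h2 : @Module.Finite ℤ (Submodule.torsionBy ℤ M a) _ _ (Submodule.module _) :=
    @Module.IsNoetherian.finite ℤ _ _ _ (Submodule.module _) h1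
  refine @Module.finite_of_fg_torsion (Submodule.torsionBy ℤ M a) _ (Submodule.module _) h2 ?_
  intro x
  refine ⟨⟨a, mem_nonZeroDivisors_of_ne_zero ha⟩, ?_⟩
  apply Subtype.ext
  have h3 := (Submodule.mem_torsionBy_iff _ _).1 x.2
  rw [Submodule.coe_zero]
  exact h3

/-- an injective additive hom induces an inequality of torsion cardinalities -/
theorem card_torsionBy_le {A B : Type*} [AddCommGroup A] [AddCommGroup B] [Module ℤ A]
    [Module ℤ B] (f : A →+ B) (hf : Function.Injective f) (a : ℤ)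
    [Finite (Submodule.torsionBy ℤ B a)] :
    Nat.card (Submodule.torsionBy ℤ A a) ≤ Nat.card (Submodule.torsionBy ℤ B a) := by
  have hmem : ∀ x : Submodule.torsionBy ℤ A a, f x ∈ Submodule.torsionBy ℤ B a := by
    intro x
    rw [Submodule.mem_torsionBy_iff]
    have h1 := x.2
    rw [Submodule.mem_torsionBy_iff] at h1
    have h2 := map_intCast_smul f ℤ ℤ a (x : A)
    simp only [Int.cast_id] at h2
    rw [← h2, h1, map_zero]
  apply Nat.card_le_card_of_injective
    (fun x : Submodule.torsionBy ℤ A a => (⟨f x, hmem x⟩ : Submodule.torsionBy ℤ B a))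
  intro x y h
  apply Subtype.ext
  apply hf
  exact congrArg Subtype.val h

variable {n : ℕ} (T : Models.NumericalType n)

theorem card_le_of (ℓ : ℕ) (hℓ : ℓ.Prime) (m' : Fin n → ℤ) (hm'pos : ∀ i, 0 < m' i)
    (hAm : T.a.mulVec m' = 0) (hℓm : ∀ i, ¬ ((ℓ : ℤ) ∣ m' i))
    (hℓA : ∀ i j, T.a i j ≠ 0 → ¬ ((ℓ : ℤ) ∣ T.a i j)) :
    Nat.card (Submodule.torsionBy ℤ T.Pic (ℓ : ℤ)) ≤ ℓ ^ T.topGenus.toNat := by
  have h1 := Groth.Agent.S2172.result T.a m' T.symm T.offDiag_nonneg hm'pos hAm T.connected ℓ hℓ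
    hℓA hℓm
  obtain ⟨f, hf, -⟩ := Groth.Agent.S2179.result T
  have hℓ0 : (ℓ : ℤ) ≠ 0 := by exact_mod_cast hℓ.ne_zero
  haveI : Finite (Submodule.torsionBy ℤ T.CokerA (ℓ : ℤ)) := finite_torsionBy _ _ hℓ0
  have h2 := card_torsionBy_le f hf (ℓ : ℤ)
  have h3 : T.topGenus.toNat =
      (univ.filter fun p : Fin n × Fin n => p.1 < p.2 ∧ 0 < T.a p.1 p.2).card + 1 - n := by
    have h4 : T.topGenus = 1 - (n : ℤ) +
        ((univ.filter fun p : Fin n × Fin n => p.1 < p.2 ∧ 0 < T.a p.1 p.2).card : ℤ) := rfl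
    omega
  rw [h3]
  exact h2.trans h1

theorem minimal_case (hmin : T.IsMinimal) (hg : 2 ≤ T.genus) (ℓ : ℕ) (hℓ : ℓ.Prime)
    (hℓg : 768 * T.genus < ℓ) :
    Nat.card (Submodule.torsionBy ℤ T.Pic (ℓ : ℤ)) ≤ ℓ ^ T.topGenus.toNat ∧
      T.topGenus ≤ T.genus := by
  have hℓA : ∀ i j, T.a i j ≠ 0 → ¬ ((ℓ : ℤ) ∣ T.a i j) := by
    intro i j hne hdvd
    have h1 := Groth.Agent.Helper6.NumMu.main T hmin hg i j
    have h2 : 0 < |T.a i j| := abs_pos.2 hne
    have h3 : (ℓ : ℤ) ≤ |T.a i j| := Int.le_of_dvd h2 ((dvd_abs _ _).2 hdvd)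
    have h4 : |T.a i j| ≤ T.m i * |T.a i j| := by
      have := T.m_pos i
      nlinarith
    linarith
  rcases Nat.lt_or_ge 1 n with hn | hn
  · refine ⟨?_, Groth.Agent.Helper8.NumG.main T hmin hn⟩
    refine card_le_of T ℓ hℓ T.m T.m_pos T.mulVec_m ?_ hℓA
    intro i hdvd
    have h1 := Groth.Agent.Helper6.NumMu.main T hmin hg i i
    have h2 : T.a i i < 0 := Groth.Agent.Helper1.Models.diag_neg T hn i
    have h3 : (ℓ : ℤ) ≤ T.m i := Int.le_of_dvd (T.m_pos i) hdvd
    have h4 : T.m i ≤ T.m i * |T.a i i| := by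
      have := T.m_pos i
      have h5 : 1 ≤ |T.a i i| := by
        rw [abs_of_neg h2]; omega
      nlinarith
    linarith
  · have hzero : ∀ i j, T.a i j = 0 := by
      intro i j
      have hij : i = j := by
        apply Fin.ext
        have := i.2
        have := j.2
        omega
      subst hij
      have h := Groth.Agent.Helper1.Models.row_sum T i
      have huniv : (univ : Finset (Fin n)) = {i} := by
        ext k
        simp only [Finset.mem_univ, Finset.mem_singleton, true_iff]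
        apply Fin.ext
        have := i.2
        have := k.2
        omega
      rw [huniv, Finset.sum_singleton] at h
      rcases mul_eq_zero.1 h with h | h
      · exact h
      · exact absurd h (T.m_pos i).ne'
    constructor
    · refine card_le_of T ℓ hℓ (fun _ => 1) (fun _ => one_pos) ?_ ?_ hℓA
      · funext i
        simp [Matrix.mulVec, dotProduct, hzero]
      · intro i hdvd
        have h1 : (ℓ : ℤ) = 1 := Int.eq_one_of_dvd_one (by positivity) hdvd
        have h2 : ℓ = 1 := by exact_mod_cast h1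
        exact hℓ.one_lt.ne' h2
    · have h0 : (univ.filter fun p : Fin n × Fin n => p.1 < p.2 ∧ 0 < T.a p.1 p.2).card = 0 := by
        rw [Finset.card_eq_zero, Finset.filter_eq_empty_iff]
        intro p _ hp
        have h1 := hp.1
        have h2 : (p.1 : ℕ) < (p.2 : ℕ) := h1
        have := p.2.2
        omega
      have h4 : T.topGenus = 1 - (n : ℤ) +
          ((univ.filter fun p : Fin n × Fin n => p.1 < p.2 ∧ 0 < T.a p.1 p.2).card : ℤ) := rfl
      rw [h4, h0]
      have := T.pos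
      push_cast
      omega

theorem general : ∀ (n : ℕ) (T : Models.NumericalType n), 2 ≤ T.genus → ∀ (ℓ : ℕ), ℓ.Prime →
    768 * T.genus < ℓ →
    Nat.card (Submodule.torsionBy ℤ T.Pic (ℓ : ℤ)) ≤ ℓ ^ T.genus.toNat := by
  intro n
  induction n with
  | zero => intro T; exact absurd T.pos (lt_irrefl 0)
  | succ n ih =>
    intro T hg ℓ hℓ hℓg
    by_cases hmin : T.IsMinimal
    · obtain ⟨h1, h2⟩ := minimal_case T hmin hg ℓ hℓ hℓg
      refine h1.trans (Nat.pow_le_pow_right hℓ.pos ?_)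
      omega
    · unfold Models.NumericalType.IsMinimal at hmin
      push Not at hmin
      obtain ⟨i, hi⟩ := hmin
      obtain ⟨σ, hσ⟩ : ∃ σ : Equiv.Perm (Fin (n + 1)), σ (Fin.last n) = i :=
        ⟨Equiv.swap (Fin.last n) i, Equiv.swap_apply_left _ _⟩
      have hlast : (Groth.Agent.Helper8.NumPerm.perm T σ).IsMinusOne (Fin.last n) := by
        rw [Groth.Agent.Helper8.NumPerm.isMinusOne_perm, hσ]; exact hi
      obtain ⟨f1, hf1⟩ := Groth.Agent.Helper8.NumPerm.exists_pic_perm T σ
      obtain ⟨⟨T', hT'⟩, hgen⟩ :=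
        Groth.Agent.S2175.result (Groth.Agent.Helper8.NumPerm.perm T σ) hlast
      obtain ⟨f2, hf2, -⟩ :=
        Groth.Agent.S2180.result (Groth.Agent.Helper8.NumPerm.perm T σ) hlast T' hT'
      have hg' : T'.genus = T.genus := by
        rw [hgen T' hT', Groth.Agent.Helper8.NumPerm.genus_perm]
      have hIH := ih T' (by rw [hg']; exact hg) ℓ hℓ (by rw [hg']; exact hℓg)
      rw [hg'] at hIH
      have hℓ0 : (ℓ : ℤ) ≠ 0 := by exact_mod_cast hℓ.ne_zero
      haveI : Finite (Submodule.torsionBy ℤ T'.Pic (ℓ : ℤ)) := finite_torsionBy _ _ hℓ0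
      have hinj : Function.Injective (f2.comp f1) := by
        rw [AddMonoidHom.coe_comp]; exact hf2.comp hf1
      exact (card_torsionBy_le (f2.comp f1) hinj (ℓ : ℤ)).trans hIH

theorem main (hg : 2 ≤ T.genus) (ℓ : ℕ) (hℓ : ℓ.Prime) (hℓg : 768 * T.genus < ℓ) :
    Nat.card (Submodule.torsionBy ℤ T.Pic (ℓ : ℤ)) ≤ ℓ ^ T.genus.toNat ∧
      (T.IsMinimal → Nat.card (Submodule.torsionBy ℤ T.Pic (ℓ : ℤ)) ≤ ℓ ^ T.topGenus.toNat ∧
        T.topGenus ≤ T.genus) :=
  ⟨general n T hg ℓ hℓ hℓg, fun hmin => minimal_case T hmin hg ℓ hℓ hℓg⟩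

end Groth.Agent.Helper6.NumTors
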