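import Mathlib

set_option autoImplicit false
set_option linter.style.haveILetI false
set_option linter.unusedSectionVars false
set_option linter.unusedVariables false

open CategoryTheory Category Limits Pretriangulated ZeroObject

namespace Groth.Agent.Helper6.OrA

universe v₁ v₂ v₃ u₁ u₂ u₃

variable {T : Type u₁} [Category.{v₁} T] [Preadditive T] [HasZeroObject T] [HasShift T ℤ]
  [∀ n : ℤ, (shiftFunctor T n).Additive] [Pretriangulated T]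
  {D : Type u₂} [Category.{v₂} D] [Preadditive D] [HasZeroObject D] [HasShift D ℤ]
  [∀ n : ℤ, (shiftFunctor D n).Additive] [Pretriangulated D]
  {A : Type u₃} [Category.{v₃} A]

section Tri

variable (G : T ⥤ D) [G.CommShift ℤ] [G.IsTriangulated]

lemma co₂ {X Y Z : T} {f : X ⟶ Y} {g : Y ⟶ Z} {h : Z ⟶ X⟦(1 : ℤ)⟧}
    (hT : Triangle.mk f g h ∈ distTriang T) {W : D} (x : W ⟶ G.obj Y)
    (hx : x ≫ G.map g = 0) : ∃ y : W ⟶ G.obj X, x = y ≫ G.map f :=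
  Triangle.coyoneda_exact₂ _ (G.map_distinguished _ hT) x hx

lemma yo₂ {X Y Z : T} {f : X ⟶ Y} {g : Y ⟶ Z} {h : Z ⟶ X⟦(1 : ℤ)⟧}
    (hT : Triangle.mk f g h ∈ distTriang T) {W : D} (x : G.obj Y ⟶ W)
    (hx : G.map f ≫ x = 0) : ∃ y : G.obj Z ⟶ W, x = G.map g ≫ y :=
  Triangle.yoneda_exact₂ _ (G.map_distinguished _ hT) x hx

end Tri

lemma co₂' {X Y Z : T} {f : X ⟶ Y} {g : Y ⟶ Z} {h : Z ⟶ X⟦(1 : ℤ)⟧}
    (hT : Triangle.mk f g h ∈ distTriang T) {W : T} (x : W ⟶ Y)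
    (hx : x ≫ g = 0) : ∃ y : W ⟶ X, x = y ≫ f :=
  Triangle.coyoneda_exact₂ _ hT x hx

lemma yo₂' {X Y Z : T} {f : X ⟶ Y} {g : Y ⟶ Z} {h : Z ⟶ X⟦(1 : ℤ)⟧}
    (hT : Triangle.mk f g h ∈ distTriang T) {W : T} (x : Y ⟶ W)
    (hx : f ≫ x = 0) : ∃ y : Z ⟶ W, x = g ≫ y :=
  Triangle.yoneda_exact₂ _ hT x hx

variable (F F' : T ⥤ D) [F.CommShift ℤ] [F.IsTriangulated] [F'.CommShift ℤ] [F'.IsTriangulated]

/-- TR3-construction of an isomorphism on the middle vertex. -/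
lemma construct {X Y Z : T} {g : X ⟶ Y} {v : Y ⟶ Z} {w : Z ⟶ X⟦(1 : ℤ)⟧}
    (hT : Triangle.mk g v w ∈ distTriang T)
    (a : F.obj X ≅ F'.obj X) (c : F.obj Z ≅ F'.obj Z)
    (comm : (F.map w ≫ (F.commShiftIso (1 : ℤ)).hom.app X) ≫ a.hom⟦(1 : ℤ)⟧' =
      c.hom ≫ (F'.map w ≫ (F'.commShiftIso (1 : ℤ)).hom.app X)) :
    ∃ φ : F.obj Y ≅ F'.obj Y, F.map g ≫ φ.hom = a.hom ≫ F'.map g ∧
      φ.hom ≫ F'.map v = F.map v ≫ c.hom := by
  have h₁ := F.map_distinguished _ hT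
  have h₂ := F'.map_distinguished _ hT
  obtain ⟨b, hb₁, hb₂⟩ := complete_distinguished_triangle_morphism₂ _ _ h₁ h₂ a.hom c.hom comm
  let φ' : F.mapTriangle.obj (Triangle.mk g v w) ⟶ F'.mapTriangle.obj (Triangle.mk g v w) :=
    Triangle.homMk _ _ a.hom b c.hom hb₁ hb₂ comm
  have hiso : IsIso b :=
    isIso₂_of_isIso₁₃ φ' h₁ h₂ (inferInstanceAs (IsIso a.hom)) (inferInstanceAs (IsIso c.hom))
  exact ⟨@asIso _ _ _ _ b hiso, hb₁, hb₂.symm⟩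

variable (A) in
/-- The abstract context. -/
structure Ctx where
  I : ℤ → A ⥤ T
  le : ℤ → T → Prop
  ge : ℤ → T → Prop
  β : ∀ b : ℤ, I b ⋙ F ≅ I b ⋙ F'
  σ : ∀ (b : ℤ) (N : A), ((I b).obj N)⟦(1 : ℤ)⟧ ≅ (I (b - 1)).obj N
  β_σ : ∀ (b : ℤ) (N : A), (β (b - 1)).hom.app N =
    F.map (σ b N).inv ≫ (F.commShiftIso (1 : ℤ)).hom.app ((I b).obj N) ≫
      ((β b).hom.app N)⟦(1 : ℤ)⟧' ≫ (F'.commShiftIso (1 : ℤ)).inv.app ((I b).obj N) ≫
        F'.map (σ b N).hom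
  I_full : ∀ (b : ℤ) (X Y : A) (f : (I b).obj X ⟶ (I b).obj Y), ∃ d : X ⟶ Y, (I b).map d = f
  le_iso : ∀ (b : ℤ) (K K' : T), (K ≅ K') → le b K → le b K'
  ge_iso : ∀ (b : ℤ) (K K' : T), (K ≅ K') → ge b K → ge b K'
  le_mono : ∀ (b b' : ℤ) (K : T), b ≤ b' → le b K → le b' K
  ge_mono : ∀ (a a' : ℤ) (K : T), a' ≤ a → ge a K → ge a' K
  le_zero : ∀ (b : ℤ) (K : T), IsZero K → le b K
  I_le : ∀ (b : ℤ) (N : A), le b ((I b).obj N)
  I_ge : ∀ (b : ℤ) (N : A), ge b ((I b).obj N)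
  single : ∀ (b : ℤ) (K : T), ge b K → le b K → ∃ X : A, Nonempty (K ≅ (I b).obj X)
  bdd : ∀ K : T, ∃ a b : ℤ, ge a K ∧ le b K
  hz₀ : ∀ (c' c : ℤ) (N' N : A), c' < c →
    ∀ e : F.obj ((I c').obj N') ⟶ F'.obj ((I c).obj N), e = 0
  pres : ∀ (a b : ℤ), a < b → ∀ (K M : T) (f : K ⟶ M), ge a K → le b K → le (b - 1) M →
    ∃ (N : A) (L : T) (g : (I b).obj N ⟶ K) (v : K ⟶ L) (w : L ⟶ ((I b).obj N)⟦(1 : ℤ)⟧),
      Triangle.mk g v w ∈ distTriang T ∧ ge a L ∧ le (b - 1) L ∧ g ≫ f = 0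

variable {F F'} (c : Ctx A F F')

namespace Ctx

/-- The components of `β` with clean types. -/
def βh (b : ℤ) (N : A) : F.obj ((c.I b).obj N) ≅ F'.obj ((c.I b).obj N) := (c.β b).app N

lemma βh_σ (b : ℤ) (N : A) : (c.βh (b - 1) N).hom =
    F.map (c.σ b N).inv ≫ (F.commShiftIso (1 : ℤ)).hom.app ((c.I b).obj N) ≫
      ((c.βh b N).hom)⟦(1 : ℤ)⟧' ≫ (F'.commShiftIso (1 : ℤ)).inv.app ((c.I b).obj N) ≫
        F'.map (c.σ b N).hom := c.β_σ b N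

/-- Vanishing of `Hom(F L, F' (I_c N))` for `L ≤ c'`, `c' < c`. -/
lemma hz_aux : ∀ (n : ℕ) (a c' c₀ : ℤ), c' - a = n → c' < c₀ → ∀ (L : T) (N : A),
    c.ge a L → c.le c' L → ∀ e : F.obj L ⟶ F'.obj ((c.I c₀).obj N), e = 0 := by
  intro n
  induction n with
  | zero =>
    intro a c' c₀ h hc L N hge hle e
    have : a = c' := by lia
    subst this
    obtain ⟨X, ⟨ε⟩⟩ := c.single a L hge hle
    have h1 : F.map ε.inv ≫ e = 0 := c.hz₀ a c₀ X N hc _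
    calc e = F.map ε.hom ≫ F.map ε.inv ≫ e := by
            rw [← assoc, ← F.map_comp, ε.hom_inv_id, F.map_id, id_comp]
      _ = 0 := by rw [h1, comp_zero]
  | succ n ih =>
    intro a c' c₀ h hc L N hge hle e
    obtain ⟨N', L', g, v, w, hT, hgeL', hleL', -⟩ :=
      c.pres a c' (by lia) L 0 0 hge hle (c.le_zero _ _ (isZero_zero T))
    have h1 : F.map g ≫ e = 0 := c.hz₀ c' c₀ N' N hc _
    obtain ⟨y, rfl⟩ := yo₂ F hT e h1
    rw [ih a (c' - 1) c₀ (by lia) (by lia) L' N hgeL' hleL' y, comp_zero]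

lemma hz (c' c₀ : ℤ) (hc : c' < c₀) (L : T) (N : A) (hle : c.le c' L)
    (e : F.obj L ⟶ F'.obj ((c.I c₀).obj N)) : e = 0 := by
  obtain ⟨a, b, hge, -⟩ := c.bdd L
  have hge' : c.ge (min a c') L := c.ge_mono a _ L (min_le_left _ _) hge
  obtain ⟨n, hn⟩ : ∃ n : ℕ, c' - min a c' = n :=
    ⟨(c' - min a c').toNat, by rw [Int.toNat_of_nonneg]; have := min_le_right a c'; lia⟩
  exact c.hz_aux n _ c' c₀ hn hc L N hge' hle e

variable (Q : T → A → ℤ → Prop)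

/-- The inductive predicate: `φ` is the canonical isomorphism for `K ∈ T^{[a,b]}`. -/
inductive Good : ℤ → ℤ → (K : T) → (F.obj K ≅ F'.obj K) → Prop
  | single (a b : ℤ) (hab : a = b) (K : T) (X : A) (e : K ≅ (c.I b).obj X)
      (φ : F.obj K ≅ F'.obj K)
      (hφ : φ.hom = F.map e.hom ≫ (c.βh b X).hom ≫ F'.map e.inv) : Good a b K φ
  | step (a b : ℤ) (hab : a < b) (K L : T) (N : A) (g : (c.I b).obj N ⟶ K) (v : K ⟶ L)
      (w : L ⟶ ((c.I b).obj N)⟦(1 : ℤ)⟧) (hT : Triangle.mk g v w ∈ distTriang T)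
      (hge : c.ge a K) (hle : c.le b K) (hQ : Q K N b)
      (ψ : F.obj L ≅ F'.obj L) (hL : Good a (b - 1) L ψ)
      (φ : F.obj K ≅ F'.obj K)
      (sq1 : F.map g ≫ φ.hom = (c.βh b N).hom ≫ F'.map g)
      (sq2 : φ.hom ≫ F'.map v = F.map v ≫ ψ.hom) : Good a b K φ

variable {c Q}

lemma Good.bounds {a b : ℤ} {K : T} {φ : F.obj K ≅ F'.obj K} (h : c.Good Q a b K φ) :
    c.ge a K ∧ c.le b K ∧ a ≤ b := by
  cases h with
  | single =>
    rename_i X hab e hφ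
    subst hab
    exact ⟨c.ge_iso _ _ _ e.symm (c.I_ge _ _), c.le_iso _ _ _ e.symm (c.I_le _ _), le_rfl⟩
  | step =>
    rename_i L N ψ hab w hL v hge g hT hle hQ sq2 sq1
    exact ⟨hge, hle, hab.le⟩

/-- naturality of `β` in degree zero. -/
lemma β_nat (b : ℤ) {X Y : A} (f : (c.I b).obj X ⟶ (c.I b).obj Y) :
    F.map f ≫ (c.βh b Y).hom = (c.βh b X).hom ≫ F'.map f := by
  obtain ⟨d, rfl⟩ := c.I_full b X Y f
  exact (c.β b).hom.naturality d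

/-- compatibility of a good isomorphism with maps to top-degree singles. -/
lemma Good.W {a b : ℤ} {L : T} {ψ : F.obj L ≅ F'.obj L} (h : c.Good Q a b L ψ) :
    ∀ (N : A) (w : L ⟶ (c.I b).obj N),
      F.map w ≫ (c.βh b N).hom = ψ.hom ≫ F'.map w := by
  induction h with
  | single b hab K X e φ hφ =>
    intro N w
    obtain ⟨w', rfl⟩ : ∃ w', w = e.hom ≫ w' := ⟨e.inv ≫ w, by rw [e.hom_inv_id_assoc]⟩
    rw [hφ, F.map_comp, assoc, c.β_nat b w', F'.map_comp, assoc, assoc,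
      Iso.map_inv_hom_id_assoc]
  | step b hab K L N₁ g v w₁ hT hge hle hQ ψ hL φ sq1 sq2 ih =>
    intro N w
    have hleL := hL.bounds.2.1
    have h0 : F.map g ≫ (F.map w ≫ (c.βh b N).hom - φ.hom ≫ F'.map w) = 0 := by
      rw [Preadditive.comp_sub, ← assoc, ← F.map_comp, c.β_nat b (g ≫ w), ← assoc (F.map g),
        sq1, assoc, ← F'.map_comp, sub_self]
    obtain ⟨y, hy⟩ := yo₂ F hT _ h0
    have hy0 : y = 0 := c.hz (b - 1) b (by lia) L N hleL y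
    rw [hy0, comp_zero] at hy
    exact sub_eq_zero.1 hy

/-- The TR3 construction for a presentation. -/
lemma exists_iso_of_pres {a b : ℤ} {K L : T} {N : A} {g : (c.I b).obj N ⟶ K} {v : K ⟶ L}
    {w : L ⟶ ((c.I b).obj N)⟦(1 : ℤ)⟧} (hT : Triangle.mk g v w ∈ distTriang T)
    {ψ : F.obj L ≅ F'.obj L} (hL : c.Good Q a (b - 1) L ψ) :
    ∃ φ : F.obj K ≅ F'.obj K, F.map g ≫ φ.hom = (c.βh b N).hom ≫ F'.map g ∧
      φ.hom ≫ F'.map v = F.map v ≫ ψ.hom := by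
  refine construct F F' hT (c.βh b N) ψ ?_
  have h := hL.W N (w ≫ (c.σ b N).hom)
  rw [c.βh_σ b N] at h
  simp only [Functor.map_comp, assoc] at h
  rw [Iso.map_hom_inv_id_assoc] at h
  have h2 := congrArg (fun x => x ≫ F'.map (c.σ b N).inv ≫
    (F'.commShiftIso (1 : ℤ)).hom.app ((c.I b).obj N)) h
  simp only [assoc, Iso.map_hom_inv_id_assoc, Iso.inv_hom_id_app] at h2
  simpa using h2

/-- Existence of good isomorphisms. -/
lemma exists_good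
    (hpres : ∀ (a b : ℤ), a < b → ∀ (K : T), c.ge a K → c.le b K →
      ∃ (N : A) (L : T) (g : (c.I b).obj N ⟶ K) (v : K ⟶ L)
        (w : L ⟶ ((c.I b).obj N)⟦(1 : ℤ)⟧),
        Triangle.mk g v w ∈ distTriang T ∧ c.ge a L ∧ c.le (b - 1) L ∧ Q K N b) :
    ∀ (n : ℕ) (a b : ℤ), b - a = n → ∀ (K : T), c.ge a K → c.le b K →
      ∃ φ : F.obj K ≅ F'.obj K, c.Good Q a b K φ := by
  intro n
  induction n with
  | zero =>
    intro a b h K hge hle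
    have hab : a = b := by lia
    subst hab
    obtain ⟨X, ⟨e⟩⟩ := c.single a K hge hle
    exact ⟨F.mapIso e ≪≫ c.βh a X ≪≫ (F'.mapIso e).symm,
      Good.single a a rfl K X e _ (by simp)⟩
  | succ n ih =>
    intro a b h K hge hle
    obtain ⟨N, L, g, v, w, hT, hgeL, hleL, hQ⟩ := hpres a b (by lia) K hge hle
    obtain ⟨ψ, hψ⟩ := ih a (b - 1) (by lia) L hgeL hleL
    obtain ⟨φ, sq1, sq2⟩ := exists_iso_of_pres hT hψ
    exact ⟨φ, Good.step a b (by lia) K L N g v w hT hge hle hQ ψ hψ φ sq1 sq2⟩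

/-- Every object has isomorphic images (no negativity condition needed). -/
theorem exists_iso (c : Ctx A F F') (K : T) : Nonempty (F.obj K ≅ F'.obj K) := by
  obtain ⟨a, b, hge, hle⟩ := c.bdd K
  have hge' : c.ge (min a b) K := c.ge_mono a _ K (min_le_left _ _) hge
  obtain ⟨n, hn⟩ : ∃ n : ℕ, b - min a b = n :=
    ⟨(b - min a b).toNat, by rw [Int.toNat_of_nonneg]; have := min_le_right a b; lia⟩
  have hpres : ∀ (a b : ℤ), a < b → ∀ (K : T), c.ge a K → c.le b K →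
      ∃ (N : A) (L : T) (g : (c.I b).obj N ⟶ K) (v : K ⟶ L)
        (w : L ⟶ ((c.I b).obj N)⟦(1 : ℤ)⟧),
        Triangle.mk g v w ∈ distTriang T ∧ c.ge a L ∧ c.le (b - 1) L ∧ True := by
    intro a b hab K hge hle
    obtain ⟨N, L, g, v, w, hT, h1, h2, -⟩ :=
      c.pres a b hab K 0 0 hge hle (c.le_zero _ _ (isZero_zero T))
    exact ⟨N, L, g, v, w, hT, h1, h2, trivial⟩
  obtain ⟨φ, -⟩ := exists_good (Q := fun _ _ _ => True) hpres n _ b hn K hge' hle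
  exact ⟨φ⟩

end Ctx

end Groth.Agent.Helper6.OrA
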