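import Mathlib
import Groth.Agent.Helper6.OrA

set_option autoImplicit false
set_option linter.style.haveILetI false
set_option linter.unusedSectionVars false
set_option linter.unusedVariables false

open CategoryTheory Category Limits Pretriangulated ZeroObject

namespace Groth.Agent.Helper6.OrB

open Groth.Agent.Helper6.OrA

universe v₁ v₂ v₃ u₁ u₂ u₃

variable {T : Type u₁} [Category.{v₁} T] [Preadditive T] [HasZeroObject T] [HasShift T ℤ]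
  [∀ n : ℤ, (shiftFunctor T n).Additive] [Pretriangulated T]
  {D : Type u₂} [Category.{v₂} D] [Preadditive D] [HasZeroObject D] [HasShift D ℤ]
  [∀ n : ℤ, (shiftFunctor D n).Additive] [Pretriangulated D]
  {A : Type u₃} [Category.{v₃} A]
  {F F' : T ⥤ D} [F.CommShift ℤ] [F.IsTriangulated] [F'.CommShift ℤ] [F'.IsTriangulated]
  (c : Ctx A F F')

/-- The negativity predicate. -/
def Neg : T → A → ℤ → Prop := fun K N b => ∀ f : K ⟶ (c.I b).obj N, f = 0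

/-- Additional hypotheses (orthogonality and presentations with negativity). -/
structure Hyp : Prop where
  orth : ∀ (b : ℤ) (L : T) (X : A), c.le (b - 1) L → ∀ f : L ⟶ (c.I b).obj X, f = 0
  presN : ∀ (a b : ℤ), a < b → ∀ (K K' M₁ M₂ : T) (f₁ : K ⟶ M₁) (f₂ : K ⟶ M₂),
    c.ge a K → c.le b K → c.le b K' → c.le (b - 1) M₁ → c.le (b - 1) M₂ →
    ∃ (N : A) (L : T) (g : (c.I b).obj N ⟶ K) (v : K ⟶ L)
      (w : L ⟶ ((c.I b).obj N)⟦(1 : ℤ)⟧),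
      Triangle.mk g v w ∈ distTriang T ∧ c.ge a L ∧ c.le (b - 1) L ∧
      (∀ f : K ⟶ (c.I b).obj N, f = 0) ∧ (∀ f : K' ⟶ (c.I b).obj N, f = 0) ∧
      g ≫ f₁ = 0 ∧ g ≫ f₂ = 0

variable [F.Full] [F.Faithful]

lemma zero_of_hom_zero {L K' : T} (χ : F.obj K' ≅ F'.obj K') (h : ∀ f : L ⟶ K', f = 0)
    (e : F.obj L ⟶ F'.obj K') : e = 0 := by
  obtain ⟨e₀, he₀⟩ := F.map_surjective (e ≫ χ.inv)
  rw [h e₀, F.map_zero] at he₀
  have h2 := congrArg (fun x => x ≫ χ.hom) he₀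
  simpa using h2.symm

variable {c}

lemma uniq_sq2 {b : ℤ} {K L : T} {N : A} {g : (c.I b).obj N ⟶ K} {v : K ⟶ L}
    {w : L ⟶ ((c.I b).obj N)⟦(1 : ℤ)⟧} (hT : Triangle.mk g v w ∈ distTriang T)
    (hneg : ∀ f : K ⟶ (c.I b).obj N, f = 0) (φ₁ φ₂ : F.obj K ⟶ F'.obj K)
    (h : φ₁ ≫ F'.map v = φ₂ ≫ F'.map v) : φ₁ = φ₂ := by
  have h0 : (φ₁ - φ₂) ≫ F'.map v = 0 := by rw [Preadditive.sub_comp, h, sub_self]
  obtain ⟨y, hy⟩ := co₂ F' hT _ h0
  have hy0 : y = 0 := zero_of_hom_zero (c.βh b N) hneg y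
  rw [hy0, zero_comp] at hy
  exact sub_eq_zero.1 hy

lemma presQ (hc : Hyp c) : ∀ (a b : ℤ), a < b → ∀ (K : T), c.ge a K → c.le b K →
    ∃ (N : A) (L : T) (g : (c.I b).obj N ⟶ K) (v : K ⟶ L)
      (w : L ⟶ ((c.I b).obj N)⟦(1 : ℤ)⟧),
      Triangle.mk g v w ∈ distTriang T ∧ c.ge a L ∧ c.le (b - 1) L ∧ Neg c K N b := by
  intro a b hab K hge hle
  obtain ⟨N, L, g, v, w, hT, h1, h2, h3, -, -, -⟩ := hc.presN a b hab K K 0 0 0 0 hge hle hle
    (c.le_zero _ _ (isZero_zero T)) (c.le_zero _ _ (isZero_zero T))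
  exact ⟨N, L, g, v, w, hT, h1, h2, h3⟩

variable (c) in
/-- Naturality of good isomorphisms on `T^{[a,b]}`. -/
def MainAt (a b : ℤ) : Prop :=
  ∀ (K₁ : T) (φ₁ : F.obj K₁ ≅ F'.obj K₁) (K₂ : T) (φ₂ : F.obj K₂ ≅ F'.obj K₂),
    c.Good (Neg c) a b K₁ φ₁ → c.Good (Neg c) a b K₂ φ₂ →
      ∀ f : K₁ ⟶ K₂, F.map f ≫ φ₂.hom = φ₁.hom ≫ F'.map f

lemma rechoose (hc : Hyp c) {a b : ℤ} (IH : MainAt c a (b - 1)) {K : T}
    {φ : F.obj K ≅ F'.obj K} (hK : c.Good (Neg c) a b K φ) (hab : a < b)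
    (K' : T) (hK' : c.le b K') {M : T} (u : K ⟶ M) (hM : c.le (b - 1) M) :
    ∃ (N' : A) (L' : T) (g' : (c.I b).obj N' ⟶ K) (v' : K ⟶ L')
      (w' : L' ⟶ ((c.I b).obj N')⟦(1 : ℤ)⟧) (ψ' : F.obj L' ≅ F'.obj L'),
      Triangle.mk g' v' w' ∈ distTriang T ∧ c.Good (Neg c) a (b - 1) L' ψ' ∧
      (∀ f : K' ⟶ (c.I b).obj N', f = 0) ∧ g' ≫ u = 0 ∧
      φ.hom ≫ F'.map v' = F.map v' ≫ ψ'.hom := by
  cases hK with
  | single =>
    rename_i X hab' e hφ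
    lia
  | step =>
    rename_i L N ψ hab' w hL v hge g hT hle hQ sq2 sq1
    have hleL := hL.bounds.2.1
    obtain ⟨N', L', g', v', w', hT', hgeL', hleL', negK, negK', hgv, hgu⟩ :=
      hc.presN a b hab K K' L M v u hge hle hK' hleL hM
    obtain ⟨n, hn⟩ : ∃ n : ℕ, (b - 1) - a = n :=
      ⟨((b - 1) - a).toNat, by rw [Int.toNat_of_nonneg]; lia⟩
    obtain ⟨ψ', hψ'⟩ := Ctx.exists_good (presQ hc) n a (b - 1) hn L' hgeL' hleL'
    obtain ⟨φ', sq1', sq2'⟩ := Ctx.exists_iso_of_pres hT' hψ'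
    obtain ⟨h, hh⟩ := co₂' hT g' hgv
    obtain ⟨l, hl⟩ : ∃ l : L' ⟶ L, v' ≫ l = v := by
      obtain ⟨l, hl1, -⟩ := complete_distinguished_triangle_morphism _ _ hT' hT h (𝟙 K)
        ((comp_id g').trans hh)
      exact ⟨l, hl1.trans (id_comp v)⟩
    have hnat := IH L' ψ' L ψ hψ' hL l
    have hφφ' : φ'.hom = φ.hom := by
      apply uniq_sq2 hT hQ
      calc φ'.hom ≫ F'.map v = φ'.hom ≫ F'.map v' ≫ F'.map l := by rw [← F'.map_comp, hl]
        _ = F.map v' ≫ ψ'.hom ≫ F'.map l := by rw [← assoc, sq2', assoc]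
        _ = F.map v' ≫ F.map l ≫ ψ.hom := by rw [hnat]
        _ = F.map v ≫ ψ.hom := by rw [← assoc, ← F.map_comp, hl]
        _ = φ.hom ≫ F'.map v := sq2.symm
    exact ⟨N', L', g', v', w', ψ', hT', hψ', negK', hgu, by rw [← hφφ']; exact sq2'⟩

theorem main (hc : Hyp c) : ∀ (n : ℕ) (a b : ℤ), b - a = n → MainAt c a b := by
  intro n
  induction n with
  | zero =>
    intro a b hab K₁ φ₁ K₂ φ₂ h₁ h₂ f
    cases h₁ with
    | step =>
      rename_i L N ψ hab' w hL v hge g hT hle hQ sq2 sq1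
      lia
    | single =>
      rename_i X₁ hab₁ e₁ hφ₁
      cases h₂ with
      | step =>
        rename_i L N ψ hab' w hL v hge g hT hle hQ sq2 sq1
        lia
      | single =>
        rename_i X₂ hab₂ e₂ hφ₂
        obtain ⟨f', hf1, hf2⟩ : ∃ f' : (c.I b).obj X₁ ⟶ (c.I b).obj X₂,
            f ≫ e₂.hom = e₁.hom ≫ f' ∧ f' ≫ e₂.inv = e₁.inv ≫ f :=
          ⟨e₁.inv ≫ f ≫ e₂.hom, by simp, by simp⟩
        have hnat := c.β_nat b f'
        calc F.map f ≫ φ₂.hom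
            = F.map (f ≫ e₂.hom) ≫ (c.βh b X₂).hom ≫ F'.map e₂.inv := by
              rw [hφ₂, F.map_comp, assoc]
          _ = F.map e₁.hom ≫ (F.map f' ≫ (c.βh b X₂).hom) ≫ F'.map e₂.inv := by
              rw [hf1, F.map_comp, assoc, assoc]
          _ = F.map e₁.hom ≫ (c.βh b X₁).hom ≫ F'.map (f' ≫ e₂.inv) := by
              rw [hnat, F'.map_comp, assoc]
          _ = φ₁.hom ≫ F'.map f := by
              rw [hf2, hφ₁, F'.map_comp, assoc, assoc]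
  | succ n ih =>
    intro a b hab K₁ φ₁ K₂ φ₂ h₁ h₂ f
    have hab' : a < b := by lia
    have IH : MainAt c a (b - 1) := ih a (b - 1) (by lia)
    have hle₁ := h₁.bounds.2.1
    obtain ⟨N₂, L₂, g₂, v₂, w₂, ψ₂, hT₂, hG₂, negK₁, -, sq2₂⟩ :=
      rechoose hc IH h₂ hab' K₁ hle₁ (0 : K₂ ⟶ 0) (c.le_zero _ _ (isZero_zero T))
    have hleL₂ := hG₂.bounds.2.1
    obtain ⟨N₁, L₁, g₁, v₁, w₁, ψ₁, hT₁, hG₁, -, hgu, sq2₁⟩ :=
      rechoose hc IH h₁ hab' K₁ hle₁ (f ≫ v₂) hleL₂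
    obtain ⟨ū, hū⟩ := yo₂' hT₁ (f ≫ v₂) hgu
    have hnat := IH L₁ ψ₁ L₂ ψ₂ hG₁ hG₂ ū
    have h0 : (F.map f ≫ φ₂.hom - φ₁.hom ≫ F'.map f) ≫ F'.map v₂ = 0 := by
      rw [Preadditive.sub_comp, sub_eq_zero]
      calc (F.map f ≫ φ₂.hom) ≫ F'.map v₂ = F.map f ≫ F.map v₂ ≫ ψ₂.hom := by
            rw [assoc, sq2₂]
        _ = F.map (v₁ ≫ ū) ≫ ψ₂.hom := by rw [← assoc, ← F.map_comp, hū]
        _ = F.map v₁ ≫ ψ₁.hom ≫ F'.map ū := by rw [F.map_comp, assoc, hnat]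
        _ = φ₁.hom ≫ F'.map (v₁ ≫ ū) := by rw [← assoc, ← sq2₁, assoc, ← F'.map_comp]
        _ = (φ₁.hom ≫ F'.map f) ≫ F'.map v₂ := by rw [← hū, F'.map_comp, assoc]
    obtain ⟨y, hy⟩ := co₂ F' hT₂ _ h0
    have hy0 : y = 0 := zero_of_hom_zero (c.βh b N₂) negK₁ y
    rw [hy0, zero_comp] at hy
    exact sub_eq_zero.1 hy

lemma lw (hc : Hyp c) {a b : ℤ} {K : T} {φ : F.obj K ≅ F'.obj K}
    (h : c.Good (Neg c) a b K φ) : c.Good (Neg c) (a - 1) b K φ := by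
  induction h with
  | single b hab K X e φ hφ =>
    subst hab
    have hgeK : c.ge a K := c.ge_iso _ _ _ e.symm (c.I_ge _ _)
    have hleK : c.le a K := c.le_iso _ _ _ e.symm (c.I_le _ _)
    have le0 : c.le (a - 1) (0 : T) := c.le_zero _ _ (isZero_zero T)
    obtain ⟨N, L, g, v, w, hT, hgeL, hleL, negK, -, -, -⟩ :=
      hc.presN (a - 1) a (by lia) K K 0 0 0 0 (c.ge_mono _ _ _ (by lia) hgeK) hleK hleK le0 le0
    obtain ⟨R, ⟨ε⟩⟩ := c.single (a - 1) L hgeL hleL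
    have hψ : c.Good (Neg c) (a - 1) (a - 1) L
        (F.mapIso ε ≪≫ c.βh (a - 1) R ≪≫ (F'.mapIso ε).symm) :=
      Ctx.Good.single _ _ rfl L R ε _ (by simp)
    obtain ⟨φ', sq1, sq2⟩ := Ctx.exists_iso_of_pres hT hψ
    have hφφ' : φ' = φ := by
      apply Iso.ext
      have h1 : F.map g ≫ φ.hom = (c.βh a N).hom ≫ F'.map g := by
        have hn := c.β_nat a (g ≫ e.hom)
        rw [hφ, ← assoc, ← F.map_comp, ← assoc, hn, assoc, F'.map_comp, assoc,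
          Iso.map_hom_inv_id, comp_id]
      have h0 : F.map g ≫ (φ'.hom - φ.hom) = 0 := by
        rw [Preadditive.comp_sub, sq1, h1, sub_self]
      obtain ⟨y, hy⟩ := yo₂ F hT _ h0
      have hy0 : y = 0 := zero_of_hom_zero φ (fun f => by
        have h3 := hc.orth a L X hleL (f ≫ e.hom)
        rw [← cancel_mono e.hom, h3, zero_comp]) y
      rw [hy0, comp_zero] at hy
      exact sub_eq_zero.1 hy
    subst hφφ'
    exact Ctx.Good.step (a - 1) a (by lia) K L N g v w hT (c.ge_mono _ _ _ (by lia) hgeK) hleK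
      negK _ hψ φ' sq1 sq2
  | step b hab K L N g v w hT hge hle hQ ψ hL φ sq1 sq2 ih =>
    exact Ctx.Good.step (a - 1) b (by lia) K L N g v w hT (c.ge_mono _ _ _ (by lia) hge) hle hQ
      ψ ih φ sq1 sq2

lemma lw_le (hc : Hyp c) {a b : ℤ} {K : T} {φ : F.obj K ≅ F'.obj K}
    (h : c.Good (Neg c) a b K φ) (a' : ℤ) (ha : a' ≤ a) : c.Good (Neg c) a' b K φ := by
  obtain ⟨k, rfl⟩ : ∃ k : ℕ, a' = a - k := ⟨(a - a').toNat, by
    rw [Int.toNat_of_nonneg (by lia)]; ring⟩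
  clear ha
  induction k with
  | zero => simpa using h
  | succ k ih =>
    have h2 := lw hc ih
    have e : a - ((k + 1 : ℕ) : ℤ) = a - k - 1 := by push_cast; ring
    rw [e]
    exact h2

lemma uw (hc : Hyp c) (hmain : ∀ a b : ℤ, MainAt c a b) {a b : ℤ} {K : T}
    {φ : F.obj K ≅ F'.obj K} (h : c.Good (Neg c) a b K φ) :
    c.Good (Neg c) a (b + 1) K φ := by
  obtain ⟨hge, hle, hab⟩ := h.bounds
  have hle' : c.le (b + 1) K := c.le_mono _ _ _ (by lia) hle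
  have hle'' : c.le (b + 1 - 1) K := c.le_mono _ _ _ (by lia) hle
  have le0 : c.le (b + 1 - 1) (0 : T) := c.le_zero _ _ (isZero_zero T)
  obtain ⟨N, L, g, v, w, hT, hgeL, hleL, negK, -, hg1, -⟩ :=
    hc.presN a (b + 1) (by lia) K K K 0 (𝟙 K) 0 hge hle' hle' hle'' le0
  have hg : g = 0 := by simpa using hg1
  obtain ⟨n, hn⟩ : ∃ n : ℕ, (b + 1 - 1) - a = n :=
    ⟨((b + 1 - 1) - a).toNat, by rw [Int.toNat_of_nonneg]; lia⟩
  obtain ⟨ψ, hψ⟩ := Ctx.exists_good (presQ hc) n a (b + 1 - 1) hn L hgeL hleL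
  have hb : b + 1 - 1 = b := by ring
  have hψ' : c.Good (Neg c) a b L ψ := by rw [hb] at hψ; exact hψ
  have sq2 := hmain a b K φ L ψ h hψ' v
  exact Ctx.Good.step a (b + 1) (by lia) K L N g v w hT hge hle' negK ψ hψ φ
    (by rw [hg]; simp) sq2.symm

lemma uw_le (hc : Hyp c) (hmain : ∀ a b : ℤ, MainAt c a b) {a b : ℤ} {K : T}
    {φ : F.obj K ≅ F'.obj K} (h : c.Good (Neg c) a b K φ) (b' : ℤ) (hb : b ≤ b') :
    c.Good (Neg c) a b' K φ := by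
  obtain ⟨k, rfl⟩ : ∃ k : ℕ, b' = b + k := ⟨(b' - b).toNat, by
    rw [Int.toNat_of_nonneg (by lia)]; ring⟩
  clear hb
  induction k with
  | zero => simpa using h
  | succ k ih =>
    have h2 := uw hc hmain ih
    have e : b + ((k + 1 : ℕ) : ℤ) = b + k + 1 := by push_cast; ring
    rw [e]
    exact h2

/-- The main abstract theorem: `F ≅ F'`. -/
theorem natIso (hc : Hyp c) : Nonempty (F ≅ F') := by
  have hmain : ∀ a b : ℤ, MainAt c a b := by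
    intro a b
    by_cases hab : a ≤ b
    · exact main hc (b - a).toNat a b (by rw [Int.toNat_of_nonneg]; lia)
    · intro K₁ φ₁ K₂ φ₂ h₁
      exact absurd h₁.bounds.2.2 hab
  have hex : ∀ K : T, ∃ (a b : ℤ) (φ : F.obj K ≅ F'.obj K), c.Good (Neg c) a b K φ := by
    intro K
    obtain ⟨a, b, hge, hle⟩ := c.bdd K
    have hge' : c.ge (min a b) K := c.ge_mono a _ K (min_le_left _ _) hge
    obtain ⟨n, hn⟩ : ∃ n : ℕ, b - min a b = n :=
      ⟨(b - min a b).toNat, by rw [Int.toNat_of_nonneg]; have := min_le_right a b; lia⟩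
    obtain ⟨φ, hφ⟩ := Ctx.exists_good (presQ hc) n _ b hn K hge' hle
    exact ⟨_, b, φ, hφ⟩
  choose a b φ hφ using hex
  refine ⟨NatIso.ofComponents φ ?_⟩
  intro K₁ K₂ f
  have h₁ := uw_le hc hmain (lw_le hc (hφ K₁) (min (a K₁) (a K₂)) (min_le_left _ _))
    (max (b K₁) (b K₂)) (le_max_left _ _)
  have h₂ := uw_le hc hmain (lw_le hc (hφ K₂) (min (a K₁) (a K₂)) (min_le_right _ _))
    (max (b K₁) (b K₂)) (le_max_right _ _)
  exact hmain _ _ K₁ (φ K₁) K₂ (φ K₂) h₁ h₂ f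

end Groth.Agent.Helper6.OrB
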