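import Mathlib
import Groth.Prelude.Def_W4stkfunctorsequivSib
import Groth.Agent.Helper6.OrA
import Groth.Agent.Helper1.ExtEfface3

set_option autoImplicit false
set_option linter.style.haveILetI false
set_option linter.unusedSectionVars false
set_option linter.unusedVariables false

open CategoryTheory Category Limits Pretriangulated ZeroObject DerivedCategory

namespace Groth.Agent.Helper6.OrC

open Groth.Agent.Helper6.OrA
open Groth.Agent.Helper1.DerTrunc Groth.Agent.Helper1.WayOut Groth.Agent.Helper1.ExtEfface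

universe w v u v' u'

section Shifted

variable {C₀ : Type*} [Category C₀] {T : Type*} [Category T] [HasShift T ℤ]
  {D : Type*} [Category D] [HasShift D ℤ]
  (i : C₀ ⥤ T) (F F' : T ⥤ D) [F.CommShift ℤ] [F'.CommShift ℤ] (α : i ⋙ F ≅ i ⋙ F')

/-- The shifted isomorphism. -/
noncomputable def βn (n : ℤ) (N : C₀) : F.obj ((i.obj N)⟦n⟧) ≅ F'.obj ((i.obj N)⟦n⟧) :=
  (F.commShiftIso n).app (i.obj N) ≪≫ (shiftFunctor D n).mapIso (α.app N) ≪≫
    ((F'.commShiftIso n).app (i.obj N)).symm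

lemma βn_hom (n : ℤ) (N : C₀) : (βn i F F' α n N).hom =
    (F.commShiftIso n).hom.app (i.obj N) ≫ (α.hom.app N)⟦n⟧' ≫
      (F'.commShiftIso n).inv.app (i.obj N) := rfl

lemma βn_nat (n : ℤ) {N N' : C₀} (d : N ⟶ N') :
    F.map ((i.map d)⟦n⟧') ≫ (βn i F F' α n N').hom =
      (βn i F F' α n N).hom ≫ F'.map ((i.map d)⟦n⟧') := by
  have h1 := F.commShiftIso_hom_naturality (i.map d) n
  have h2 := F'.commShiftIso_inv_naturality (i.map d) n
  have h3 : F.map (i.map d) ≫ α.hom.app N' = α.hom.app N ≫ F'.map (i.map d) :=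
    α.hom.naturality d
  rw [βn_hom, βn_hom, ← assoc, h1, assoc, ← Functor.map_comp_assoc, h3,
    Functor.map_comp_assoc, assoc, h2]
  simp only [assoc]

/-- The shifted natural isomorphism. -/
noncomputable def βI (n : ℤ) :
    (i ⋙ shiftFunctor T n) ⋙ F ≅ (i ⋙ shiftFunctor T n) ⋙ F' :=
  NatIso.ofComponents (fun N => βn i F F' α n N) (fun d => βn_nat i F F' α n d)

lemma βn_add (a b' k : ℤ) (h : a + b' = k) (N : C₀) :
    (βn i F F' α k N).hom =
      F.map ((shiftFunctorAdd' T a b' k h).hom.app (i.obj N)) ≫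
        (F.commShiftIso b').hom.app ((i.obj N)⟦a⟧) ≫
          ((βn i F F' α a N).hom)⟦b'⟧' ≫ (F'.commShiftIso b').inv.app ((i.obj N)⟦a⟧) ≫
            F'.map ((shiftFunctorAdd' T a b' k h).inv.app (i.obj N)) := by
  have hn := (shiftFunctorAdd' D a b' k h).inv.naturality (α.hom.app N)
  dsimp at hn
  rw [βn_hom, βn_hom, F.commShiftIso_add' h, F'.commShiftIso_add' h,
    Functor.CommShift.isoAdd'_hom_app, Functor.CommShift.isoAdd'_inv_app]
  simp only [Functor.map_comp, assoc]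
  congr 3
  rw [← assoc ((shiftFunctorAdd' D a b' k h).inv.app _), ← hn, assoc, Iso.inv_hom_id_app_assoc]

end Shifted

variable {A : Type u} [Category.{v} A] [Abelian A] [HasDerivedCategory.{w} A]

instance : (DEquiv.singleB A).Full := by
  unfold DEquiv.singleB
  exact Functor.Full.of_comp_faithful_iso (ObjectProperty.liftCompιIso _ _ _)

instance : (DEquiv.singleB A).Faithful := by
  unfold DEquiv.singleB
  exact Functor.Faithful.of_comp_iso (ObjectProperty.liftCompιIso _ _ _)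

/-- `X ↦ X[-b]` as an object of the bounded derived category. -/
noncomputable def Ib (b : ℤ) : A ⥤ DerivedCategory.Bounded A :=
  DEquiv.singleB A ⋙ shiftFunctor (DerivedCategory.Bounded A) (-b)

instance (b : ℤ) : (Ib (A := A) b).Full := by
  unfold Ib
  infer_instance

/-- Comparison with `singleFunctor A b`. -/
noncomputable def θ (b : ℤ) (N : A) :
    ((Ib b).obj N).obj ≅ (DerivedCategory.singleFunctor A b).obj N :=
  ((DerivedCategory.Bounded.ι (C := A)).commShiftIso (-b)).app ((DEquiv.singleB A).obj N) ≪≫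
    ((DerivedCategory.singleFunctors A).shiftIso (-b) b 0 (by lia)).app N

/-- Boundedness conditions. -/
def le (b : ℤ) (K : DerivedCategory.Bounded A) : Prop :=
  (DerivedCategory.TStructure.t).IsLE K.obj b

/-- Boundedness conditions. -/
def ge (a : ℤ) (K : DerivedCategory.Bounded A) : Prop :=
  (DerivedCategory.TStructure.t).IsGE K.obj a

lemma le_iso (b : ℤ) (K K' : DerivedCategory.Bounded A) (e : K ≅ K') (h : le b K) : le b K' := by
  have : (DerivedCategory.TStructure.t).IsLE K.obj b := h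
  exact (DerivedCategory.TStructure.t).isLE_of_iso (X := K.obj) (Y := K'.obj)
    ((DerivedCategory.Bounded.ι (C := A)).mapIso e) b

lemma ge_iso (b : ℤ) (K K' : DerivedCategory.Bounded A) (e : K ≅ K') (h : ge b K) : ge b K' := by
  have : (DerivedCategory.TStructure.t).IsGE K.obj b := h
  exact (DerivedCategory.TStructure.t).isGE_of_iso (X := K.obj) (Y := K'.obj)
    ((DerivedCategory.Bounded.ι (C := A)).mapIso e) b

lemma le_mono (b b' : ℤ) (K : DerivedCategory.Bounded A) (hb : b ≤ b') (h : le b K) :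
    le b' K := by
  have : (DerivedCategory.TStructure.t).IsLE K.obj b := h
  exact (DerivedCategory.TStructure.t).isLE_of_le K.obj b b' hb

lemma ge_mono (a a' : ℤ) (K : DerivedCategory.Bounded A) (ha : a' ≤ a) (h : ge a K) :
    ge a' K := by
  have : (DerivedCategory.TStructure.t).IsGE K.obj a := h
  exact (DerivedCategory.TStructure.t).isGE_of_ge K.obj a' a ha

lemma le_zero (b : ℤ) (K : DerivedCategory.Bounded A) (hK : IsZero K) : le b K :=
  (DerivedCategory.TStructure.t).isLE_of_isZero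
    ((DerivedCategory.Bounded.ι (C := A)).map_isZero hK) b

lemma I_le (b : ℤ) (N : A) : le b ((Ib b).obj N) :=
  (DerivedCategory.TStructure.t).isLE_of_iso (θ b N).symm b

lemma I_ge (b : ℤ) (N : A) : ge b ((Ib b).obj N) :=
  (DerivedCategory.TStructure.t).isGE_of_iso (θ b N).symm b

lemma single (b : ℤ) (K : DerivedCategory.Bounded A) (h1 : ge b K) (h2 : le b K) :
    ∃ X : A, Nonempty (K ≅ (Ib b).obj X) := by
  have : (DerivedCategory.TStructure.t).IsGE K.obj b := h1
  have : (DerivedCategory.TStructure.t).IsLE K.obj b := h2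
  obtain ⟨X, ⟨e⟩⟩ := DerivedCategory.exists_iso_singleFunctor_obj_of_isGE_of_isLE K.obj b
  exact ⟨X, ⟨ObjectProperty.isoMk _ (e ≪≫ (θ b X).symm)⟩⟩

lemma bdd (K : DerivedCategory.Bounded A) : ∃ a b : ℤ, ge a K ∧ le b K := by
  obtain ⟨⟨a, ha⟩, ⟨b, hb⟩⟩ := K.property
  exact ⟨a, b, ha, hb⟩

lemma orth (b : ℤ) (L : DerivedCategory.Bounded A) (X : A) (hL : le (b - 1) L)
    (f : L ⟶ (Ib b).obj X) : f = 0 := by
  have h1 : (DerivedCategory.TStructure.t).IsLE L.obj (b - 1) := hL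
  have h2 : (DerivedCategory.TStructure.t).IsGE ((Ib b).obj X).obj b := I_ge b X
  have h3 : f.hom = 0 :=
    (DerivedCategory.TStructure.t).zero_of_isLE_of_isGE f.hom (b - 1) b (by lia) h1 h2
  apply (DerivedCategory.Bounded.ι (C := A)).map_injective
  rw [Functor.map_zero]
  exact h3

/-- Existence of presentations in the derived category. -/
theorem presD (P : A → Prop) (hsel : ∀ X : A, ∃ (N : A) (p : N ⟶ X), Epi p ∧ P N)
    (a b : ℤ) (hab : a < b) (K M₁ M₂ : DerivedCategory A) (f₁ : K ⟶ M₁) (f₂ : K ⟶ M₂)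
    [K.IsGE a] [K.IsLE b] [M₁.IsLE (b - 1)] [M₂.IsLE (b - 1)] :
    ∃ (N : A) (g : (singleFunctor A b).obj N ⟶ K) (L : DerivedCategory A) (v : K ⟶ L)
      (w : L ⟶ ((singleFunctor A b).obj N)⟦(1 : ℤ)⟧),
      Triangle.mk g v w ∈ distTriang _ ∧ L.IsGE a ∧ L.IsLE (b - 1) ∧ P N ∧
        g ≫ f₁ = 0 ∧ g ≫ f₂ = 0 := by
  have hT := (tD A).triangleLTGE_distinguished b K
  have i1 : (((tD A).truncGE b).obj K).IsGE b := inferInstance
  have i2 : (((tD A).truncGE b).obj K).IsLE b := inferInstance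
  obtain ⟨H', ⟨e⟩⟩ := exists_iso_singleFunctor_obj_of_isGE_of_isLE (((tD A).truncGE b).obj K) b
  have i3 : ((((tD A).truncLT b).obj K)⟦(1 : ℤ)⟧).IsLE (b - 1) := by
    have : (tD A).IsLE ((((tD A).truncLT b).obj K)⟦(1 : ℤ)⟧) (b - 2) :=
      (tD A).isLE_shift _ (b - 1) 1 (b - 2)
    exact (tD A).isLE_of_le _ (b - 2) (b - 1) (by lia)
  obtain ⟨N₁, π₁, hπ₁, h₁⟩ := exists_epi_single_comp_eq_zero_shift b H'
    ((((tD A).truncLT b).obj K)⟦(1 : ℤ)⟧) (e.inv ≫ ((tD A).truncGEδLT b).app K)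
  obtain ⟨g₁, hg₁⟩ : ∃ g₁ : (singleFunctor A b).obj N₁ ⟶ K,
      (singleFunctor A b).map π₁ ≫ e.inv = g₁ ≫ ((tD A).truncGEπ b).app K :=
    Triangle.coyoneda_exact₃ _ hT ((singleFunctor A b).map π₁ ≫ e.inv) (by
      have h₁' : ((singleFunctor A b).map π₁ ≫ e.inv) ≫ ((tD A).truncGEδLT b).app K = 0 := by
        rw [Category.assoc]; exact h₁
      exact h₁')
  have epi₁ : Epi ((homologyFunctor A b).map g₁) := by
    have := isIso_homologyMap_truncGEπ K b b le_rfl
    have := epi_homologyMap_single_map b π₁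
    have h : (homologyFunctor A b).map g₁ =
        ((homologyFunctor A b).map ((singleFunctor A b).map π₁) ≫
          (homologyFunctor A b).map e.inv) ≫
          inv ((homologyFunctor A b).map (((tD A).truncGEπ b).app K)) := by
      rw [IsIso.eq_comp_inv, ← Functor.map_comp, ← Functor.map_comp, hg₁]
    rw [h]
    infer_instance
  obtain ⟨N₂, π₂, hπ₂, h₂⟩ := exists_epi_single_comp_eq_zero_shift b N₁ M₁ (g₁ ≫ f₁)
  obtain ⟨N₃, π₃, hπ₃, h₃⟩ := exists_epi_single_comp_eq_zero_shift b N₂ M₂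
    ((singleFunctor A b).map π₂ ≫ g₁ ≫ f₂)
  obtain ⟨N, p, hp, hN⟩ := hsel N₃
  obtain ⟨g, hg⟩ : ∃ g : (singleFunctor A b).obj N ⟶ K,
      g = (singleFunctor A b).map p ≫ (singleFunctor A b).map π₃ ≫
        (singleFunctor A b).map π₂ ≫ g₁ := ⟨_, rfl⟩
  have epig : Epi ((homologyFunctor A b).map g) := by
    have := epi_homologyMap_single_map (C := A) b p
    have := epi_homologyMap_single_map (C := A) b π₃
    have := epi_homologyMap_single_map (C := A) b π₂
    rw [hg, Functor.map_comp, Functor.map_comp, Functor.map_comp]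
    infer_instance
  obtain ⟨L, v, w, hT'⟩ := distinguished_cocone_triangle g
  have hrot := rot_of_distTriang _ hT'
  have j1 : (((singleFunctor A b).obj N)⟦(1 : ℤ)⟧).IsGE (b - 1) :=
    (tD A).isGE_shift _ b 1 (b - 1)
  have j2 : (((singleFunctor A b).obj N)⟦(1 : ℤ)⟧).IsLE (b - 1) :=
    (tD A).isLE_shift _ b 1 (b - 1)
  have hLge : L.IsGE a :=
    (tD A).isGE₂ _ hrot a (inferInstanceAs (K.IsGE a))
      ((tD A).isGE_of_ge (((singleFunctor A b).obj N)⟦(1 : ℤ)⟧) a (b - 1) (by lia))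
  have hLle : L.IsLE b :=
    (tD A).isLE₂ _ hrot b (inferInstanceAs (K.IsLE b))
      ((tD A).isLE_of_le (((singleFunctor A b).obj N)⟦(1 : ℤ)⟧) (b - 1) b (by lia))
  have hLle' : L.IsLE (b - 1) := by
    rw [isLE_iff]
    intro i hi
    by_cases hib : i = b
    · subst hib
      have hv0 : (homologyFunctor A i).map v = 0 :=
        (HomologySequence.epi_homologyMap_mor₁_iff _ hT' i).1 epig
      have hvepi : Epi ((homologyFunctor A i).map v) :=
        (HomologySequence.epi_homologyMap_mor₂_iff _ hT' i (i + 1) rfl).2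
          (IsZero.eq_of_tgt (isZero_of_isLE ((singleFunctor A i).obj N) i (i + 1) (by lia)) _ _)
      exact IsZero.of_epi_eq_zero _ hv0
    · exact isZero_of_isLE L b i (by lia)
  refine ⟨N, g, L, v, w, hT', hLge, hLle', hN, ?_, ?_⟩
  · rw [hg, assoc, assoc, assoc, h₂, comp_zero, comp_zero]
  · rw [hg, assoc, assoc, assoc]
    have h₃' : (singleFunctor A b).map π₃ ≫ (singleFunctor A b).map π₂ ≫ g₁ ≫ f₂ = 0 := h₃
    rw [h₃', comp_zero]

/-- Maps from an object `≤ b` to a single in degree `b` vanish as soon as the maps from the top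
cohomology vanish. -/
lemma exists_top (b : ℤ) (K : DerivedCategory A) [K.IsLE b] :
    ∃ H' : A, ∀ N : A, (∀ f : H' ⟶ N, f = 0) →
      ∀ φ : K ⟶ (singleFunctor A b).obj N, φ = 0 := by
  have i1 : (((tD A).truncGE b).obj K).IsGE b := inferInstance
  have i2 : (((tD A).truncGE b).obj K).IsLE b := inferInstance
  obtain ⟨H', ⟨e⟩⟩ := exists_iso_singleFunctor_obj_of_isGE_of_isLE (((tD A).truncGE b).obj K) b
  refine ⟨H', fun N hN φ => ?_⟩
  have hφ := (tD A).π_descTruncGE φ b
  obtain ⟨d, hd⟩ := (singleFunctor A b).map_surjective (e.inv ≫ (tD A).descTruncGE φ b)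
  rw [hN d, Functor.map_zero] at hd
  have h2 : (tD A).descTruncGE φ b = 0 := by
    rw [← cancel_epi e.inv, ← hd, comp_zero]
  rw [← hφ, h2, comp_zero]


/-- Transporting a presentation from `D(A)` to `D^b(A)`. -/
lemma transport (b : ℤ) (K : DerivedCategory.Bounded A) (N : A)
    (g : (singleFunctor A b).obj N ⟶ K.obj) (L : DerivedCategory A) (v : K.obj ⟶ L)
    (w : L ⟶ ((singleFunctor A b).obj N)⟦(1 : ℤ)⟧)
    (hT : Triangle.mk g v w ∈ distTriang _) (a b' : ℤ) (hLa : L.IsGE a) (hLb : L.IsLE b') :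
    ∃ (L' : DerivedCategory.Bounded A) (g' : (Ib b).obj N ⟶ K) (v' : K ⟶ L')
      (w' : L' ⟶ ((Ib b).obj N)⟦(1 : ℤ)⟧),
      Triangle.mk g' v' w' ∈ distTriang _ ∧ ge a L' ∧ le b' L' ∧
        g'.hom = (θ b N).hom ≫ g := by
  refine ⟨⟨L, ⟨⟨a, hLa⟩, ⟨b', hLb⟩⟩⟩, ObjectProperty.homMk ((θ b N).hom ≫ g),
    ObjectProperty.homMk v,
    ObjectProperty.homMk (w ≫ ((θ b N).inv)⟦(1 : ℤ)⟧' ≫
      ((DerivedCategory.Bounded.ι (C := A)).commShiftIso (1 : ℤ)).inv.app ((Ib b).obj N)),
    ?_, hLa, hLb, rfl⟩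
  rw [← (DerivedCategory.Bounded.ι (C := A)).map_distinguished_iff]
  refine isomorphic_distinguished _ hT _ ?_
  refine Triangle.isoMk _ _ (θ b N) (Iso.refl _) (Iso.refl _) ?_ ?_ ?_
  · exact comp_id _
  · exact (comp_id _).trans (id_comp _).symm
  · change ((w ≫ ((θ b N).inv)⟦(1 : ℤ)⟧' ≫
      ((DerivedCategory.Bounded.ι (C := A)).commShiftIso (1 : ℤ)).inv.app ((Ib b).obj N)) ≫
      ((DerivedCategory.Bounded.ι (C := A)).commShiftIso (1 : ℤ)).hom.app ((Ib b).obj N)) ≫
        ((θ b N).hom)⟦(1 : ℤ)⟧' = 𝟙 L ≫ w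
    simp [← Functor.map_comp]

variable {D : Type u'} [Category.{v'} D] [Preadditive D] [HasZeroObject D] [HasShift D ℤ]
  [∀ n : ℤ, (shiftFunctor D n).Additive] [Pretriangulated D]
  (F F' : DerivedCategory.Bounded A ⥤ D) [F.CommShift ℤ] [F.IsTriangulated]
  [F'.CommShift ℤ] [F'.IsTriangulated]
  (α : DEquiv.singleB A ⋙ F ≅ DEquiv.singleB A ⋙ F')

/-- The context attached to the iso `α` on the heart. -/
noncomputable def mkCtx
    (hz₀ : ∀ (c' c : ℤ) (N' N : A), c' < c →
      ∀ e : F.obj ((Ib c').obj N') ⟶ F'.obj ((Ib c).obj N), e = 0) : Ctx A F F' where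
  I := Ib
  le := le
  ge := ge
  β b := βI (DEquiv.singleB A) F F' α (-b)
  σ b N := ((shiftFunctorAdd' (DerivedCategory.Bounded A) (-b) 1 (-(b - 1)) (by lia)).app
    ((DEquiv.singleB A).obj N)).symm
  β_σ b N := βn_add (DEquiv.singleB A) F F' α (-b) 1 (-(b - 1)) (by lia) N
  I_full b X Y f := ⟨(Ib b).preimage f, (Ib b).map_preimage f⟩
  le_iso := le_iso
  ge_iso := ge_iso
  le_mono := le_mono
  ge_mono := ge_mono
  le_zero := le_zero
  I_le := I_le
  I_ge := I_ge
  single := single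
  bdd := bdd
  hz₀ := hz₀
  pres a b hab K M f hge hle hM := by
    have i1 : (DerivedCategory.TStructure.t).IsGE K.obj a := hge
    have i2 : (DerivedCategory.TStructure.t).IsLE K.obj b := hle
    have i3 : (DerivedCategory.TStructure.t).IsLE M.obj (b - 1) := hM
    obtain ⟨N, g, L, v, w, hT, hLge, hLle, -, hg1, -⟩ :=
      presD (fun _ => True) (fun X => ⟨X, 𝟙 X, inferInstance, trivial⟩) a b hab K.obj M.obj M.obj
        f.hom f.hom
    obtain ⟨L', g', v', w', hT', h1, h2, hg'⟩ := transport b K N g L v w hT a (b - 1) hLge hLle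
    refine ⟨N, L', g', v', w', hT', h1, h2, ?_⟩
    apply (DerivedCategory.Bounded.ι (C := A)).map_injective
    rw [Functor.map_zero, Functor.map_comp]
    change g'.hom ≫ f.hom = 0
    rw [hg', assoc, hg1, comp_zero]

lemma shifted_hom_zero {X Y : D} (p q : ℤ) (hq : ∀ f : X ⟶ Y⟦q - p⟧, f = 0)
    (e : X⟦p⟧ ⟶ Y⟦q⟧) : e = 0 := by
  have h := hq (((shiftFunctorCompIsoId D p (-p) (by lia)).app X).inv ≫ e⟦(-p)⟧' ≫
    ((shiftFunctorAdd' D q (-p) (q - p) (by lia)).app Y).inv)
  have h2 : e⟦(-p)⟧' = 0 := by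
    have h3 := congrArg (fun x => ((shiftFunctorCompIsoId D p (-p) (by lia)).app X).hom ≫ x ≫
      ((shiftFunctorAdd' D q (-p) (q - p) (by lia)).app Y).hom) h
    simpa using h3
  apply (shiftFunctor D (-p)).map_injective
  rw [h2, Functor.map_zero]

include α in
/-- `hz₀` from the vanishing of negative Ext's between images of objects of `A`. -/
lemma hz₀_of_neg_vanish
    (h2 : ∀ (X Y : A) (q : ℤ), q < 0 →
      ∀ f : F.obj ((DEquiv.singleB A).obj X) ⟶
        (shiftFunctor D q).obj (F.obj ((DEquiv.singleB A).obj Y)), f = 0)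
    (c' c : ℤ) (N' N : A) (hc : c' < c)
    (e : F.obj ((Ib c').obj N') ⟶ F'.obj ((Ib c).obj N)) : e = 0 := by
  have h3 : (F.commShiftIso (-c')).inv.app ((DEquiv.singleB A).obj N') ≫
      (e ≫ (βn (DEquiv.singleB A) F F' α (-c) N).inv) ≫
        (F.commShiftIso (-c)).hom.app ((DEquiv.singleB A).obj N) = 0 :=
    shifted_hom_zero (-c') (-c) (h2 N' N _ (by lia)) _
  have h4 := (Preadditive.IsIso.comp_left_eq_zero _ _).1 h3
  have h5 := (Preadditive.IsIso.comp_right_eq_zero _ _).1 h4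
  exact (Preadditive.IsIso.comp_right_eq_zero _ _).1 h5

include α in
/-- `hz₀` when `F` is full. -/
lemma hz₀_of_full [F.Full]
    (c' c : ℤ) (N' N : A) (hc : c' < c)
    (e : F.obj ((Ib c').obj N') ⟶ F'.obj ((Ib c).obj N)) : e = 0 := by
  obtain ⟨e₀, he₀⟩ := F.map_surjective (e ≫ (βn (DEquiv.singleB A) F F' α (-c) N).inv)
  have h0 : e₀ = 0 := orth c _ N (le_mono c' (c - 1) _ (by lia) (I_le c' N')) e₀
  rw [h0, F.map_zero] at he₀
  exact (Preadditive.IsIso.comp_right_eq_zero _ _).1 he₀.symm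

/-- the shift isomorphisms on singles. -/
noncomputable def σn (b n : ℤ) (Y : A) :
    ((Ib b).obj Y)⟦n⟧ ≅ (Ib (b - n)).obj Y :=
  ((shiftFunctorAdd' (DerivedCategory.Bounded A) (-b) n (-(b - n)) (by lia)).app
    ((DEquiv.singleB A).obj Y)).symm

end Groth.Agent.Helper6.OrC
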