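import Mathlib
import Groth.Agent.Helper6.OrA

set_option autoImplicit false
set_option linter.style.haveILetI false
set_option linter.unusedSectionVars false
set_option linter.unusedVariables false

open CategoryTheory Category Limits Pretriangulated ZeroObject

namespace Groth.Agent.Helper6.OrD

open Groth.Agent.Helper6.OrA

universe v₁ v₂ v₃ u₁ u₂ u₃

variable {T : Type u₁} [Category.{v₁} T] [Preadditive T] [HasZeroObject T] [HasShift T ℤ]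
  [∀ n : ℤ, (shiftFunctor T n).Additive] [Pretriangulated T]
  {D : Type u₂} [Category.{v₂} D] [Preadditive D] [HasZeroObject D] [HasShift D ℤ]
  [∀ n : ℤ, (shiftFunctor D n).Additive] [Pretriangulated D]
  {A : Type u₃} [Category.{v₃} A]

section DEV

variable (G : T ⥤ D) [G.CommShift ℤ] [G.IsTriangulated]

/-- injectivity of `G` on `Hom(K, L)`. -/
def Inj (K L : T) : Prop := ∀ f : K ⟶ L, G.map f = 0 → f = 0

/-- surjectivity of `G` on `Hom(K, L)`. -/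
def Surj (K L : T) : Prop := ∀ φ : G.obj K ⟶ G.obj L, ∃ f : K ⟶ L, G.map f = φ

variable {G}

lemma Inj.of_iso_right {K L L' : T} (e : L ≅ L') (h : Inj G K L) : Inj G K L' := by
  intro f hf
  have h1 := h (f ≫ e.inv) (by rw [G.map_comp, hf, zero_comp])
  rw [← cancel_mono e.inv, h1, zero_comp]

lemma Surj.of_iso_right {K L L' : T} (e : L ≅ L') (h : Surj G K L) : Surj G K L' := by
  intro φ
  obtain ⟨f, hf⟩ := h (φ ≫ G.map e.inv)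
  exact ⟨f ≫ e.hom, by
    rw [G.map_comp, hf, assoc, ← G.map_comp, e.inv_hom_id, G.map_id, comp_id]⟩

lemma Inj.of_iso_left {K K' L : T} (e : K ≅ K') (h : Inj G K L) : Inj G K' L := by
  intro f hf
  have h1 := h (e.hom ≫ f) (by rw [G.map_comp, hf, comp_zero])
  rw [← cancel_epi e.hom, h1, comp_zero]

lemma Surj.of_iso_left {K K' L : T} (e : K ≅ K') (h : Surj G K L) : Surj G K' L := by
  intro φ
  obtain ⟨f, hf⟩ := h (G.map e.hom ≫ φ)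
  exact ⟨e.inv ≫ f, by
    rw [G.map_comp, hf, ← assoc, ← G.map_comp, e.inv_hom_id, G.map_id, id_comp]⟩

variable (G)

lemma yo₃ {X Y Z : T} {f : X ⟶ Y} {g : Y ⟶ Z} {h : Z ⟶ X⟦(1 : ℤ)⟧}
    (hT : Triangle.mk f g h ∈ distTriang T) {W : D} (x : G.obj Z ⟶ W)
    (hx : G.map g ≫ x = 0) : ∃ y : (G.obj X)⟦(1 : ℤ)⟧ ⟶ W,
      x = (G.map h ≫ (G.commShiftIso (1 : ℤ)).hom.app X) ≫ y :=
  Triangle.yoneda_exact₃ _ (G.map_distinguished _ hT) x hx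

lemma cov_bij (K : T) {X Y Z : T} {f : X ⟶ Y} {g : Y ⟶ Z} {h : Z ⟶ X⟦(1 : ℤ)⟧}
    (hT : Triangle.mk f g h ∈ distTriang T)
    (i1 : Inj G K X) (s1 : Surj G K X) (i3 : Inj G K Z)
    (s3 : Surj G K Z) (i1' : Inj G K (X⟦(1 : ℤ)⟧))
    (s3' : Surj G K (Z⟦(-1 : ℤ)⟧)) :
    Inj G K Y ∧ Surj G K Y := by
  obtain ⟨h', g', hT', h5⟩ : ∃ (h' : Z⟦(-1 : ℤ)⟧ ⟶ X) (g' : Y ⟶ (Z⟦(-1 : ℤ)⟧)⟦(1 : ℤ)⟧),
      Triangle.mk h' f g' ∈ distTriang T ∧ h' ≫ f = 0 :=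
    ⟨_, _, inv_rot_of_distTriang _ hT,
      comp_distTriang_mor_zero₁₂ _ (inv_rot_of_distTriang _ hT)⟩
  constructor
  · intro f₀ hf₀
    have h1 : f₀ ≫ g = 0 := i3 _ (by rw [G.map_comp, hf₀, zero_comp])
    obtain ⟨y, rfl⟩ := co₂' hT f₀ h1
    have h2 : G.map y ≫ G.map f = 0 := by rw [← G.map_comp]; exact hf₀
    obtain ⟨z, hz⟩ := co₂ G hT' (G.map y) h2
    obtain ⟨z₀, rfl⟩ := s3' z
    have h3 : y = z₀ ≫ h' := by
      have h4 : G.map (y - z₀ ≫ h') = 0 := by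
        rw [G.map_sub, G.map_comp, sub_eq_zero]; exact hz
      exact sub_eq_zero.1 (i1 _ h4)
    rw [h3, assoc, h5, comp_zero]
  · intro φ
    obtain ⟨f₃, hf₃⟩ := s3 (φ ≫ G.map g)
    have hgh : g ≫ h = 0 := comp_distTriang_mor_zero₂₃ _ hT
    have h1 : f₃ ≫ h = 0 := i1' _ (by
      rw [G.map_comp, hf₃, assoc, ← G.map_comp, hgh, G.map_zero, comp_zero])
    obtain ⟨f₂, rfl⟩ : ∃ f₂ : K ⟶ Y, f₃ = f₂ ≫ g := Triangle.coyoneda_exact₃ _ hT f₃ h1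
    have h2 : (φ - G.map f₂) ≫ G.map g = 0 := by
      rw [Preadditive.sub_comp, ← G.map_comp, hf₃, sub_self]
    obtain ⟨z, hz⟩ := co₂ G hT _ h2
    obtain ⟨f₁, rfl⟩ := s1 z
    refine ⟨f₂ + f₁ ≫ f, ?_⟩
    rw [G.map_add, G.map_comp, ← hz]
    abel

lemma con_bij (L : T) {X Y Z : T} {f : X ⟶ Y} {g : Y ⟶ Z} {h : Z ⟶ X⟦(1 : ℤ)⟧}
    (hT : Triangle.mk f g h ∈ distTriang T)
    (i1 : Inj G X L) (s1 : Surj G X L) (i3 : Inj G Z L)
    (s3 : Surj G Z L) (i3' : Inj G (Z⟦(-1 : ℤ)⟧) L)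
    (s1' : Surj G (X⟦(1 : ℤ)⟧) L) :
    Inj G Y L ∧ Surj G Y L := by
  obtain ⟨h', g', hT', h5⟩ : ∃ (h' : Z⟦(-1 : ℤ)⟧ ⟶ X) (g' : Y ⟶ (Z⟦(-1 : ℤ)⟧)⟦(1 : ℤ)⟧),
      Triangle.mk h' f g' ∈ distTriang T ∧ h' ≫ f = 0 :=
    ⟨_, _, inv_rot_of_distTriang _ hT,
      comp_distTriang_mor_zero₁₂ _ (inv_rot_of_distTriang _ hT)⟩
  have hgh : g ≫ h = 0 := comp_distTriang_mor_zero₂₃ _ hT
  constructor
  · intro f₀ hf₀
    have h1 : f ≫ f₀ = 0 := i1 _ (by rw [G.map_comp, hf₀, comp_zero])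
    obtain ⟨y, rfl⟩ := yo₂' hT f₀ h1
    have h2 : G.map g ≫ G.map y = 0 := by rw [← G.map_comp]; exact hf₀
    obtain ⟨z, hz⟩ := yo₃ G hT (G.map y) h2
    obtain ⟨z₀, hz₀⟩ := s1' ((G.commShiftIso (1 : ℤ)).hom.app X ≫ z)
    have h3 : y = h ≫ z₀ := by
      have h4 : G.map (y - h ≫ z₀) = 0 := by
        rw [G.map_sub, G.map_comp, hz₀, sub_eq_zero, hz, assoc]
      exact sub_eq_zero.1 (i3 _ h4)
    rw [h3, ← assoc, hgh, zero_comp]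
  · intro φ
    obtain ⟨f₁, hf₁⟩ := s1 (G.map f ≫ φ)
    have h1 : h' ≫ f₁ = 0 := i3' _ (by
      rw [G.map_comp, hf₁, ← assoc, ← G.map_comp, h5, G.map_zero, zero_comp])
    obtain ⟨f₂, hf₂⟩ := yo₂' hT' f₁ h1
    have h2 : G.map f ≫ (φ - G.map f₂) = 0 := by
      rw [Preadditive.comp_sub, ← G.map_comp, ← hf₂, hf₁, sub_self]
    obtain ⟨z, hz⟩ := yo₂ G hT _ h2
    obtain ⟨f₃, rfl⟩ := s3 z
    refine ⟨f₂ + g ≫ f₃, ?_⟩
    rw [G.map_add, G.map_comp, ← hz]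
    abel

end DEV

variable {F F' : T ⥤ D} [F.CommShift ℤ] [F.IsTriangulated] [F'.CommShift ℤ] [F'.IsTriangulated]
  (c : Ctx A F F')

/-- Induction principle for objects of `T`. -/
theorem ip (P : T → Prop) (hiso : ∀ K K' : T, (K ≅ K') → P K → P K')
    (hI : ∀ (b : ℤ) (X : A), P ((c.I b).obj X))
    (hext : ∀ Tr : Triangle T, Tr ∈ distTriang T → P Tr.obj₁ → P Tr.obj₃ → P Tr.obj₂) :
    ∀ K, P K := by
  have key : ∀ (n : ℕ) (a b : ℤ), b - a = n → ∀ K, c.ge a K → c.le b K → P K := by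
    intro n
    induction n with
    | zero =>
      intro a b h K hge hle
      have hab : a = b := by lia
      subst hab
      obtain ⟨X, ⟨e⟩⟩ := c.single a K hge hle
      exact hiso _ _ e.symm (hI a X)
    | succ n ih =>
      intro a b h K hge hle
      obtain ⟨N, L, g, v, w, hT, hgeL, hleL, -⟩ :=
        c.pres a b (by lia) K 0 0 hge hle (c.le_zero _ _ (isZero_zero T))
      exact hext _ hT (hI b N) (ih a (b - 1) (by lia) L hgeL hleL)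
  intro K
  obtain ⟨a, b, hge, hle⟩ := c.bdd K
  have hge' : c.ge (min a b) K := c.ge_mono a _ K (min_le_left _ _) hge
  obtain ⟨n, hn⟩ : ∃ n : ℕ, b - min a b = n :=
    ⟨(b - min a b).toNat, by rw [Int.toNat_of_nonneg]; have := min_le_right a b; lia⟩
  exact key n _ b hn K hge' hle

/-- `β` is natural with respect to all morphisms between singles (of non-negative degree). -/
theorem lemmaA : ∀ (q : ℕ) (b c₀ : ℤ), b - c₀ = q → ∀ (X Y : A)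
    (ξ : (c.I b).obj X ⟶ (c.I c₀).obj Y),
    F.map ξ ≫ (c.βh c₀ Y).hom = (c.βh b X).hom ≫ F'.map ξ := by
  intro q
  induction q with
  | zero =>
    intro b c₀ h X Y ξ
    have hbc : c₀ = b := by lia
    subst hbc
    exact c.β_nat c₀ ξ
  | succ q ih =>
    intro b c₀ h X Y ξ
    obtain ⟨N, L, g, v, w, hT, hgeL, hleL, hgξ⟩ := c.pres (b - 1) b (by lia) _ _ ξ
      (c.ge_mono _ _ _ (by lia) (c.I_ge b X)) (c.I_le b X)
      (c.le_mono _ _ _ (by lia) (c.I_le c₀ Y))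
    obtain ⟨R, ⟨ε⟩⟩ := c.single (b - 1) L hgeL hleL
    have hψ : c.Good (fun _ _ _ => True) (b - 1) (b - 1) L
        (F.mapIso ε ≪≫ c.βh (b - 1) R ≪≫ (F'.mapIso ε).symm) :=
      Ctx.Good.single _ _ rfl L R ε _ (by simp)
    obtain ⟨φ', sq1, sq2⟩ := Ctx.exists_iso_of_pres hT hψ
    have hφ' : φ'.hom = (c.βh b X).hom := by
      have h0 : F.map g ≫ (φ'.hom - (c.βh b X).hom) = 0 := by
        rw [Preadditive.comp_sub, sq1, c.β_nat b g, sub_self]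
      obtain ⟨y, hy⟩ := yo₂ F hT _ h0
      have hy0 : y = 0 := c.hz (b - 1) b (by lia) L X hleL y
      rw [hy0, comp_zero] at hy
      exact sub_eq_zero.1 hy
    rw [hφ'] at sq2
    obtain ⟨ξ₁, rfl⟩ := yo₂' hT ξ hgξ
    have hIH := ih (b - 1) c₀ (by lia) R Y (ε.inv ≫ ξ₁)
    have h1 : F.map ξ₁ ≫ (c.βh c₀ Y).hom =
        (F.mapIso ε ≪≫ c.βh (b - 1) R ≪≫ (F'.mapIso ε).symm).hom ≫ F'.map ξ₁ := by
      have h2 : ξ₁ = ε.hom ≫ (ε.inv ≫ ξ₁) := by simp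
      have h3 : F'.map (ε.inv ≫ ξ₁) = F'.map ε.inv ≫ F'.map ξ₁ := F'.map_comp _ _
      calc F.map ξ₁ ≫ (c.βh c₀ Y).hom
          = F.map ε.hom ≫ F.map (ε.inv ≫ ξ₁) ≫ (c.βh c₀ Y).hom := by
            rw [← assoc, ← F.map_comp, ← h2]
        _ = F.map ε.hom ≫ (c.βh (b - 1) R).hom ≫ F'.map ε.inv ≫ F'.map ξ₁ := by
            rw [hIH, h3]
        _ = _ := by simp
    rw [F.map_comp, assoc, h1, ← assoc, ← sq2, assoc, ← F'.map_comp]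

theorem single_nat (b c₀ : ℤ) (X Y : A) (ξ : (c.I b).obj X ⟶ (c.I c₀).obj Y) :
    F.map ξ ≫ (c.βh c₀ Y).hom = (c.βh b X).hom ≫ F'.map ξ := by
  by_cases h : c₀ ≤ b
  · exact lemmaA c (b - c₀).toNat b c₀ (by rw [Int.toNat_of_nonneg]; lia) X Y ξ
  · rw [c.hz b c₀ (by lia) _ Y (c.I_le b X) (F.map ξ ≫ (c.βh c₀ Y).hom),
      c.hz b c₀ (by lia) _ Y (c.I_le b X) ((c.βh b X).hom ≫ F'.map ξ)]

variable [F.Full] [F.Faithful]

lemma inj_single (b c₀ : ℤ) (X Y : A) : Inj F' ((c.I b).obj X) ((c.I c₀).obj Y) := by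
  intro ξ hξ
  have h1 := single_nat c b c₀ X Y ξ
  rw [hξ, comp_zero] at h1
  have h2 : F.map ξ = 0 := by
    rw [← cancel_mono (c.βh c₀ Y).hom, h1, zero_comp]
  exact F.map_injective (by rw [h2, F.map_zero])

lemma surj_single (b c₀ : ℤ) (X Y : A) : Surj F' ((c.I b).obj X) ((c.I c₀).obj Y) := by
  intro θ
  obtain ⟨ξ, hξ⟩ := F.map_surjective ((c.βh b X).hom ≫ θ ≫ (c.βh c₀ Y).inv)
  refine ⟨ξ, ?_⟩
  have h1 := single_nat c b c₀ X Y ξ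
  rw [hξ] at h1
  simp only [assoc, Iso.inv_hom_id, comp_id] at h1
  exact ((cancel_epi _).1 h1).symm

/-- The abstract form of: a sibling of a fully faithful functor is fully faithful. -/
theorem full_faithful
    (σn : ∀ (b n : ℤ) (Y : A), ((c.I b).obj Y)⟦n⟧ ≅ (c.I (b - n)).obj Y) :
    F'.Full ∧ F'.Faithful := by
  -- Step A
  have stepA : ∀ (b : ℤ) (X : A) (L : T), ∀ n : ℤ,
      Inj F' ((c.I b).obj X) (L⟦n⟧) ∧ Surj F' ((c.I b).obj X) (L⟦n⟧) := by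
    intro b X
    refine ip c (fun L => ∀ n : ℤ,
      Inj F' ((c.I b).obj X) (L⟦n⟧) ∧ Surj F' ((c.I b).obj X) (L⟦n⟧)) ?_ ?_ ?_
    · intro L L' e h n
      exact ⟨(h n).1.of_iso_right ((shiftFunctor T n).mapIso e),
        (h n).2.of_iso_right ((shiftFunctor T n).mapIso e)⟩
    · intro c₀ Y n
      exact ⟨(inj_single c b (c₀ - n) X Y).of_iso_right (σn c₀ n Y).symm,
        (surj_single c b (c₀ - n) X Y).of_iso_right (σn c₀ n Y).symm⟩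
    · intro Tr hT h1 h3 n
      obtain ⟨f'', g'', h'', hTn⟩ : ∃ (f'' : Tr.obj₁⟦n⟧ ⟶ Tr.obj₂⟦n⟧)
          (g'' : Tr.obj₂⟦n⟧ ⟶ Tr.obj₃⟦n⟧) (h'' : Tr.obj₃⟦n⟧ ⟶ (Tr.obj₁⟦n⟧)⟦(1 : ℤ)⟧),
          Triangle.mk f'' g'' h'' ∈ distTriang T :=
        ⟨_, _, _, Triangle.shift_distinguished Tr hT n⟩
      have e1 : (Tr.obj₁⟦n + 1⟧) ≅ (Tr.obj₁⟦n⟧)⟦(1 : ℤ)⟧ :=
        (shiftFunctorAdd' T n 1 (n + 1) rfl).app Tr.obj₁
      have e3 : (Tr.obj₃⟦n - 1⟧) ≅ (Tr.obj₃⟦n⟧)⟦(-1 : ℤ)⟧ :=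
        (shiftFunctorAdd' T n (-1) (n - 1) (by lia)).app Tr.obj₃
      exact cov_bij F' _ hTn (h1 n).1 (h1 n).2 (h3 n).1 (h3 n).2
        ((h1 (n + 1)).1.of_iso_right e1) ((h3 (n - 1)).2.of_iso_right e3)
  have stepA' : ∀ (b : ℤ) (X : A) (L : T),
      Inj F' ((c.I b).obj X) L ∧ Surj F' ((c.I b).obj X) L := by
    intro b X L
    have h := stepA b X L 0
    exact ⟨h.1.of_iso_right ((shiftFunctorZero T ℤ).app L),
      h.2.of_iso_right ((shiftFunctorZero T ℤ).app L)⟩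
  -- Step B
  have stepB : ∀ (K : T), ∀ (n : ℤ) (L : T), Inj F' (K⟦n⟧) L ∧ Surj F' (K⟦n⟧) L := by
    refine ip c (fun K => ∀ (n : ℤ) (L : T), Inj F' (K⟦n⟧) L ∧ Surj F' (K⟦n⟧) L) ?_ ?_ ?_
    · intro K K' e h n L
      exact ⟨(h n L).1.of_iso_left ((shiftFunctor T n).mapIso e),
        (h n L).2.of_iso_left ((shiftFunctor T n).mapIso e)⟩
    · intro b X n L
      exact ⟨(stepA' (b - n) X L).1.of_iso_left (σn b n X).symm,
        (stepA' (b - n) X L).2.of_iso_left (σn b n X).symm⟩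
    · intro Tr hT h1 h3 n L
      obtain ⟨f'', g'', h'', hTn⟩ : ∃ (f'' : Tr.obj₁⟦n⟧ ⟶ Tr.obj₂⟦n⟧)
          (g'' : Tr.obj₂⟦n⟧ ⟶ Tr.obj₃⟦n⟧) (h'' : Tr.obj₃⟦n⟧ ⟶ (Tr.obj₁⟦n⟧)⟦(1 : ℤ)⟧),
          Triangle.mk f'' g'' h'' ∈ distTriang T :=
        ⟨_, _, _, Triangle.shift_distinguished Tr hT n⟩
      have e1 : (Tr.obj₁⟦n + 1⟧) ≅ (Tr.obj₁⟦n⟧)⟦(1 : ℤ)⟧ :=
        (shiftFunctorAdd' T n 1 (n + 1) rfl).app Tr.obj₁
      have e3 : (Tr.obj₃⟦n - 1⟧) ≅ (Tr.obj₃⟦n⟧)⟦(-1 : ℤ)⟧ :=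
        (shiftFunctorAdd' T n (-1) (n - 1) (by lia)).app Tr.obj₃
      exact con_bij F' L hTn (h1 n L).1 (h1 n L).2 (h3 n L).1 (h3 n L).2
        ((h3 (n - 1) L).1.of_iso_left e3) ((h1 (n + 1) L).2.of_iso_left e1)
  have fin : ∀ (K L : T), Inj F' K L ∧ Surj F' K L := by
    intro K L
    have h := stepB K 0 L
    exact ⟨h.1.of_iso_left ((shiftFunctorZero T ℤ).app K),
      h.2.of_iso_left ((shiftFunctorZero T ℤ).app K)⟩
  constructor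
  · exact ⟨fun {K L} φ => (fin K L).2 φ⟩
  · refine ⟨fun {K L} f₁ f₂ h => ?_⟩
    have h1 : F'.map (f₁ - f₂) = 0 := by rw [F'.map_sub, h, sub_self]
    exact sub_eq_zero.1 ((fin K L).1 _ h1)

end Groth.Agent.Helper6.OrD
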