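import Mathlib
import Groth.Agent.Helper6.OrB
import Groth.Agent.Helper6.OrC

set_option autoImplicit false
set_option linter.style.haveILetI false
set_option linter.unusedSectionVars false
set_option linter.unusedVariables false

open CategoryTheory Category Limits Pretriangulated ZeroObject DerivedCategory

namespace Groth.Agent.Helper6.OrE

open Groth.Agent.Helper6.OrA Groth.Agent.Helper6.OrC

universe w v u v' u'

variable {A : Type u} [Category.{v} A] [Abelian A] [HasDerivedCategory.{w} A]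
  {D : Type u'} [Category.{v'} D] [Preadditive D] [HasZeroObject D] [HasShift D ℤ]
  [∀ n : ℤ, (shiftFunctor D n).Additive] [Pretriangulated D]
  (F F' : DerivedCategory.Bounded A ⥤ D) [F.CommShift ℤ] [F.IsTriangulated]
  [F'.CommShift ℤ] [F'.IsTriangulated]
  (α : DEquiv.singleB A ⋙ F ≅ DEquiv.singleB A ⋙ F')

/-- The extra hypotheses in the presence of enough negative objects. -/
lemma mkHyp (hneg : ∀ X : A, ∃ (N : A) (p : N ⟶ X), Epi p ∧ ∀ f : X ⟶ N, f = 0)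
    (hz₀ : ∀ (c' c : ℤ) (N' N : A), c' < c →
      ∀ e : F.obj ((Ib c').obj N') ⟶ F'.obj ((Ib c).obj N), e = 0) :
    OrB.Hyp (mkCtx F F' α hz₀) where
  orth b L X hL f := orth b L X hL f
  presN a b hab K K' M₁ M₂ f₁ f₂ hge hle hle' hM₁ hM₂ := by
    have i1 : (DerivedCategory.TStructure.t).IsGE K.obj a := hge
    have i2 : (DerivedCategory.TStructure.t).IsLE K.obj b := hle
    have i3 : (DerivedCategory.TStructure.t).IsLE K'.obj b := hle'
    have i4 : (DerivedCategory.TStructure.t).IsLE M₁.obj (b - 1) := hM₁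
    have i5 : (DerivedCategory.TStructure.t).IsLE M₂.obj (b - 1) := hM₂
    obtain ⟨H₁, hH₁⟩ := exists_top b K.obj
    obtain ⟨H₂, hH₂⟩ := exists_top b K'.obj
    have hsel : ∀ X : A, ∃ (N : A) (p : N ⟶ X), Epi p ∧
        ((∀ f : H₁ ⟶ N, f = 0) ∧ (∀ f : H₂ ⟶ N, f = 0)) := by
      intro X
      obtain ⟨N, p, hp, hN⟩ := hneg (X ⊞ (H₁ ⊞ H₂))
      refine ⟨N, p ≫ biprod.fst, epi_comp _ _, ?_, ?_⟩
      · intro f
        have h := hN ((biprod.snd : X ⊞ (H₁ ⊞ H₂) ⟶ H₁ ⊞ H₂) ≫ (biprod.fst : H₁ ⊞ H₂ ⟶ H₁) ≫ f)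
        have : Epi ((biprod.snd : X ⊞ (H₁ ⊞ H₂) ⟶ H₁ ⊞ H₂) ≫ (biprod.fst : H₁ ⊞ H₂ ⟶ H₁)) :=
          epi_comp _ _
        rw [← cancel_epi ((biprod.snd : X ⊞ (H₁ ⊞ H₂) ⟶ H₁ ⊞ H₂) ≫
          (biprod.fst : H₁ ⊞ H₂ ⟶ H₁)), assoc, h, comp_zero]
      · intro f
        have h := hN ((biprod.snd : X ⊞ (H₁ ⊞ H₂) ⟶ H₁ ⊞ H₂) ≫ (biprod.snd : H₁ ⊞ H₂ ⟶ H₂) ≫ f)
        have : Epi ((biprod.snd : X ⊞ (H₁ ⊞ H₂) ⟶ H₁ ⊞ H₂) ≫ (biprod.snd : H₁ ⊞ H₂ ⟶ H₂)) :=
          epi_comp _ _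
        rw [← cancel_epi ((biprod.snd : X ⊞ (H₁ ⊞ H₂) ⟶ H₁ ⊞ H₂) ≫
          (biprod.snd : H₁ ⊞ H₂ ⟶ H₂)), assoc, h, comp_zero]
    obtain ⟨N, g, L, v, w, hT, hLge, hLle, ⟨hP1, hP2⟩, hg1, hg2⟩ :=
      presD _ hsel a b hab K.obj M₁.obj M₂.obj f₁.hom f₂.hom
    obtain ⟨L', g', v', w', hT', h1, h2, hg'⟩ := transport b K N g L v w hT a (b - 1) hLge hLle
    refine ⟨N, L', g', v', w', hT', h1, h2, ?_, ?_, ?_, ?_⟩
    · intro φ
      have h3 := hH₁ N hP1 (φ.hom ≫ (θ b N).hom)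
      apply (DerivedCategory.Bounded.ι (C := A)).map_injective
      rw [Functor.map_zero]
      change φ.hom = 0
      exact (Preadditive.IsIso.comp_right_eq_zero _ _).1 h3
    · intro φ
      have h3 := hH₂ N hP2 (φ.hom ≫ (θ b N).hom)
      apply (DerivedCategory.Bounded.ι (C := A)).map_injective
      rw [Functor.map_zero]
      change φ.hom = 0
      exact (Preadditive.IsIso.comp_right_eq_zero _ _).1 h3
    · apply (DerivedCategory.Bounded.ι (C := A)).map_injective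
      rw [Functor.map_zero, Functor.map_comp]
      change g'.hom ≫ f₁.hom = 0
      rw [hg', assoc, hg1, comp_zero]
    · apply (DerivedCategory.Bounded.ι (C := A)).map_injective
      rw [Functor.map_zero, Functor.map_comp]
      change g'.hom ≫ f₂.hom = 0
      rw [hg', assoc, hg2, comp_zero]

end Groth.Agent.Helper6.OrE
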