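import Mathlib

/-! Witt-vector identity behind the additivity defect of `x ↦ x^(p^n-1) dx`. -/

set_option autoImplicit false
universe u v

namespace Groth.Agent.Helper6.PDiffW

open MvPolynomial

variable (p : ℕ) [hp : Fact p.Prime]

/-- The Witt vector `[X₀] + [X₁]` over `ℤ[X₀, X₁]`. -/
noncomputable def w : WittVector p (MvPolynomial (Fin 2) ℤ) :=
  WittVector.teichmuller p (X 0) + WittVector.teichmuller p (X 1)

/-- `S j`, the `j`-th component of `[X₀] + [X₁]`. -/
noncomputable def S (j : ℕ) : MvPolynomial (Fin 2) ℤ := (w p).coeff j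

theorem S_zero : S p 0 = X 0 + X 1 := by
  unfold S w
  rw [WittVector.add_coeff_zero, WittVector.teichmuller_coeff_zero, WittVector.teichmuller_coeff_zero]

theorem witt_sum (n : ℕ) :
    ∑ j ∈ Finset.range (n + 1), (p : MvPolynomial (Fin 2) ℤ) ^ j * (S p j) ^ (p ^ (n - j)) =
      X 0 ^ p ^ n + X 1 ^ p ^ n := by
  have h := map_add (WittVector.ghostComponent (p := p) n)
    (WittVector.teichmuller p (X 0 : MvPolynomial (Fin 2) ℤ)) (WittVector.teichmuller p (X 1))
  rw [WittVector.ghostComponent_teichmuller, WittVector.ghostComponent_teichmuller,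
    WittVector.ghostComponent_apply, aeval_wittPolynomial] at h
  exact h

theorem witt_pderiv (n : ℕ) (i : Fin 2) :
    ∑ j ∈ Finset.range (n + 1), (S p j) ^ (p ^ (n - j) - 1) * pderiv i (S p j) =
      X i ^ (p ^ n - 1) := by
  have h := congrArg (pderiv i) (witt_sum p n)
  have hp0 : (p : MvPolynomial (Fin 2) ℤ) ^ n ≠ 0 :=
    pow_ne_zero _ (Nat.cast_ne_zero.2 hp.out.ne_zero)
  apply mul_left_cancel₀ hp0
  have hL : pderiv i (∑ j ∈ Finset.range (n + 1),
      (p : MvPolynomial (Fin 2) ℤ) ^ j * (S p j) ^ (p ^ (n - j))) =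
      (p : MvPolynomial (Fin 2) ℤ) ^ n *
        ∑ j ∈ Finset.range (n + 1), (S p j) ^ (p ^ (n - j) - 1) * pderiv i (S p j) := by
    rw [map_sum, Finset.mul_sum]
    apply Finset.sum_congr rfl
    intro j hj
    have hj' : j ≤ n := Nat.lt_succ_iff.1 (Finset.mem_range.1 hj)
    rw [Derivation.leibniz, Derivation.leibniz_pow, Derivation.leibniz_pow, Derivation.map_natCast,
      smul_zero, smul_zero, smul_zero, add_zero, smul_eq_mul, smul_eq_mul, nsmul_eq_mul]
    have : (p : MvPolynomial (Fin 2) ℤ) ^ n = (p : MvPolynomial (Fin 2) ℤ) ^ j * ((p ^ (n - j) : ℕ) : MvPolynomial (Fin 2) ℤ) := by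
      rw [Nat.cast_pow, ← pow_add, Nat.add_sub_cancel' hj']
    rw [this]
    ring
  have hR : pderiv i (X 0 ^ p ^ n + X 1 ^ p ^ n : MvPolynomial (Fin 2) ℤ) =
      (p : MvPolynomial (Fin 2) ℤ) ^ n * X i ^ (p ^ n - 1) := by
    rw [map_add, Derivation.leibniz_pow, Derivation.leibniz_pow, pderiv_X, pderiv_X]
    fin_cases i
    · simp [Pi.single_apply]
    · simp [Pi.single_apply]
  rw [hL, hR] at h
  exact h

/-- chain rule for a derivation along `aeval g`. -/
theorem chain_rule {A : Type u} [CommRing A] {M : Type v} [AddCommGroup M] [Module A M]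
    {K : Type*} [CommRing K] [Algebra K A] [Module K M] [IsScalarTower K A M]
    (D : Derivation K A M) (g : Fin 2 → A) (P : MvPolynomial (Fin 2) ℤ) :
    D (aeval g P) = ∑ i : Fin 2, aeval g (pderiv i P) • D (g i) := by
  induction P using MvPolynomial.induction_on with
  | C c =>
    simp only [aeval_C, pderiv_C, map_zero, zero_smul, Finset.sum_const_zero]
    rw [eq_intCast, Derivation.map_intCast]
  | add P Q hP hQ =>
    rw [map_add, map_add, hP, hQ, ← Finset.sum_add_distrib]
    apply Finset.sum_congr rfl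
    intro i _
    rw [map_add, map_add, add_smul]
  | mul_X P k hP =>
    rw [map_mul, Derivation.leibniz, hP, aeval_X, Finset.smul_sum]
    simp only [Derivation.leibniz, pderiv_X, map_add, map_mul, aeval_X, smul_eq_mul]
    simp only [Fin.sum_univ_two, add_smul, mul_smul]
    fin_cases k <;> simp [Pi.single_apply] <;> abel

end Groth.Agent.Helper6.PDiffW
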