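import Mathlib
import Groth.Prelude.Def_W4bk4bump814p2PDiff
import Groth.Agent.Helper6.PDiffW

/-! The filtration `Σ^i` of Kähler differentials by `p^i`-th power differentials. -/

set_option autoImplicit false
universe u v

namespace Groth.Agent.Helper6.PDiffS

open W4bk4bump814p2 MvPolynomial

variable (K : Type u) (A : Type v) [CommRing K] [CommRing A] [Algebra K A] (p : ℕ)

theorem delta_def (i : ℕ) (x : A) :
    delta K A p i x = x ^ (p ^ i - 1) • KaehlerDifferential.D K A x := rfl

theorem delta_zero_arg (i : ℕ) : delta K A p i 0 = 0 := by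
  rw [delta_def, map_zero, smul_zero]

theorem zero_mem_sigma (i : ℕ) : (0 : Ω[A⁄K]) ∈ sigma K A p i := by
  induction i with
  | zero => rfl
  | succ i ih =>
    rw [mem_sigma_succ]
    exact ⟨0, by rw [delta_zero_arg, sub_zero]; exact ih⟩

theorem sigma_succ_subset (i : ℕ) : sigma K A p i ⊆ sigma K A p (i + 1) := by
  intro ω hω
  rw [mem_sigma_succ]
  exact ⟨0, by rw [delta_zero_arg, sub_zero]; exact hω⟩

theorem sigma_mono {i j : ℕ} (h : i ≤ j) : sigma K A p i ⊆ sigma K A p j := by
  induction h with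
  | refl => exact subset_rfl
  | step _ ih => exact subset_trans ih (sigma_succ_subset K A p _)

theorem delta_mem_sigma {i j : ℕ} (h : j < i) (x : A) : delta K A p j x ∈ sigma K A p i := by
  apply sigma_mono K A p (Nat.succ_le_of_lt h)
  rw [mem_sigma_succ]
  exact ⟨x, by rw [sub_self]; exact zero_mem_sigma K A p j⟩

variable [hp : Fact p.Prime]

/-- the Witt identity in `Ω[A⁄K]`. -/
theorem witt_delta (n : ℕ) (a b : A) :
    ∃ s : ℕ → A, s 0 = a + b ∧
      ∑ j ∈ Finset.range (n + 1), delta K A p (n - j) (s j) = delta K A p n a + delta K A p n b := by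
  let g : Fin 2 → A := ![a, b]
  refine ⟨fun j => aeval g (PDiffW.S p j), ?_, ?_⟩
  · show aeval g (PDiffW.S p 0) = a + b
    rw [PDiffW.S_zero, map_add, aeval_X, aeval_X]
    rfl
  · have h0 := congrArg (aeval g) (PDiffW.witt_pderiv p n 0)
    have h1 := congrArg (aeval g) (PDiffW.witt_pderiv p n 1)
    simp only [map_sum, map_mul, map_pow, aeval_X] at h0 h1
    have hg0 : g 0 = a := rfl
    have hg1 : g 1 = b := rfl
    rw [hg0] at h0
    rw [hg1] at h1
    simp only [delta_def]
    rw [← h0, ← h1, Finset.sum_smul, Finset.sum_smul, ← Finset.sum_add_distrib]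
    apply Finset.sum_congr rfl
    intro j _
    rw [PDiffW.chain_rule (KaehlerDifferential.D K A) g (PDiffW.S p j), Fin.sum_univ_two,
      smul_add, smul_smul, smul_smul, hg0, hg1]


variable {K A p}

omit hp in
theorem sum_mem_sigma {i : ℕ}
    (hadd : ∀ ω ω', ω ∈ sigma K A p i → ω' ∈ sigma K A p i → ω + ω' ∈ sigma K A p i)
    {ι : Type*} (t : Finset ι) (f : ι → Ω[A⁄K]) (hf : ∀ j ∈ t, f j ∈ sigma K A p i) :
    ∑ j ∈ t, f j ∈ sigma K A p i := by
  classical
  induction t using Finset.induction_on with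
  | empty => rw [Finset.sum_empty]; exact zero_mem_sigma K A p i
  | insert a t ha ih =>
    rw [Finset.sum_insert ha]
    exact hadd _ _ (hf a (Finset.mem_insert_self a t))
      (ih (fun j hj => hf j (Finset.mem_insert_of_mem hj)))

theorem defect_mem_of_group {n : ℕ}
    (hadd : ∀ ω ω', ω ∈ sigma K A p n → ω' ∈ sigma K A p n → ω + ω' ∈ sigma K A p n)
    (hneg : ∀ ω, ω ∈ sigma K A p n → -ω ∈ sigma K A p n) (a b : A) :
    delta K A p n (a + b) - delta K A p n a - delta K A p n b ∈ sigma K A p n := by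
  obtain ⟨s, hs0, hs⟩ := witt_delta K A p n a b
  rw [Finset.sum_range_succ', Nat.sub_zero, hs0] at hs
  have : delta K A p n (a + b) - delta K A p n a - delta K A p n b =
      -∑ j ∈ Finset.range n, delta K A p (n - (j + 1)) (s (j + 1)) := by
    rw [sub_sub, ← hs]; abel
  rw [this]
  apply hneg
  apply sum_mem_sigma hadd
  intro j hj
  exact delta_mem_sigma K A p (by have := Finset.mem_range.1 hj; omega) _

omit hp in
theorem neg_one_pow_eq_one (hpr : p.Prime) (hpA : (p : A) = 0) (i : ℕ) : (-1 : A) ^ (p ^ i - 1) = 1 := by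
  rcases hpr.eq_two_or_odd' with h2 | hodd
  · have h11 : (-1 : A) = 1 := by
      have : (2 : A) = 0 := by rw [← hpA, h2]; norm_num
      rw [neg_eq_iff_add_eq_zero, one_add_one_eq_two, this]
    rw [h11, one_pow]
  · have hodd' : Odd (p ^ i) := hodd.pow
    obtain ⟨m, hm⟩ := hodd'
    rw [hm, Nat.add_sub_cancel, pow_mul, neg_one_sq, one_pow]

theorem delta_neg (hpA : (p : A) = 0) (i : ℕ) (x : A) :
    delta K A p i (-x) = - delta K A p i x := by
  rw [delta_def, delta_def, map_neg, smul_neg, neg_pow, neg_one_pow_eq_one hp.out hpA, one_mul]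

theorem sigma_group (hpA : (p : A) = 0) (n : ℕ) :
    (∀ ω ω', ω ∈ sigma K A p n → ω' ∈ sigma K A p n → ω + ω' ∈ sigma K A p n) ∧
    (∀ ω, ω ∈ sigma K A p n → -ω ∈ sigma K A p n) := by
  induction n with
  | zero =>
    constructor
    · intro ω ω' h h'
      rw [sigma_zero, Set.mem_singleton_iff] at h h' ⊢
      rw [h, h', add_zero]
    · intro ω h
      rw [sigma_zero, Set.mem_singleton_iff] at h ⊢
      rw [h, neg_zero]
  | succ n ih =>
    obtain ⟨hadd, hneg⟩ := ih
    constructor
    · intro ω ω' h h'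
      rw [mem_sigma_succ] at h h' ⊢
      obtain ⟨x, hx⟩ := h
      obtain ⟨x', hx'⟩ := h'
      refine ⟨x + x', ?_⟩
      have hd := defect_mem_of_group hadd hneg x x'
      have : ω + ω' - delta K A p n (x + x') = (ω - delta K A p n x) + ((ω' - delta K A p n x') +
          -(delta K A p n (x + x') - delta K A p n x - delta K A p n x')) := by abel
      rw [this]
      exact hadd _ _ hx (hadd _ _ hx' (hneg _ hd))
    · intro ω h
      rw [mem_sigma_succ] at h ⊢
      obtain ⟨x, hx⟩ := h
      refine ⟨-x, ?_⟩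
      rw [delta_neg hpA, sub_neg_eq_add]
      have := hneg _ hx
      rwa [neg_sub, sub_eq_neg_add] at this

theorem defect_mem (hpA : (p : A) = 0) (n : ℕ) (a b : A) :
    delta K A p n (a + b) - delta K A p n a - delta K A p n b ∈ sigma K A p n :=
  defect_mem_of_group (sigma_group hpA n).1 (sigma_group hpA n).2 a b

/-- `Σ^i` as an additive subgroup. -/
def sigmaAddSubgroup (hpA : (p : A) = 0) (i : ℕ) : AddSubgroup (Ω[A⁄K]) where
  carrier := sigma K A p i
  add_mem' := fun h h' => (sigma_group hpA i).1 _ _ h h'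
  zero_mem' := zero_mem_sigma K A p i
  neg_mem' := fun h => (sigma_group hpA i).2 _ h

theorem sigma_eq_closure (hpA : (p : A) = 0) (i : ℕ) :
    sigma K A p i =
      (AddSubgroup.closure (⋃ j ∈ Finset.range i, Set.range (delta K A p j)) : Set (Ω[A⁄K])) := by
  apply Set.Subset.antisymm
  · induction i with
    | zero =>
      intro ω hω
      rw [sigma_zero, Set.mem_singleton_iff] at hω
      rw [hω]
      exact AddSubgroup.zero_mem _
    | succ i ih =>
      intro ω hω
      rw [mem_sigma_succ] at hω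
      obtain ⟨x, hx⟩ := hω
      have h1 : ω - delta K A p i x ∈
          AddSubgroup.closure (⋃ j ∈ Finset.range (i + 1), Set.range (delta K A p j)) := by
        have hmono : AddSubgroup.closure (⋃ j ∈ Finset.range i, Set.range (delta K A p j)) ≤
            AddSubgroup.closure (⋃ j ∈ Finset.range (i + 1), Set.range (delta K A p j)) := by
          apply AddSubgroup.closure_mono
          apply Set.biUnion_subset_biUnion_left
          intro j hj
          exact Finset.mem_range.2 (Nat.lt_succ_of_lt (Finset.mem_range.1 hj))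
        exact hmono (ih hx)
      have h2 : delta K A p i x ∈
          AddSubgroup.closure (⋃ j ∈ Finset.range (i + 1), Set.range (delta K A p j)) := by
        apply AddSubgroup.subset_closure
        exact Set.mem_biUnion (Finset.mem_range.2 (Nat.lt_succ_self i)) ⟨x, rfl⟩
      have := AddSubgroup.add_mem _ h1 h2
      rwa [sub_add_cancel] at this
  · have : AddSubgroup.closure (⋃ j ∈ Finset.range i, Set.range (delta K A p j)) ≤
        sigmaAddSubgroup (K := K) hpA i := by
      rw [AddSubgroup.closure_le]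
      intro ω hω
      rw [Set.mem_iUnion₂] at hω
      obtain ⟨j, hj, x, rfl⟩ := hω
      exact delta_mem_sigma K A p (Finset.mem_range.1 hj) x
    exact this

theorem pow_smul_mem (hpA : (p : A) = 0) (i : ℕ) :
    ∀ (x : A) (ω : Ω[A⁄K]), ω ∈ sigma K A p i → (x ^ (p ^ i)) • ω ∈ sigma K A p i := by
  induction i with
  | zero =>
    intro x ω hω
    rw [sigma_zero, Set.mem_singleton_iff] at hω ⊢
    rw [hω, smul_zero]
  | succ i ih =>
    intro x ω hω
    rw [mem_sigma_succ] at hω ⊢
    obtain ⟨y, hy⟩ := hω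
    refine ⟨x ^ p * y, ?_⟩
    have hD : KaehlerDifferential.D K A (x ^ p) = 0 := by
      rw [Derivation.leibniz_pow, ← Nat.cast_smul_eq_nsmul A, hpA, zero_smul]
    have h1 : delta K A p i (x ^ p * y) = (x ^ (p ^ (i + 1))) • delta K A p i y := by
      rw [delta_def, delta_def, Derivation.leibniz, hD, smul_zero, add_zero, smul_smul, smul_smul,
        mul_pow]
      congr 1
      have hpos : 0 < p ^ i := pow_pos hp.out.pos i
      have e1 : (x ^ p) ^ (p ^ i - 1) * x ^ p = x ^ (p ^ (i + 1)) := by
        rw [← pow_succ, Nat.sub_add_cancel hpos, ← pow_mul, pow_succ, mul_comm]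
      rw [← e1]; ring
    rw [h1, ← smul_sub, pow_succ, mul_comm (p ^ i) p, pow_mul]
    exact ih (x ^ p) _ hy


theorem smul_mem_sigma (hfrob : ∀ (c : K) (j : ℕ), ∃ μ : K, μ ^ (p ^ j) = c) (i : ℕ) :
    ∀ (c : K) (ω : Ω[A⁄K]), ω ∈ sigma K A p i → c • ω ∈ sigma K A p i := by
  induction i with
  | zero =>
    intro c ω hω
    rw [sigma_zero, Set.mem_singleton_iff] at hω ⊢
    rw [hω, smul_zero]
  | succ i ih =>
    intro c ω hω
    rw [mem_sigma_succ] at hω ⊢
    obtain ⟨y, hy⟩ := hω
    obtain ⟨μ, hμ⟩ := hfrob c i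
    refine ⟨μ • y, ?_⟩
    have hpos : 0 < p ^ i := pow_pos hp.out.pos i
    have h1 : delta K A p i (μ • y) = c • delta K A p i y := by
      rw [delta_def, delta_def, Derivation.map_smul, smul_pow, smul_assoc,
        smul_comm (y ^ (p ^ i - 1)) μ, smul_smul, ← pow_succ, Nat.sub_add_cancel hpos, hμ]
    rw [h1, ← smul_sub]
    exact ih c _ hy

theorem exists_pow_eq_of_perfect {k : Type*} [Field k] [PerfectField k] [CharP k p] (c : k)
    (j : ℕ) : ∃ μ : k, μ ^ (p ^ j) = c := by
  induction j generalizing c with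
  | zero => exact ⟨c, by simp⟩
  | succ j ih =>
    obtain ⟨ν, hν⟩ := surjective_frobenius k p c
    obtain ⟨μ, hμ⟩ := ih ν
    refine ⟨μ, ?_⟩
    rw [pow_succ, pow_mul, hμ]
    exact hν

end Groth.Agent.Helper6.PDiffS
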