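import Mathlib
import Groth.Agent.Helper5.FGExt2
import Groth.Agent.Helper5.FGApprox
import Groth.Agent.Helper5.FFWeil
import Groth.Agent.Helper6.SepPlaces

set_option autoImplicit false
set_option linter.style.haveILetI false
set_option linter.unusedSectionVars false

namespace Groth.Agent.Helper6.PIPlace

open FunFld
open Groth.Agent.Helper5

universe u v

section gen

variable {k : Type*} {K K' : Type*} [Field k] [Field K] [Field K'] [Algebra k K] [Algebra K K']
  [Algebra k K'] [IsScalarTower k K K']

/-- inclusion of valuation rings `O_P → O_Q` for `Q | P`. -/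
noncomputable def incl {Q : Place k K'} {P : Place k K} (hQ : IsOver Q P) : P.O →+* Q.O :=
  (algebraMap K K').restrict P.O Q.O (fun x hx => by
    obtain ⟨e, he⟩ := hQ
    exact (SepPlaces.le_one_of_over he x).mpr hx)

theorem incl_coe {Q : Place k K'} {P : Place k K} (hQ : IsOver Q P) (a : P.O) :
    ((incl hQ a : Q.O) : K') = algebraMap K K' (a : K) := rfl

/-- the residue field map `κ(P) → κ(Q)`. -/
noncomputable def resMap {Q : Place k K'} {P : Place k K} (hQ : IsOver Q P) :
    IsLocalRing.ResidueField P.O →+* IsLocalRing.ResidueField Q.O :=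
  Ideal.Quotient.lift (IsLocalRing.maximalIdeal P.O) ((IsLocalRing.residue Q.O).comp (incl hQ))
    (fun a ha => by
      rw [RingHom.comp_apply, FG.residue_eq_zero_iff, incl_coe]
      obtain ⟨e, he⟩ := hQ
      rw [FG.mem_maximalIdeal_iff] at ha
      exact (SepPlaces.lt_one_of_over he a).mpr ha)

theorem resMap_residue {Q : Place k K'} {P : Place k K} (hQ : IsOver Q P) (a : P.O) :
    resMap hQ (IsLocalRing.residue P.O a) = IsLocalRing.residue Q.O (incl hQ a) := rfl

theorem le_one_of_pow_le_one (Q : Place k K') {y : K'} {m : ℕ} (hm : m ≠ 0)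
    (h : Q.1 (y ^ m) ≤ 1) : Q.1 y ≤ 1 := by
  rw [map_pow] at h
  by_contra hlt
  rw [not_le] at hlt
  exact absurd h (not_le.mpr (one_lt_pow₀ hlt hm))

theorem le_one_of_pow_mem {Q₁ Q₂ : Place k K'} {P : Place k K} (h₁ : IsOver Q₁ P)
    (h₂ : IsOver Q₂ P) {y : K'} {m : ℕ} (hm : m ≠ 0) (hmem : y ^ m ∈ (algebraMap K K').range)
    (hy : Q₁.1 y ≤ 1) : Q₂.1 y ≤ 1 := by
  obtain ⟨z, hz⟩ := hmem
  obtain ⟨e₁, he₁⟩ := h₁
  obtain ⟨e₂, he₂⟩ := h₂
  have h1 : Q₁.1 (algebraMap K K' z) ≤ 1 := by
    rw [hz, map_pow]; exact pow_le_one₀ zero_le hy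
  have hPz := (SepPlaces.le_one_of_over he₁ z).mp h1
  have h2 := (SepPlaces.le_one_of_over he₂ z).mpr hPz
  rw [hz] at h2
  exact le_one_of_pow_le_one Q₂ hm h2

theorem val_coeff_le_one {k' : Type*} [Field k'] [Algebra k k'] [Algebra k' K']
    [IsScalarTower k k' K'] [Algebra.IsAlgebraic k k']
    {Q : Place k K'} {P : Place k K} (hQ : IsOver Q P)
    (hpi : IsPurelyInseparable k (IsLocalRing.ResidueField P.O))
    {ι : Type*} [Fintype ι] (c : ι → k') (hc : LinearIndependent k c)
    (hsep : ∀ i, IsSeparable k (c i)) (w : ι → K)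
    (hz : Q.1 (∑ i, w i • algebraMap k' K' (c i)) ≤ 1) (i : ι) : P.1 (w i) ≤ 1 := by
  classical
  have hQ' := hQ
  obtain ⟨e, he⟩ := hQ
  have he0 := FG.isOverWith_pos he
  by_contra hi
  rw [not_le] at hi
  obtain ⟨i₀, -, hmax⟩ := Finset.exists_max_image Finset.univ (fun j => P.1 (w j))
    ⟨i, Finset.mem_univ i⟩
  have hw₀ : 1 < P.1 (w i₀) := lt_of_lt_of_le hi (hmax i (Finset.mem_univ i))
  have hw₀0 : w i₀ ≠ 0 := by
    rintro h0
    rw [h0, map_zero] at hw₀
    exact absurd hw₀ (not_lt.mpr zero_le)
  have hu : ∀ j, P.1 (w j / w i₀) ≤ 1 := fun j => by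
    rw [map_div₀]
    exact div_le_one_of_le₀ (hmax j (Finset.mem_univ j)) zero_le
  have halg : ∀ a : k', Q.1 (algebraMap k' K' a) ≤ 1 := fun a =>
    FG.gval_le_one_of_isAlgebraic Q.1 Q.2.1 ((Algebra.IsAlgebraic.isAlgebraic a).algebraMap)
  let j' : k' →+* Q.O := (algebraMap k' K').codRestrict Q.O halg
  let φ : k' →ₐ[k] IsLocalRing.ResidueField Q.O :=
    { (IsLocalRing.residue Q.O).comp j' with
      commutes' := fun r => by
        show IsLocalRing.residue Q.O (j' (algebraMap k k' r)) =
          IsLocalRing.residue Q.O (algebraMap k Q.O r)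
        congr 1
        apply Subtype.ext
        exact (IsScalarTower.algebraMap_apply k k' K' r).symm }
  have hφ : ∀ a : k', φ a = IsLocalRing.residue Q.O (j' a) := fun a => rfl
  letI algPQ : Algebra (IsLocalRing.ResidueField P.O) (IsLocalRing.ResidueField Q.O) :=
    (resMap hQ').toAlgebra
  haveI : IsScalarTower k (IsLocalRing.ResidueField P.O) (IsLocalRing.ResidueField Q.O) := by
    apply IsScalarTower.of_algebraMap_eq
    intro r
    show IsLocalRing.residue Q.O (algebraMap k Q.O r) =
      resMap hQ' (IsLocalRing.residue P.O (algebraMap k P.O r))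
    rw [resMap_residue]
    congr 1
    apply Subtype.ext
    exact IsScalarTower.algebraMap_apply k K K' r
  have hli : LinearIndependent (IsLocalRing.ResidueField P.O) (fun j => φ (c j)) := by
    refine LinearIndependent.map_of_isPurelyInseparable_of_isSeparable (F := k)
      (IsLocalRing.ResidueField P.O) (fun j => ?_) ?_
    · unfold IsSeparable
      rw [minpoly.algHom_eq φ φ.injective]
      exact hsep j
    · exact hc.map' φ.toLinearMap (LinearMap.ker_eq_bot_of_injective φ.injective)
  rw [Fintype.linearIndependent_iff] at hli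
  have hrel : ∑ j, IsLocalRing.residue P.O ⟨w j / w i₀, hu j⟩ • φ (c j) = 0 := by
    have h1 : ∀ j, IsLocalRing.residue P.O ⟨w j / w i₀, hu j⟩ • φ (c j) =
        IsLocalRing.residue Q.O (incl hQ' ⟨w j / w i₀, hu j⟩ * j' (c j)) := by
      intro j
      rw [Algebra.smul_def, map_mul, hφ]
      rfl
    rw [Finset.sum_congr rfl (fun j _ => h1 j), ← map_sum, FG.residue_eq_zero_iff]
    have h2 : ((∑ j, incl hQ' ⟨w j / w i₀, hu j⟩ * j' (c j) : Q.O) : K') =
        (algebraMap K K' (w i₀))⁻¹ * ∑ i, w i • algebraMap k' K' (c i) := by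
      rw [show ((∑ j, incl hQ' ⟨w j / w i₀, hu j⟩ * j' (c j) : Q.O) : K') =
        Q.O.subtype (∑ j, incl hQ' ⟨w j / w i₀, hu j⟩ * j' (c j)) from rfl, map_sum,
        Finset.mul_sum]
      refine Finset.sum_congr rfl fun j _ => ?_
      rw [map_mul, Algebra.smul_def]
      show algebraMap K K' (w j / w i₀) * algebraMap k' K' (c j) = _
      rw [map_div₀, div_eq_mul_inv]
      ring
    rw [h2, map_mul, map_inv₀]
    have h3 : 1 < Q.1 (algebraMap K K' (w i₀)) := by
      rw [he]; exact one_lt_pow₀ hw₀ he0
    calc (Q.1 (algebraMap K K' (w i₀)))⁻¹ * Q.1 (∑ i, w i • algebraMap k' K' (c i))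
        ≤ (Q.1 (algebraMap K K' (w i₀)))⁻¹ * 1 := mul_le_mul' le_rfl hz
      _ = (Q.1 (algebraMap K K' (w i₀)))⁻¹ := mul_one _
      _ < 1 := inv_lt_one_of_one_lt₀ h3
  have h0 := hli _ hrel i₀
  have h1 : (⟨w i₀ / w i₀, hu i₀⟩ : P.O) = 1 := by
    apply Subtype.ext
    show w i₀ / w i₀ = 1
    exact div_self hw₀0
  rw [h1, map_one] at h0
  exact one_ne_zero h0

end gen

theorem s11011 (k k' : Type u) (K K' : Type v) [Field k] [Field k'] [Field K] [Field K']
    [Algebra k k'] [FiniteDimensional k k'] [Algebra k K] [Algebra K K'] [Algebra k' K'] [Algebra k K']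
    [IsScalarTower k k' K'] [IsScalarTower k K K']
    (h : Function.Bijective (Algebra.TensorProduct.productMap
      (IsScalarTower.toAlgHom k k' K') (IsScalarTower.toAlgHom k K K')))
    (hK : FunFld.IsFunctionField k K) (P : FunFld.Place k K)
    (hpi : IsPurelyInseparable k k' ∨ IsPurelyInseparable k (IsLocalRing.ResidueField P.O)) :
    ∃! Q : FunFld.Place k K', FunFld.IsOver Q P := by
  classical
  let b := Module.finBasis k k'
  have hrepr : ∀ y : K', ∃ x : Fin (Module.finrank k k') → K,
      y = ∑ j, algebraMap k' K' (b j) * algebraMap K K' (x j) := by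
    intro y
    obtain ⟨t, rfl⟩ := h.2 y
    induction t using TensorProduct.induction_on with
    | zero => exact ⟨fun _ => 0, by simp⟩
    | tmul a x =>
      refine ⟨fun j => algebraMap k K (b.repr a j) * x, ?_⟩
      rw [Algebra.TensorProduct.productMap_apply_tmul]
      simp only [IsScalarTower.coe_toAlgHom']
      conv_lhs => rw [← b.sum_repr a]
      rw [map_sum, Finset.sum_mul]
      refine Finset.sum_congr rfl fun j _ => ?_
      rw [Algebra.smul_def, map_mul, map_mul, ← IsScalarTower.algebraMap_apply k k' K',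
        ← IsScalarTower.algebraMap_apply k K K']
      ring
    | add t₁ t₂ h₁ h₂ =>
      obtain ⟨x₁, hx₁⟩ := h₁
      obtain ⟨x₂, hx₂⟩ := h₂
      refine ⟨x₁ + x₂, ?_⟩
      rw [map_add, hx₁, hx₂, ← Finset.sum_add_distrib]
      refine Finset.sum_congr rfl fun j _ => ?_
      rw [Pi.add_apply, map_add, mul_add]
  have hspan : Submodule.span K (Set.range fun j => algebraMap k' K' (b j)) = ⊤ := by
    rw [eq_top_iff]
    intro y _
    obtain ⟨x, rfl⟩ := hrepr y
    refine Submodule.sum_mem _ fun j _ => ?_
    rw [mul_comm, ← Algebra.smul_def]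
    exact Submodule.smul_mem _ _ (Submodule.subset_span ⟨j, rfl⟩)
  haveI : FiniteDimensional K K' :=
    Module.finite_def.2 (by rw [← hspan]; exact Submodule.fg_span (Set.finite_range _))
  obtain ⟨hfin, hsum⟩ := FG.finite_isOver_and_sum (K' := K') hK P
  have hex : ∃ Q : Place k K', IsOver Q P := by
    by_contra hno
    push Not at hno
    have h0 := hsum ∅ (fun Q => ⟨fun hq => absurd hq (Finset.notMem_empty Q),
      fun hq => absurd hq (hno Q)⟩)
    rw [Finset.sum_empty] at h0
    have h1 : 0 < Module.finrank K K' * P.deg :=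
      Nat.mul_pos Module.finrank_pos (FF.deg_pos_place hK P)
    omega
  obtain ⟨q, hq⟩ := ExpChar.exists k
  haveI : ExpChar k' q := expChar_of_injective_algebraMap (algebraMap k k').injective q
  haveI : ExpChar K' q := expChar_of_injective_algebraMap (algebraMap k K').injective q
  have key : ∀ Q₁ Q₂ : Place k K', IsOver Q₁ P → IsOver Q₂ P → ∀ y : K', Q₁.1 y ≤ 1 →
      Q₂.1 y ≤ 1 := by
    intro Q₁ Q₂ h₁ h₂ y hy
    obtain ⟨x, rfl⟩ := hrepr y
    rcases hpi with hpi | hpi
    · choose n hn using fun j => (isPurelyInseparable_iff_pow_mem k q).1 hpi (b j)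
      obtain ⟨N, hNdef⟩ : ∃ N, N = Finset.univ.sup n := ⟨_, rfl⟩
      have hN : ∀ j, b j ^ q ^ N ∈ (algebraMap k k').range := fun j => by
        have hle : n j ≤ N := hNdef ▸ Finset.le_sup (Finset.mem_univ j)
        have : b j ^ q ^ N = (b j ^ q ^ n j) ^ q ^ (N - n j) := by
          rw [← pow_mul, ← pow_add, Nat.add_sub_of_le hle]
        rw [this]
        exact pow_mem (hn j) _
      choose a ha using hN
      refine le_one_of_pow_mem h₁ h₂ (expChar_pow_pos k q N).ne' ?_ hy
      refine ⟨∑ j, algebraMap k K (a j) * x j ^ q ^ N, ?_⟩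
      rw [sum_pow_char_pow, map_sum]
      refine Finset.sum_congr rfl fun j _ => ?_
      rw [map_mul, mul_pow, ← map_pow (algebraMap k' K'), ← map_pow (algebraMap K K'), ← ha j,
        ← IsScalarTower.algebraMap_apply k K K', ← IsScalarTower.algebraMap_apply k k' K']
    · obtain ⟨F, hF⟩ : ∃ F : IntermediateField k k', F = separableClosure k k' := ⟨_, rfl⟩
      haveI : IsPurelyInseparable F k' := hF ▸ separableClosure.isPurelyInseparable k k'
      haveI : ExpChar F q := expChar_of_injective_algebraMap (algebraMap k F).injective q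
      choose n hn using fun j => (isPurelyInseparable_iff_pow_mem F q).1 inferInstance (b j)
      obtain ⟨N, hNdef⟩ : ∃ N, N = Finset.univ.sup n := ⟨_, rfl⟩
      have hN : ∀ j, b j ^ q ^ N ∈ (algebraMap F k').range := fun j => by
        have hle : n j ≤ N := hNdef ▸ Finset.le_sup (Finset.mem_univ j)
        have : b j ^ q ^ N = (b j ^ q ^ n j) ^ q ^ (N - n j) := by
          rw [← pow_mul, ← pow_add, Nat.add_sub_of_le hle]
        rw [this]
        exact pow_mem (hn j) _
      choose s hs using hN
      let c := Module.finBasis k F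
      have hS : ∀ t : F, algebraMap k' K' (t : k') ∈
          Submodule.span K (Set.range fun i => algebraMap k' K' (c i : k')) := by
        intro t
        have h1 : algebraMap k' K' (t : k') =
            ∑ i, c.repr t i • algebraMap k' K' (c i : k') := by
          conv_lhs => rw [← c.sum_repr t]
          rw [show ((∑ i, c.repr t i • c i : F) : k') = F.val (∑ i, c.repr t i • c i) from rfl,
            map_sum, map_sum]
          refine Finset.sum_congr rfl fun i _ => ?_
          rw [map_smul, Algebra.smul_def, map_mul, ← IsScalarTower.algebraMap_apply k k' K',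
            Algebra.smul_def]
          rfl
        rw [h1]
        refine Submodule.sum_mem _ fun i _ => ?_
        rw [← algebraMap_smul K (c.repr t i)]
        exact Submodule.smul_mem _ _ (Submodule.subset_span ⟨i, rfl⟩)
      have hpow : (∑ j, algebraMap k' K' (b j) * algebraMap K K' (x j)) ^ q ^ N =
          ∑ j, (x j ^ q ^ N) • algebraMap k' K' (s j : k') := by
        rw [sum_pow_char_pow]
        refine Finset.sum_congr rfl fun j _ => ?_
        rw [mul_pow, ← map_pow (algebraMap k' K'), ← map_pow (algebraMap K K'), ← hs j,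
          Algebra.smul_def, mul_comm]
        rfl
      have hmem : (∑ j, algebraMap k' K' (b j) * algebraMap K K' (x j)) ^ q ^ N ∈
          Submodule.span K (Set.range fun i => algebraMap k' K' (c i : k')) := by
        rw [hpow]
        exact Submodule.sum_mem _ fun j _ => Submodule.smul_mem _ _ (hS (s j))
      obtain ⟨w, hw⟩ := (Submodule.mem_span_range_iff_exists_fun K).1 hmem
      have hQ₁ : Q₁.1 (∑ i, w i • algebraMap k' K' (c i : k')) ≤ 1 := by
        rw [hw, map_pow]; exact pow_le_one₀ zero_le hy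
      have hc : LinearIndependent k (fun i => (c i : k')) :=
        c.linearIndependent.map' F.val.toLinearMap
          (LinearMap.ker_eq_bot_of_injective F.val.injective)
      have hsep : ∀ i, IsSeparable k (c i : k') := fun i => by
        have h2 : ((c i : F) : k') ∈ separableClosure k k' := by
          rw [← hF]; exact (c i).2
        exact mem_separableClosure_iff.mp h2
      have hwi := fun i => val_coeff_le_one h₁ hpi (fun i => (c i : k')) hc hsep w hQ₁ i
      obtain ⟨e₂, he₂⟩ := h₂
      apply le_one_of_pow_le_one Q₂ (expChar_pow_pos k q N).ne'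
      rw [← hw]
      apply Valuation.map_sum_le
      intro i _
      rw [Algebra.smul_def, map_mul]
      exact mul_le_one' ((SepPlaces.le_one_of_over he₂ _).mpr (hwi i))
        (FG.gval_le_one_of_isAlgebraic Q₂.1 Q₂.2.1
          ((Algebra.IsAlgebraic.isAlgebraic (c i : k')).algebraMap))
  obtain ⟨Q₀, hQ₀⟩ := hex
  refine ⟨Q₀, hQ₀, fun Q hQ => ?_⟩
  exact FG.eq_of_O_le (key Q Q₀ hQ hQ₀)

end Groth.Agent.Helper6.PIPlace
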