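import Mathlib

/-!
Helper lemmas: automorphisms of (multivariate) power series rings given by substitutions.
-/

set_option autoImplicit false

namespace Groth.Agent.Helper6.PSAut

open MvPowerSeries

/-- A one-variable power series with zero constant coefficient and invertible linear coefficient
induces, by substitution, an automorphism of the power series ring. -/
theorem exists_algEquiv_subst {S : Type*} [CommRing S] (P : PowerSeries S)
    (hP : PowerSeries.constantCoeff P = 0) (hP' : IsUnit (PowerSeries.coeff 1 P)) :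
    ∃ Ψ : PowerSeries S ≃ₐ[S] PowerSeries S, Ψ PowerSeries.X = P := by
  have hs : PowerSeries.HasSubst P := PowerSeries.HasSubst.of_constantCoeff_zero' hP
  have hs' : PowerSeries.HasSubst (P.substInvOfIsUnit hP') :=
    PowerSeries.HasSubst.substInvOfIsUnit P hP'
  refine ⟨AlgEquiv.ofAlgHom (PowerSeries.substAlgHom hs) (PowerSeries.substAlgHom hs') ?_ ?_, ?_⟩
  · refine AlgHom.ext fun f => ?_
    rw [AlgHom.comp_apply, PowerSeries.substAlgHom_comp_substAlgHom_apply hs' hs,
      PowerSeries.coe_substAlgHom, PowerSeries.coe_substAlgHom,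
      PowerSeries.subst_substInvOfIsUnit_left P hP hP', PowerSeries.X_subst]
    rfl
  · refine AlgHom.ext fun f => ?_
    rw [AlgHom.comp_apply, PowerSeries.substAlgHom_comp_substAlgHom_apply hs hs',
      PowerSeries.coe_substAlgHom, PowerSeries.coe_substAlgHom,
      PowerSeries.subst_substInvOfIsUnit_right P hP hP', PowerSeries.X_subst]
    rfl
  · rw [AlgEquiv.ofAlgHom_apply, PowerSeries.substAlgHom_X]

/-- In `R⟦X₀, …, Xₙ⟧`, for every unit `U` there is an `R`-algebra automorphism sending `X₀` to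
`X₀ * U` and fixing the other variables. -/
theorem exists_algEquiv_X_zero_mul {R : Type*} [CommRing R] {n : ℕ}
    (U : MvPowerSeries (Fin (n + 1)) R) (hU : IsUnit U) :
    ∃ θ : MvPowerSeries (Fin (n + 1)) R ≃ₐ[R] MvPowerSeries (Fin (n + 1)) R,
      θ (X 0) = X 0 * U ∧ ∀ i : Fin n, θ (X i.succ) = X i.succ := by
  set e := finSuccEquiv R n with he
  set P : PowerSeries (MvPowerSeries (Fin n) R) := e (X 0 * U) with hPdef
  have hPX : P = PowerSeries.X * e U := by
    rw [hPdef, map_mul, he, finSuccEquiv_X_zero]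
  have hP : PowerSeries.constantCoeff P = 0 := by
    rw [hPX, map_mul, PowerSeries.constantCoeff_X, zero_mul]
  have hP' : IsUnit (PowerSeries.coeff 1 P) := by
    have h1 : PowerSeries.coeff 1 (PowerSeries.X * e U) = PowerSeries.constantCoeff (e U) := by
      rw [← PowerSeries.coeff_zero_eq_constantCoeff_apply]
      exact PowerSeries.coeff_succ_X_mul 0 (e U)
    rw [hPX, h1]
    exact (hU.map e).map PowerSeries.constantCoeff
  obtain ⟨Ψ, hΨ⟩ := exists_algEquiv_subst P hP hP'
  refine ⟨e.trans ((Ψ.restrictScalars R).trans e.symm), ?_, fun i => ?_⟩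
  · rw [AlgEquiv.trans_apply, AlgEquiv.trans_apply, AlgEquiv.symm_apply_eq,
      AlgEquiv.restrictScalars_apply, he, finSuccEquiv_X_zero, hΨ]
  · rw [AlgEquiv.trans_apply, AlgEquiv.trans_apply, AlgEquiv.symm_apply_eq,
      AlgEquiv.restrictScalars_apply, he, finSuccEquiv_X_succ]
    have : (PowerSeries.C (X i) : PowerSeries (MvPowerSeries (Fin n) R)) =
        algebraMap (MvPowerSeries (Fin n) R) (PowerSeries (MvPowerSeries (Fin n) R)) (X i) := rfl
    rw [this, Ψ.commutes]

/-- Translation of one variable `X j` by a power series `Q` without constant term which does not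
involve `X j` (expressed as: `Q` is fixed by every substitution fixing the other variables). -/
theorem exists_algEquiv_translate {R : Type*} [CommRing R] {σ : Type*} [Finite σ] [DecidableEq σ]
    (j : σ) (Q : MvPowerSeries σ R) (hQ0 : constantCoeff Q = 0)
    (hQ : ∀ g : σ → MvPowerSeries σ R, HasSubst g → (∀ i, i ≠ j → g i = X i) →
      subst g Q = Q) :
    ∃ θ : MvPowerSeries σ R ≃ₐ[R] MvPowerSeries σ R,
      ∀ i, θ (X i) = X i + if i = j then Q else 0 := by
  set g : σ → MvPowerSeries σ R := fun i => X i + if i = j then Q else 0 with hg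
  set g' : σ → MvPowerSeries σ R := fun i => X i - if i = j then Q else 0 with hg'
  have hsg : HasSubst g := hasSubst_of_constantCoeff_zero fun i => by
    by_cases h : i = j <;> simp [hg, h, hQ0]
  have hsg' : HasSubst g' := hasSubst_of_constantCoeff_zero fun i => by
    by_cases h : i = j <;> simp [hg', h, hQ0]
  have hgQ : subst g Q = Q := hQ g hsg fun i hi => by simp [hg, hi]
  have hg'Q : subst g' Q = Q := hQ g' hsg' fun i hi => by simp [hg', hi]
  have h1 : (fun s => substAlgHom hsg (g' s)) = X := by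
    funext s
    change substAlgHom hsg (X s - if s = j then Q else 0) = X s
    rw [map_sub, substAlgHom_X]
    by_cases h : s = j
    · rw [if_pos h, substAlgHom_apply, hgQ]
      change (X s + if s = j then Q else 0) - Q = X s
      rw [if_pos h, add_sub_cancel_right]
    · rw [if_neg h, map_zero, sub_zero]
      change (X s + if s = j then Q else 0) = X s
      rw [if_neg h, add_zero]
  have h2 : (fun s => substAlgHom hsg' (g s)) = X := by
    funext s
    change substAlgHom hsg' (X s + if s = j then Q else 0) = X s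
    rw [map_add, substAlgHom_X]
    by_cases h : s = j
    · rw [if_pos h, substAlgHom_apply, hg'Q]
      change (X s - if s = j then Q else 0) + Q = X s
      rw [if_pos h, sub_add_cancel]
    · rw [if_neg h, map_zero, add_zero]
      change (X s - if s = j then Q else 0) = X s
      rw [if_neg h, sub_zero]
  refine ⟨AlgEquiv.ofAlgHom (substAlgHom hsg) (substAlgHom hsg') ?_ ?_, fun i => ?_⟩
  · refine AlgHom.ext fun f => ?_
    rw [AlgHom.comp_apply, substAlgHom_comp_substAlgHom_apply hsg' hsg, coe_substAlgHom]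
    rw [h1, subst_self]
    rfl
  · refine AlgHom.ext fun f => ?_
    rw [AlgHom.comp_apply, substAlgHom_comp_substAlgHom_apply hsg hsg', coe_substAlgHom]
    rw [h2, subst_self]
    rfl
  · rw [AlgEquiv.ofAlgHom_apply, substAlgHom_X]

/-- In `R⟦X₀, …, Xₙ⟧`, for every unit `U` and every index `j` there is an `R`-algebra automorphism
sending `X j` to `X j * U` and fixing the other variables. -/
theorem exists_algEquiv_X_mul {R : Type*} [CommRing R] {n : ℕ} (j : Fin (n + 1))
    (U : MvPowerSeries (Fin (n + 1)) R) (hU : IsUnit U) :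
    ∃ θ : MvPowerSeries (Fin (n + 1)) R ≃ₐ[R] MvPowerSeries (Fin (n + 1)) R,
      θ (X j) = X j * U ∧ ∀ i : Fin (n + 1), i ≠ j → θ (X i) = X i := by
  set ρ := renameEquiv R (Equiv.swap (0 : Fin (n + 1)) j) with hρ
  have hρX : ∀ i, ρ (X i) = X (Equiv.swap (0 : Fin (n + 1)) j i) := fun i => by
    rw [hρ]
    exact rename_X _ i
  have hρsX : ∀ i, ρ.symm (X i) = X (Equiv.swap (0 : Fin (n + 1)) j i) := fun i => by
    rw [AlgEquiv.symm_apply_eq, hρX, Equiv.swap_apply_self]
  obtain ⟨θ', h0, hs⟩ := exists_algEquiv_X_zero_mul (ρ U) (hU.map ρ)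
  refine ⟨ρ.trans (θ'.trans ρ.symm), ?_, fun i hi => ?_⟩
  · rw [AlgEquiv.trans_apply, AlgEquiv.trans_apply, hρX, Equiv.swap_apply_right, h0, map_mul,
      hρsX, Equiv.swap_apply_left, AlgEquiv.symm_apply_apply]
  · rw [AlgEquiv.trans_apply, AlgEquiv.trans_apply, hρX]
    have hne : Equiv.swap (0 : Fin (n + 1)) j i ≠ 0 := by
      intro h
      apply hi
      have := congrArg (Equiv.swap (0 : Fin (n + 1)) j) h
      rwa [Equiv.swap_apply_self, Equiv.swap_apply_left] at this
    obtain ⟨k, hk⟩ := Fin.exists_succ_eq.2 hne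
    rw [← hk, hs k, hk, hρsX, Equiv.swap_apply_self]

/-- If `3` is invertible in `R`, every power series `1 + x` with `x` without constant term has a
cube root. -/
theorem exists_cube_root {R : Type*} [CommRing R] (h3 : IsUnit (3 : R)) {σ : Type*}
    (x : MvPowerSeries σ R) (hx : constantCoeff x = 0) :
    ∃ r : MvPowerSeries σ R, r ^ 3 = 1 + x := by
  obtain ⟨p, hp⟩ : ∃ p : PowerSeries R, p = (1 + PowerSeries.X) ^ 3 - 1 := ⟨_, rfl⟩
  have hpX : p = PowerSeries.X * (3 + 3 * PowerSeries.X + PowerSeries.X ^ 2) := by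
    rw [hp]; ring
  have hp0 : PowerSeries.constantCoeff p = 0 := by
    rw [hpX, map_mul, PowerSeries.constantCoeff_X, zero_mul]
  have hp1 : IsUnit (PowerSeries.coeff 1 p) := by
    have h1 : PowerSeries.coeff 1 p = 3 := by
      rw [hpX]
      have := PowerSeries.coeff_succ_X_mul 0 (3 + 3 * PowerSeries.X + PowerSeries.X ^ 2 : PowerSeries R)
      rw [zero_add] at this
      rw [this, PowerSeries.coeff_zero_eq_constantCoeff_apply]
      simp only [map_add, map_mul, map_pow, PowerSeries.constantCoeff_X]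
      rw [map_ofNat]
      ring
    rw [h1]; exact h3
  have hq : PowerSeries.HasSubst (p.substInvOfIsUnit hp1) :=
    PowerSeries.HasSubst.substInvOfIsUnit p hp1
  have hpq : p.subst (p.substInvOfIsUnit hp1) = PowerSeries.X :=
    PowerSeries.subst_substInvOfIsUnit_right p hp0 hp1
  obtain ⟨q, hqdef⟩ : ∃ q, q = p.substInvOfIsUnit hp1 := ⟨_, rfl⟩
  rw [← hqdef] at hq hpq
  have hcube : (1 + q) ^ 3 = 1 + PowerSeries.X := by
    have h : p.subst q = (1 + q) ^ 3 - 1 := by
      rw [hp, ← PowerSeries.coe_substAlgHom hq]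
      simp only [map_sub, map_pow, map_add, map_one, PowerSeries.substAlgHom_X]
    rw [h] at hpq
    linear_combination hpq
  have hsx : PowerSeries.HasSubst x := PowerSeries.HasSubst.of_constantCoeff_zero hx
  refine ⟨PowerSeries.subst x (1 + q), ?_⟩
  rw [← PowerSeries.subst_pow hsx, hcube, ← PowerSeries.coe_substAlgHom hsx, map_add, map_one,
    PowerSeries.substAlgHom_X]

/-- An `R`-algebra automorphism of a power series ring fixes the constants. -/
theorem algEquiv_C {R : Type*} [CommRing R] {σ : Type*}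
    (θ : MvPowerSeries σ R ≃ₐ[R] MvPowerSeries σ R) (r : R) : θ (C r) = C r := by
  have := θ.commutes r
  simpa [MvPowerSeries.algebraMap_apply] using this

/-- If `3` is invertible, `s`, `sig` are units with `s² κ³ = sig²` and `Z` has no constant term,
then `(s² + Z) / sig²` is the cube of a unit power series. -/
theorem exists_unit_cube {R : Type*} [CommRing R] (h3 : IsUnit (3 : R)) {σ : Type*}
    (s sig κ : R) (hs : IsUnit s) (hsig : IsUnit sig) (h : s ^ 2 * κ ^ 3 = sig ^ 2)
    (Z : MvPowerSeries σ R) (hZ : constantCoeff Z = 0) :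
    ∃ f : MvPowerSeries σ R, IsUnit f ∧ C (sig ^ 2) * f ^ 3 = C (s ^ 2) + Z := by
  obtain ⟨si, hsi⟩ := hs.exists_right_inv
  obtain ⟨sigi, hsigi⟩ := hsig.exists_right_inv
  obtain ⟨ki, hki⟩ : ∃ k, k = κ ^ 2 * s ^ 2 * sigi ^ 2 := ⟨_, rfl⟩
  have hk : κ * ki = 1 := by
    rw [hki]
    linear_combination sigi ^ 2 * h + (sig * sigi + 1) * hsigi
  have hR1 : sig ^ 2 * ki ^ 3 = s ^ 2 := by
    linear_combination (-(ki ^ 3)) * h + s ^ 2 * ((κ * ki) ^ 2 + κ * ki + 1) * hk
  have hR2 : s ^ 2 * si ^ 2 = 1 := by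
    linear_combination (s * si + 1) * hsi
  have hC1 : (C sig : MvPowerSeries σ R) ^ 2 * C ki ^ 3 = C s ^ 2 := by
    rw [← map_pow, ← map_pow, ← map_mul, hR1, map_pow]
  have hC2 : (C s : MvPowerSeries σ R) ^ 2 * C si ^ 2 = 1 := by
    rw [← map_pow, ← map_pow, ← map_mul, hR2, map_one]
  obtain ⟨r, hr⟩ := exists_cube_root h3 (C si ^ 2 * Z) (by rw [map_mul, hZ, mul_zero])
  have hf3 : C (sig ^ 2) * (C ki * r) ^ 3 = C (s ^ 2) + Z := by
    rw [map_pow, map_pow]
    linear_combination (C sig ^ 2 * C ki ^ 3) * hr + (1 + C si ^ 2 * Z) * hC1 + Z * hC2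
  refine ⟨C ki * r, ?_, hf3⟩
  have hu : IsUnit (C (sig ^ 2) * (C ki * r) ^ 3) := by
    rw [hf3, MvPowerSeries.isUnit_iff_constantCoeff, map_add, hZ, add_zero,
      MvPowerSeries.constantCoeff_C]
    exact hs.pow 2
  exact (isUnit_pow_iff (by norm_num : (3 : ℕ) ≠ 0)).1 (isUnit_of_mul_isUnit_right hu)

end Groth.Agent.Helper6.PSAut
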