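import Mathlib
import Groth.Prelude.Def_Wider

/-!
# Resolutions of power torsion modules by sums of `R ⧸ I ^ n`
-/

set_option autoImplicit false
universe u
open CategoryTheory CategoryTheory.Limits

namespace Groth.Agent.Helper6.PTRes

open scoped DirectSum

variable {R : Type u} [CommRing R] (I : Ideal R)

/-- power torsion -/
def PT (Z : ModuleCat.{u} R) : Prop := ∀ z : Z, ∃ n : ℕ, ∀ a ∈ I ^ n, a • z = 0

/-- the power torsion elements -/
abbrev tors (Z : ModuleCat.{u} R) : Type u := {z : Z // ∃ n : ℕ, ∀ a ∈ I ^ n, a • z = 0}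

noncomputable def expo (Z : ModuleCat.{u} R) (z : tors I Z) : ℕ := z.2.choose

lemma expo_spec (Z : ModuleCat.{u} R) (z : tors I Z) : ∀ a ∈ I ^ expo I Z z, a • z.1 = 0 :=
  z.2.choose_spec

/-- the covering sum of quotients -/
noncomputable abbrev F (Z : ModuleCat.{u} R) : ModuleCat.{u} R :=
  ModuleCat.of R (⨁ z : tors I Z, R ⧸ I ^ expo I Z z)

open Classical in
/-- the covering map, as a linear map -/
noncomputable def εLin (Z : ModuleCat.{u} R) : (⨁ z : tors I Z, R ⧸ I ^ expo I Z z) →ₗ[R] Z :=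
  DirectSum.toModule R (tors I Z) Z (fun z =>
    Submodule.liftQ (I ^ expo I Z z) (LinearMap.toSpanSingleton R Z z.1) (by
      intro a ha
      rw [LinearMap.mem_ker, LinearMap.toSpanSingleton_apply]
      exact expo_spec I Z z a ha))

/-- the covering map -/
noncomputable def ε (Z : ModuleCat.{u} R) : F I Z ⟶ Z := ModuleCat.ofHom (εLin I Z)

open Classical in
lemma ε_surjective (Z : ModuleCat.{u} R) (hZ : PT I Z) : Function.Surjective (ε I Z).hom := by
  intro z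
  refine ⟨DirectSum.of (fun z : tors I Z => R ⧸ I ^ expo I Z z) ⟨z, hZ z⟩
    (Submodule.Quotient.mk 1), ?_⟩
  show εLin I Z _ = z
  rw [εLin, ← DirectSum.lof_eq_of R, DirectSum.toModule_lof]
  show LinearMap.toSpanSingleton R Z z 1 = z
  rw [LinearMap.toSpanSingleton_apply, one_smul]

open Classical in
lemma pt_sum (Z : ModuleCat.{u} R) (x : ⨁ z : tors I Z, R ⧸ I ^ expo I Z z) :
    ∃ n : ℕ, ∀ a ∈ I ^ n, a • x = 0 := by
  induction x using DirectSum.induction_on with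
  | zero => exact ⟨0, fun a _ => smul_zero a⟩
  | of i x =>
    refine ⟨expo I Z i, fun a ha => ?_⟩
    rw [← DirectSum.lof_eq_of R, ← map_smul]
    obtain ⟨r, rfl⟩ := Submodule.Quotient.mk_surjective _ x
    have : a • (Submodule.Quotient.mk r : R ⧸ I ^ expo I Z i) = 0 := by
      rw [← Submodule.Quotient.mk_smul, Submodule.Quotient.mk_eq_zero, smul_eq_mul]
      exact Ideal.mul_mem_right _ _ ha
    rw [this, map_zero]
  | add x y hx hy =>
    obtain ⟨n, hn⟩ := hx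
    obtain ⟨m, hm⟩ := hy
    refine ⟨n + m, fun a ha => ?_⟩
    rw [smul_add, hn a (Ideal.pow_le_pow_right (Nat.le_add_right n m) ha),
      hm a (Ideal.pow_le_pow_right (Nat.le_add_left m n) ha), add_zero]

lemma pt_F (Z : ModuleCat.{u} R) : PT I (F I Z) := fun x => pt_sum I Z x

/-- the kernel object -/
noncomputable abbrev kerObj {X₁ X₀ : ModuleCat.{u} R} (f : X₁ ⟶ X₀) : ModuleCat.{u} R :=
  ModuleCat.of R (LinearMap.ker f.hom)

/-- the next differential -/
noncomputable def d' {X₁ X₀ : ModuleCat.{u} R} (f : X₁ ⟶ X₀) : F I (kerObj f) ⟶ X₁ :=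
  ε I (kerObj f) ≫ ModuleCat.ofHom (LinearMap.ker f.hom).subtype

lemma d'_comp {X₁ X₀ : ModuleCat.{u} R} (f : X₁ ⟶ X₀) : d' I f ≫ f = 0 := by
  ext x
  exact ((ε I (kerObj f)).hom x).2

lemma exact_d'_f {X₁ X₀ : ModuleCat.{u} R} (f : X₁ ⟶ X₀) (h : PT I X₁) :
    (ShortComplex.mk (d' I f) f (d'_comp I f)).Exact := by
  rw [ShortComplex.moduleCat_exact_iff]
  intro x hx
  have hk : PT I (kerObj f) := by
    rintro ⟨z, hz⟩
    obtain ⟨n, hn⟩ := h z
    exact ⟨n, fun a ha => Subtype.ext (hn a ha)⟩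
  obtain ⟨y, hy⟩ := ε_surjective I (kerObj f) hk ⟨x, hx⟩
  refine ⟨y, ?_⟩
  show ((ε I (kerObj f)).hom y).1 = x
  rw [hy]

/-- the resolution complex -/
noncomputable def cx (M : ModuleCat.{u} R) : ChainComplex (ModuleCat.{u} R) ℕ :=
  ChainComplex.mk' (F I M) (F I (kerObj (ε I M))) (d' I (ε I M))
    (fun f => ⟨_, d' I f, d'_comp I f⟩)

lemma cx_d_1_0 (M : ModuleCat.{u} R) : (cx I M).d 1 0 = d' I (ε I M) := by
  simp [cx]

lemma pt_of_iso {X Y : ModuleCat.{u} R} (e : X ≅ Y) (h : PT I Y) : PT I X := by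
  intro z
  obtain ⟨n, hn⟩ := h (e.hom z)
  refine ⟨n, fun a ha => ?_⟩
  have h1 : e.hom (a • z) = 0 := by rw [map_smul, hn a ha]
  have h2 := congrArg e.inv h1
  rw [map_zero] at h2
  rw [← h2]
  exact (congrArg (fun φ => φ (a • z)) (ModuleCat.hom_ext_iff.mp e.hom_inv_id)).symm

lemma exists_X_iso (M : ModuleCat.{u} R) (n : ℕ) :
    ∃ Z : ModuleCat.{u} R, Nonempty ((cx I M).X n ≅ F I Z) := by
  obtain (_ | _ | n) := n
  · exact ⟨_, ⟨Iso.refl _⟩⟩
  · exact ⟨_, ⟨Iso.refl _⟩⟩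
  · exact ⟨_, ⟨ChainComplex.mk'XIso _ _ _ _ n⟩⟩

lemma pt_X (M : ModuleCat.{u} R) (n : ℕ) : PT I ((cx I M).X n) := by
  obtain ⟨Z, ⟨e⟩⟩ := exists_X_iso I M n
  exact pt_of_iso I e (pt_F I Z)

lemma surj_aux {X' X₂ X₁ X₀ : ModuleCat.{u} R} (e : X' ≅ X₂) (g : X₂ ⟶ X₁) (f : X₁ ⟶ X₀)
    (d : X' ⟶ X₁) (hd : d = e.hom ≫ g)
    (hex : ∀ x : X₁, f.hom x = 0 → ∃ y : X₂, g.hom y = x) :
    ∀ x : X₁, f.hom x = 0 → ∃ y : X', d.hom y = x := by
  subst hd
  intro x hx
  obtain ⟨y, hy⟩ := hex x hx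
  refine ⟨e.inv.hom y, ?_⟩
  have : e.hom.hom (e.inv.hom y) = y :=
    congrArg (fun φ => φ.hom y) e.inv_hom_id
  rw [ModuleCat.hom_comp, LinearMap.comp_apply, this, hy]

lemma cx_exactAt_succ (M : ModuleCat.{u} R) (n : ℕ) : (cx I M).ExactAt (n + 1) := by
  rw [HomologicalComplex.exactAt_iff' _ (n + 1 + 1) (n + 1) n (by simp) (by simp),
    ShortComplex.moduleCat_exact_iff]
  have hex := exact_d'_f I ((cx I M).d (n + 1) n) (pt_X I M (n + 1))
  rw [ShortComplex.moduleCat_exact_iff] at hex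
  exact surj_aux (ChainComplex.mk'XIso (F I M) (F I (kerObj (ε I M))) (d' I (ε I M))
    (fun f => ⟨_, d' I f, d'_comp I f⟩) n) (d' I ((cx I M).d (n + 1) n)) ((cx I M).d (n + 1) n)
    ((cx I M).d (n + 2) (n + 1)) (ChainComplex.mk'_d _ _ _ _ n) hex

set_option backward.defeqAttrib.useBackward true in
set_option backward.isDefEq.respectTransparency false in
theorem exists_resolution (M : ModuleCat.{u} R) (hM : PT I M) :
    ∃ (K : ChainComplex (ModuleCat.{u} R) ℕ)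
      (π : K ⟶ (ChainComplex.single₀ (ModuleCat.{u} R)).obj M),
      QuasiIso π ∧ ∀ i : ℕ, ∃ Z : ModuleCat.{u} R, Nonempty (K.X i ≅ F I Z) := by
  refine ⟨cx I M, (ChainComplex.toSingle₀Equiv _ _).symm ⟨ε I M, (congrArg (· ≫ ε I M) (cx_d_1_0 I M)).trans (d'_comp I (ε I M))⟩,
    ⟨fun n => ?_⟩, exists_X_iso I M⟩
  cases n
  · rw [ChainComplex.quasiIsoAt₀_iff, ShortComplex.quasiIso_iff_of_zeros']
    · dsimp
      haveI : Epi (ε I M) := (ModuleCat.epi_iff_surjective _).mpr (ε_surjective I M hM)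
      refine (ShortComplex.exact_and_epi_g_iff_of_iso ?_).2
        ⟨exact_d'_f I (ε I M) (pt_F I M), by dsimp; infer_instance⟩
      exact ShortComplex.isoMk (Iso.refl _) (Iso.refl _) (Iso.refl _)
        (by simp [cx]) (by simp)
    all_goals rfl
  · rw [quasiIsoAt_iff_exactAt']
    · apply cx_exactAt_succ
    · apply ChainComplex.exactAt_succ_single_obj

end Groth.Agent.Helper6.PTRes
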