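import Mathlib
import Groth.Prelude.Def_W4c1limliniiiiRamP1

set_option autoImplicit false
set_option linter.style.haveILetI false
set_option linter.unusedSectionVars false

namespace Groth.Agent.Helper6.Pencil

open Polynomial

variable {k : Type*} [Field k]

theorem mem_left (F G : k[X]) : F ∈ Submodule.span k ({F, G} : Set k[X]) :=
  Submodule.subset_span (Set.mem_insert _ _)

theorem mem_right (F G : k[X]) : G ∈ Submodule.span k ({F, G} : Set k[X]) :=
  Submodule.subset_span (Set.mem_insert_of_mem _ rfl)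

theorem wr_comb (α β γ δ : k) (F G : k[X]) :
    wronskian (α • F + β • G) (γ • F + δ • G) = (α * δ - β * γ) • wronskian F G := by
  simp only [wronskian, derivative_add, derivative_smul]
  simp only [smul_eq_C_mul, C_sub, C_mul]
  ring

theorem wr_mul (h F G : k[X]) : wronskian (h * F) (h * G) = h ^ 2 * wronskian F G := by
  simp only [wronskian, derivative_mul]
  ring

theorem pow_dvd_wronskian_left (a : k) (m : ℕ) (s t : k[X]) (h : (X - C a) ^ m ∣ s) :
    (X - C a) ^ (m - 1) ∣ wronskian s t := by
  obtain ⟨u, rfl⟩ := h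
  rcases m with _ | m
  · simp
  · rw [wronskian, derivative_mul, derivative_X_sub_C_pow]
    simp only [Nat.add_sub_cancel, pow_succ]
    refine ⟨(X - C a) * u * derivative t -
      (C ((m + 1 : ℕ) : k) * u + (X - C a) * derivative u) * t, ?_⟩
    ring

theorem pow_dvd_wronskian_of_mem (a : k) (m : ℕ) (F G s : k[X])
    (hs : s ∈ Submodule.span k ({F, G} : Set k[X])) (hs0 : s ≠ 0) (h : (X - C a) ^ m ∣ s) :
    (X - C a) ^ (m - 1) ∣ wronskian F G := by
  obtain ⟨α, β, rfl⟩ := Submodule.mem_span_pair.mp hs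
  by_cases hα : α = 0
  · have hβ : β ≠ 0 := by
      rintro rfl
      apply hs0
      simp [hα]
    have h1 := pow_dvd_wronskian_left a m _ F h
    have h2 : wronskian (α • F + β • G) F = (-β) • wronskian F G := by
      have := wr_comb α β 1 0 F G
      simpa using this
    rw [h2, smul_eq_C_mul] at h1
    exact (IsUnit.dvd_mul_left (isUnit_C.mpr (neg_ne_zero.mpr hβ).isUnit)).mp h1
  · have h1 := pow_dvd_wronskian_left a m _ G h
    have h2 : wronskian (α • F + β • G) G = α • wronskian F G := by
      have := wr_comb α β 0 1 F G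
      simpa using this
    rw [h2, smul_eq_C_mul] at h1
    exact (IsUnit.dvd_mul_left (isUnit_C.mpr (Ne.isUnit hα))).mp h1

theorem isSeparable_span_iff (F G : k[X]) :
    W4c1limliniiii.IsSeparable (Submodule.span k ({F, G} : Set k[X])) ↔ wronskian F G ≠ 0 := by
  constructor
  · rintro ⟨A, hA, B, hB, hW⟩ h0
    obtain ⟨α, β, rfl⟩ := Submodule.mem_span_pair.mp hA
    obtain ⟨γ, δ, rfl⟩ := Submodule.mem_span_pair.mp hB
    rw [wr_comb, h0, smul_zero] at hW
    exact hW rfl
  · intro h
    exact ⟨F, mem_left F G, G, mem_right F G, h⟩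

theorem range_pair (F G : k[X]) : Set.range ![F, G] = ({F, G} : Set k[X]) := by
  ext x
  constructor
  · rintro ⟨i, rfl⟩
    fin_cases i
    · exact Set.mem_insert _ _
    · exact Set.mem_insert_of_mem _ rfl
  · rintro (rfl | rfl)
    · exact ⟨0, rfl⟩
    · exact ⟨1, rfl⟩

theorem finrank_span_pair (F G : k[X]) (hli : LinearIndependent k ![F, G]) :
    Module.finrank k (Submodule.span k ({F, G} : Set k[X])) = 2 := by
  have := finrank_span_eq_card hli
  rw [range_pair] at this
  simpa using this

theorem span_pair_sub_smul (F G : k[X]) (c : k) :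
    Submodule.span k ({F, G - c • F} : Set k[X]) = Submodule.span k ({F, G} : Set k[X]) := by
  apply le_antisymm
  · rw [Submodule.span_le]
    rintro x (rfl | rfl)
    · exact mem_left _ _
    · exact Submodule.sub_mem _ (mem_right _ _) (Submodule.smul_mem _ _ (mem_left _ _))
  · rw [Submodule.span_le]
    rintro x (rfl | rfl)
    · exact mem_left _ _
    · have h := Submodule.add_mem _ (mem_right F (x - c • F))
        (Submodule.smul_mem _ c (mem_left F (x - c • F)))
      rwa [sub_add_cancel] at h

theorem span_pair_smul_smul (F G : k[X]) (α β : k) (hα : α ≠ 0) (hβ : β ≠ 0) :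
    Submodule.span k ({α • F, β • G} : Set k[X]) = Submodule.span k ({F, G} : Set k[X]) := by
  apply le_antisymm
  · rw [Submodule.span_le]
    rintro x (rfl | rfl)
    · exact Submodule.smul_mem _ _ (mem_left _ _)
    · exact Submodule.smul_mem _ _ (mem_right _ _)
  · rw [Submodule.span_le]
    rintro x (rfl | rfl)
    · have h := Submodule.smul_mem _ α⁻¹ (mem_left (α • x) (β • G))
      rwa [smul_smul, inv_mul_cancel₀ hα, one_smul] at h
    · have h := Submodule.smul_mem _ β⁻¹ (mem_right (α • F) (β • x))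
      rwa [smul_smul, inv_mul_cancel₀ hβ, one_smul] at h

theorem echelon (F G : k[X]) (hli : LinearIndependent k ![F, G]) :
    ∃ F' G' : k[X], Submodule.span k ({F', G'} : Set k[X]) = Submodule.span k ({F, G} : Set k[X]) ∧
      F' ≠ 0 ∧ G' ≠ 0 ∧ G'.natDegree < F'.natDegree := by
  wlog hle : G.natDegree ≤ F.natDegree generalizing F G
  · obtain ⟨F', G', h1, h2⟩ := this G F (LinearIndependent.pair_symm_iff.mp hli) (by omega)
    exact ⟨F', G', by rw [h1, Set.pair_comm], h2⟩
  have hF0 : F ≠ 0 := by simpa using hli.ne_zero 0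
  have hG0 : G ≠ 0 := by simpa using hli.ne_zero 1
  rcases hle.lt_or_eq with hlt | heq
  · exact ⟨F, G, rfl, hF0, hG0, hlt⟩
  · obtain ⟨c, hc⟩ : ∃ c : k, c = G.leadingCoeff / F.leadingCoeff := ⟨_, rfl⟩
    have hlF : F.leadingCoeff ≠ 0 := leadingCoeff_ne_zero.mpr hF0
    have hlG : G.leadingCoeff ≠ 0 := leadingCoeff_ne_zero.mpr hG0
    have hc0 : c ≠ 0 := by rw [hc]; exact div_ne_zero hlG hlF
    have hG' : G - c • F ≠ 0 := by
      intro h
      have h2 := (LinearIndependent.pair_iff.mp hli) (-c) 1
        (by rw [neg_smul, one_smul, neg_add_eq_sub]; exact h)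
      exact one_ne_zero h2.2
    have hd : G.degree = (c • F).degree := by
      rw [smul_eq_C_mul, degree_C_mul hc0, degree_eq_natDegree hG0, degree_eq_natDegree hF0, heq]
    have hlc : G.leadingCoeff = (c • F).leadingCoeff := by
      rw [smul_eq_C_mul, leadingCoeff_mul, leadingCoeff_C, hc, div_mul_cancel₀ _ hlF]
    have hdeg : (G - c • F).degree < F.degree := by
      have := degree_sub_lt_left hd hG0 hlc
      rwa [degree_eq_natDegree hG0, heq, ← degree_eq_natDegree hF0] at this
    exact ⟨F, G - c • F, span_pair_sub_smul F G c, hF0, hG', natDegree_lt_natDegree hG' hdeg⟩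

theorem wronskian_ne_zero_of_natDegree_lt (p : ℕ) [CharP k p] (F G : k[X]) (hG0 : G ≠ 0)
    (hlt : G.natDegree < F.natDegree) (hp : p = 0 ∨ F.natDegree < p) : wronskian F G ≠ 0 := by
  obtain ⟨m, hm⟩ : ∃ m, F.natDegree = m + 1 := ⟨F.natDegree - 1, by omega⟩
  obtain ⟨n, hn⟩ : ∃ n, n = G.natDegree := ⟨_, rfl⟩
  have hF0 : F ≠ 0 := by
    rintro rfl
    simp at hm
  have hdF : (derivative F).natDegree ≤ m := by
    have := natDegree_derivative_le F
    omega
  have h1 : (derivative F * G).coeff (m + n) = (F.coeff (m + 1) * ((m : k) + 1)) * G.coeff n := by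
    rw [coeff_mul_add_eq_of_natDegree_le hdF hn.ge, coeff_derivative]
  have h2 : (F * derivative G).coeff (m + n) = F.coeff (m + 1) * (G.coeff n * (n : k)) := by
    rcases Nat.eq_zero_or_pos n with h0 | hpos
    · have hG : derivative G = 0 := by
        have hGC := eq_C_of_natDegree_eq_zero (p := G) (by omega)
        rw [hGC, derivative_C]
      rw [hG, mul_zero, coeff_zero, h0]
      simp
    · obtain ⟨n', hn'⟩ : ∃ n', n = n' + 1 := ⟨n - 1, by omega⟩
      have hdG : (derivative G).natDegree ≤ n' := by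
        have := natDegree_derivative_le G
        omega
      have e : m + n = (m + 1) + n' := by omega
      rw [e, coeff_mul_add_eq_of_natDegree_le hm.le hdG, coeff_derivative, hn']
      push_cast
      ring
  have hW : (wronskian F G).coeff (m + n) =
      F.coeff (m + 1) * G.coeff n * ((n : k) - ((m : k) + 1)) := by
    rw [wronskian, coeff_sub, h2, h1]
    ring
  intro h0
  rw [h0, coeff_zero] at hW
  have hFc : F.coeff (m + 1) ≠ 0 := by
    rw [← hm, coeff_natDegree]
    exact leadingCoeff_ne_zero.mpr hF0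
  have hGc : G.coeff n ≠ 0 := by
    rw [hn, coeff_natDegree]
    exact leadingCoeff_ne_zero.mpr hG0
  have hz : (n : k) - ((m : k) + 1) = 0 := by
    rcases mul_eq_zero.mp hW.symm with h | h
    · rcases mul_eq_zero.mp h with h | h
      · exact absurd h hFc
      · exact absurd h hGc
    · exact h
  have hcast : ((m + 1 - n : ℕ) : k) = 0 := by
    rw [Nat.cast_sub (by omega)]
    push_cast
    rw [← neg_sub, hz, neg_zero]
  have hdvd := (CharP.cast_eq_zero_iff k p (m + 1 - n)).mp hcast
  rcases hp with hp0 | hp1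
  · rw [hp0, zero_dvd_iff] at hdvd
    omega
  · have := Nat.le_of_dvd (by omega) hdvd
    omega

theorem isCoprime_pow_X_sub_C {a b : k} (hab : a ≠ b) (m n : ℕ) :
    IsCoprime ((X - C a) ^ m) ((X - C b) ^ n) :=
  (isCoprime_X_sub_C_of_isUnit_sub (sub_ne_zero.mpr hab).isUnit).pow

theorem natDegree_X_sub_C_pow' (a : k) (n : ℕ) : ((X - C a) ^ n).natDegree = n := by
  rw [(monic_X_sub_C a).natDegree_pow, natDegree_X_sub_C, mul_one]

theorem finrank_degreeLE (d : ℕ) : Module.finrank k (degreeLE k (d : WithBot ℕ)) = d + 1 := by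
  rw [← degreeLT_succ_eq_degreeLE, (degreeLTEquiv k (d + 1)).finrank_eq, Module.finrank_fin_fun]

theorem finite_degreeLE (d : ℕ) : FiniteDimensional k (degreeLE k (d : WithBot ℕ)) := by
  rw [← degreeLT_succ_eq_degreeLE]
  exact Module.Finite.equiv (degreeLTEquiv k (d + 1)).symm

end Groth.Agent.Helper6.Pencil
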