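import Groth.Agent.Helper6.Pencil1

set_option autoImplicit false
set_option linter.style.haveILetI false
set_option linter.unusedSectionVars false

namespace Groth.Agent.Helper6.Pencil

open Polynomial

variable {k : Type*} [Field k]

section three

variable (d : ℕ) (P : Fin 3 → k) (e : Fin 3 → ℕ)

/-- `q i = (X - P i)^(e i)` -/
noncomputable def q (i : Fin 3) : k[X] := (X - C (P i)) ^ (e i)

/-- polynomials of degree `≤ d` divisible by `q i` -/
noncomputable def A (i : Fin 3) : Submodule k k[X] :=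
  degreeLE k (d : WithBot ℕ) ⊓ (Ideal.span ({q P e i} : Set k[X])).restrictScalars k

theorem mem_A {i : Fin 3} {s : k[X]} : s ∈ A d P e i ↔ s.natDegree ≤ d ∧ q P e i ∣ s := by
  simp only [A, Submodule.mem_inf, mem_degreeLE, Submodule.restrictScalars_mem,
    Ideal.mem_span_singleton]
  rw [natDegree_le_iff_degree_le]

theorem natDegree_q (i : Fin 3) : (q P e i).natDegree = e i := natDegree_X_sub_C_pow' _ _

theorem q_ne_zero (i : Fin 3) : q P e i ≠ 0 := pow_ne_zero _ (X_sub_C_ne_zero _)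

theorem q_monic (i : Fin 3) : (q P e i).Monic := (monic_X_sub_C _).pow _

theorem coprime_q (hP : Function.Injective P) {i j : Fin 3} (hij : i ≠ j) :
    IsCoprime (q P e i) (q P e j) := isCoprime_pow_X_sub_C (hP.ne hij) _ _

theorem two_sum (hsum : e 0 + e 1 + e 2 = 2 * d + 1) (hle : ∀ i, e i ≤ d) {i j : Fin 3}
    (hij : i ≠ j) : d + 1 ≤ e i + e j := by
  have h0 := hle 0
  have h1 := hle 1
  have h2 := hle 2
  fin_cases i <;> fin_cases j <;> simp at hij ⊢ <;> omega

theorem A_inf_eq_zero (hP : Function.Injective P) (hsum : e 0 + e 1 + e 2 = 2 * d + 1)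
    (hle : ∀ i, e i ≤ d) {i j : Fin 3} (hij : i ≠ j) {s : k[X]} (hi : s ∈ A d P e i)
    (hj : s ∈ A d P e j) : s = 0 := by
  by_contra hs
  rw [mem_A] at hi hj
  have hdvd : q P e i * q P e j ∣ s := IsCoprime.mul_dvd (coprime_q P e hP hij) hi.2 hj.2
  have hdeg := natDegree_le_of_dvd hdvd hs
  rw [natDegree_mul (q_ne_zero P e i) (q_ne_zero P e j), natDegree_q, natDegree_q] at hdeg
  have := two_sum d e hsum hle hij
  omega

theorem li_of_mem (hP : Function.Injective P) (hsum : e 0 + e 1 + e 2 = 2 * d + 1)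
    (hle : ∀ i, e i ≤ d) {i j : Fin 3} (hij : i ≠ j) {a b : k[X]} (ha : a ∈ A d P e i)
    (hb : b ∈ A d P e j) (ha0 : a ≠ 0) (hb0 : b ≠ 0) : LinearIndependent k ![a, b] := by
  rw [LinearIndependent.pair_iff]
  intro s t hst
  have hs : s = 0 := by
    by_contra hs
    have h1 : s • a = -(t • b) := eq_neg_of_add_eq_zero_left hst
    have h2 : a = (-(s⁻¹ * t)) • b := by
      calc a = s⁻¹ • (s • a) := by rw [smul_smul, inv_mul_cancel₀ hs, one_smul]
        _ = (-(s⁻¹ * t)) • b := by rw [h1, smul_neg, smul_smul, neg_smul]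
    have haj : a ∈ A d P e j := by
      rw [h2]
      exact Submodule.smul_mem _ _ hb
    exact ha0 (A_inf_eq_zero d P e hP hsum hle hij ha haj)
  refine ⟨hs, ?_⟩
  rw [hs, zero_smul, zero_add] at hst
  exact (smul_eq_zero.mp hst).resolve_right hb0

theorem finite_A (i : Fin 3) : FiniteDimensional k (A d P e i) :=
  haveI := finite_degreeLE (k := k) d
  Submodule.finiteDimensional_of_le (inf_le_left : A d P e i ≤ degreeLE k (d : WithBot ℕ))

theorem finrank_A_ge (hle : ∀ i, e i ≤ d) (i : Fin 3) :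
    d + 1 - e i ≤ Module.finrank k (A d P e i) := by
  haveI := finite_A d P e i
  let f : degreeLE k ((d - e i : ℕ) : WithBot ℕ) →ₗ[k] A d P e i :=
    LinearMap.codRestrict (A d P e i)
      ((LinearMap.mulLeft k (q P e i)).comp (degreeLE k ((d - e i : ℕ) : WithBot ℕ)).subtype)
      (fun t => by
        show q P e i * t.1 ∈ A d P e i
        rw [mem_A]
        refine ⟨?_, ⟨t.1, rfl⟩⟩
        have ht : (t.1).natDegree ≤ d - e i :=
          natDegree_le_iff_degree_le.mpr (mem_degreeLE.mp t.2)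
        have h1 : (q P e i * t.1).natDegree ≤ (q P e i).natDegree + (t.1).natDegree :=
          natDegree_mul_le
        rw [natDegree_q] at h1
        have := hle i
        omega)
  have hf : Function.Injective f := by
    intro t t' h
    have h' : q P e i * t.1 = q P e i * t'.1 := congrArg Subtype.val h
    exact Subtype.ext (mul_left_cancel₀ (q_ne_zero P e i) h')
  have h3 := LinearMap.finrank_le_finrank_of_injective hf
  rw [finrank_degreeLE] at h3
  have := hle i
  omega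

theorem exists_rel (hP : Function.Injective P) (hsum : e 0 + e 1 + e 2 = 2 * d + 1)
    (hle : ∀ i, e i ≤ d) :
    ∃ a b : k[X], a ∈ A d P e 0 ∧ b ∈ A d P e 1 ∧ a + b ∈ A d P e 2 ∧ a + b ≠ 0 := by
  haveI := finite_degreeLE (k := k) d
  haveI i0 := finite_A d P e 0
  haveI i1 := finite_A d P e 1
  haveI i2 := finite_A d P e 2
  have hinf : A d P e 0 ⊓ A d P e 1 = ⊥ := by
    rw [eq_bot_iff]
    intro s hs
    rw [Submodule.mem_bot]
    exact A_inf_eq_zero d P e hP hsum hle (by decide : (0 : Fin 3) ≠ 1) hs.1 hs.2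
  have h1 := Submodule.finrank_sup_add_finrank_inf_eq (A d P e 0) (A d P e 1)
  rw [hinf, finrank_bot, add_zero] at h1
  have h2 := Submodule.finrank_sup_add_finrank_inf_eq (A d P e 0 ⊔ A d P e 1) (A d P e 2)
  have h3 : Module.finrank k ↥((A d P e 0 ⊔ A d P e 1) ⊔ A d P e 2) ≤ d + 1 := by
    rw [← finrank_degreeLE (k := k) d]
    exact Submodule.finrank_mono (sup_le (sup_le inf_le_left inf_le_left) inf_le_left)
  have g0 := finrank_A_ge d P e hle 0
  have g1 := finrank_A_ge d P e hle 1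
  have g2 := finrank_A_ge d P e hle 2
  have l0 := hle 0
  have l1 := hle 1
  have l2 := hle 2
  have hpos : 0 < Module.finrank k ↥((A d P e 0 ⊔ A d P e 1) ⊓ A d P e 2) := by omega
  obtain ⟨c, hc⟩ := Module.finrank_pos_iff_exists_ne_zero.mp hpos
  obtain ⟨a, ha, b, hb, hab⟩ := Submodule.mem_sup.mp c.2.1
  refine ⟨a, b, ha, hb, ?_, ?_⟩
  · rw [hab]
    exact c.2.2
  · rw [hab]
    intro h
    exact hc (Subtype.ext h)

theorem good_of_rel (hP : Function.Injective P) (hsum : e 0 + e 1 + e 2 = 2 * d + 1)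
    (hle : ∀ i, e i ≤ d) {a b : k[X]} (ha : a ∈ A d P e 0) (hb : b ∈ A d P e 1)
    (hab : a + b ∈ A d P e 2) (hne : a ≠ 0 ∨ b ≠ 0) :
    a ≠ 0 ∧ b ≠ 0 ∧ a + b ≠ 0 ∧ LinearIndependent k ![a, b] := by
  have ha0 : a ≠ 0 := by
    rintro rfl
    rw [zero_add] at hab
    have := A_inf_eq_zero d P e hP hsum hle (by decide : (1 : Fin 3) ≠ 2) hb hab
    rcases hne with h | h
    · exact h rfl
    · exact h this
  have hb0 : b ≠ 0 := by
    rintro rfl
    rw [add_zero] at hab
    exact ha0 (A_inf_eq_zero d P e hP hsum hle (by decide : (0 : Fin 3) ≠ 2) ha hab)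
  have hli := li_of_mem d P e hP hsum hle (by decide : (0 : Fin 3) ≠ 1) ha hb ha0 hb0
  refine ⟨ha0, hb0, ?_, hli⟩
  intro h
  have := (LinearIndependent.pair_iff.mp hli) 1 1 (by rw [one_smul, one_smul]; exact h)
  exact one_ne_zero this.1

theorem props_of_rel (hP : Function.Injective P) (hsum : e 0 + e 1 + e 2 = 2 * d + 1)
    (hle : ∀ i, e i ≤ d) {a b : k[X]} (ha : a ∈ A d P e 0) (hb : b ∈ A d P e 1)
    (hab : a + b ∈ A d P e 2) (hne : a ≠ 0 ∨ b ≠ 0) :
    Submodule.span k ({a, b} : Set k[X]) ≤ degreeLE k (d : WithBot ℕ) ∧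
      Module.finrank k (Submodule.span k ({a, b} : Set k[X])) = 2 ∧
      ∀ i, ∃ s ∈ Submodule.span k ({a, b} : Set k[X]), s ≠ 0 ∧
        e i ≤ rootMultiplicity (P i) s := by
  obtain ⟨ha0, hb0, hab0, hli⟩ := good_of_rel d P e hP hsum hle ha hb hab hne
  refine ⟨?_, finrank_span_pair a b hli, ?_⟩
  · rw [Submodule.span_le]
    rintro x (rfl | rfl)
    · exact (Submodule.mem_inf.mp ha).1
    · exact (Submodule.mem_inf.mp hb).1
  · intro i
    match i with
    | 0 =>
      exact ⟨a, mem_left a b, ha0, (le_rootMultiplicity_iff ha0).mpr ((mem_A d P e).mp ha).2⟩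
    | 1 =>
      exact ⟨b, mem_right a b, hb0, (le_rootMultiplicity_iff hb0).mpr ((mem_A d P e).mp hb).2⟩
    | 2 =>
      exact ⟨a + b, Submodule.add_mem _ (mem_left a b) (mem_right a b), hab0,
        (le_rootMultiplicity_iff hab0).mpr ((mem_A d P e).mp hab).2⟩

theorem exists_normal (hP : Function.Injective P) (hsum : e 0 + e 1 + e 2 = 2 * d + 1)
    (hle : ∀ i, e i ≤ d) (V : Submodule k k[X]) (hV : V ≤ degreeLE k (d : WithBot ℕ))
    (hfin : Module.finrank k V = 2)
    (hvan : ∀ i, ∃ s ∈ V, s ≠ 0 ∧ e i ≤ rootMultiplicity (P i) s) :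
    ∃ a b : k[X], a ∈ A d P e 0 ∧ b ∈ A d P e 1 ∧ a + b ∈ A d P e 2 ∧ a ≠ 0 ∧ b ≠ 0 ∧
      Submodule.span k ({a, b} : Set k[X]) = V := by
  obtain ⟨s0, hs0V, hs0, h0⟩ := hvan 0
  obtain ⟨s1, hs1V, hs1, h1⟩ := hvan 1
  obtain ⟨s2, hs2V, hs2, h2⟩ := hvan 2
  have m0 : s0 ∈ A d P e 0 := (mem_A d P e).mpr
    ⟨natDegree_le_iff_degree_le.mpr (mem_degreeLE.mp (hV hs0V)), (le_rootMultiplicity_iff hs0).mp h0⟩
  have m1 : s1 ∈ A d P e 1 := (mem_A d P e).mpr
    ⟨natDegree_le_iff_degree_le.mpr (mem_degreeLE.mp (hV hs1V)), (le_rootMultiplicity_iff hs1).mp h1⟩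
  have m2 : s2 ∈ A d P e 2 := (mem_A d P e).mpr
    ⟨natDegree_le_iff_degree_le.mpr (mem_degreeLE.mp (hV hs2V)), (le_rootMultiplicity_iff hs2).mp h2⟩
  have hli := li_of_mem d P e hP hsum hle (by decide : (0 : Fin 3) ≠ 1) m0 m1 hs0 hs1
  haveI : FiniteDimensional k V := Module.finite_of_finrank_pos (by rw [hfin]; norm_num)
  have hspan : Submodule.span k ({s0, s1} : Set k[X]) = V := by
    apply Submodule.eq_of_le_of_finrank_eq
    · rw [Submodule.span_le]
      rintro x (rfl | rfl)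
      · exact hs0V
      · exact hs1V
    · rw [finrank_span_pair s0 s1 hli, hfin]
  have hs2' : s2 ∈ Submodule.span k ({s0, s1} : Set k[X]) := by
    rw [hspan]
    exact hs2V
  obtain ⟨α, β, hαβ⟩ := Submodule.mem_span_pair.mp hs2'
  have hα : α ≠ 0 := by
    rintro rfl
    rw [zero_smul, zero_add] at hαβ
    have h21 : s2 ∈ A d P e 1 := by
      rw [← hαβ]
      exact Submodule.smul_mem _ _ m1
    exact hs2 (A_inf_eq_zero d P e hP hsum hle (by decide : (1 : Fin 3) ≠ 2) h21 m2)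
  have hβ : β ≠ 0 := by
    rintro rfl
    rw [zero_smul, add_zero] at hαβ
    have h20 : s2 ∈ A d P e 0 := by
      rw [← hαβ]
      exact Submodule.smul_mem _ _ m0
    exact hs2 (A_inf_eq_zero d P e hP hsum hle (by decide : (0 : Fin 3) ≠ 2) h20 m2)
  refine ⟨α • s0, β • s1, Submodule.smul_mem _ _ m0, Submodule.smul_mem _ _ m1, ?_,
    smul_ne_zero hα hs0, smul_ne_zero hβ hs1, ?_⟩
  · rw [hαβ]
    exact m2
  · rw [span_pair_smul_smul s0 s1 α β hα hβ, hspan]

theorem cross (hP : Function.Injective P) (hsum : e 0 + e 1 + e 2 = 2 * d + 1)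
    {a b a' b' : k[X]} (ha : a ∈ A d P e 0) (hb : b ∈ A d P e 1) (hab : a + b ∈ A d P e 2)
    (ha' : a' ∈ A d P e 0) (hb' : b' ∈ A d P e 1) (hab' : a' + b' ∈ A d P e 2) :
    a * b' = a' * b := by
  have hT : a * b' - a' * b = 0 := by
    apply eq_zero_of_dvd_of_natDegree_lt (p := ∏ i, q P e i)
    · apply Fintype.prod_dvd_of_coprime
      · intro i j hij
        exact coprime_q P e hP hij
      · intro i
        match i with
        | 0 =>
          exact dvd_sub (Dvd.dvd.mul_right ((mem_A d P e).mp ha).2 _)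
            (Dvd.dvd.mul_right ((mem_A d P e).mp ha').2 _)
        | 1 =>
          exact dvd_sub (Dvd.dvd.mul_left ((mem_A d P e).mp hb').2 _)
            (Dvd.dvd.mul_left ((mem_A d P e).mp hb).2 _)
        | 2 =>
          have h : a * b' - a' * b = (a + b) * b' - (a' + b') * b := by ring
          rw [h]
          exact dvd_sub (Dvd.dvd.mul_right ((mem_A d P e).mp hab).2 _)
            (Dvd.dvd.mul_right ((mem_A d P e).mp hab').2 _)
    · rw [natDegree_prod_of_monic _ _ (fun i _ => q_monic P e i)]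
      simp only [natDegree_q, Fin.sum_univ_three]
      have h := natDegree_sub_le_of_le
        (natDegree_mul_le_of_le ((mem_A d P e).mp ha).1 ((mem_A d P e).mp hb').1)
        (natDegree_mul_le_of_le ((mem_A d P e).mp ha').1 ((mem_A d P e).mp hb).1)
      rw [max_self] at h
      omega
  exact sub_eq_zero.mp hT

theorem factor_of_coprime (hP : Function.Injective P) (hsum : e 0 + e 1 + e 2 = 2 * d + 1)
    {a b a' b' : k[X]} (ha : a ∈ A d P e 0) (hb : b ∈ A d P e 1) (hab : a + b ∈ A d P e 2)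
    (ha' : a' ∈ A d P e 0) (hb' : b' ∈ A d P e 1) (hab' : a' + b' ∈ A d P e 2)
    (ha'0 : a' ≠ 0) (hco : IsCoprime a' b') : ∃ h : k[X], a = h * a' ∧ b = h * b' := by
  have hx := cross d P e hP hsum ha hb hab ha' hb' hab'
  have hdvd : a' ∣ a := by
    apply hco.dvd_of_dvd_mul_right
    rw [hx]
    exact dvd_mul_right _ _
  obtain ⟨h, hh⟩ := hdvd
  refine ⟨h, by rw [hh, mul_comm], ?_⟩
  have h3 : a' * (h * b') = a' * b := by
    rw [← hx, hh]
    ring
  exact (mul_left_cancel₀ ha'0 h3).symm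

theorem coprime_of_bpf [IsAlgClosed k] (a b : k[X])
    (hbpf : ∀ x : k, ∃ s ∈ Submodule.span k ({a, b} : Set k[X]), s.eval x ≠ 0) :
    IsCoprime a b := by
  rw [isCoprime_iff_aeval_ne_zero_of_isAlgClosed k k a b]
  intro x
  by_contra hcon
  push_neg at hcon
  obtain ⟨s, hs, hsx⟩ := hbpf x
  obtain ⟨α, β, rfl⟩ := Submodule.mem_span_pair.mp hs
  apply hsx
  have h1 : a.eval x = 0 := by
    have := hcon.1
    rwa [coe_aeval_eq_eval] at this
  have h2 : b.eval x = 0 := by
    have := hcon.2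
    rwa [coe_aeval_eq_eval] at this
  simp [eval_add, eval_smul, h1, h2]

theorem not_pow_dvd_prod (hP : Function.Injective P) (h1 : ∀ i, 1 ≤ e i) (i : Fin 3) :
    ¬ (X - C (P i)) ^ (e i) ∣ ∏ j, (X - C (P j)) ^ (e j - 1) := by
  intro h
  rw [← Finset.mul_prod_erase Finset.univ _ (Finset.mem_univ i)] at h
  obtain ⟨m, hm⟩ : ∃ m, e i = m + 1 := ⟨e i - 1, by have := h1 i; omega⟩
  rw [hm] at h
  simp only [Nat.add_sub_cancel] at h
  rw [pow_succ] at h
  have h' := (mul_dvd_mul_iff_left (pow_ne_zero m (X_sub_C_ne_zero (P i)))).mp h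
  rw [dvd_iff_isRoot, IsRoot.def, eval_prod] at h'
  obtain ⟨j, hj, hj0⟩ := Finset.prod_eq_zero_iff.mp h'
  simp only [eval_pow, eval_sub, eval_X, eval_C] at hj0
  have h3 := eq_zero_of_pow_eq_zero hj0
  have h4 : i = j := hP (sub_eq_zero.mp h3)
  exact (Finset.ne_of_mem_erase hj) h4.symm

theorem exists_eq_of_dvd_prod (x : k) (h : (X - C x) ∣ ∏ j, (X - C (P j)) ^ (e j - 1)) :
    ∃ i, x = P i := by
  rw [dvd_iff_isRoot, IsRoot.def, eval_prod] at h
  obtain ⟨j, _, hj0⟩ := Finset.prod_eq_zero_iff.mp h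
  simp only [eval_pow, eval_sub, eval_X, eval_C] at hj0
  exact ⟨j, sub_eq_zero.mp (eq_zero_of_pow_eq_zero hj0)⟩

theorem mem_ramMaps_of_rel (hP : Function.Injective P) (hsum : e 0 + e 1 + e 2 = 2 * d + 1)
    (hle : ∀ i, e i ≤ d) (h2 : ∀ i, 2 ≤ e i) {a b : k[X]} (ha : a ∈ A d P e 0)
    (hb : b ∈ A d P e 1) (hab : a + b ∈ A d P e 2) (hne : a ≠ 0 ∨ b ≠ 0)
    (hsep : W4c1limliniiii.IsSeparable (Submodule.span k ({a, b} : Set k[X]))) :
    Submodule.span k ({a, b} : Set k[X]) ∈ W4c1limliniiii.ramMaps d P e := by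
  obtain ⟨ha0, hb0, hab0, hli⟩ := good_of_rel d P e hP hsum hle ha hb hab hne
  obtain ⟨hVle, hVfin, hVvan⟩ := props_of_rel d P e hP hsum hle ha hb hab hne
  obtain ⟨F, G, hspan, hF0, hG0, hlt⟩ := echelon a b hli
  have hW : wronskian F G ≠ 0 := by
    rw [← isSeparable_span_iff, hspan]
    exact hsep
  have hFV : F ∈ Submodule.span k ({a, b} : Set k[X]) := by
    rw [← hspan]
    exact mem_left F G
  have hGV : G ∈ Submodule.span k ({a, b} : Set k[X]) := by
    rw [← hspan]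
    exact mem_right F G
  have hFd : F.natDegree ≤ d := natDegree_le_iff_degree_le.mpr (mem_degreeLE.mp (hVle hFV))
  have hGd : G.natDegree ≤ d := natDegree_le_iff_degree_le.mpr (mem_degreeLE.mp (hVle hGV))
  have hvan' : ∀ i, ∃ s ∈ Submodule.span k ({F, G} : Set k[X]), s ≠ 0 ∧
      (X - C (P i)) ^ (e i) ∣ s := by
    intro i
    obtain ⟨s, hs, hs0, hm⟩ := hVvan i
    refine ⟨s, ?_, hs0, (le_rootMultiplicity_iff hs0).mp hm⟩
    rw [hspan]
    exact hs
  have hr : ∀ i, (X - C (P i)) ^ (e i - 1) ∣ wronskian F G := by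
    intro i
    obtain ⟨s, hs, hs0, hq⟩ := hvan' i
    exact pow_dvd_wronskian_of_mem (P i) (e i) F G s hs hs0 hq
  have hPi : ∏ i, (X - C (P i)) ^ (e i - 1) ∣ wronskian F G :=
    Fintype.prod_dvd_of_coprime (fun i j hij => isCoprime_pow_X_sub_C (hP.ne hij) _ _) hr
  have hPideg : (∏ i, (X - C (P i)) ^ (e i - 1)).natDegree = 2 * d - 2 := by
    rw [natDegree_prod_of_monic _ _ (fun i _ => (monic_X_sub_C _).pow _)]
    simp only [natDegree_X_sub_C_pow', Fin.sum_univ_three]
    have := h2 0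
    have := h2 1
    have := h2 2
    omega
  have hWdeg : (wronskian F G).natDegree < F.natDegree + G.natDegree :=
    natDegree_wronskian_lt_add hW
  obtain ⟨u, hu⟩ := hPi
  have hPi0 : ∏ i, (X - C (P i)) ^ (e i - 1) ≠ 0 :=
    Finset.prod_ne_zero_iff.mpr (fun i _ => pow_ne_zero _ (X_sub_C_ne_zero _))
  have hu0 : u ≠ 0 := by
    rintro rfl
    rw [mul_zero] at hu
    exact hW hu
  have hdegsum : (wronskian F G).natDegree =
      (∏ i, (X - C (P i)) ^ (e i - 1)).natDegree + u.natDegree := by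
    rw [hu, natDegree_mul hPi0 hu0]
  have hd2 : 2 ≤ d := le_trans (h2 0) (hle 0)
  have hu_deg : u.natDegree = 0 := by omega
  have hFdeg : F.natDegree = d := by omega
  have hunit : IsUnit u := by
    rw [eq_C_of_natDegree_eq_zero hu_deg]
    refine isUnit_C.mpr (Ne.isUnit ?_)
    intro h
    apply hu0
    rw [eq_C_of_natDegree_eq_zero hu_deg, h, C_0]
  have htr : ∀ g : k[X], g ∣ wronskian F G → g ∣ ∏ i, (X - C (P i)) ^ (e i - 1) := by
    intro g hg
    rw [hu] at hg
    exact (IsUnit.dvd_mul_right hunit).mp hg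
  have h1 : ∀ i, 1 ≤ e i := fun i => le_trans (by norm_num) (h2 i)
  refine ⟨⟨hVle, hVfin, ⟨F, hFV, hFdeg⟩, ?_⟩, hsep, ?_⟩
  · intro x
    by_contra hall
    push_neg at hall
    have hFx : F.eval x = 0 := hall F hFV
    have hGx : G.eval x = 0 := hall G hGV
    obtain ⟨F₁, hF₁⟩ := dvd_iff_isRoot.mpr hFx
    obtain ⟨G₁, hG₁⟩ := dvd_iff_isRoot.mpr hGx
    have hW2 : wronskian F G = (X - C x) ^ 2 * wronskian F₁ G₁ := by
      rw [hF₁, hG₁, wr_mul]
    obtain ⟨i, hxi⟩ := exists_eq_of_dvd_prod P e x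
      (htr _ ⟨(X - C x) * wronskian F₁ G₁, by rw [hW2]; ring⟩)
    obtain ⟨s, hs, hs0, hq⟩ := hvan' i
    obtain ⟨α, β, rfl⟩ := Submodule.mem_span_pair.mp hs
    have hst : α • F + β • G = (X - C x) * (α • F₁ + β • G₁) := by
      rw [hF₁, hG₁]
      simp only [smul_eq_C_mul]
      ring
    have ht0 : α • F₁ + β • G₁ ≠ 0 := by
      intro h
      rw [hst, h, mul_zero] at hs0
      exact hs0 rfl
    obtain ⟨m, hm⟩ : ∃ m, e i = m + 2 := ⟨e i - 2, by have := h2 i; omega⟩
    rw [← hxi] at hq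
    have hq' : (X - C x) ^ (m + 1) ∣ α • F₁ + β • G₁ := by
      have h5 : (X - C x) * (X - C x) ^ (m + 1) ∣ (X - C x) * (α • F₁ + β • G₁) := by
        rw [← hst, ← pow_succ']
        rw [hm] at hq
        exact hq
      exact (mul_dvd_mul_iff_left (X_sub_C_ne_zero x)).mp h5
    have h3 := pow_dvd_wronskian_of_mem x (m + 1) F₁ G₁ _
      (Submodule.mem_span_pair.mpr ⟨α, β, rfl⟩) ht0 hq'
    simp only [Nat.add_sub_cancel] at h3
    apply not_pow_dvd_prod P e hP h1 i
    apply htr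
    rw [hW2, ← hxi, hm, pow_add, mul_comm ((X - C x) ^ m)]
    exact mul_dvd_mul_left _ h3
  · intro i
    refine ⟨hVvan i, ?_⟩
    intro s hs hs0
    by_contra hlt'
    push_neg at hlt'
    have hd : (X - C (P i)) ^ (e i + 1) ∣ s := (le_rootMultiplicity_iff hs0).mp hlt'
    have hs' : s ∈ Submodule.span k ({F, G} : Set k[X]) := by
      rw [hspan]
      exact hs
    have h3 := pow_dvd_wronskian_of_mem (P i) (e i + 1) F G s hs' hs0 hd
    simp only [Nat.add_sub_cancel] at h3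
    exact not_pow_dvd_prod P e hP h1 i (htr _ h3)

end three

end Groth.Agent.Helper6.Pencil
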