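import Groth.Agent.Helper6.Pencil3

set_option autoImplicit false
set_option linter.style.haveILetI false
set_option linter.unusedSectionVars false

namespace Groth.Agent.Helper6.Pencil

open Polynomial

variable {k : Type*} [Field k]

theorem adm_data (p d : ℕ) (e : Fin 3 → ℕ) (he : W4c1limliniiii.Admissible p d e) :
    e 0 + e 1 + e 2 = 2 * d + 1 ∧ (∀ i, e i ≤ d) ∧ (∀ i, 2 ≤ e i) := by
  obtain ⟨h1, h2⟩ := he
  rw [Fin.sum_univ_three] at h2
  exact ⟨by omega, fun i => (h1 i).2.1, fun i => (h1 i).1⟩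

theorem factor_of_mem_ramMaps [IsAlgClosed k] (d : ℕ) (P : Fin 3 → k) (e : Fin 3 → ℕ)
    (hP : Function.Injective P) (hsum : e 0 + e 1 + e 2 = 2 * d + 1) (hle : ∀ i, e i ≤ d)
    (V : Submodule k k[X]) (hV : V ≤ degreeLE k (d : WithBot ℕ)) (hfin : Module.finrank k V = 2)
    (hvan : ∀ i, ∃ s ∈ V, s ≠ 0 ∧ e i ≤ rootMultiplicity (P i) s)
    (V' : Submodule k k[X]) (hV' : V' ∈ W4c1limliniiii.ramMaps d P e) :
    ∃ h a' b' : k[X], h ≠ 0 ∧ V' = Submodule.span k ({a', b'} : Set k[X]) ∧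
      V = Submodule.span k ({h * a', h * b'} : Set k[X]) := by
  obtain ⟨a, b, ha, hb, hab, ha0, hb0, hspan⟩ := exists_normal d P e hP hsum hle V hV hfin hvan
  obtain ⟨⟨hV'le, hV'fin, _, hbpf⟩, hsep', hram⟩ := hV'
  obtain ⟨a', b', ha', hb', hab', ha'0, hb'0, hspan'⟩ :=
    exists_normal d P e hP hsum hle V' hV'le hV'fin (fun i => (hram i).1)
  have hco : IsCoprime a' b' := coprime_of_bpf a' b' (by rw [hspan']; exact hbpf)
  obtain ⟨h, h1, h2⟩ := factor_of_coprime d P e hP hsum ha hb hab ha' hb' hab' ha'0 hco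
  refine ⟨h, a', b', ?_, hspan'.symm, ?_⟩
  · rintro rfl
    rw [zero_mul] at h1
    exact ha0 h1
  · rw [← hspan, h1, h2]

theorem s13918 [IsAlgClosed k] (p : ℕ) (d : ℕ) (P : Fin 3 → k) (hP : Function.Injective P)
    (e : Fin 3 → ℕ) (he : W4c1limliniiii.Admissible p d e) :
    (W4c1limliniiii.ramMaps d P e).Subsingleton ∧
      (W4c1limliniiii.ramMaps d P e = ∅ ↔
        ∃ V : Submodule k k[X], V ≤ Polynomial.degreeLE k d ∧ Module.finrank k V = 2 ∧
          ¬ W4c1limliniiii.IsSeparable V ∧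
          ∀ i, ∃ s ∈ V, s ≠ 0 ∧ e i ≤ Polynomial.rootMultiplicity (P i) s) := by
  obtain ⟨hsum, hle, h2⟩ := adm_data p d e he
  have hd2 : 2 ≤ d := le_trans (h2 0) (hle 0)
  refine ⟨?_, ?_, ?_⟩
  · intro V hV V' hV'
    have hVg := hV
    obtain ⟨⟨hVle, hVfin, _, _⟩, _, hram⟩ := hVg
    obtain ⟨h, a', b', hh0, hV'eq, hVeq⟩ := factor_of_mem_ramMaps d P e hP hsum hle V hVle hVfin
      (fun i => (hram i).1) V' hV'
    obtain ⟨s', hs'V', hs'deg⟩ := hV'.1.2.2.1
    have hs'0 : s' ≠ 0 := by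
      rintro rfl
      rw [natDegree_zero] at hs'deg
      omega
    rw [hV'eq] at hs'V'
    obtain ⟨α, β, rfl⟩ := Submodule.mem_span_pair.mp hs'V'
    have hmem : h * (α • a' + β • b') ∈ V := by
      rw [hVeq]
      refine Submodule.mem_span_pair.mpr ⟨α, β, ?_⟩
      simp only [smul_eq_C_mul]
      ring
    have hdeg := natDegree_le_iff_degree_le.mpr (mem_degreeLE.mp (hVle hmem))
    rw [natDegree_mul hh0 hs'0, hs'deg] at hdeg
    have hh : h.natDegree = 0 := by omega
    obtain ⟨c, rfl⟩ : ∃ c, h = C c := ⟨_, eq_C_of_natDegree_eq_zero hh⟩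
    have hc0 : c ≠ 0 := by
      rintro rfl
      exact hh0 C_0
    rw [hVeq, hV'eq, ← smul_eq_C_mul, ← smul_eq_C_mul]
    exact span_pair_smul_smul a' b' _ _ hc0 hc0
  · intro hempty
    obtain ⟨a, b, ha, hb, hab, hab0⟩ := exists_rel d P e hP hsum hle
    have hne : a ≠ 0 ∨ b ≠ 0 := by
      by_contra hcon
      push_neg at hcon
      apply hab0
      rw [hcon.1, hcon.2, add_zero]
    obtain ⟨p1, p2, p3⟩ := props_of_rel d P e hP hsum hle ha hb hab hne
    refine ⟨Submodule.span k {a, b}, p1, p2, ?_, p3⟩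
    intro hsep
    have h3 := mem_ramMaps_of_rel d P e hP hsum hle h2 ha hb hab hne hsep
    rw [hempty] at h3
    exact (Set.mem_empty_iff_false _).mp h3
  · rintro ⟨V, hVle, hVfin, hnsep, hvan⟩
    rw [Set.eq_empty_iff_forall_notMem]
    intro V' hV'
    obtain ⟨h, a', b', hh0, hV'eq, hVeq⟩ := factor_of_mem_ramMaps d P e hP hsum hle V hVle hVfin
      hvan V' hV'
    apply hnsep
    rw [hVeq, isSeparable_span_iff, wr_mul]
    have hs' := hV'.2.1
    rw [hV'eq, isSeparable_span_iff] at hs'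
    exact mul_ne_zero (pow_ne_zero 2 hh0) hs'

theorem s13919 [IsAlgClosed k] (p : ℕ) [CharP k p] (d : ℕ) (P : Fin 3 → k)
    (hP : Function.Injective P) (e : Fin 3 → ℕ) (he : W4c1limliniiii.Admissible p d e) :
    (p ≠ 0 → e 0 < p → e 1 < p → p ≤ d → W4c1limliniiii.ramMaps d P e = ∅) ∧
      (p = 0 ∨ d < p → ∃ V : Submodule k k[X], W4c1limliniiii.ramMaps d P e = {V}) := by
  obtain ⟨hsum, hle, h2⟩ := adm_data p d e he
  have hmain := s13918 p d P hP e he
  constructor
  · intro hp0 h0 h1 hpd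
    rw [hmain.2]
    haveI : Fact p.Prime := ⟨(CharP.char_is_prime_or_zero k p).resolve_right hp0⟩
    obtain ⟨h, hh⟩ : ∃ h : k[X], h = (X - C (P 2)) ^ (e 2 - p) := ⟨_, rfl⟩
    have hh0 : h ≠ 0 := by
      rw [hh]
      exact pow_ne_zero _ (X_sub_C_ne_zero _)
    have hhdeg : h.natDegree = e 2 - p := by
      rw [hh]
      exact natDegree_X_sub_C_pow' _ _
    have hl2 := hle 2
    refine ⟨Submodule.span k {h * X ^ p, h}, ?_, ?_, ?_, ?_⟩
    · rw [Submodule.span_le, Set.insert_subset_iff, Set.singleton_subset_iff]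
      constructor
      · apply mem_degreeLE.mpr
        apply degree_le_of_natDegree_le
        rw [natDegree_mul hh0 (pow_ne_zero _ X_ne_zero), natDegree_X_pow, hhdeg]
        omega
      · apply mem_degreeLE.mpr
        apply degree_le_of_natDegree_le
        rw [hhdeg]
        omega
    · apply finrank_span_pair
      rw [LinearIndependent.pair_iff]
      intro s t hst
      have hpoly : C s * X ^ p + C t = 0 := by
        have h3 : h * (C s * X ^ p + C t) = 0 := by
          rw [← hst]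
          simp only [smul_eq_C_mul]
          ring
        exact (mul_eq_zero.mp h3).resolve_left hh0
      have hs : s = 0 := by
        have h4 := congrArg (fun f => f.coeff p) hpoly
        simp only [coeff_add, coeff_C_mul_X_pow, coeff_C, coeff_zero] at h4
        simpa [hp0] using h4
      refine ⟨hs, ?_⟩
      rw [hs, C_0, zero_mul, zero_add] at hpoly
      exact C_eq_zero.mp hpoly
    · rw [isSeparable_span_iff, not_not]
      have h5 : wronskian (h * X ^ p) (h * 1) = h ^ 2 * wronskian (X ^ p) 1 := wr_mul h (X ^ p) 1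
      rw [mul_one] at h5
      rw [h5]
      have h6 : wronskian ((X : k[X]) ^ p) 1 = 0 := by
        simp [wronskian, derivative_X_pow, CharP.cast_eq_zero k p]
      rw [h6, mul_zero]
    · have hmem : ∀ a : k, h * (X - C a) ^ p ∈ Submodule.span k ({h * X ^ p, h} : Set k[X]) := by
        intro a
        refine Submodule.mem_span_pair.mpr ⟨1, -(a ^ p), ?_⟩
        rw [sub_pow_char, ← C_pow, one_smul, smul_eq_C_mul, C_neg]
        ring
      intro i
      have hsi0 : h * (X - C (P i)) ^ p ≠ 0 :=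
        mul_ne_zero hh0 (pow_ne_zero _ (X_sub_C_ne_zero _))
      refine ⟨h * (X - C (P i)) ^ p, hmem (P i), hsi0, ?_⟩
      rw [le_rootMultiplicity_iff hsi0]
      match i with
      | 0 =>
        exact Dvd.dvd.mul_left (pow_dvd_pow _ h0.le) _
      | 1 =>
        exact Dvd.dvd.mul_left (pow_dvd_pow _ h1.le) _
      | 2 =>
        rw [hh, ← pow_add]
        exact pow_dvd_pow _ (by omega)
  · intro hp
    obtain ⟨a, b, ha, hb, hab, hab0⟩ := exists_rel d P e hP hsum hle
    have hne : a ≠ 0 ∨ b ≠ 0 := by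
      by_contra hcon
      push_neg at hcon
      apply hab0
      rw [hcon.1, hcon.2, add_zero]
    obtain ⟨ha0, hb0, _, hli⟩ := good_of_rel d P e hP hsum hle ha hb hab hne
    obtain ⟨p1, p2, p3⟩ := props_of_rel d P e hP hsum hle ha hb hab hne
    obtain ⟨F, G, hspan, hF0, hG0, hlt⟩ := echelon a b hli
    have hFd : F.natDegree ≤ d := natDegree_le_iff_degree_le.mpr
      (mem_degreeLE.mp (p1 (by rw [← hspan]; exact mem_left F G)))
    have hW : wronskian F G ≠ 0 := by
      apply wronskian_ne_zero_of_natDegree_lt p F G hG0 hlt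
      rcases hp with h | h
      · exact Or.inl h
      · exact Or.inr (by omega)
    have hsep : W4c1limliniiii.IsSeparable (Submodule.span k ({a, b} : Set k[X])) := by
      rw [← hspan, isSeparable_span_iff]
      exact hW
    have hmemV := mem_ramMaps_of_rel d P e hP hsum hle h2 ha hb hab hne hsep
    exact ⟨_, hmain.1.eq_singleton_of_mem hmemV⟩

theorem s13937 (p : ℕ) (d : ℕ) (P : Fin 3 → k) (hP : Function.Injective P)
    (e : Fin 3 → ℕ) (he : W4c1limliniiii.Admissible p d e) :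
    ∃ L : Submodule k (k[X] × k[X]), L ≠ ⊥ ∧
      (∀ v ∈ L, v ≠ 0 →
        Submodule.span k {v.1, v.2} ≤ Polynomial.degreeLE k d ∧
          Module.finrank k (Submodule.span k {v.1, v.2}) = 2 ∧
          ∀ i, ∃ s ∈ Submodule.span k {v.1, v.2}, s ≠ 0 ∧
            e i ≤ Polynomial.rootMultiplicity (P i) s) ∧
      (∀ V : Submodule k k[X], V ≤ Polynomial.degreeLE k d → Module.finrank k V = 2 →
        (∀ i, ∃ s ∈ V, s ≠ 0 ∧ e i ≤ Polynomial.rootMultiplicity (P i) s) →
          ∃ v ∈ L, v ≠ 0 ∧ Submodule.span k {v.1, v.2} = V) ∧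
      (∀ v ∈ L, ∀ w ∈ L, v ≠ 0 → w ≠ 0 →
        Submodule.span k {v.1, v.2} = Submodule.span k {w.1, w.2} → ∃ c : k, w = c • v) := by
  obtain ⟨hsum, hle, h2⟩ := adm_data p d e he
  obtain ⟨L, hL⟩ : ∃ L : Submodule k (k[X] × k[X]), L =
      (A d P e 0).comap (LinearMap.fst k k[X] k[X]) ⊓ (A d P e 1).comap (LinearMap.snd k k[X] k[X])
        ⊓ (A d P e 2).comap (LinearMap.fst k k[X] k[X] + LinearMap.snd k k[X] k[X]) := ⟨_, rfl⟩
  have memL : ∀ v : k[X] × k[X], v ∈ L ↔
      v.1 ∈ A d P e 0 ∧ v.2 ∈ A d P e 1 ∧ v.1 + v.2 ∈ A d P e 2 := by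
    intro v
    rw [hL]
    simp only [Submodule.mem_inf, Submodule.mem_comap, LinearMap.fst_apply, LinearMap.snd_apply,
      LinearMap.add_apply, and_assoc]
  have vne : ∀ v : k[X] × k[X], v ≠ 0 → v.1 ≠ 0 ∨ v.2 ≠ 0 := by
    intro v hv
    by_contra hcon
    push_neg at hcon
    exact hv (Prod.ext hcon.1 hcon.2)
  refine ⟨L, ?_, ?_, ?_, ?_⟩
  · obtain ⟨a, b, ha, hb, hab, hab0⟩ := exists_rel d P e hP hsum hle
    intro hbot
    have hm : ((a, b) : k[X] × k[X]) ∈ L := (memL _).mpr ⟨ha, hb, hab⟩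
    rw [hbot, Submodule.mem_bot] at hm
    have h1 : a = 0 := congrArg Prod.fst hm
    have h2 : b = 0 := congrArg Prod.snd hm
    apply hab0
    rw [h1, h2, add_zero]
  · intro v hv hv0
    obtain ⟨m0, m1, m2⟩ := (memL v).mp hv
    exact props_of_rel d P e hP hsum hle m0 m1 m2 (vne v hv0)
  · intro V hV hfin hvan
    obtain ⟨a, b, ha, hb, hab, ha0, hb0, hspan⟩ := exists_normal d P e hP hsum hle V hV hfin hvan
    refine ⟨(a, b), (memL _).mpr ⟨ha, hb, hab⟩, ?_, hspan⟩
    intro h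
    exact ha0 (congrArg Prod.fst h)
  · intro v hv w hw hv0 hw0 hspan
    obtain ⟨v0, v1, v2⟩ := (memL v).mp hv
    obtain ⟨w0, w1, w2⟩ := (memL w).mp hw
    obtain ⟨hv10, hv20, _, hliv⟩ := good_of_rel d P e hP hsum hle v0 v1 v2 (vne v hv0)
    have hw1 : w.1 ∈ Submodule.span k ({v.1, v.2} : Set k[X]) := by
      rw [hspan]
      exact mem_left _ _
    have hw2 : w.2 ∈ Submodule.span k ({v.1, v.2} : Set k[X]) := by
      rw [hspan]
      exact mem_right _ _
    obtain ⟨α, β, h1⟩ := Submodule.mem_span_pair.mp hw1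
    obtain ⟨γ, δ, h2'⟩ := Submodule.mem_span_pair.mp hw2
    have hβ : β = 0 := by
      have hm : β • v.2 ∈ A d P e 0 := by
        have h3 : β • v.2 = w.1 - α • v.1 := by
          rw [← h1]
          abel
        rw [h3]
        exact Submodule.sub_mem _ w0 (Submodule.smul_mem _ _ v0)
      have h4 := A_inf_eq_zero d P e hP hsum hle (by decide : (0 : Fin 3) ≠ 1) hm
        (Submodule.smul_mem _ _ v1)
      exact (smul_eq_zero.mp h4).resolve_right hv20
    have hγ : γ = 0 := by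
      have hm : γ • v.1 ∈ A d P e 1 := by
        have h3 : γ • v.1 = w.2 - δ • v.2 := by
          rw [← h2']
          abel
        rw [h3]
        exact Submodule.sub_mem _ w1 (Submodule.smul_mem _ _ v1)
      have h4 := A_inf_eq_zero d P e hP hsum hle (by decide : (0 : Fin 3) ≠ 1)
        (Submodule.smul_mem _ _ v0) hm
      exact (smul_eq_zero.mp h4).resolve_right hv10
    rw [hβ, zero_smul, add_zero] at h1
    rw [hγ, zero_smul, zero_add] at h2'
    have hδ : δ = α := by
      have hm : (δ - α) • v.2 ∈ A d P e 2 := by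
        have h3 : (δ - α) • v.2 = (w.1 + w.2) - α • (v.1 + v.2) := by
          rw [← h1, ← h2', sub_smul, smul_add]
          abel
        rw [h3]
        exact Submodule.sub_mem _ w2 (Submodule.smul_mem _ _ v2)
      have h4 := A_inf_eq_zero d P e hP hsum hle (by decide : (1 : Fin 3) ≠ 2)
        (Submodule.smul_mem _ _ v1) hm
      exact sub_eq_zero.mp ((smul_eq_zero.mp h4).resolve_right hv20)
    refine ⟨α, Prod.ext ?_ ?_⟩
    · rw [Prod.smul_fst, h1]
    · rw [Prod.smul_snd, ← h2', hδ]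

end Groth.Agent.Helper6.Pencil
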