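import Groth.Agent.Helper6.Pencil1
import Groth.Agent.S19560

set_option autoImplicit false
set_option linter.style.haveILetI false
set_option linter.unusedSectionVars false

namespace Groth.Agent.Helper6.Pencil

open Polynomial

variable {k : Type*} [Field k]

theorem rootMultiplicity_wronskian_of_hasRamIdx (p : ℕ) [CharP k p] (F G : k[X]) (a : k) (e : ℕ)
    (he1 : 1 ≤ e) (hpe : ¬ p ∣ e)
    (hbpf : ∃ s ∈ Submodule.span k ({F, G} : Set k[X]), s.eval a ≠ 0)
    (hram : W4c1limliniiii.HasRamIdx (Submodule.span k ({F, G} : Set k[X])) a e) :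
    wronskian F G ≠ 0 ∧ rootMultiplicity a (wronskian F G) = e - 1 := by
  obtain ⟨⟨s, hs, hs0, hes⟩, hmax⟩ := hram
  have hse : rootMultiplicity a s = e := le_antisymm (hmax s hs hs0) hes
  obtain ⟨u, hu, hua⟩ := hbpf
  obtain ⟨q, hq, hqnd⟩ := s.exists_eq_pow_rootMultiplicity_mul_and_not_dvd hs0 a
  rw [hse] at hq
  have hqa : q.eval a ≠ 0 := by
    rw [dvd_iff_isRoot] at hqnd
    exact hqnd
  obtain ⟨m, hm⟩ : ∃ m, e = m + 1 := ⟨e - 1, by omega⟩
  have hek : ((m + 1 : ℕ) : k) ≠ 0 := by
    intro h
    rw [← hm] at h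
    exact hpe ((CharP.cast_eq_zero_iff k p e).mp h)
  obtain ⟨B, hB⟩ : ∃ B : k[X], B = C ((m + 1 : ℕ) : k) * (u * q) +
      (X - C a) * (u * derivative q - derivative u * q) := ⟨_, rfl⟩
  have hkey : wronskian u s = (X - C a) ^ m * B := by
    rw [hB, hq, hm, wronskian, derivative_mul, derivative_X_sub_C_pow]
    simp only [Nat.add_sub_cancel, pow_succ]
    ring
  have hBa : B.eval a ≠ 0 := by
    rw [hB]
    simp only [eval_add, eval_mul, eval_C, eval_sub, eval_X, sub_self, zero_mul, add_zero]
    exact mul_ne_zero hek (mul_ne_zero hua hqa)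
  have hB0 : B ≠ 0 := by
    rintro rfl
    simp at hBa
  have hWus : wronskian u s ≠ 0 := by
    rw [hkey]
    exact mul_ne_zero (pow_ne_zero _ (X_sub_C_ne_zero a)) hB0
  have hrm : rootMultiplicity a (wronskian u s) = m := by
    rw [hkey, rootMultiplicity_mul (by rw [← hkey]; exact hWus), rootMultiplicity_X_sub_C_pow,
      rootMultiplicity_eq_zero hBa, add_zero]
  obtain ⟨γ, δ, rfl⟩ := Submodule.mem_span_pair.mp hu
  obtain ⟨α, β, rfl⟩ := Submodule.mem_span_pair.mp hs
  rw [wr_comb, smul_eq_C_mul] at hWus hrm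
  have hW : wronskian F G ≠ 0 := right_ne_zero_of_mul hWus
  refine ⟨hW, ?_⟩
  rw [rootMultiplicity_mul hWus, rootMultiplicity_C, zero_add] at hrm
  omega

theorem li_of_natDegree_lt (F G : k[X]) (hG0 : G ≠ 0) (h : G.natDegree < F.natDegree) :
    LinearIndependent k ![F, G] := by
  rw [LinearIndependent.pair_iff]
  intro s t hst
  have hs : s = 0 := by
    by_contra hs
    have h1 : s • F = -(t • G) := eq_neg_of_add_eq_zero_left hst
    have h2 : (s • F).natDegree = F.natDegree := by rw [smul_eq_C_mul, natDegree_C_mul hs]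
    have h3 : (-(t • G)).natDegree ≤ G.natDegree := by
      rw [natDegree_neg]
      exact natDegree_smul_le t G
    rw [h1] at h2
    omega
  refine ⟨hs, ?_⟩
  rw [hs, zero_smul, zero_add] at hst
  exact (smul_eq_zero.mp hst).resolve_right hG0

theorem s13920 [IsAlgClosed k] (p : ℕ) [Fact p.Prime] [CharP k p] (d n : ℕ) (P : Fin n → k)
    (e : Fin n → ℕ) (E : ℕ)
    (he : W4c1limliniiii.Admissible p d (Fin.cons E e : Fin (n + 1) → ℕ))
    (hlt : ∀ i, e i < p) (hE : p < E) :
    {V : Submodule k k[X] | V ∈ W4c1limliniiii.ramMaps d P e ∧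
        W4c1limliniiii.HasRamIdxInf d V E} = ∅ ∨
      {V : Submodule k k[X] | V ∈ W4c1limliniiii.ramMaps d P e ∧
        W4c1limliniiii.HasRamIdxInf d V E}.Infinite := by
  rcases Set.eq_empty_or_nonempty {V : Submodule k k[X] | V ∈ W4c1limliniiii.ramMaps d P e ∧
        W4c1limliniiii.HasRamIdxInf d V E} with h | ⟨V₀, hV₀⟩
  · exact Or.inl h
  right
  obtain ⟨⟨⟨hVle, hVfin, ⟨F, hFV, hFdeg⟩, hbpf⟩, hsep, hram⟩, ⟨G, hGV, hG0, hGE⟩, hmin⟩ := hV₀
  have hGdeg : G.natDegree + E = d := le_antisymm hGE (hmin G hGV hG0)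
  have he' : ∀ i, 2 ≤ e i ∧ ¬ p ∣ e i := by
    intro i
    have := he.1 i.succ
    simp only [Fin.cons_succ] at this
    exact ⟨this.1, this.2.2⟩
  have hp2 : 2 ≤ p := (Fact.out : p.Prime).two_le
  have hli : LinearIndependent k ![F, G] := li_of_natDegree_lt F G hG0 (by omega)
  haveI : FiniteDimensional k V₀ := Module.finite_of_finrank_pos (by rw [hVfin]; norm_num)
  have hspan : Submodule.span k ({F, G} : Set k[X]) = V₀ := by
    apply Submodule.eq_of_le_of_finrank_eq
    · rw [Submodule.span_le, Set.insert_subset_iff, Set.singleton_subset_iff]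
      exact ⟨hFV, hGV⟩
    · rw [finrank_span_pair F G hli, hVfin]
  have hW0 : wronskian F G ≠ 0 := by
    rw [← isSeparable_span_iff, hspan]
    exact hsep
  obtain ⟨Ft, hFt⟩ : ∃ Ft : k → k[X], Ft = fun t => F + C t * X ^ p * G := ⟨_, rfl⟩
  have hHdeg : ∀ t : k, (C t * X ^ p * G).natDegree < d := by
    intro t
    have h1 : (C t * X ^ p * G).natDegree ≤ (C t * X ^ p).natDegree + G.natDegree :=
      natDegree_mul_le
    have h2 : (C t * X ^ p).natDegree ≤ p := natDegree_C_mul_X_pow_le t p
    omega
  have hFtdeg : ∀ t, (Ft t).natDegree = d := by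
    intro t
    rw [hFt]
    show (F + C t * X ^ p * G).natDegree = d
    rw [natDegree_add_eq_left_of_natDegree_lt (by rw [hFdeg]; exact hHdeg t), hFdeg]
  have hWt : ∀ t, wronskian (Ft t) G = wronskian F G := by
    intro t
    rw [hFt]
    show wronskian (F + C t * X ^ p * G) G = wronskian F G
    rw [wronskian_add_left]
    have hd : derivative (C t * X ^ p * G) = C t * X ^ p * derivative G := by
      rw [derivative_mul, derivative_C_mul, derivative_X_pow, CharP.cast_eq_zero k p, C_0,
        zero_mul, mul_zero, zero_mul, zero_add]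
    have h0 : wronskian (C t * X ^ p * G) G = 0 := by
      rw [wronskian, hd]
      ring
    rw [h0, add_zero]
  have hmemV : ∀ t : k, Submodule.span k ({Ft t, G} : Set k[X]) ∈
      {V : Submodule k k[X] | V ∈ W4c1limliniiii.ramMaps d P e ∧
        W4c1limliniiii.HasRamIdxInf d V E} := by
    intro t
    have hlit : LinearIndependent k ![Ft t, G] :=
      li_of_natDegree_lt (Ft t) G hG0 (by rw [hFtdeg]; omega)
    have hpencil : W4c1limliniiii.IsPencil d (Submodule.span k ({Ft t, G} : Set k[X])) := by
      refine ⟨?_, finrank_span_pair _ _ hlit, ⟨Ft t, mem_left _ _, hFtdeg t⟩, ?_⟩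
      · rw [Submodule.span_le, Set.insert_subset_iff, Set.singleton_subset_iff]
        exact ⟨mem_degreeLE.mpr (degree_le_of_natDegree_le (hFtdeg t).le),
          mem_degreeLE.mpr (degree_le_of_natDegree_le (by omega))⟩
      · intro x
        obtain ⟨s, hs, hsx⟩ := hbpf x
        rw [← hspan] at hs
        obtain ⟨α, β, rfl⟩ := Submodule.mem_span_pair.mp hs
        by_cases hGx : G.eval x = 0
        · refine ⟨Ft t, mem_left _ _, ?_⟩
          have hFx : F.eval x ≠ 0 := by
            intro hFx
            apply hsx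
            simp [eval_add, eval_smul, hFx, hGx]
          rw [hFt]
          show (F + C t * X ^ p * G).eval x ≠ 0
          simp only [eval_add, eval_mul, eval_C, eval_pow, eval_X, hGx, mul_zero, add_zero]
          exact hFx
        · exact ⟨G, mem_right _ _, hGx⟩
    have hWt0 : wronskian (Ft t) G ≠ 0 := by
      rw [hWt]
      exact hW0
    refine ⟨⟨hpencil, (isSeparable_span_iff _ _).mpr hWt0, ?_⟩, ⟨G, mem_right _ _, hG0, hGE⟩, ?_⟩
    · intro i
      have hri : W4c1limliniiii.HasRamIdx (Submodule.span k ({F, G} : Set k[X])) (P i) (e i) := by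
        rw [hspan]
        exact hram i
      have h2i := (he' i).1
      have hli' := hlt i
      obtain ⟨_, hrm⟩ := rootMultiplicity_wronskian_of_hasRamIdx p F G (P i) (e i) (by omega)
        (he' i).2 (by rw [hspan]; exact hbpf (P i)) hri
      have h3 := Groth.Agent.S19560.result k p d (Ft t) G hpencil hWt0 (P i) (e i)
        (by rw [hWt, hrm]; omega) (Or.inr (by omega))
      exact h3.1
    · intro s hs hs0
      obtain ⟨α, β, rfl⟩ := Submodule.mem_span_pair.mp hs
      by_cases hα : α = 0
      · rw [hα, zero_smul, zero_add] at hs0 ⊢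
        have hβ : β ≠ 0 := by
          rintro rfl
          simp at hs0
        rw [smul_eq_C_mul, natDegree_C_mul hβ]
        omega
      · have h4 : (α • Ft t + β • G).natDegree = d := by
          have h5 : (α • Ft t).natDegree = d := by
            rw [smul_eq_C_mul, natDegree_C_mul hα, hFtdeg]
          rw [natDegree_add_eq_left_of_natDegree_lt, h5]
          rw [h5]
          exact lt_of_le_of_lt (natDegree_smul_le β G) (by omega)
        omega
  have hinj : Function.Injective (fun t : k => Submodule.span k ({Ft t, G} : Set k[X])) := by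
    intro t u htu
    by_contra hne
    have hmem : Ft t ∈ Submodule.span k ({Ft u, G} : Set k[X]) := by
      have h1 := mem_left (Ft t) G
      have h2 : Submodule.span k ({Ft t, G} : Set k[X]) = Submodule.span k ({Ft u, G} : Set k[X]) :=
        htu
      rw [h2] at h1
      exact h1
    obtain ⟨α, β, hαβ⟩ := Submodule.mem_span_pair.mp hmem
    have hrel : (1 - α) • F = (C (α * u - t) * X ^ p + C β) * G := by
      have h1 : α • (F + C u * X ^ p * G) + β • G = F + C t * X ^ p * G := by
        rw [hFt] at hαβ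
        exact hαβ
      rw [smul_eq_C_mul, smul_eq_C_mul] at h1
      rw [smul_eq_C_mul, C_sub, C_1, C_sub, C_mul]
      linear_combination (-1 : k[X]) * h1
    have hRdeg : ((C (α * u - t) * X ^ p + C β) * G).natDegree < d := by
      have h1 : ((C (α * u - t) * X ^ p + C β) * G).natDegree ≤
          (C (α * u - t) * X ^ p + C β).natDegree + G.natDegree := natDegree_mul_le
      have h2 : (C (α * u - t) * X ^ p + C β).natDegree ≤ p := by
        refine (natDegree_add_le _ _).trans (max_le (natDegree_C_mul_X_pow_le _ _) ?_)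
        rw [natDegree_C]
        exact Nat.zero_le _
      omega
    have hα : α = 1 := by
      by_contra hα
      have h3 : ((1 - α) • F).natDegree = d := by
        rw [smul_eq_C_mul, natDegree_C_mul (sub_ne_zero.mpr (Ne.symm hα)), hFdeg]
      rw [hrel] at h3
      omega
    rw [hα, sub_self, zero_smul] at hrel
    have hR : C (1 * u - t) * X ^ p + C β = 0 := (mul_eq_zero.mp hrel.symm).resolve_right hG0
    have h4 := congrArg (fun f => f.coeff p) hR
    simp only [coeff_add, coeff_C_mul_X_pow, coeff_C, coeff_zero] at h4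
    have hp0 : p ≠ 0 := by omega
    have h5 : 1 * u - t = 0 := by simpa [hp0] using h4
    apply hne
    rw [one_mul] at h5
    exact (sub_eq_zero.mp h5).symm
  exact Set.infinite_of_injective_forall_mem hinj hmemV

end Groth.Agent.Helper6.Pencil
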