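import Mathlib

/-! Finiteness of the solution set of a square system of weighted homogeneous equations with
constant right-hand sides, when the homogeneous system has only the trivial solution (helper6). -/

set_option autoImplicit false
set_option linter.style.haveILetI false
set_option linter.unusedSectionVars false

namespace Groth.Agent.Helper6.WHFin

open MvPolynomial

variable {k : Type*} [Field k] {σ : Type*}

theorem comp_mul_right (w : σ → ℕ) (h g : MvPolynomial σ k) (m t : ℕ)
    (hg : IsWeightedHomogeneous w g m) :
    weightedHomogeneousComponent w t (h * g) =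
      if m ≤ t then weightedHomogeneousComponent w (t - m) h * g else 0 := by
  classical
  induction h using MvPolynomial.induction_on' with
  | monomial d a =>
    have hmon : IsWeightedHomogeneous w (monomial d a) (Finsupp.weight w d) :=
      isWeightedHomogeneous_monomial w d a rfl
    have hwh : IsWeightedHomogeneous w (monomial d a * g) (Finsupp.weight w d + m) := hmon.mul hg
    rw [weightedHomogeneousComponent_of_mem
      ((mem_weightedHomogeneousSubmodule k w _ _).mpr hwh),
      weightedHomogeneousComponent_of_mem ((mem_weightedHomogeneousSubmodule k w _ _).mpr hmon)]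
    by_cases hmt : m ≤ t
    · rw [if_pos hmt]
      by_cases h1 : t = Finsupp.weight w d + m
      · rw [if_pos h1, if_pos (by omega)]
      · rw [if_neg h1, if_neg (by omega), zero_mul]
    · rw [if_neg hmt, if_neg (by omega)]
  | add p q hp hq =>
    rw [add_mul, map_add, hp, hq]
    by_cases hmt : m ≤ t
    · simp only [if_pos hmt, map_add, add_mul]
    · simp only [if_neg hmt, add_zero]

theorem exists_homogeneous_repr {ι : Type*} [Fintype ι] (w : σ → ℕ) (g : ι → MvPolynomial σ k)
    (m : ι → ℕ) (hg : ∀ r, IsWeightedHomogeneous w (g r) (m r)) (f : MvPolynomial σ k) (t : ℕ)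
    (hf : IsWeightedHomogeneous w f t) (hfJ : f ∈ Ideal.span (Set.range g)) :
    ∃ h : ι → MvPolynomial σ k, (∀ r, IsWeightedHomogeneous w (h r) (t - m r)) ∧
      (∀ r, t < m r → h r = 0) ∧ f = ∑ r, h r * g r := by
  classical
  obtain ⟨c, hc⟩ := Ideal.mem_span_range_iff_exists_fun.mp hfJ
  refine ⟨fun r => if m r ≤ t then weightedHomogeneousComponent w (t - m r) (c r) else 0,
    ?_, ?_, ?_⟩
  · intro r
    by_cases h : m r ≤ t
    · simp only [if_pos h]
      exact weightedHomogeneousComponent_isWeightedHomogeneous _ _
    · simp only [if_neg h]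
      exact isWeightedHomogeneous_zero k w _
  · intro r hr
    simp only [if_neg (not_le.mpr hr)]
  · have h1 : weightedHomogeneousComponent w t f = f := hf.weightedHomogeneousComponent_same
    rw [← h1, ← hc, map_sum]
    apply Finset.sum_congr rfl
    intro r _
    rw [comp_mul_right w (c r) (g r) (m r) t (hg r)]
    by_cases h : m r ≤ t
    · simp only [if_pos h]
    · simp only [if_neg h, zero_mul]

theorem finite_of_homogeneous_system [IsAlgClosed k] [Finite σ] {ι : Type*} [Fintype ι]
    (w : σ → ℕ) (hw : ∀ s, 0 < w s) (g : ι → MvPolynomial σ k) (m : ι → ℕ) (hm : ∀ r, 0 < m r)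
    (hg : ∀ r, IsWeightedHomogeneous w (g r) (m r))
    (hzero : ∀ x : σ → k, (∀ r, eval x (g r) = 0) → x = 0) (c : ι → k) :
    {x : σ → k | ∀ r, eval x (g r) = c r}.Finite := by
  classical
  haveI := Fintype.ofFinite σ
  obtain ⟨J, hJ⟩ : ∃ J : Ideal (MvPolynomial σ k), J = Ideal.span (Set.range g) := ⟨_, rfl⟩
  obtain ⟨J', hJ'⟩ : ∃ J' : Ideal (MvPolynomial σ k),
      J' = Ideal.span (Set.range fun r => g r - C (c r)) := ⟨_, rfl⟩
  -- Step 1: powers of the variables lie in J
  have hpow : ∀ s : σ, ∃ N : ℕ, (X s : MvPolynomial σ k) ^ N ∈ J := by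
    intro s
    have hmem : (X s : MvPolynomial σ k) ∈ vanishingIdeal k (zeroLocus k J) := by
      intro x hx
      have hx0 : x = 0 := by
        apply hzero
        intro r
        have := hx (g r) (by rw [hJ]; exact Ideal.subset_span ⟨r, rfl⟩)
        rwa [aeval_eq_eval] at this
      rw [hx0]
      simp
    rw [vanishingIdeal_zeroLocus_eq_radical] at hmem
    exact hmem
  choose N hN using hpow
  obtain ⟨M, hM⟩ : ∃ M : ℕ, M = ∑ s, w s * N s + 1 := ⟨_, rfl⟩
  -- Step 2: monomials of large weight lie in J
  have hbig : ∀ β : σ →₀ ℕ, M ≤ Finsupp.weight w β → monomial β (1 : k) ∈ J := by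
    intro β hβ
    have hex : ∃ s, N s ≤ β s := by
      by_contra hcon
      push_neg at hcon
      have hle : Finsupp.weight w β ≤ ∑ s, w s * N s := by
        rw [Finsupp.weight_eq_sum]
        apply Finset.sum_le_sum
        intro s _
        rw [smul_eq_mul, mul_comm]
        exact Nat.mul_le_mul_left _ (hcon s).le
      omega
    obtain ⟨s, hs⟩ := hex
    have hle : Finsupp.single s (N s) ≤ β := Finsupp.single_le_iff.mpr hs
    have hsplit : monomial β (1 : k) = monomial (β - Finsupp.single s (N s)) 1 * X s ^ N s := by
      rw [← monomial_add_single, tsub_add_cancel_of_le hle]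
    rw [hsplit]
    exact J.mul_mem_left _ (hN s)
  -- Step 3: every monomial is congruent mod J' to a combination of monomials of small weight
  obtain ⟨B, hB⟩ : ∃ B : Set (MvPolynomial σ k),
      B = (fun β : σ →₀ ℕ => monomial β (1 : k)) '' {β | Finsupp.weight w β < M} := ⟨_, rfl⟩
  obtain ⟨L, hL⟩ : ∃ L : Submodule k (MvPolynomial σ k),
      L = Submodule.span k B ⊔ J'.restrictScalars k := ⟨_, rfl⟩
  have hJ'L : ∀ f ∈ J', f ∈ L := by
    intro f hf
    rw [hL]
    exact Submodule.mem_sup_right hf
  have hmono : ∀ t : ℕ, ∀ β : σ →₀ ℕ, Finsupp.weight w β = t → monomial β (1 : k) ∈ L := by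
    intro t
    induction t using Nat.strong_induction_on with
    | _ t ih =>
      intro β hβ
      by_cases hlt : t < M
      · rw [hL]
        apply Submodule.mem_sup_left
        apply Submodule.subset_span
        rw [hB]
        exact ⟨β, by rw [Set.mem_setOf_eq, hβ]; exact hlt, rfl⟩
      · push_neg at hlt
        have hin : monomial β (1 : k) ∈ Ideal.span (Set.range g) := by
          rw [← hJ]
          exact hbig β (by rw [hβ]; exact hlt)
        obtain ⟨h, hh, hh0, hrep⟩ := exists_homogeneous_repr w g m hg (monomial β 1) t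
          (isWeightedHomogeneous_monomial w β 1 hβ) hin
        have hsplit : monomial β (1 : k) =
            ∑ r, h r * (g r - C (c r)) + ∑ r, c r • h r := by
          rw [hrep, ← Finset.sum_add_distrib]
          apply Finset.sum_congr rfl
          intro r _
          rw [mul_sub, smul_eq_C_mul]
          ring
        rw [hsplit]
        apply Submodule.add_mem
        · apply hJ'L
          apply Ideal.sum_mem
          intro r _
          apply Ideal.mul_mem_left
          rw [hJ']
          exact Ideal.subset_span ⟨r, rfl⟩
        · apply Submodule.sum_mem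
          intro r _
          apply Submodule.smul_mem
          by_cases hr : t < m r
          · rw [hh0 r hr]
            exact Submodule.zero_mem _
          · push_neg at hr
            rw [(h r).as_sum]
            apply Submodule.sum_mem
            intro d hd
            have hwd : Finsupp.weight w d = t - m r := hh r (mem_support_iff.mp hd)
            have hmon : monomial d (coeff d (h r)) = (coeff d (h r)) • monomial d (1 : k) := by
              rw [smul_monomial, smul_eq_mul, mul_one]
            rw [hmon]
            apply Submodule.smul_mem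
            exact ih (t - m r) (by have := hm r; omega) d hwd
  have hLtop : ∀ f : MvPolynomial σ k, f ∈ L := by
    intro f
    rw [f.as_sum]
    apply Submodule.sum_mem
    intro d _
    have hmon : monomial d (coeff d f) = (coeff d f) • monomial d (1 : k) := by
      rw [smul_monomial, smul_eq_mul, mul_one]
    rw [hmon]
    exact Submodule.smul_mem _ _ (hmono _ d rfl)
  -- Step 4: the quotient is finite dimensional
  have hBfin : B.Finite := by
    rw [hB]
    exact (Finsupp.finite_of_nat_weight_lt w (fun s => (hw s).ne') M).image _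
  haveI : Module.Finite k (Submodule.span k B) := Module.Finite.span_of_finite k hBfin
  obtain ⟨l, hl⟩ : ∃ l : Submodule.span k B →ₗ[k] (MvPolynomial σ k ⧸ J'),
      l = (Ideal.Quotient.mkₐ k J').toLinearMap ∘ₗ (Submodule.span k B).subtype := ⟨_, rfl⟩
  have hlsurj : Function.Surjective l := by
    intro y
    obtain ⟨f, rfl⟩ := Ideal.Quotient.mk_surjective y
    have hf := hLtop f
    rw [hL] at hf
    obtain ⟨b, hb, j, hj, hbj⟩ := Submodule.mem_sup.mp hf
    refine ⟨⟨b, hb⟩, ?_⟩
    rw [hl]
    show Ideal.Quotient.mk J' b = Ideal.Quotient.mk J' f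
    rw [← hbj, map_add]
    have : Ideal.Quotient.mk J' j = 0 := Ideal.Quotient.eq_zero_iff_mem.mpr hj
    rw [this, add_zero]
  haveI : Module.Finite k (MvPolynomial σ k ⧸ J') := Module.Finite.of_surjective l hlsurj
  -- Step 5: univariate relations
  have hq : ∀ s : σ, ∃ q : Polynomial k, q ≠ 0 ∧
      Polynomial.aeval (X s : MvPolynomial σ k) q ∈ J' := by
    intro s
    obtain ⟨q, hqm, hq0⟩ := Algebra.IsIntegral.isIntegral (R := k)
      (Ideal.Quotient.mk J' (X s : MvPolynomial σ k))
    refine ⟨q, hqm.ne_zero, ?_⟩
    rw [← Ideal.Quotient.eq_zero_iff_mem]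
    have h1 : Ideal.Quotient.mk J' (Polynomial.aeval (X s : MvPolynomial σ k) q) =
        Polynomial.aeval (Ideal.Quotient.mk J' (X s : MvPolynomial σ k)) q :=
      (Polynomial.aeval_algHom_apply (Ideal.Quotient.mkₐ k J') (X s) q).symm
    rw [h1, Polynomial.aeval_def]
    exact hq0
  choose q hq0 hqJ using hq
  have hkill : ∀ x : σ → k, (∀ r, eval x (g r) = c r) → ∀ f ∈ J', eval x f = 0 := by
    intro x hx f hf
    have hle : J' ≤ RingHom.ker (eval x) := by
      rw [hJ', Ideal.span_le]
      rintro _ ⟨r, rfl⟩
      show eval x (g r - C (c r)) = 0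
      rw [map_sub, eval_C, hx r, sub_self]
    exact hle hf
  apply Set.Finite.subset (Set.Finite.pi (fun s => Polynomial.finite_setOfPred_isRoot (hq0 s)))
  intro x hx s _
  show (q s).IsRoot (x s)
  have h1 := hkill x hx _ (hqJ s)
  have h2 : eval x (Polynomial.aeval (X s : MvPolynomial σ k) (q s)) =
      Polynomial.aeval (x s) (q s) := by
    have := Polynomial.aeval_algHom_apply (aeval x : MvPolynomial σ k →ₐ[k] k) (X s) (q s)
    rw [aeval_X] at this
    rw [this]
    rfl
  rw [h2, Polynomial.coe_aeval_eq_eval] at h1
  exact h1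

end Groth.Agent.Helper6.WHFin
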