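import Groth.Agent.Helper6.Pencil1
import Groth.Agent.Helper6.PencilInf
import Groth.Agent.Helper6.WHFin

/-! Finiteness of `ramMaps` in characteristic zero or characteristic larger than the degree
(helper6). -/

set_option autoImplicit false
set_option linter.style.haveILetI false
set_option linter.unusedSectionVars false

namespace Groth.Agent.Helper6.PencilFin

open Polynomial Groth.Agent.Helper6.Pencil

section generic

variable {S : Type*} [CommRing S]

/-- monic polynomial of degree `e + 1` with vanishing coefficient of `X ^ e` and lower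
coefficients `c` -/
noncomputable def PF (e : ℕ) (c : Fin e → S) : S[X] :=
  X ^ (e + 1) + ∑ j : Fin e, C (c j) * X ^ (j : ℕ)

/-- monic polynomial of degree `e` with lower coefficients `c` -/
noncomputable def PG (e : ℕ) (c : Fin e → S) : S[X] :=
  X ^ e + ∑ j : Fin e, C (c j) * X ^ (j : ℕ)

theorem map_PF {T : Type*} [CommRing T] (f : S →+* T) (e : ℕ) (c : Fin e → S) :
    (PF e c).map f = PF e (fun j => f (c j)) := by
  simp only [PF, Polynomial.map_add, Polynomial.map_pow, Polynomial.map_X, Polynomial.map_sum,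
    Polynomial.map_mul, Polynomial.map_C]

theorem map_PG {T : Type*} [CommRing T] (f : S →+* T) (e : ℕ) (c : Fin e → S) :
    (PG e c).map f = PG e (fun j => f (c j)) := by
  simp only [PG, Polynomial.map_add, Polynomial.map_pow, Polynomial.map_X, Polynomial.map_sum,
    Polynomial.map_mul, Polynomial.map_C]

theorem map_wronskian {T : Type*} [CommRing T] (f : S →+* T) (a b : S[X]) :
    (wronskian a b).map f = wronskian (a.map f) (b.map f) := by
  simp only [wronskian, Polynomial.map_sub, Polynomial.map_mul, derivative_map]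

theorem coeff_rem (e : ℕ) (c : Fin e → S) (t : ℕ) :
    (∑ j : Fin e, C (c j) * X ^ (j : ℕ)).coeff t = if h : t < e then c ⟨t, h⟩ else 0 := by
  rw [finsetSum_coeff]
  simp only [coeff_C_mul_X_pow]
  by_cases h : t < e
  · rw [dif_pos h, Finset.sum_eq_single (⟨t, h⟩ : Fin e)]
    · simp
    · intro j _ hj
      rw [if_neg]
      intro hh
      exact hj (Fin.ext hh.symm)
    · intro hh
      exact absurd (Finset.mem_univ _) hh
  · rw [dif_neg h]
    apply Finset.sum_eq_zero
    intro j _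
    rw [if_neg]
    intro hh
    exact h (by rw [hh]; exact j.2)

theorem coeff_PF (e : ℕ) (c : Fin e → S) (t : ℕ) :
    (PF e c).coeff t = (if t = e + 1 then 1 else 0) + if h : t < e then c ⟨t, h⟩ else 0 := by
  rw [PF, coeff_add, coeff_X_pow, coeff_rem]

theorem coeff_PG (e : ℕ) (c : Fin e → S) (t : ℕ) :
    (PG e c).coeff t = (if t = e then 1 else 0) + if h : t < e then c ⟨t, h⟩ else 0 := by
  rw [PG, coeff_add, coeff_X_pow, coeff_rem]

end generic

variable {k : Type*} [Field k]

theorem monic_PF (e : ℕ) (c : Fin e → k) : (PF e c).Monic := by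
  apply monic_X_pow_add
  exact lt_trans (degree_sum_fin_lt c) (by exact_mod_cast Nat.lt_succ_self e)

theorem monic_PG (e : ℕ) (c : Fin e → k) : (PG e c).Monic := by
  apply monic_X_pow_add
  exact degree_sum_fin_lt c

theorem natDegree_PF (e : ℕ) (c : Fin e → k) : (PF e c).natDegree = e + 1 := by
  rw [PF, natDegree_add_eq_left_of_degree_lt, natDegree_X_pow]
  rw [degree_X_pow]
  exact lt_trans (degree_sum_fin_lt c) (by exact_mod_cast Nat.lt_succ_self e)

theorem natDegree_PG (e : ℕ) (c : Fin e → k) : (PG e c).natDegree = e := by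
  rw [PG, natDegree_add_eq_left_of_degree_lt, natDegree_X_pow]
  rw [degree_X_pow]
  exact degree_sum_fin_lt c

theorem coeff_PF_mid (e : ℕ) (c : Fin e → k) : (PF e c).coeff e = 0 := by
  rw [coeff_PF, if_neg (by omega), dif_neg (by omega), add_zero]

theorem coeff_PF_fin (e : ℕ) (c : Fin e → k) (j : Fin e) : (PF e c).coeff (j : ℕ) = c j := by
  rw [coeff_PF, if_neg (by have := j.2; omega), dif_pos j.2, zero_add]

theorem coeff_PG_fin (e : ℕ) (c : Fin e → k) (j : Fin e) : (PG e c).coeff (j : ℕ) = c j := by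
  rw [coeff_PG, if_neg (by have := j.2; omega), dif_pos j.2, zero_add]

theorem coeff_wronskian_top (e : ℕ) (F G : k[X]) (hF : F.Monic) (hFd : F.natDegree = e + 1)
    (hG : G.Monic) (hGd : G.natDegree = e) : (wronskian F G).coeff (2 * e) = -1 := by
  have hFc : F.coeff (e + 1) = 1 := by rw [← hFd]; exact hF.coeff_natDegree
  have hGc : G.coeff e = 1 := by rw [← hGd]; exact hG.coeff_natDegree
  rcases e with _ | e'
  · have hG1 : G = 1 := eq_one_of_monic_natDegree_zero hG hGd
    have hFc1 : F.coeff 1 = 1 := by simpa using hFc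
    rw [hG1]
    simp [wronskian, coeff_derivative, hFc1]
  · have hdG : (derivative G).natDegree ≤ e' := by
      have := natDegree_derivative_le G
      rw [hGd] at this
      simpa using this
    have hdF : (derivative F).natDegree ≤ e' + 1 := by
      have := natDegree_derivative_le F
      rw [hFd] at this
      simpa using this
    have h1 : (F * derivative G).coeff (2 * (e' + 1)) = ((e' + 1 : ℕ) : k) := by
      have e1 : 2 * (e' + 1) = (e' + 1 + 1) + e' := by ring
      rw [e1, coeff_mul_add_eq_of_natDegree_le (le_of_eq hFd) hdG, hFc, coeff_derivative, hGc]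
      push_cast
      ring
    have h2 : (derivative F * G).coeff (2 * (e' + 1)) = ((e' + 2 : ℕ) : k) := by
      have e2 : 2 * (e' + 1) = (e' + 1) + (e' + 1) := by ring
      rw [e2, coeff_mul_add_eq_of_natDegree_le hdF (le_of_eq hGd), coeff_derivative, hFc, hGc]
      push_cast
      ring
    rw [wronskian, coeff_sub, h1, h2]
    push_cast
    ring

theorem cast_ne_zero_of_lt (p : ℕ) [CharP k p] (a : ℕ) (ha : 0 < a) (hp : p = 0 ∨ a < p) :
    (a : k) ≠ 0 := by
  intro h
  rw [CharP.cast_eq_zero_iff k p] at h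
  rcases hp with hp0 | hlt
  · rw [hp0, zero_dvd_iff] at h
    omega
  · exact absurd (Nat.le_of_dvd ha h) (not_le.mpr hlt)

theorem rm_wr_core (u s : k[X]) (a : k) (m : ℕ) (hs0 : s ≠ 0)
    (hrm : rootMultiplicity a s = m + 1) (hek : ((m + 1 : ℕ) : k) ≠ 0) (hua : u.eval a ≠ 0) :
    wronskian u s ≠ 0 ∧ rootMultiplicity a (wronskian u s) = m := by
  obtain ⟨q, hq, hqnd⟩ := s.exists_eq_pow_rootMultiplicity_mul_and_not_dvd hs0 a
  rw [hrm] at hq
  have hqa : q.eval a ≠ 0 := by
    rw [dvd_iff_isRoot] at hqnd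
    exact hqnd
  obtain ⟨B, hB⟩ : ∃ B : k[X], B = C ((m + 1 : ℕ) : k) * (u * q) +
      (X - C a) * (u * derivative q - derivative u * q) := ⟨_, rfl⟩
  have hkey : wronskian u s = (X - C a) ^ m * B := by
    rw [hB, hq, wronskian, derivative_mul, derivative_X_sub_C_pow]
    simp only [Nat.add_sub_cancel, pow_succ]
    ring
  have hBa : B.eval a ≠ 0 := by
    rw [hB]
    simp only [eval_add, eval_mul, eval_C, eval_sub, eval_X, sub_self, zero_mul, add_zero]
    exact mul_ne_zero hek (mul_ne_zero hua hqa)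
  have hB0 : B ≠ 0 := by
    rintro rfl
    simp at hBa
  have hWus : wronskian u s ≠ 0 := by
    rw [hkey]
    exact mul_ne_zero (pow_ne_zero _ (X_sub_C_ne_zero a)) hB0
  refine ⟨hWus, ?_⟩
  rw [hkey, rootMultiplicity_mul (by rw [← hkey]; exact hWus), rootMultiplicity_X_sub_C_pow,
    rootMultiplicity_eq_zero hBa, add_zero]

theorem rootMultiplicity_X_pow' (n : ℕ) : rootMultiplicity (0 : k) ((X : k[X]) ^ n) = n := by
  have h : (X : k[X]) ^ n = (X - C 0) ^ n := by simp
  rw [h, rootMultiplicity_X_sub_C_pow]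

theorem rootMultiplicity_neg_X_pow (n : ℕ) :
    rootMultiplicity (0 : k) (-(X : k[X]) ^ n) = n := by
  have h : -(X : k[X]) ^ n = C (-1) * X ^ n := by simp
  have hne : (C (-1 : k)) * (X : k[X]) ^ n ≠ 0 :=
    mul_ne_zero (C_ne_zero.mpr (by norm_num)) (pow_ne_zero _ X_ne_zero)
  rw [h, rootMultiplicity_mul hne, rootMultiplicity_C, zero_add, rootMultiplicity_X_pow']

theorem uniq (p : ℕ) [CharP k p] : ∀ e : ℕ, (p = 0 ∨ e + 1 < p) → ∀ F G : k[X], F.Monic →
    F.natDegree = e + 1 → F.coeff e = 0 → G.Monic → G.natDegree = e →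
    wronskian F G = -X ^ (2 * e) → F = X ^ (e + 1) ∧ G = X ^ e := by
  intro e
  induction e with
  | zero =>
    intro _ F G hF hFd hFc hG hGd _
    have hG1 : G = 1 := eq_one_of_monic_natDegree_zero hG hGd
    have hF1 : F = X := by
      have h1 := eq_X_add_C_of_natDegree_le_one (p := F) (by omega)
      have h2 : F.coeff 1 = 1 := by
        have := hF.coeff_natDegree
        rw [hFd] at this
        simpa using this
      rw [h1, h2, hFc]
      simp
    exact ⟨by rw [hF1]; simp, by rw [hG1]; simp⟩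
  | succ e ih =>
    intro hp F G hF hFd hFc hG hGd hW
    have hF0 : F ≠ 0 := hF.ne_zero
    have hG0 : G ≠ 0 := hG.ne_zero
    have hcast : ∀ a : ℕ, 0 < a → a ≤ e + 2 → (a : k) ≠ 0 := fun a ha hle =>
      cast_ne_zero_of_lt p a ha (hp.imp id (fun h => by omega))
    have hG00 : G.eval 0 = 0 := by
      by_contra hGe
      obtain ⟨s, hs⟩ : ∃ s, s = F - C (F.eval 0 / G.eval 0) * G := ⟨_, rfl⟩
      have hlt : (C (F.eval 0 / G.eval 0) * G).natDegree < F.natDegree :=
        lt_of_le_of_lt (natDegree_C_mul_le _ _) (by omega)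
      have hsdeg : s.natDegree = e + 2 := by
        rw [hs, natDegree_sub_eq_left_of_natDegree_lt hlt, hFd]
      have hs0 : s ≠ 0 := by
        intro h
        rw [h] at hsdeg
        simp at hsdeg
      have hsroot : s.IsRoot 0 := by
        rw [IsRoot.def, hs, eval_sub, eval_mul, eval_C, div_mul_cancel₀ _ hGe, sub_self]
      have hpos : 0 < rootMultiplicity 0 s := (rootMultiplicity_pos hs0).mpr hsroot
      obtain ⟨m, hm⟩ : ∃ m, rootMultiplicity 0 s = m + 1 :=
        ⟨rootMultiplicity 0 s - 1, by omega⟩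
      have hmle : m + 1 ≤ e + 2 := by
        have h1 : (X - C (0 : k)) ^ (m + 1) ∣ s := by
          rw [← hm]
          exact pow_rootMultiplicity_dvd s 0
        have h2 := natDegree_le_of_dvd h1 hs0
        rw [natDegree_X_sub_C_pow'] at h2
        omega
      have hWs : wronskian G s = X ^ (2 * (e + 1)) := by
        have h1 : wronskian G s = -wronskian F G := by
          rw [hs]
          simp only [wronskian, derivative_sub, derivative_mul, derivative_C, zero_mul, zero_add]
          ring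
        rw [h1, hW, neg_neg]
      obtain ⟨_, hrm⟩ := rm_wr_core G s 0 m hs0 hm (hcast (m + 1) (by omega) hmle) hGe
      rw [hWs, rootMultiplicity_X_pow'] at hrm
      omega
    have hF00 : F.eval 0 = 0 := by
      by_contra hFe
      have hpos : 0 < rootMultiplicity 0 G := (rootMultiplicity_pos hG0).mpr hG00
      obtain ⟨m, hm⟩ : ∃ m, rootMultiplicity 0 G = m + 1 :=
        ⟨rootMultiplicity 0 G - 1, by omega⟩
      have hmle : m + 1 ≤ e + 1 := by
        have h1 : (X - C (0 : k)) ^ (m + 1) ∣ G := by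
          rw [← hm]
          exact pow_rootMultiplicity_dvd G 0
        have h2 := natDegree_le_of_dvd h1 hG0
        rw [natDegree_X_sub_C_pow'] at h2
        omega
      obtain ⟨_, hrm⟩ := rm_wr_core F G 0 m hG0 hm (hcast (m + 1) (by omega) (by omega)) hFe
      rw [hW, rootMultiplicity_neg_X_pow] at hrm
      omega
    obtain ⟨F', rfl⟩ : X ∣ F := X_dvd_iff.mpr (by rwa [coeff_zero_eq_eval_zero])
    obtain ⟨G', rfl⟩ : X ∣ G := X_dvd_iff.mpr (by rwa [coeff_zero_eq_eval_zero])
    have hF'0 : F' ≠ 0 := right_ne_zero_of_mul hF0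
    have hG'0 : G' ≠ 0 := right_ne_zero_of_mul hG0
    have hF'm : F'.Monic := monic_X.of_mul_monic_left hF
    have hG'm : G'.Monic := monic_X.of_mul_monic_left hG
    have hF'd : F'.natDegree = e + 1 := by
      rw [natDegree_X_mul hF'0] at hFd
      omega
    have hG'd : G'.natDegree = e := by
      rw [natDegree_X_mul hG'0] at hGd
      omega
    have hF'c : F'.coeff e = 0 := by rwa [coeff_X_mul] at hFc
    have hW' : wronskian F' G' = -X ^ (2 * e) := by
      rw [wr_mul] at hW
      have h3 : (X : k[X]) ^ 2 * wronskian F' G' = X ^ 2 * (-X ^ (2 * e)) := by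
        rw [hW]
        ring
      exact mul_left_cancel₀ (pow_ne_zero 2 X_ne_zero) h3
    obtain ⟨h1, h2⟩ := ih (hp.imp id (fun h => by omega)) F' G' hF'm hF'd hF'c hG'm hG'd hW'
    exact ⟨by rw [h1]; ring, by rw [h2]; ring⟩

section homog

variable {σ : Type*} (w : σ → ℕ)

/-- bihomogeneity of a polynomial with coefficients in a weighted polynomial ring -/
def IsH (N : ℕ) (Q : (MvPolynomial σ k)[X]) : Prop :=
  ∀ t, (t ≤ N → MvPolynomial.IsWeightedHomogeneous w (Q.coeff t) (N - t)) ∧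
    (N < t → Q.coeff t = 0)

theorem isH_add {N : ℕ} {Q₁ Q₂ : (MvPolynomial σ k)[X]} (h₁ : IsH w N Q₁) (h₂ : IsH w N Q₂) :
    IsH w N (Q₁ + Q₂) := by
  intro t
  refine ⟨fun ht => ?_, fun ht => ?_⟩
  · rw [coeff_add]
    exact ((h₁ t).1 ht).add ((h₂ t).1 ht)
  · rw [coeff_add, (h₁ t).2 ht, (h₂ t).2 ht, add_zero]

theorem isH_sub {N : ℕ} {Q₁ Q₂ : (MvPolynomial σ k)[X]} (h₁ : IsH w N Q₁) (h₂ : IsH w N Q₂) :
    IsH w N (Q₁ - Q₂) := by
  intro t
  refine ⟨fun ht => ?_, fun ht => ?_⟩
  · rw [coeff_sub]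
    exact ((h₁ t).1 ht).sub ((h₂ t).1 ht)
  · rw [coeff_sub, (h₁ t).2 ht, (h₂ t).2 ht, sub_zero]

theorem isH_sum {N : ℕ} {ι : Type*} (s : Finset ι) (Q : ι → (MvPolynomial σ k)[X])
    (h : ∀ i ∈ s, IsH w N (Q i)) : IsH w N (∑ i ∈ s, Q i) := by
  intro t
  refine ⟨fun ht => ?_, fun ht => ?_⟩
  · rw [finsetSum_coeff]
    exact MvPolynomial.IsWeightedHomogeneous.sum s _ _ (fun i hi => ((h i hi) t).1 ht)
  · rw [finsetSum_coeff]
    exact Finset.sum_eq_zero (fun i hi => ((h i hi) t).2 ht)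

theorem isH_X_pow (N : ℕ) : IsH w N (X ^ N : (MvPolynomial σ k)[X]) := by
  intro t
  rw [coeff_X_pow]
  refine ⟨fun ht => ?_, fun ht => ?_⟩
  · by_cases h : t = N
    · rw [if_pos h, h, Nat.sub_self]
      exact MvPolynomial.isWeightedHomogeneous_one k w
    · rw [if_neg h]
      exact MvPolynomial.isWeightedHomogeneous_zero k w _
  · rw [if_neg (by omega)]

theorem isH_C_mul_X_pow (N j : ℕ) (v : σ) (hv : w v + j = N) :
    IsH w N (C (MvPolynomial.X v : MvPolynomial σ k) * X ^ j) := by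
  intro t
  rw [coeff_C_mul_X_pow]
  refine ⟨fun ht => ?_, fun ht => ?_⟩
  · by_cases h : t = j
    · rw [if_pos h]
      have e1 : N - t = w v := by omega
      rw [e1]
      exact MvPolynomial.isWeightedHomogeneous_X k w v
    · rw [if_neg h]
      exact MvPolynomial.isWeightedHomogeneous_zero k w _
  · rw [if_neg (by omega)]

theorem isH_mul {N₁ N₂ : ℕ} {Q₁ Q₂ : (MvPolynomial σ k)[X]} (h₁ : IsH w N₁ Q₁)
    (h₂ : IsH w N₂ Q₂) : IsH w (N₁ + N₂) (Q₁ * Q₂) := by
  intro t
  rw [coeff_mul]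
  refine ⟨fun ht => ?_, fun ht => ?_⟩
  · apply MvPolynomial.IsWeightedHomogeneous.sum
    rintro ⟨i, j⟩ hij
    have hij' : i + j = t := Finset.HasAntidiagonal.mem_antidiagonal.mp hij
    show MvPolynomial.IsWeightedHomogeneous w (Q₁.coeff i * Q₂.coeff j) (N₁ + N₂ - t)
    by_cases hi : i ≤ N₁
    · by_cases hj : j ≤ N₂
      · have e1 : (N₁ - i) + (N₂ - j) = N₁ + N₂ - t := by omega
        rw [← e1]
        exact ((h₁ i).1 hi).mul ((h₂ j).1 hj)
      · rw [(h₂ j).2 (by omega), mul_zero]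
        exact MvPolynomial.isWeightedHomogeneous_zero k w _
    · rw [(h₁ i).2 (by omega), zero_mul]
      exact MvPolynomial.isWeightedHomogeneous_zero k w _
  · apply Finset.sum_eq_zero
    rintro ⟨i, j⟩ hij
    have hij' : i + j = t := Finset.HasAntidiagonal.mem_antidiagonal.mp hij
    show Q₁.coeff i * Q₂.coeff j = 0
    by_cases hi : N₁ < i
    · rw [(h₁ i).2 hi, zero_mul]
    · rw [(h₂ j).2 (by omega), mul_zero]

theorem isH_derivative {N : ℕ} {Q : (MvPolynomial σ k)[X]} (h : IsH w (N + 1) Q) :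
    IsH w N (derivative Q) := by
  intro t
  rw [coeff_derivative]
  refine ⟨fun ht => ?_, fun ht => ?_⟩
  · have h1 := (h (t + 1)).1 (by omega)
    have e1 : N + 1 - (t + 1) = N - t := by omega
    rw [e1] at h1
    have h2 : MvPolynomial.IsWeightedHomogeneous w ((t : MvPolynomial σ k) + 1) 0 := by
      have e2 : ((t : MvPolynomial σ k) + 1) = MvPolynomial.C ((t : k) + 1) := by simp
      rw [e2]
      exact MvPolynomial.isWeightedHomogeneous_C w _
    have h3 := h1.mul h2
    rwa [add_zero] at h3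
  · rw [(h (t + 1)).2 (by omega), zero_mul]

end homog

/-- the weights of the coefficient variables -/
def wt (e : ℕ) : Fin e ⊕ Fin e → ℕ := Sum.elim (fun j => e + 1 - j) (fun j => e - j)

theorem wt_pos (e : ℕ) (v : Fin e ⊕ Fin e) : 0 < wt e v := by
  rcases v with j | j
  · simp only [wt, Sum.elim_inl]
    omega
  · simp only [wt, Sum.elim_inr]
    have := j.2
    omega

variable (k)

/-- the universal first polynomial -/
noncomputable def UF (e : ℕ) : (MvPolynomial (Fin e ⊕ Fin e) k)[X] :=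
  PF e (fun j => MvPolynomial.X (Sum.inl j))

/-- the universal second polynomial -/
noncomputable def UG (e : ℕ) : (MvPolynomial (Fin e ⊕ Fin e) k)[X] :=
  PG e (fun j => MvPolynomial.X (Sum.inr j))

theorem isH_UF (e : ℕ) : IsH (wt e) (e + 1) (UF k e) := by
  rw [UF, PF]
  apply isH_add
  · exact isH_X_pow _ _
  · apply isH_sum
    intro j _
    apply isH_C_mul_X_pow
    simp only [wt, Sum.elim_inl]
    have := j.2
    omega

theorem isH_UG (e : ℕ) : IsH (wt e) e (UG k e) := by
  rw [UG, PG]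
  apply isH_add
  · exact isH_X_pow _ _
  · apply isH_sum
    intro j _
    apply isH_C_mul_X_pow
    simp only [wt, Sum.elim_inr]
    have := j.2
    omega

theorem isH_wronskian (e' : ℕ) :
    IsH (wt (e' + 1)) (2 * (e' + 1)) (wronskian (UF k (e' + 1)) (UG k (e' + 1))) := by
  have hF := isH_UF k (e' + 1)
  have hG := isH_UG k (e' + 1)
  have hF' := isH_derivative _ hF
  have hG' := isH_derivative _ hG
  have h1 := isH_mul _ hF hG'
  have h2 := isH_mul _ hF' hG
  have e1 : e' + 1 + 1 + e' = 2 * (e' + 1) := by ring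
  have e2 : e' + 1 + (e' + 1) = 2 * (e' + 1) := by ring
  rw [e1] at h1
  rw [e2] at h2
  exact isH_sub _ h1 h2

/-- the equations: coefficients of the universal Wronskian -/
noncomputable def gpoly (e : ℕ) (t : ℕ) : MvPolynomial (Fin e ⊕ Fin e) k :=
  (wronskian (UF k e) (UG k e)).coeff t

theorem eval_gpoly (e t : ℕ) (x : Fin e ⊕ Fin e → k) :
    MvPolynomial.eval x (gpoly k e t) =
      (wronskian (PF e (fun j => x (Sum.inl j))) (PG e (fun j => x (Sum.inr j)))).coeff t := by
  have h := (Polynomial.coeff_map (p := wronskian (UF k e) (UG k e)) (MvPolynomial.eval x) t).symm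
  rw [gpoly, h, map_wronskian, UF, UG, map_PF, map_PG]
  simp only [MvPolynomial.eval_X]

theorem finite_sol [IsAlgClosed k] (p : ℕ) [CharP k p] (e : ℕ) (hp : p = 0 ∨ e + 1 < p)
    (c : Fin (2 * e) → k) :
    {x : Fin e ⊕ Fin e → k | ∀ t : Fin (2 * e), MvPolynomial.eval x (gpoly k e t) = c t}.Finite := by
  rcases e with _ | e'
  · exact Set.subsingleton_of_subsingleton.finite
  · refine Groth.Agent.Helper6.WHFin.finite_of_homogeneous_system (wt (e' + 1)) (wt_pos _)
      (fun t : Fin (2 * (e' + 1)) => gpoly k (e' + 1) t) (fun t => 2 * (e' + 1) - t) ?_ ?_ ?_ c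
    · intro t
      have := t.2
      omega
    · intro t
      exact ((isH_wronskian k e') t).1 (le_of_lt t.2)
    · intro x hx
      obtain ⟨F, hF⟩ : ∃ F : k[X], F = PF (e' + 1) (fun j => x (Sum.inl j)) := ⟨_, rfl⟩
      obtain ⟨G, hG⟩ : ∃ G : k[X], G = PG (e' + 1) (fun j => x (Sum.inr j)) := ⟨_, rfl⟩
      have hFm : F.Monic := by rw [hF]; exact monic_PF _ _
      have hGm : G.Monic := by rw [hG]; exact monic_PG _ _
      have hFd : F.natDegree = e' + 1 + 1 := by rw [hF]; exact natDegree_PF _ _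
      have hGd : G.natDegree = e' + 1 := by rw [hG]; exact natDegree_PG _ _
      have hFc : F.coeff (e' + 1) = 0 := by rw [hF]; exact coeff_PF_mid _ _
      have hc : ∀ t, t < 2 * (e' + 1) → (wronskian F G).coeff t = 0 := by
        intro t ht
        rw [hF, hG, ← eval_gpoly]
        exact hx ⟨t, ht⟩
      have htop : (wronskian F G).coeff (2 * (e' + 1)) = -1 :=
        coeff_wronskian_top (e' + 1) F G hFm hFd hGm hGd
      have hW0 : wronskian F G ≠ 0 := by
        intro h
        rw [h] at htop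
        simp at htop
      have hdeg : (wronskian F G).natDegree < (e' + 1 + 1) + (e' + 1) := by
        have := natDegree_wronskian_lt_add hW0
        rwa [hFd, hGd] at this
      have hW : wronskian F G = -X ^ (2 * (e' + 1)) := by
        ext t
        rw [coeff_neg, coeff_X_pow]
        rcases lt_trichotomy t (2 * (e' + 1)) with h | h | h
        · rw [hc t h, if_neg (by omega), neg_zero]
        · rw [h, htop, if_pos rfl]
        · rw [coeff_eq_zero_of_natDegree_lt (by omega), if_neg (by omega), neg_zero]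
      obtain ⟨h1, h2⟩ := uniq p (e' + 1) hp F G hFm hFd hFc hGm hGd hW
      funext v
      rcases v with j | j
      · have h3 : F.coeff (j : ℕ) = x (Sum.inl j) := by rw [hF]; exact coeff_PF_fin _ _ j
        rw [h1, coeff_X_pow, if_neg (by have := j.2; omega)] at h3
        exact h3.symm
      · have h3 : G.coeff (j : ℕ) = x (Sum.inr j) := by rw [hG]; exact coeff_PG_fin _ _ j
        rw [h2, coeff_X_pow, if_neg (by have := j.2; omega)] at h3
        exact h3.symm

variable {k}

theorem s13929 [IsAlgClosed k] (p : ℕ) [CharP k p] (d n : ℕ) (P : Fin n → k)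
    (hP : Function.Injective P) (e : Fin n → ℕ) (he : W4c1limliniiii.Admissible p d e)
    (hp : p = 0 ∨ d < p) : (W4c1limliniiii.ramMaps d P e).Finite := by
  obtain ⟨hadm, hsum⟩ := he
  have h2n : n * 2 ≤ ∑ i, e i := by
    have h : ∑ _i : Fin n, 2 ≤ ∑ i, e i := Finset.sum_le_sum (fun i _ => (hadm i).1)
    rw [Finset.sum_const, Finset.card_univ, Fintype.card_fin, smul_eq_mul] at h
    exact h
  obtain ⟨e', rfl⟩ : ∃ e', d = e' + 1 := ⟨d - 1, by omega⟩
  obtain ⟨W, hWdef⟩ : ∃ W : k[X], W = ∏ i, (X - C (P i)) ^ (e i - 1) := ⟨_, rfl⟩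
  have hWm : W.Monic := by
    rw [hWdef]
    exact monic_prod_of_monic _ _ (fun i _ => (monic_X_sub_C _).pow _)
  have hWd : W.natDegree = 2 * e' := by
    rw [hWdef, natDegree_prod_of_monic _ _ (fun i _ => (monic_X_sub_C _).pow _)]
    simp only [natDegree_X_sub_C_pow']
    have h1 : ∑ i, (e i - 1) + n = ∑ i, e i := by
      have h : ∑ i : Fin n, (e i - 1) + ∑ _i : Fin n, 1 = ∑ i, e i := by
        rw [← Finset.sum_add_distrib]
        exact Finset.sum_congr rfl (fun i _ => by have := (hadm i).1; omega)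
      rw [Finset.sum_const, Finset.card_univ, Fintype.card_fin, smul_eq_mul, mul_one] at h
      exact h
    omega
  have hfin := finite_sol k p e' hp (fun t => -W.coeff t)
  refine Set.Finite.subset (hfin.image (fun x => Submodule.span k
    ({PF e' (fun j => x (Sum.inl j)), PG e' (fun j => x (Sum.inr j))} : Set k[X]))) ?_
  intro V hV
  obtain ⟨⟨hVle, hVfin, ⟨s₀, hs₀V, hs₀d⟩, hbpf⟩, hsep, hram⟩ := hV
  haveI : FiniteDimensional k V := Module.finite_of_finrank_pos (by rw [hVfin]; norm_num)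
  have hs₀0 : s₀ ≠ 0 := by
    rintro rfl
    simp at hs₀d
  have hex : ∃ t ∈ V, t ∉ Submodule.span k ({s₀} : Set k[X]) := by
    by_contra hcon
    push Not at hcon
    have hle : V ≤ Submodule.span k ({s₀} : Set k[X]) := fun t ht => hcon t ht
    have h1 := Submodule.finrank_mono hle
    rw [hVfin, finrank_span_singleton hs₀0] at h1
    omega
  obtain ⟨t₀, ht₀V, ht₀⟩ := hex
  have hs₀lc : s₀.coeff (e' + 1) ≠ 0 := by
    rw [← hs₀d]
    exact leadingCoeff_ne_zero.mpr hs₀0
  obtain ⟨G₀, hG₀⟩ : ∃ G₀ : k[X],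
      G₀ = t₀ - (t₀.coeff (e' + 1) / s₀.coeff (e' + 1)) • s₀ := ⟨_, rfl⟩
  have hG₀V : G₀ ∈ V := by
    rw [hG₀]
    exact V.sub_mem ht₀V (V.smul_mem _ hs₀V)
  have hG₀0 : G₀ ≠ 0 := by
    intro h
    apply ht₀
    rw [hG₀, sub_eq_zero] at h
    rw [h]
    exact Submodule.smul_mem _ _ (Submodule.mem_span_singleton_self _)
  have hG₀c : G₀.coeff (e' + 1) = 0 := by
    rw [hG₀, coeff_sub, coeff_smul, smul_eq_mul, div_mul_cancel₀ _ hs₀lc, sub_self]
  have hG₀le : G₀.natDegree ≤ e' + 1 :=
    natDegree_le_iff_degree_le.mpr (mem_degreeLE.mp (hVle hG₀V))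
  have hG₀lt : G₀.natDegree < e' + 1 := by
    rcases Nat.lt_or_ge G₀.natDegree (e' + 1) with h | h
    · exact h
    · exfalso
      have h' : G₀.natDegree = e' + 1 := le_antisymm hG₀le h
      have h3 := leadingCoeff_ne_zero.mpr hG₀0
      rw [leadingCoeff, h'] at h3
      exact h3 hG₀c
  have hli : LinearIndependent k ![s₀, G₀] := li_of_natDegree_lt s₀ G₀ hG₀0 (by omega)
  have hspan₀ : Submodule.span k ({s₀, G₀} : Set k[X]) = V := by
    apply Submodule.eq_of_le_of_finrank_eq
    · rw [Submodule.span_le, Set.insert_subset_iff, Set.singleton_subset_iff]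
      exact ⟨hs₀V, hG₀V⟩
    · rw [finrank_span_pair s₀ G₀ hli, hVfin]
  have hdvd : ∀ A B : k[X], Submodule.span k ({A, B} : Set k[X]) = V → W ∣ wronskian A B := by
    intro A B hAB
    rw [hWdef]
    apply Fintype.prod_dvd_of_coprime
    · intro i j hij
      exact isCoprime_pow_X_sub_C (hP.ne hij) _ _
    · intro i
      obtain ⟨⟨s, hsV, hs0, hes⟩, _⟩ := hram i
      exact pow_dvd_wronskian_of_mem (P i) (e i) A B s (by rw [hAB]; exact hsV) hs0
        ((le_rootMultiplicity_iff hs0).mp hes)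
  have hsepAB : ∀ A B : k[X], Submodule.span k ({A, B} : Set k[X]) = V →
      wronskian A B ≠ 0 := by
    intro A B hAB
    rw [← isSeparable_span_iff, hAB]
    exact hsep
  have hG₀d : G₀.natDegree = e' := by
    have h1 := hdvd s₀ G₀ hspan₀
    have h2 := hsepAB s₀ G₀ hspan₀
    have h3 := natDegree_le_of_dvd h1 h2
    have h4 := natDegree_wronskian_lt_add h2
    rw [hWd] at h3
    rw [hs₀d] at h4
    omega
  have hlcG : G₀.leadingCoeff ≠ 0 := leadingCoeff_ne_zero.mpr hG₀0
  have hlcF : s₀.leadingCoeff ≠ 0 := leadingCoeff_ne_zero.mpr hs₀0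
  obtain ⟨G₁, hG₁⟩ : ∃ G₁ : k[X], G₁ = (G₀.leadingCoeff)⁻¹ • G₀ := ⟨_, rfl⟩
  obtain ⟨F₁, hF₁⟩ : ∃ F₁ : k[X], F₁ = (s₀.leadingCoeff)⁻¹ • s₀ := ⟨_, rfl⟩
  have hG₁m : G₁.Monic := by
    rw [hG₁, Monic, smul_eq_C_mul, leadingCoeff_mul, leadingCoeff_C, inv_mul_cancel₀ hlcG]
  have hF₁m : F₁.Monic := by
    rw [hF₁, Monic, smul_eq_C_mul, leadingCoeff_mul, leadingCoeff_C, inv_mul_cancel₀ hlcF]
  have hG₁d : G₁.natDegree = e' := by
    rw [hG₁, smul_eq_C_mul, natDegree_C_mul (inv_ne_zero hlcG), hG₀d]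
  have hF₁d : F₁.natDegree = e' + 1 := by
    rw [hF₁, smul_eq_C_mul, natDegree_C_mul (inv_ne_zero hlcF), hs₀d]
  have hspan₁ : Submodule.span k ({F₁, G₁} : Set k[X]) = V := by
    rw [hF₁, hG₁, span_pair_smul_smul s₀ G₀ _ _ (inv_ne_zero hlcF) (inv_ne_zero hlcG), hspan₀]
  obtain ⟨F₂, hF₂⟩ : ∃ F₂ : k[X], F₂ = F₁ - (F₁.coeff e') • G₁ := ⟨_, rfl⟩
  have hspan₂ : Submodule.span k ({F₂, G₁} : Set k[X]) = V := by
    rw [hF₂, Set.pair_comm, span_pair_sub_smul G₁ F₁ (F₁.coeff e'), Set.pair_comm, hspan₁]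
  have hsub : ((F₁.coeff e') • G₁).natDegree < F₁.natDegree :=
    lt_of_le_of_lt (natDegree_smul_le _ _) (by omega)
  have hF₂d : F₂.natDegree = e' + 1 := by
    rw [hF₂, natDegree_sub_eq_left_of_natDegree_lt hsub, hF₁d]
  have hF₂m : F₂.Monic := by
    rw [hF₂]
    exact hF₁m.sub_of_left (degree_lt_degree hsub)
  have hG₁c : G₁.coeff e' = 1 := by
    have := hG₁m.coeff_natDegree
    rwa [hG₁d] at this
  have hF₂c : F₂.coeff e' = 0 := by
    rw [hF₂, coeff_sub, coeff_smul, smul_eq_mul, hG₁c, mul_one, sub_self]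
  have hWr0 := hsepAB F₂ G₁ hspan₂
  obtain ⟨q, hq⟩ := hdvd F₂ G₁ hspan₂
  have hq0 : q ≠ 0 := by
    rintro rfl
    rw [mul_zero] at hq
    exact hWr0 hq
  have hqd : q.natDegree = 0 := by
    have h4 := natDegree_wronskian_lt_add hWr0
    rw [hq, hWm.natDegree_mul' hq0, hWd, hF₂d, hG₁d] at h4
    omega
  have htop := coeff_wronskian_top e' F₂ G₁ hF₂m hF₂d hG₁m hG₁d
  have hqC : q = C (q.coeff 0) := eq_C_of_natDegree_eq_zero hqd
  have hWc : W.coeff (2 * e') = 1 := by
    have := hWm.coeff_natDegree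
    rwa [hWd] at this
  have hqc : q.coeff 0 = -1 := by
    rw [hq, hqC, coeff_mul_C, hWc, one_mul] at htop
    exact htop
  have hWr : wronskian F₂ G₁ = -W := by
    rw [hq, hqC, hqc]
    simp
  obtain ⟨x, hx⟩ : ∃ x : Fin e' ⊕ Fin e' → k,
      x = Sum.elim (fun j : Fin e' => F₂.coeff (j : ℕ)) (fun j : Fin e' => G₁.coeff (j : ℕ)) :=
    ⟨_, rfl⟩
  have hPF : PF e' (fun j => x (Sum.inl j)) = F₂ := by
    rw [hx]
    simp only [Sum.elim_inl]
    ext t
    rw [coeff_PF]
    by_cases h1 : t < e'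
    · rw [if_neg (by omega), dif_pos h1, zero_add]
    · rw [dif_neg h1, add_zero]
      by_cases h2 : t = e' + 1
      · rw [if_pos h2, h2, ← hF₂d, hF₂m.coeff_natDegree]
      · rw [if_neg h2]
        by_cases h3 : t = e'
        · rw [h3, hF₂c]
        · rw [coeff_eq_zero_of_natDegree_lt (by omega)]
  have hPG : PG e' (fun j => x (Sum.inr j)) = G₁ := by
    rw [hx]
    simp only [Sum.elim_inr]
    ext t
    rw [coeff_PG]
    by_cases h1 : t < e'
    · rw [if_neg (by omega), dif_pos h1, zero_add]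
    · rw [dif_neg h1, add_zero]
      by_cases h2 : t = e'
      · rw [if_pos h2, h2, hG₁c]
      · rw [if_neg h2, coeff_eq_zero_of_natDegree_lt (by omega)]
  refine ⟨x, ?_, ?_⟩
  · intro t
    rw [eval_gpoly, hPF, hPG, hWr, coeff_neg]
  · show Submodule.span k ({PF e' (fun j => x (Sum.inl j)),
      PG e' (fun j => x (Sum.inr j))} : Set k[X]) = V
    rw [hPF, hPG]
    exact hspan₂

end Groth.Agent.Helper6.PencilFin
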