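import Mathlib

set_option autoImplicit false

namespace Groth.Agent.Helper6.PerfDet

open Matrix Polynomial

theorem matrix_key {K : Type*} [Field K] {ι : Type*} [Fintype ι] [DecidableEq ι]
    (F G : Matrix ι ι K) (c : K) (hc : c ≠ 0) (h : Fᵀ * G = c • (1 : Matrix ι ι K)) :
    F.det • G.charpoly.reverse =
      ((-1) ^ Fintype.card ι * c ^ Fintype.card ι) • (c⁻¹ • F).charpoly := by
  rw [Matrix.reverse_charpoly, Matrix.charpolyRev, ← Matrix.charpoly_transpose (c⁻¹ • F),
    Matrix.charpoly, Matrix.charmatrix]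
  have h1 : (C F.det : K[X]) = (Fᵀ.map C).det := by
    rw [← Matrix.det_transpose F]
    exact (RingHom.map_det (C : K →+* K[X]) Fᵀ)
  rw [Polynomial.smul_eq_C_mul, Polynomial.smul_eq_C_mul, h1, ← Matrix.det_mul]
  have h2 : (C ((-1) ^ Fintype.card ι * c ^ Fintype.card ι) : K[X]) =
      (C (-c)) ^ Fintype.card ι := by
    rw [← map_pow, neg_pow c]
  rw [h2, ← Matrix.det_smul]
  congr 1
  have h3 : (Fᵀ.map C : Matrix ι ι K[X]) * G.map C = C c • (1 : Matrix ι ι K[X]) := by
    have := congrArg (fun A : Matrix ι ι K => A.map (C : K → K[X])) h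
    simp only [Matrix.map_mul] at this
    rw [this]
    ext i j
    by_cases hij : i = j
    · subst hij; simp
    · simp [Matrix.one_apply_ne hij]
  rw [Matrix.mul_sub, Matrix.mul_one, Matrix.mul_smul, h3]
  ext i j : 1
  simp only [Matrix.sub_apply, Matrix.smul_apply, Matrix.map_apply, Matrix.scalar_apply,
    Matrix.diagonal_apply, RingHom.mapMatrix_apply, Matrix.transpose_apply, smul_eq_mul]
  by_cases hij : i = j
  · subst hij
    simp only [if_true, Matrix.one_apply_eq, mul_one, map_mul, map_neg]
    have : (C c : K[X]) * C c⁻¹ = 1 := by rw [← map_mul, mul_inv_cancel₀ hc, map_one]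
    linear_combination (-(C (F i i) : K[X])) * this
  · simp only [if_neg hij, Matrix.one_apply_ne hij, mul_zero, map_mul, map_neg]
    have : (C c : K[X]) * C c⁻¹ = 1 := by rw [← map_mul, mul_inv_cancel₀ hc, map_one]
    linear_combination (-(C (F j i) : K[X])) * this


theorem main (K : Type*) [Field K] (V W : Type*)
    [AddCommGroup V] [Module K V] [FiniteDimensional K V] [AddCommGroup W] [Module K W]
    [FiniteDimensional K W] (B : V →ₗ[K] W →ₗ[K] K) [B.IsPerfPair] (f : V →ₗ[K] V) (g : W →ₗ[K] W)
    (c : K) (hc : c ≠ 0) (hfg : ∀ (v : V) (w : W), B (f v) (g w) = c * B v w) :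
    LinearMap.det f • (LinearMap.charpoly g).reverse =
      ((-1) ^ Module.finrank K W * c ^ Module.finrank K W) • (c⁻¹ • f).charpoly := by
  classical
  let b : Module.Basis (Fin (Module.finrank K V)) K V := Module.finBasis K V
  let e : W ≃ₗ[K] Module.Dual K V :=
    LinearEquiv.ofBijective B.flip (LinearMap.IsPerfPair.bijective_right B)
  let b' : Module.Basis (Fin (Module.finrank K V)) K W := b.dualBasis.map e.symm
  have hy : ∀ (y : W) k, b'.repr y k = B (b k) y := by
    intro y k
    simp [b', e]
  have hB : ∀ x y, B x y = ∑ k, b.repr x k * b'.repr y k := by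
    intro x y
    conv_lhs => rw [← b.sum_repr x]
    rw [map_sum, LinearMap.sum_apply]
    refine Finset.sum_congr rfl fun k _ => ?_
    rw [map_smul, LinearMap.smul_apply, smul_eq_mul, hy]
  have hFG : (LinearMap.toMatrix b b f)ᵀ * LinearMap.toMatrix b' b' g =
      c • (1 : Matrix (Fin (Module.finrank K V)) (Fin (Module.finrank K V)) K) := by
    ext i j
    rw [Matrix.mul_apply]
    have h1 := hfg (b i) (b' j)
    rw [hB, hB] at h1
    simp only [Matrix.transpose_apply, LinearMap.toMatrix_apply, Matrix.smul_apply, smul_eq_mul]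
    rw [h1]
    congr 1
    simp [Matrix.one_apply, Finsupp.single_apply]
  have hkey := matrix_key _ _ c hc hFG
  rw [← map_smul, Fintype.card_fin] at hkey
  have hr : Module.finrank K W = Module.finrank K V := by
    rw [Module.finrank_eq_card_basis b', Fintype.card_fin]
  rw [hr, ← LinearMap.det_toMatrix b, ← LinearMap.charpoly_toMatrix g b',
    ← LinearMap.charpoly_toMatrix (c⁻¹ • f) b]
  exact hkey

end Groth.Agent.Helper6.PerfDet
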