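import Mathlib
import Groth.Prelude.Def_FrobAlg
import Groth.Prelude.Def_W4c1imperftorsorsPerf
import Groth.Agent.Helper8.PerfFlat
import Groth.Agent.S13045

set_option autoImplicit false
set_option linter.style.haveILetI false
set_option linter.unusedSectionVars false

universe u
open TensorProduct

namespace Groth.Agent.Helper6.PerfML

/-- Transitivity of projectivity. -/
theorem projective_trans (R S M : Type*) [CommRing R] [CommRing S] [Algebra R S] [AddCommGroup M]
    [Module S M] [Module R M] [IsScalarTower R S M] [Module.Projective R S]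
    [Module.Projective S M] : Module.Projective R M := by
  obtain ⟨s, hs⟩ := (Module.projective_def' (R := R) (P := S)).mp inferInstance
  obtain ⟨t, ht⟩ := (Module.projective_def' (R := S) (P := M)).mp inferInstance
  haveI h1 : Module.Projective R (M →₀ S) :=
    Module.Projective.of_split (M := M →₀ (S →₀ R)) (Finsupp.mapRange.linearMap s)
      (Finsupp.mapRange.linearMap (Finsupp.linearCombination R id)) (by
        rw [← Finsupp.mapRange.linearMap_comp, hs, Finsupp.mapRange.linearMap_id])
  exact Module.Projective.of_split (M := M →₀ S) (t.restrictScalars R)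
    ((Finsupp.linearCombination S id).restrictScalars R) (by
      ext x; exact LinearMap.congr_fun ht x)

set_option linter.unusedVariables false in
/-- A copy of `R`, an `R`-algebra through the `n`-th iterate of Frobenius. -/
def Mn (p : ℕ) (R : Type u) (n : ℕ) : Type u := R

section
variable (p : ℕ) [Fact p.Prime] (R : Type u) [CommRing R] [CharP R p]

instance (n : ℕ) : CommRing (Mn p R n) := inferInstanceAs (CommRing R)

/-- identity -/
def toMn (n : ℕ) : R ≃+* Mn p R n := RingEquiv.refl R

noncomputable instance algMn (n : ℕ) : Algebra R (Mn p R n) :=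
  ((toMn p R n : R →+* Mn p R n).comp (iterateFrobenius R p n)).toAlgebra

theorem algebraMap_Mn (n : ℕ) (r : R) :
    algebraMap R (Mn p R n) r = toMn p R n (r ^ p ^ n) := rfl

theorem smul_Mn (n : ℕ) (r : R) (t : Mn p R n) : r • t = toMn p R n (r ^ p ^ n) * t := by
  rw [Algebra.smul_def, algebraMap_Mn]

noncomputable instance algStep (n : ℕ) : Algebra (Mn p R n) (Mn p R (n + 1)) :=
  ((toMn p R (n + 1) : R →+* Mn p R (n + 1)).comp
    ((frobenius R p).comp ((toMn p R n).symm : Mn p R n →+* R))).toAlgebra

theorem algebraMap_step (n : ℕ) (s : Mn p R n) :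
    algebraMap (Mn p R n) (Mn p R (n + 1)) s =
      toMn p R (n + 1) (((toMn p R n).symm s) ^ p) := rfl

instance towerStep (n : ℕ) : IsScalarTower R (Mn p R n) (Mn p R (n + 1)) :=
  IsScalarTower.of_algebraMap_eq (fun r => by
    rw [algebraMap_Mn, algebraMap_step, algebraMap_Mn, RingEquiv.symm_apply_apply, ← pow_mul,
      ← pow_succ])

theorem projective_step (hproj : Module.Projective R (FrobAlg.Twist p R)) (n : ℕ) :
    Module.Projective (Mn p R n) (Mn p R (n + 1)) := hproj

theorem projective_Mn (hproj : Module.Projective R (FrobAlg.Twist p R)) (n : ℕ) :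
    Module.Projective R (Mn p R n) := by
  induction n with
  | zero =>
    let e : R ≃ₗ[R] Mn p R 0 :=
      { toFun := toMn p R 0
        map_add' := map_add _
        map_smul' := fun r t => by
          rw [smul_Mn, RingHom.id_apply, smul_eq_mul, map_mul, pow_zero, pow_one]
        invFun := (toMn p R 0).symm
        left_inv := (toMn p R 0).left_inv
        right_inv := (toMn p R 0).right_inv }
    exact Module.Projective.of_equiv e
  | succ n ih =>
    haveI := ih
    haveI := projective_step p R hproj n
    exact projective_trans R (Mn p R n) (Mn p R (n + 1))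

theorem frobenius_ff (hproj : Module.Projective R (FrobAlg.Twist p R)) :
    Module.FaithfullyFlat R (FrobAlg.Twist p R) := by
  haveI : Module.Flat R (FrobAlg.Twist p R) := inferInstance
  refine ⟨?_⟩
  intro m hm htop
  let N : Submodule R (FrobAlg.Twist p R) :=
    { carrier := {t | (FrobAlg.toTwist p R).symm t ∈ m}
      add_mem' := fun {a b} ha hb => by
        simp only [Set.mem_ofPred_eq, map_add] at ha hb ⊢
        exact m.add_mem ha hb
      zero_mem' := by simp
      smul_mem' := fun a t ht => by
        simp only [Set.mem_ofPred_eq] at ht ⊢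
        rw [Algebra.smul_def, FrobAlg.algebraMap_twist, map_mul, RingEquiv.symm_apply_apply]
        exact m.mul_mem_left _ ht }
  have hle : m • (⊤ : Submodule R (FrobAlg.Twist p R)) ≤ N := by
    rw [Submodule.smul_le]
    intro a ha t _
    show (FrobAlg.toTwist p R).symm (a • t) ∈ m
    rw [Algebra.smul_def, FrobAlg.algebraMap_twist, map_mul, RingEquiv.symm_apply_apply]
    exact m.mul_mem_right _ (m.pow_mem_of_mem ha p (Fact.out : p.Prime).pos)
  have h1 : (1 : FrobAlg.Twist p R) ∈ N := hle (by rw [htop]; exact Submodule.mem_top)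
  have h2 : (1 : R) ∈ m := by
    have h3 : (FrobAlg.toTwist p R).symm 1 ∈ m := h1
    rwa [map_one] at h3
  exact hm.ne_top ((Ideal.eq_top_iff_one m).mpr h2)

theorem frobenius_flat (hproj : Module.Projective R (FrobAlg.Twist p R)) :
    (frobenius R p).Flat := by
  have : Module.Flat R (FrobAlg.Twist p R) := inferInstance
  exact this

theorem frobenius_injective (hproj : Module.Projective R (FrobAlg.Twist p R)) :
    Function.Injective (frobenius R p) := by
  haveI := frobenius_ff p R hproj
  have := FaithfulSMul.algebraMap_injective R (FrobAlg.Twist p R)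
  exact this

theorem of_ff (hproj : Module.Projective R (FrobAlg.Twist p R)) :
    (PerfectClosure.of R p).FaithfullyFlat := by
  have hfl := Groth.Agent.Helper8.PerfFlat.of_flat p R (frobenius_injective p R hproj)
    (Groth.Agent.Helper8.PerfFlat.iterateFrobenius_flat p R (frobenius_flat p R hproj))
  rw [RingHom.FaithfullyFlat]
  let _ : Algebra R (PerfectClosure R p) := (PerfectClosure.of R p).toAlgebra
  refine @Module.FaithfullyFlat.mk _ _ _ _ _ hfl ?_
  intro m hm htop
  rw [Ideal.smul_top_eq_map] at htop
  apply Groth.Agent.Helper8.PerfFlat.map_ne_top p R m hm.ne_top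
  apply Submodule.restrictScalars_injective R
  exact htop

/-- `R`-algebra structure of the perfect closure. -/
@[reducible] noncomputable def perfAlg : Algebra R (PerfectClosure R p) :=
  (PerfectClosure.of R p).toAlgebra

attribute [local instance] perfAlg

/-- `r ↦ r^{1/p^n}`. -/
noncomputable def iota (n : ℕ) : Mn p R n →+* PerfectClosure R p :=
  ((iterateFrobeniusEquiv (PerfectClosure R p) p n).symm :
      PerfectClosure R p →+* PerfectClosure R p).comp
    ((PerfectClosure.of R p).comp ((toMn p R n).symm : Mn p R n →+* R))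

theorem iota_apply (n : ℕ) (r : R) :
    iota p R n (toMn p R n r) = PerfectClosure.mk R p (n, r) := by
  show (iterateFrobeniusEquiv (PerfectClosure R p) p n).symm (PerfectClosure.of R p r) = _
  rw [RingEquiv.symm_apply_eq, coe_iterateFrobeniusEquiv]
  exact (Groth.Agent.Helper8.PerfFlat.iterFrob_mk p R n r).symm

noncomputable instance algIota (n : ℕ) : Algebra (Mn p R n) (PerfectClosure R p) :=
  (iota p R n).toAlgebra

theorem algebraMap_iota (n : ℕ) (s : Mn p R n) :
    algebraMap (Mn p R n) (PerfectClosure R p) s = iota p R n s := rfl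

instance towerIota (n : ℕ) : IsScalarTower R (Mn p R n) (PerfectClosure R p) :=
  IsScalarTower.of_algebraMap_eq (fun r => by
    rw [algebraMap_iota, algebraMap_Mn, iota_apply]
    show PerfectClosure.of R p r = _
    rw [PerfectClosure.of_apply, PerfectClosure.R.sound R p n 0 r _ rfl, add_zero,
      iterate_frobenius])

theorem iota_ff (hproj : Module.Projective R (FrobAlg.Twist p R)) (n : ℕ) :
    Module.FaithfullyFlat (Mn p R n) (PerfectClosure R p) := by
  have h1 : ((toMn p R n).symm : Mn p R n →+* R).FaithfullyFlat :=
    RingHom.FaithfullyFlat.of_bijective (toMn p R n).symm.bijective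
  have h2 := of_ff p R hproj
  have h3 : ((iterateFrobeniusEquiv (PerfectClosure R p) p n).symm :
      PerfectClosure R p →+* PerfectClosure R p).FaithfullyFlat :=
    RingHom.FaithfullyFlat.of_bijective (RingEquiv.bijective _)
  have h4 : (iota p R n).FaithfullyFlat :=
    RingHom.FaithfullyFlat.stableUnderComposition _ _
      (RingHom.FaithfullyFlat.stableUnderComposition _ _ h1 h2) h3
  exact RingHom.faithfullyFlat_algebraMap_iff.mp h4

/-- `iota` as an `R`-linear map. -/
noncomputable def iotaL (n : ℕ) : Mn p R n →ₗ[R] PerfectClosure R p :=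
  (Algebra.linearMap (Mn p R n) (PerfectClosure R p)).restrictScalars R

theorem iotaL_apply (n : ℕ) (s : Mn p R n) : iotaL p R n s = iota p R n s := rfl

theorem pure_iota (hproj : Module.Projective R (FrobAlg.Twist p R)) (n : ℕ)
    (N : Type u) [AddCommGroup N] [Module R N] :
    Function.Injective (LinearMap.rTensor N (iotaL p R n)) := by
  haveI := iota_ff p R hproj n
  have h1 := Module.FaithfullyFlat.tensorProduct_mk_injective (A := Mn p R n)
    (B := PerfectClosure R p) (Mn p R n ⊗[R] N)
  let e := TensorProduct.AlgebraTensorModule.cancelBaseChange R (Mn p R n) (Mn p R n)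
    (PerfectClosure R p) N
  have key : ∀ z : Mn p R n ⊗[R] N, LinearMap.rTensor N (iotaL p R n) z =
      e (TensorProduct.mk (Mn p R n) (PerfectClosure R p) (Mn p R n ⊗[R] N) 1 z) := by
    intro z
    induction z using TensorProduct.induction_on with
    | zero => simp
    | tmul s x =>
      rw [LinearMap.rTensor_tmul, TensorProduct.mk_apply,
        TensorProduct.AlgebraTensorModule.cancelBaseChange_tmul, iotaL_apply, Algebra.smul_def,
        mul_one, algebraMap_iota]
    | add a b ha hb => rw [map_add, map_add, map_add, ha, hb]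
  intro a b hab
  rw [key, key] at hab
  exact h1 (e.injective hab)

/-- transition maps -/
noncomputable def trans (n d : ℕ) : Mn p R n →ₗ[R] Mn p R (d + n) where
  toFun t := toMn p R (d + n) (((toMn p R n).symm t) ^ p ^ d)
  map_add' a b := by
    rw [map_add, add_pow_char_pow, map_add]
  map_smul' r t := by
    have h : (r ^ p ^ n) ^ p ^ d = r ^ p ^ (d + n) := by rw [← pow_mul, pow_add, mul_comm]
    rw [RingHom.id_apply, smul_Mn, smul_Mn, map_mul, RingEquiv.symm_apply_apply, mul_pow, map_mul,
      h]

theorem iota_trans (n d : ℕ) (t : Mn p R n) :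
    iotaL p R (d + n) (trans p R n d t) = iotaL p R n t := by
  obtain ⟨r, rfl⟩ := (toMn p R n).surjective t
  rw [iotaL_apply, iotaL_apply, iota_apply]
  show iota p R (d + n) (toMn p R (d + n) (((toMn p R n).symm (toMn p R n r)) ^ p ^ d)) = _
  rw [RingEquiv.symm_apply_apply, iota_apply]
  exact (PerfectClosure.R.sound R p d n r _ (iterate_frobenius _ _ _)).symm

theorem exists_rTensor_eq (Q : Type u) [AddCommGroup Q] [Module R Q]
    (x : PerfectClosure R p ⊗[R] Q) :
    ∃ (n : ℕ) (y : Mn p R n ⊗[R] Q), LinearMap.rTensor Q (iotaL p R n) y = x := by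
  have lift : ∀ (n k : ℕ), n ≤ k → ∀ y : Mn p R n ⊗[R] Q, ∃ y' : Mn p R k ⊗[R] Q,
      LinearMap.rTensor Q (iotaL p R k) y' = LinearMap.rTensor Q (iotaL p R n) y := by
    intro n k h y
    obtain ⟨d, rfl⟩ := Nat.exists_eq_add_of_le' h
    refine ⟨LinearMap.rTensor Q (trans p R n d) y, ?_⟩
    rw [← LinearMap.comp_apply, ← LinearMap.rTensor_comp]
    have : iotaL p R (d + n) ∘ₗ trans p R n d = iotaL p R n :=
      LinearMap.ext (iota_trans p R n d)
    rw [this]
  induction x using TensorProduct.induction_on with
  | zero => exact ⟨0, 0, map_zero _⟩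
  | tmul a q =>
    obtain ⟨⟨n, r⟩, rfl⟩ := PerfectClosure.mk_surjective R p a
    exact ⟨n, toMn p R n r ⊗ₜ q, by rw [LinearMap.rTensor_tmul, iotaL_apply, iota_apply]⟩
  | add x x' hx hx' =>
    obtain ⟨n, y, rfl⟩ := hx
    obtain ⟨m, y', rfl⟩ := hx'
    obtain ⟨y1, h1⟩ := lift n (max n m) (le_max_left _ _) y
    obtain ⟨y2, h2⟩ := lift m (max n m) (le_max_right _ _) y'
    exact ⟨max n m, y1 + y2, by rw [map_add, h1, h2]⟩

theorem main (hproj : Module.Projective R (FrobAlg.Twist p R))
    (A : Type u) [CommRing A] [Algebra R A] [CharP A p] :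
    Function.Injective
      (LinearMap.pi fun i : ℕ =>
        LinearMap.lTensor (PerfectClosure R p)
          (((Pi.evalAlgHom R (fun k => W4c1imperftorsors.Twist p R A k) i).comp
            (W4c1imperftorsors.prePerf p R A).val).toLinearMap) :
        PerfectClosure R p ⊗[R] ↥(W4c1imperftorsors.prePerf p R A) →ₗ[R]
          (Π i : ℕ, PerfectClosure R p ⊗[R] W4c1imperftorsors.Twist p R A i)) := by
  rw [injective_iff_map_eq_zero]
  intro x hx
  obtain ⟨n, y, rfl⟩ := exists_rTensor_eq p R _ x
  haveI := projective_Mn p R hproj n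
  have hy : ∀ i : ℕ, LinearMap.lTensor (Mn p R n)
      (((Pi.evalAlgHom R (fun k => W4c1imperftorsors.Twist p R A k) i).comp
            (W4c1imperftorsors.prePerf p R A).val).toLinearMap) y = 0 := by
    intro i
    apply pure_iota p R hproj n
    rw [map_zero, ← LinearMap.comp_apply, LinearMap.rTensor_comp_lTensor,
      ← LinearMap.lTensor_comp_rTensor, LinearMap.comp_apply]
    exact congrFun hx i
  have h0 : y = 0 := by
    apply Groth.Agent.S13045.result p R A (Mn p R n)
    rw [map_zero]
    funext i
    exact hy i
  rw [h0, map_zero]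

end

end Groth.Agent.Helper6.PerfML
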