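import Mathlib
import Groth.Prelude.Def_DRing4
import Groth.Agent.Helper6.PCNilLift
import Groth.Agent.Helper6.RingChangeAmp
import Groth.Agent.Helper6.KilledMod
import Groth.Agent.Helper6.RingChangeTen
import Groth.Agent.Helper6.NilpTor
import Groth.Agent.Helper3.DRingTor6

/-!
# Perfectness of `K ⊗ R/IJ` from perfectness of `K ⊗ R/I` and `K ⊗ R/J`
-/

set_option autoImplicit false
set_option linter.style.haveILetI false
set_option linter.unusedSectionVars false

universe u
open CategoryTheory CategoryTheory.Limits Pretriangulated DerivedCategory TensorProduct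
attribute [local instance] HasDerivedCategory.standard

namespace Groth.Agent.Helper6.PerfMul
open Groth.Agent.Helper3.DRingLib Groth.Agent.Helper6.LBCCompute Groth.Agent.Helper6.LBCPC
open Groth.Agent.Helper6.PCNilLift Groth.Agent.Helper6.FinLenTor

section TwoIdeals

variable {R : Type u} [CommRing R] {X₁ X₂ X₃ : Type u} [AddCommGroup X₁] [Module R X₁]
  [AddCommGroup X₂] [Module R X₂] [AddCommGroup X₃] [Module R X₃]
  {d₁ : X₁ →ₗ[R] X₂} {d₂ : X₂ →ₗ[R] X₃}

theorem exact_rTensor_of_mul_smul_eq_bot (hd : d₂ ∘ₗ d₁ = 0) [Module.Flat R X₃] (I J : Ideal R)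
    (hI : ∀ (N : Type u) [AddCommGroup N] [Module R N], (∀ a ∈ I, ∀ n : N, a • n = 0) →
      ∀ z : X₂ ⊗[R] N, d₂.rTensor N z = 0 → ∃ w : X₁ ⊗[R] N, d₁.rTensor N w = z)
    (hJ : ∀ (N : Type u) [AddCommGroup N] [Module R N], (∀ a ∈ J, ∀ n : N, a • n = 0) →
      ∀ z : X₂ ⊗[R] N, d₂.rTensor N z = 0 → ∃ w : X₁ ⊗[R] N, d₁.rTensor N w = z)
    (N : Type u) [AddCommGroup N] [Module R N] (h : (I * J) • (⊤ : Submodule R N) = ⊥)
    (z : X₂ ⊗[R] N) (hz : d₂.rTensor N z = 0) : ∃ w : X₁ ⊗[R] N, d₁.rTensor N w = z := by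
  have hc : ∀ {X Y : Type u} [AddCommGroup X] [Module R X] [AddCommGroup Y] [Module R Y]
      (f : X →ₗ[R] Y) (N : Type u) [AddCommGroup N] [Module R N] (t : N ⊗[R] X),
      TensorProduct.comm R N Y (f.lTensor N t) = f.rTensor N (TensorProduct.comm R N X t) := by
    intro X Y _ _ _ _ f N _ _ t
    induction t using TensorProduct.induction_on with
    | zero => simp
    | tmul a b => simp
    | add a b ha hb => simp only [map_add, ha, hb]
  have conv : ∀ (K : Ideal R), (∀ (N : Type u) [AddCommGroup N] [Module R N],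
      (∀ a ∈ K, ∀ n : N, a • n = 0) →
      ∀ z : X₂ ⊗[R] N, d₂.rTensor N z = 0 → ∃ w : X₁ ⊗[R] N, d₁.rTensor N w = z) →
      ∀ (N' : Type u) [AddCommGroup N'] [Module R N'], (∀ a ∈ K, ∀ n : N', a • n = 0) →
        E d₁ d₂ N' := by
    intro K hK N' _ _ hN' z' hz'
    obtain ⟨w, hw⟩ := hK N' hN' (TensorProduct.comm R N' X₂ z') (by rw [← hc, hz', map_zero])
    refine ⟨(TensorProduct.comm R N' X₁).symm w, ?_⟩
    apply (TensorProduct.comm R N' X₂).injective
    rw [hc, LinearEquiv.apply_symm_apply, hw]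
  let N' : Submodule R N := J • ⊤
  have h1 : ∀ a ∈ I, ∀ n : N', a • n = 0 := by
    intro a ha n
    apply Subtype.ext
    have h2 : a • n.1 ∈ I • (J • (⊤ : Submodule R N)) := Submodule.smul_mem_smul ha n.2
    rw [← Submodule.mul_smul, h, Submodule.mem_bot] at h2
    exact h2
  have h2 : ∀ a ∈ J, ∀ q : N ⧸ N', a • q = 0 := by
    intro a ha q
    obtain ⟨n, rfl⟩ := Submodule.Quotient.mk_surjective N' q
    rw [← Submodule.Quotient.mk_smul, Submodule.Quotient.mk_eq_zero]
    exact Submodule.smul_mem_smul ha Submodule.mem_top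
  have hE : E d₁ d₂ N := E_of_exact hd N' (conv I hI N' h1) (conv J hJ (N ⧸ N') h2)
  obtain ⟨w, hw⟩ := hE ((TensorProduct.comm R N X₂).symm z) (by
    apply (TensorProduct.comm R N X₃).injective
    rw [hc, LinearEquiv.apply_symm_apply, hz, map_zero])
  refine ⟨TensorProduct.comm R N X₁ w, ?_⟩
  rw [← hc, hw, LinearEquiv.apply_symm_apply]

end TwoIdeals

section Killed

variable {A B : Type u} [CommRing A] [CommRing B] (φ : A →+* B) (hφ : Function.Surjective φ)

include hφ in
lemma rTensor_exact_of_killed (P : DRing.Cx A) (i : ℤ)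
    (hB : ∀ Nb : ModuleCat.{u} B,
      (DRing.tensorCx P ((ModuleCat.restrictScalars φ).obj Nb)).ExactAt i)
    (N' : Type u) [AddCommGroup N'] [Module A N']
    (hN' : ∀ a ∈ RingHom.ker φ, ∀ n : N', a • n = 0)
    (z' : (P.X i) ⊗[A] N') (hz' : (P.d i (i + 1)).hom.rTensor N' z' = 0) :
    ∃ w : (P.X (i - 1)) ⊗[A] N', (P.d (i - 1) i).hom.rTensor N' w = z' := by
  have h1 := hB (Groth.Agent.Helper6.KilledMod.bar φ hφ N' hN')
  rw [exactAt_iff_forall _ (i - 1) i (i + 1) (by omega) rfl] at h1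
  let e := Groth.Agent.Helper6.KilledMod.equivRes φ hφ N' hN'
  have hcomm : ∀ {X Y : Type u} [AddCommGroup X] [Module A X] [AddCommGroup Y] [Module A Y]
      (f : X →ₗ[A] Y) (t : X ⊗[A] N'),
      e.toLinearMap.lTensor Y (f.rTensor N' t) =
        f.rTensor _ (e.toLinearMap.lTensor X t) := by
    intro X Y _ _ _ _ f t
    rw [← LinearMap.comp_apply, ← LinearMap.comp_apply, LinearMap.lTensor_comp_rTensor,
      LinearMap.rTensor_comp_lTensor]
  obtain ⟨w, hw⟩ := h1 (e.toLinearMap.lTensor _ z') (by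
    have := hcomm (P.d i (i + 1)).hom z'
    rw [hz', map_zero] at this
    exact this.symm)
  refine ⟨e.symm.toLinearMap.lTensor _ w, ?_⟩
  have hinj : Function.Injective (e.toLinearMap.lTensor (P.X i)) :=
    (LinearEquiv.lTensor (P.X i) e).injective
  apply hinj
  rw [hcomm]
  have h2 : ∀ w' : (P.X (i - 1)) ⊗[A]
      ((ModuleCat.restrictScalars φ).obj (Groth.Agent.Helper6.KilledMod.bar φ hφ N' hN')),
      e.toLinearMap.lTensor (P.X (i - 1)) (e.symm.toLinearMap.lTensor _ w') = w' := by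
    intro w'
    rw [← LinearMap.comp_apply, ← LinearMap.lTensor_comp]
    have : e.toLinearMap ∘ₗ e.symm.toLinearMap = LinearMap.id := by
      ext x; simp
    rw [this, LinearMap.lTensor_id, LinearMap.id_apply]
  refine Eq.trans (congrArg _ (h2 w)) ?_
  exact hw

end Killed

section Two

variable {A B₁ B₂ : Type u} [CommRing A] [CommRing B₁] [CommRing B₂]

/-- exactness of `P ⊗ N` for all `N` from the cases of modules over two quotients whose kernels
multiply to zero -/
theorem exactAt_tensorCx_of_two (φ₁ : A →+* B₁) (φ₂ : A →+* B₂)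
    (h₁ : Function.Surjective φ₁) (h₂ : Function.Surjective φ₂)
    (hmul : RingHom.ker φ₁ * RingHom.ker φ₂ = ⊥)
    (P : DRing.Cx A) (fP : DRing.TermwiseFlat P) (i : ℤ)
    (hB₁ : ∀ Nb : ModuleCat.{u} B₁,
      (DRing.tensorCx P ((ModuleCat.restrictScalars φ₁).obj Nb)).ExactAt i)
    (hB₂ : ∀ Nb : ModuleCat.{u} B₂,
      (DRing.tensorCx P ((ModuleCat.restrictScalars φ₂).obj Nb)).ExactAt i)
    (N : ModuleCat.{u} A) : (DRing.tensorCx P N).ExactAt i := by
  rw [exactAt_iff_forall _ (i - 1) i (i + 1) (by omega) rfl]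
  intro z hz
  haveI : Module.Flat A (P.X (i + 1)) := fP (i + 1)
  have hd : (P.d i (i + 1)).hom ∘ₗ (P.d (i - 1) i).hom = 0 :=
    congrArg ModuleCat.Hom.hom (P.d_comp_d (i - 1) i (i + 1))
  refine exact_rTensor_of_mul_smul_eq_bot
    (d₁ := (P.d (i - 1) i).hom) (d₂ := (P.d i (i + 1)).hom) hd (RingHom.ker φ₁) (RingHom.ker φ₂)
    ?_ ?_ N ?_ z hz
  · intro N' _ _ hN' z' hz'
    exact rTensor_exact_of_killed φ₁ h₁ P i hB₁ N' hN' z' hz'
  · intro N' _ _ hN' z' hz'
    exact rTensor_exact_of_killed φ₂ h₂ P i hB₂ N' hN' z' hz'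
  · rw [hmul, Submodule.bot_smul]

end Two

section Fin

/-- a finite base change along a surjection gives a finitely generated submodule generating
modulo the kernel -/
lemma exists_fg_sup_smul_top {A B : Type u} [CommRing A] [CommRing B] [Algebra A B]
    (hs : Function.Surjective (algebraMap A B))
    (C : Type u) [AddCommGroup C] [Module A C] (hf : Module.Finite B (B ⊗[A] C)) :
    ∃ N : Submodule A C, N.FG ∧
      N ⊔ RingHom.ker (algebraMap A B) • (⊤ : Submodule A C) = ⊤ := by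
  classical
  haveI := hf
  haveI : Module.Finite A B := Module.Finite.of_surjective (Algebra.linearMap A B) hs
  haveI : Module.Finite A (B ⊗[A] C) := Module.Finite.trans B _
  let η : C →ₗ[A] B ⊗[A] C := TensorProduct.mk A B C 1
  have hη : Function.Surjective η := TensorProduct.mk_surjective A C B hs
  have hker : ∀ c : C, η c = 0 → c ∈ RingHom.ker (algebraMap A B) • (⊤ : Submodule A C) := by
    intro c hc
    let f : A →ₐ[A] B := Algebra.ofId A B
    have hf' : Function.Surjective f := hs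
    let e := Ideal.quotientKerAlgEquivOfSurjective hf'
    have hIe : RingHom.ker f = RingHom.ker (algebraMap A B) := by
      ext x
      rw [RingHom.mem_ker, RingHom.mem_ker]
      rfl
    have h1 : TensorProduct.quotTensorEquivQuotSMul C (RingHom.ker f)
        ((e.symm.toLinearMap.rTensor C) (η c)) = Submodule.Quotient.mk c := by
      show TensorProduct.quotTensorEquivQuotSMul C (RingHom.ker f)
        ((e.symm.toLinearMap.rTensor C) ((1 : B) ⊗ₜ[A] c)) = _
      rw [LinearMap.rTensor_tmul]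
      have h1' : e.symm.toLinearMap (1 : B) = 1 := map_one e.symm
      rw [h1']
      exact TensorProduct.quotTensorEquivQuotSMul_mk_one_tmul _ c
    rw [hc, map_zero, map_zero] at h1
    have h2 := (Submodule.Quotient.mk_eq_zero _).mp h1.symm
    rw [hIe] at h2
    exact h2
  obtain ⟨S, hS⟩ := (Module.Finite.fg_top : (⊤ : Submodule A (B ⊗[A] C)).FG)
  let N : Submodule A C :=
    Submodule.span A ((S.image (Function.surjInv hη) : Finset C) : Set C)
  have hN : Submodule.map η N = ⊤ := by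
    rw [Submodule.map_span, Finset.coe_image, Set.image_image]
    have h0 : (fun x => η (Function.surjInv hη x)) = id := funext (Function.surjInv_eq hη)
    rw [h0, Set.image_id]
    exact hS
  refine ⟨N, Submodule.fg_span (Finset.finite_toSet _), ?_⟩
  rw [eq_top_iff]
  intro c _
  have h3 : η c ∈ Submodule.map η N := by
    rw [hN]
    trivial
  obtain ⟨n, hn', hnc⟩ := h3
  have h0 : η (c - n) = 0 := by rw [map_sub, hnc, sub_self]
  have h4 := hker _ h0
  have hc : c = n + (c - n) := by abel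
  rw [hc]
  exact Submodule.add_mem_sup hn' h4

lemma exists_fg_sup_smul_top' {A B : Type u} [CommRing A] [CommRing B] (φ : A →+* B)
    (hφ : Function.Surjective φ) (M : ModuleCat.{u} A)
    (h : Module.Finite B ((ModuleCat.extendScalars.{u, u, u} φ).obj M)) :
    ∃ N : Submodule A M, N.FG ∧ N ⊔ RingHom.ker φ • (⊤ : Submodule A M) = ⊤ := by
  letI : Algebra A B := φ.toAlgebra
  haveI : Module.Finite B ((ModuleCat.extendScalars.{u, u, u} (algebraMap A B)).obj M) := h
  have h2 : Module.Finite B (B ⊗[A] M) := Module.Finite.equiv (extendScalarsEquiv (B := B) M)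
  exact exists_fg_sup_smul_top hφ M h2

lemma finite_of_two {A : Type u} [CommRing A] {M : Type u} [AddCommGroup M] [Module A M]
    (I₁ I₂ : Ideal A) (hk : I₁ * I₂ = ⊥) (N₁ N₂ : Submodule A M) (h1fg : N₁.FG) (h2fg : N₂.FG)
    (h1 : N₁ ⊔ I₁ • (⊤ : Submodule A M) = ⊤) (h2 : N₂ ⊔ I₂ • (⊤ : Submodule A M) = ⊤) :
    Module.Finite A M := by
  have e1 : (N₁ ⊔ N₂) ⊔ I₁ • (⊤ : Submodule A M) = ⊤ := by
    have h0 : N₁ ⊔ I₁ • (⊤ : Submodule A M) ≤ (N₁ ⊔ N₂) ⊔ I₁ • (⊤ : Submodule A M) :=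
      sup_le_sup_right le_sup_left _
    rw [h1] at h0
    exact eq_top_iff.mpr h0
  have e2 : (N₁ ⊔ N₂) ⊔ I₂ • (⊤ : Submodule A M) = ⊤ := by
    have h0 : N₂ ⊔ I₂ • (⊤ : Submodule A M) ≤ (N₁ ⊔ N₂) ⊔ I₂ • (⊤ : Submodule A M) :=
      sup_le_sup_right le_sup_right _
    rw [h2] at h0
    exact eq_top_iff.mpr h0
  have hN : N₁ ⊔ N₂ = ⊤ := by
    rw [eq_top_iff]
    calc (⊤ : Submodule A M) = (N₁ ⊔ N₂) ⊔ I₁ • (⊤ : Submodule A M) := e1.symm
      _ = (N₁ ⊔ N₂) ⊔ I₁ • ((N₁ ⊔ N₂) ⊔ I₂ • (⊤ : Submodule A M)) := by rw [e2]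
      _ = (N₁ ⊔ N₂) ⊔ (I₁ • (N₁ ⊔ N₂) ⊔ I₁ • I₂ • (⊤ : Submodule A M)) := by
        rw [Submodule.smul_sup]
      _ ≤ N₁ ⊔ N₂ := by
        rw [← Submodule.mul_smul, hk, Submodule.bot_smul, sup_bot_eq]
        exact sup_le le_rfl Submodule.smul_le_right
  refine ⟨?_⟩
  rw [← hN]
  exact h1fg.sup h2fg

end Fin

section Comp

variable {R A B : Type u} [CommRing R] [CommRing A] [CommRing B]

/-- base change of complexes along a composition -/
noncomputable def bcCxFCompIso (π : R →+* A) (α : A →+* B) (P : DRing.Cx R) :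
    (bcCxF α).obj ((bcCxF π).obj P) ≅ (bcCxF (α.comp π)).obj P :=
  HomologicalComplex.Hom.isoOfComponents
    (fun i => ((ModuleCat.extendScalarsComp π α).app (P.X i)).symm)
    (fun i j _ => ((ModuleCat.extendScalarsComp π α).inv.naturality (P.d i j)).symm)

noncomputable def bcCxFCongr {φ φ' : R →+* A} (h : φ = φ') (P : DRing.Cx R) :
    (bcCxF φ).obj P ≅ (bcCxF φ').obj P := by
  subst h
  exact Iso.refl _

end Comp

section Factor

variable {R : Type u} [CommRing R] (S T : Ideal R) (hT : S ≤ T)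

lemma exactAt_factor (P : DRing.Cx R) (i : ℤ)
    (h : ∀ N : ModuleCat.{u} (R ⧸ T),
      (DRing.tensorCx ((bcCxF (Ideal.Quotient.mk T)).obj P) N).ExactAt i)
    (Nb : ModuleCat.{u} (R ⧸ T)) :
    (DRing.tensorCx ((bcCxF (Ideal.Quotient.mk S)).obj P)
      ((ModuleCat.restrictScalars (Ideal.Quotient.factor hT)).obj Nb)).ExactAt i := by
  have h1 := Groth.Agent.Helper6.RingChangeTen.exactAt_tensorCx_res (Ideal.Quotient.mk T) Nb P i
    (h Nb)
  let e : (ModuleCat.restrictScalars (Ideal.Quotient.mk T)).obj Nb ≅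
      (ModuleCat.restrictScalars (Ideal.Quotient.mk S)).obj
        ((ModuleCat.restrictScalars (Ideal.Quotient.factor hT)).obj Nb) :=
    LinearEquiv.toModuleIso
      ({ toFun := fun x => x
         invFun := fun x => x
         left_inv := fun _ => rfl
         right_inv := fun _ => rfl
         map_add' := fun _ _ => rfl
         map_smul' := fun _ _ => rfl } :
        ↑((ModuleCat.restrictScalars (Ideal.Quotient.mk T)).obj Nb) ≃ₗ[R]
          ↑((ModuleCat.restrictScalars (Ideal.Quotient.mk S)).obj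
            ((ModuleCat.restrictScalars (Ideal.Quotient.factor hT)).obj Nb)))
  have h2 := Groth.Agent.Helper6.RingChangeTen.exactAt_tensorCx_of_iso P e i h1
  exact Groth.Agent.Helper6.RingChangeTen.exactAt_tensorCx_ext (Ideal.Quotient.mk S) _ P i h2

lemma isPC_factor [DRing.HasLBaseChange (Ideal.Quotient.mk T)] (K : Dual.D R)
    (hperf : DRing.IsPerfect (R ⧸ T) ((DRing.LBaseChange (Ideal.Quotient.mk T)).obj K))
    (P : DRing.Cx R) [P.IsKProjective] (e : DRing.toD P ≅ K)
    [((bcCxF (Ideal.Quotient.mk S)).obj P).IsKProjective]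
    (P' : DRing.Cx (R ⧸ S)) [P'.IsKProjective]
    (e' : DRing.toD P' ≅ DRing.toD ((bcCxF (Ideal.Quotient.mk S)).obj P)) (m' : ℤ) :
    DRing.IsPseudoCoherent (R ⧸ T) m'
      (DRing.toD ((bcCxF (Ideal.Quotient.factor hT)).obj P')) := by
  obtain ⟨i0⟩ := nonempty_toD_bcCxF_iso (Ideal.Quotient.factor hT) e'
  have i1 : DRing.toD ((bcCxF (Ideal.Quotient.factor hT)).obj
      ((bcCxF (Ideal.Quotient.mk S)).obj P)) ≅
      DRing.toD ((bcCxF (Ideal.Quotient.mk T)).obj P) :=
    Q.mapIso (bcCxFCompIso _ _ P ≪≫ bcCxFCongr (Ideal.Quotient.factor_comp_mk hT) P)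
  have i2 : DRing.toD ((bcCxF (Ideal.Quotient.mk T)).obj P) ≅
      (DRing.LBaseChange (Ideal.Quotient.mk T)).obj K :=
    (lbcIso (Ideal.Quotient.mk T) P).symm ≪≫ (DRing.LBaseChange (Ideal.Quotient.mk T)).mapIso e
  have hpc := ((isPerfect_iff_pc_and_torDim _).mp hperf).1
  exact isPseudoCoherent_of_iso (i0 ≪≫ i1 ≪≫ i2).symm
    (isPseudoCoherent_of_isPseudoCoherent' hpc m')

end Factor

theorem main (R : Type u) [CommRing R] (I J : Ideal R)
    [DRing.HasLBaseChange (Ideal.Quotient.mk I)] [DRing.HasLBaseChange (Ideal.Quotient.mk J)]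
    [DRing.HasLBaseChange (Ideal.Quotient.mk (I * J))] (K : Dual.D R)
    (hI : DRing.IsPerfect (R ⧸ I) ((DRing.LBaseChange (Ideal.Quotient.mk I)).obj K))
    (hJ : DRing.IsPerfect (R ⧸ J) ((DRing.LBaseChange (Ideal.Quotient.mk J)).obj K)) :
    DRing.IsPerfect (R ⧸ (I * J)) ((DRing.LBaseChange (Ideal.Quotient.mk (I * J))).obj K) := by
  classical
  obtain ⟨P, f, hP, hkf, hproj, hq, -⟩ :=
    Groth.Agent.Helper6.KProjRes.exists_resolution (DerivedCategory.Q.objPreimage K)
  haveI := hP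
  have hiso : IsIso (DerivedCategory.Q.map f) :=
    (DerivedCategory.isIso_Q_map_iff_quasiIso _ _).mpr hq
  let e : DRing.toD P ≅ K :=
    asIso (DerivedCategory.Q.map f) ≪≫ DerivedCategory.Q.objObjPreimageIso K
  have fP : DRing.TermwiseFlat P := fun j => by
    haveI := hproj j
    infer_instance
  haveI hPAk : ((bcCxF (Ideal.Quotient.mk (I * J))).obj P).IsKProjective :=
    Groth.Agent.Helper6.LBaseCmp.isKProjective_ext (Ideal.Quotient.mk (I * J)) P
  have fPA : DRing.TermwiseFlat ((bcCxF (Ideal.Quotient.mk (I * J))).obj P) :=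
    bcCx_termwiseFlat (R ⧸ (I * J)) P fP
  have hIle : I * J ≤ I := Ideal.mul_le_left
  have hJle : I * J ≤ J := Ideal.mul_le_right
  have key : ∀ (T : Ideal R) [DRing.HasLBaseChange (Ideal.Quotient.mk T)],
      DRing.IsPerfect (R ⧸ T) ((DRing.LBaseChange (Ideal.Quotient.mk T)).obj K) →
      ∃ a b : ℤ, ∀ (N : ModuleCat.{u} (R ⧸ T)) (i : ℤ), (i < a ∨ b < i) →
        (DRing.tensorCx ((bcCxF (Ideal.Quotient.mk T)).obj P) N).ExactAt i := by
    intro T _ hperf
    obtain ⟨-, a, b, t⟩ := (isPerfect_iff_pc_and_torDim _).mp hperf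
    haveI : ((bcCxF (Ideal.Quotient.mk T)).obj P).IsKProjective :=
      Groth.Agent.Helper6.LBaseCmp.isKProjective_ext (Ideal.Quotient.mk T) P
    let eT : DRing.toD ((bcCxF (Ideal.Quotient.mk T)).obj P) ≅
        (DRing.LBaseChange (Ideal.Quotient.mk T)).obj K :=
      (lbcIso (Ideal.Quotient.mk T) P).symm ≪≫
        (DRing.LBaseChange (Ideal.Quotient.mk T)).mapIso e
    exact ⟨a, b, (Groth.Agent.Helper6.RingChangeAmp.hasTorAmplitudeIn_iff_of_isKProjective _ eT
      a b).mp t⟩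
  obtain ⟨aI, bI, tI⟩ := key I hI
  obtain ⟨aJ, bJ, tJ⟩ := key J hJ
  obtain ⟨a, ha⟩ : ∃ a : ℤ, a = min aI aJ := ⟨_, rfl⟩
  obtain ⟨b, hb⟩ : ∃ b : ℤ, b = max bI bJ := ⟨_, rfl⟩
  have haI : a ≤ aI := ha ▸ min_le_left _ _
  have haJ : a ≤ aJ := ha ▸ min_le_right _ _
  have hbI : bI ≤ b := hb ▸ le_max_left _ _
  have hbJ : bJ ≤ b := hb ▸ le_max_right _ _
  have hker : RingHom.ker (Ideal.Quotient.factor hIle) * RingHom.ker (Ideal.Quotient.factor hJle)
      = ⊥ := by
    rw [Ideal.Quotient.factor_ker, Ideal.Quotient.factor_ker, ← Ideal.map_mul,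
      Ideal.map_quotient_self]
  have hex : ∀ (N : ModuleCat.{u} (R ⧸ (I * J))) (i : ℤ), (i < a ∨ b < i) →
      (DRing.tensorCx ((bcCxF (Ideal.Quotient.mk (I * J))).obj P) N).ExactAt i := by
    intro N i hi
    refine exactAt_tensorCx_of_two (Ideal.Quotient.factor hIle) (Ideal.Quotient.factor hJle)
      (Ideal.Quotient.factor_surjective _) (Ideal.Quotient.factor_surjective _) hker _ fPA i
      ?_ ?_ N
    · intro Nb
      exact exactAt_factor (I * J) I hIle P i (fun N' => tI N' i (by omega)) Nb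
    · intro Nb
      exact exactAt_factor (I * J) J hJle P i (fun N' => tJ N' i (by omega)) Nb
  have hTA : DRing.HasTorAmplitudeIn (R ⧸ (I * J)) a b
      (DRing.toD ((bcCxF (Ideal.Quotient.mk (I * J))).obj P)) :=
    (Groth.Agent.Helper6.RingChangeAmp.hasTorAmplitudeIn_iff_of_isKProjective _ (Iso.refl _)
      a b).mpr hex
  haveI hLE : (DRing.toD ((bcCxF (Ideal.Quotient.mk (I * J))).obj P)).IsLE b :=
    isLE_of_hasTorAmplitudeIn hTA
  have hpc : DRing.IsPseudoCoherent' (R ⧸ (I * J))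
      (DRing.toD ((bcCxF (Ideal.Quotient.mk (I * J))).obj P)) := by
    obtain ⟨P', hP'v, hP'p, ⟨e'⟩⟩ :=
      exists_projective_rep (DRing.toD ((bcCxF (Ideal.Quotient.mk (I * J))).obj P)) b
    haveI : P'.IsKProjective := isKProjective_of_vanishesAbove P' _ hP'v hP'p
    rw [isPseudoCoherent'_iff_forall]
    intro m
    refine isPseudoCoherent_of_iso e' ?_
    let Ks : Bool → Ideal R := fun s => cond s I J
    have hle : ∀ s, I * J ≤ Ks s := fun s => by
      cases s
      · exact hJle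
      · exact hIle
    refine isPseudoCoherent_aux (fun s => Ideal.Quotient.factor (hle s)) ?_ m
      (b - m + 1).toNat P' b (by omega) hP'v hP'p ?_
    · intro M h
      obtain ⟨N₁, hN₁fg, hN₁⟩ := exists_fg_sup_smul_top' (Ideal.Quotient.factor (hle true))
        (Ideal.Quotient.factor_surjective _) M (h true)
      obtain ⟨N₂, hN₂fg, hN₂⟩ := exists_fg_sup_smul_top' (Ideal.Quotient.factor (hle false))
        (Ideal.Quotient.factor_surjective _) M (h false)
      exact finite_of_two _ _ hker N₁ N₂ hN₁fg hN₂fg hN₁ hN₂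
    · intro s m'
      cases s
      · exact isPC_factor (I * J) J hJle K hJ P e P' e' m'
      · exact isPC_factor (I * J) I hIle K hI P e P' e' m'
  have hperf : DRing.IsPerfect (R ⧸ (I * J))
      (DRing.toD ((bcCxF (Ideal.Quotient.mk (I * J))).obj P)) :=
    (isPerfect_iff_pc_and_torDim _).mpr ⟨hpc, a, b, hTA⟩
  exact isPerfect_of_iso ((lbcIso (Ideal.Quotient.mk (I * J)) P).symm ≪≫
    (DRing.LBaseChange (Ideal.Quotient.mk (I * J))).mapIso e) hperf

end Groth.Agent.Helper6.PerfMul
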