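import Mathlib
import Groth.Prelude

/-!
# Splicing a projective resolution of a syzygy, and projective dimension via resolutions
-/

set_option autoImplicit false
universe v u

namespace Groth.Agent.Helper6.ProjResCons

open CategoryTheory Limits

variable {C : Type u} [Category.{v} C] [Abelian C]

set_option backward.isDefEq.respectTransparency false in
/-- the augmented complex -/
noncomputable def consComplex {S : ShortComplex C} (Q : ProjectiveResolution S.X₁) :
    ChainComplex C ℕ :=
  ChainComplex.augment Q.complex (Q.π.f 0 ≫ S.f)
    (by rw [← Category.assoc, Q.complex_d_comp_π_f_zero, zero_comp])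

set_option backward.isDefEq.respectTransparency false in
lemma consComplex_exactAt_succ {S : ShortComplex C} (hS : S.ShortExact)
    (Q : ProjectiveResolution S.X₁) (n : ℕ) : (consComplex (S := S) Q).ExactAt (n + 1) := by
  rw [HomologicalComplex.exactAt_iff' _ (n + 1 + 1) (n + 1) n (by simp) (by simp)]
  haveI := hS.mono_f
  cases n with
  | zero =>
    let α : ShortComplex.mk _ _ Q.complex_d_comp_π_f_zero ⟶
        (consComplex (S := S) Q).sc' (0 + 1 + 1) (0 + 1) 0 :=
      { τ₁ := 𝟙 _
        τ₂ := 𝟙 _
        τ₃ := S.f
        comm₁₂ := by
          dsimp [consComplex]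
          simp
        comm₂₃ := by
          dsimp [consComplex]
          simp }
    haveI : Epi α.τ₁ := by dsimp [α]; infer_instance
    haveI : IsIso α.τ₂ := by dsimp [α]; infer_instance
    haveI : Mono α.τ₃ := by dsimp [α]; infer_instance
    exact (ShortComplex.exact_iff_of_epi_of_isIso_of_mono α).1 Q.exact₀
  | succ n =>
    exact Q.exact_succ n

set_option backward.isDefEq.respectTransparency false in
/-- Splice a projective resolution of the kernel with a projective cover. -/
noncomputable def cons {S : ShortComplex C} (hS : S.ShortExact) [Projective S.X₂]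
    (Q : ProjectiveResolution S.X₁) : ProjectiveResolution S.X₃ where
  complex := consComplex (S := S) Q
  projective n := by
    cases n with
    | zero => exact (inferInstance : Projective S.X₂)
    | succ n => exact Q.projective n
  π := (ChainComplex.toSingle₀Equiv _ _).symm ⟨S.g, by
    dsimp [consComplex]
    rw [Category.assoc, S.zero, comp_zero]⟩
  quasiIso := ⟨fun n => by
    haveI := hS.epi_g
    cases n with
    | zero =>
      rw [ChainComplex.quasiIsoAt₀_iff, ShortComplex.quasiIso_iff_of_zeros']
      · let α : ShortComplex.mk (Q.π.f 0 ≫ S.f) S.g (by rw [Category.assoc, S.zero, comp_zero]) ⟶ S :=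
          { τ₁ := Q.π.f 0
            τ₂ := 𝟙 _
            τ₃ := 𝟙 _ }
        haveI : Epi α.τ₁ := by dsimp [α]; infer_instance
        haveI : IsIso α.τ₂ := by dsimp [α]; infer_instance
        haveI : Mono α.τ₃ := by dsimp [α]; infer_instance
        refine ⟨?_, ?_⟩
        · refine (ShortComplex.exact_iff_of_iso ?_).2
            ((ShortComplex.exact_iff_of_epi_of_isIso_of_mono α).2 hS.exact)
          exact ShortComplex.isoMk (Iso.refl _) (Iso.refl _) (Iso.refl _)
            (by simp [consComplex]) (by simp)
        · simpa using hS.epi_g
      all_goals rfl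
    | succ n =>
      rw [quasiIsoAt_iff_exactAt']
      · exact consComplex_exactAt_succ hS Q n
      · apply ChainComplex.exactAt_succ_single_obj⟩

lemma cons_X_succ {S : ShortComplex C} (hS : S.ShortExact) [Projective S.X₂]
    (Q : ProjectiveResolution S.X₁) (n : ℕ) :
    (cons hS Q).complex.X (n + 1) = Q.complex.X n := rfl

lemma cons_X_zero {S : ShortComplex C} (hS : S.ShortExact) [Projective S.X₂]
    (Q : ProjectiveResolution S.X₁) :
    (cons hS Q).complex.X 0 = S.X₂ := rfl


/-- Projective dimension `≤ d` yields a projective resolution of length `≤ d`. -/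
theorem exists_resolution_of_pd [EnoughProjectives C] : ∀ (d : ℕ) (M : C),
    HasProjectiveDimensionLE M d →
      ∃ P : ProjectiveResolution M, ∀ i : ℕ, d < i → IsZero (P.complex.X i) := by
  intro d
  induction d with
  | zero =>
    intro M hM
    haveI : Projective M := (projective_iff_hasProjectiveDimensionLE_zero M).2 hM
    refine ⟨ProjectiveResolution.self M, fun i hi => ?_⟩
    apply HomologicalComplex.isZero_single_obj_X
    omega
  | succ d ih =>
    intro M hM
    let S : ShortComplex C :=
      ShortComplex.mk (kernel.ι (Projective.π M)) (Projective.π M) (kernel.condition _)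
    have hS : S.ShortExact :=
      { exact := ShortComplex.exact_of_f_is_kernel _ (kernelIsKernel _)
        mono_f := by dsimp [S]; infer_instance
        epi_g := by dsimp [S]; infer_instance }
    haveI : Projective S.X₂ := by dsimp [S]; infer_instance
    have h₂ : HasProjectiveDimensionLT S.X₂ (d + 1) := inferInstance
    have h₃ : HasProjectiveDimensionLT S.X₃ (d + 1 + 1) := hM
    have h₁ : HasProjectiveDimensionLE S.X₁ d := hS.hasProjectiveDimensionLT_X₁ (d + 1) h₂ h₃
    obtain ⟨Q, hQ⟩ := ih S.X₁ h₁
    refine ⟨cons hS Q, fun i hi => ?_⟩
    obtain _ | j := i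
    · omega
    · rw [cons_X_succ]
      exact hQ j (by omega)

/-- A projective resolution of length `≤ d` forces projective dimension `≤ d`. -/
theorem pd_of_resolution {M : C} (d : ℕ) (P : ProjectiveResolution M)
    (hP : ∀ i : ℕ, d < i → IsZero (P.complex.X i)) : HasProjectiveDimensionLE M d := by
  letI := HasExt.standard C
  show HasProjectiveDimensionLT M (d + 1)
  rw [hasProjectiveDimensionLT_iff]
  intro i hi Y e
  obtain ⟨f, hf, rfl⟩ := P.extMk_surjective e (i + 1) rfl
  have hf0 : f = 0 := (hP i (by omega)).eq_of_src _ _
  subst hf0
  exact P.extMk_zero _ _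

end Groth.Agent.Helper6.ProjResCons
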