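import Mathlib
import Groth.Prelude.Def_Wider
import Groth.Prelude.Def_DRing2
import Groth.Agent.Helper1.GlobalDim
import Groth.Agent.Helper1.RegGlobalDim
import Groth.Agent.Helper3.DRingDev

/-!
# Vanishing of `Hom_{D(R)}(K, L)` across a cohomological gap for rings of finite global dimension
-/

set_option autoImplicit false
universe u

open CategoryTheory Limits Pretriangulated DerivedCategory Abelian
attribute [local instance] HasDerivedCategory.standard

namespace Groth.Agent.Helper6.RegGap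

variable {A : Type u} [CommRing A]

/-- Morphisms in `D(A)` out of a K-projective complex lift to chain maps. -/
lemma exists_Q_map_eq_proj (P L : DRing.Cx A) [P.IsKProjective] (f : DRing.toD P ⟶ DRing.toD L) :
    ∃ φ : P ⟶ L, DerivedCategory.Q.map φ = f := by
  obtain ⟨g, hg⟩ := (CochainComplex.IsKProjective.Qh_map_bijective
    P ((HomotopyCategory.quotient _ _).obj L)).surjective
      ((DerivedCategory.quotientCompQhIso _).hom.app P ≫ f ≫
        (DerivedCategory.quotientCompQhIso _).inv.app L)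
  obtain ⟨φ, rfl⟩ := (HomotopyCategory.quotient _ _).map_surjective g
  refine ⟨φ, ?_⟩
  have := DerivedCategory.quotientCompQhIso_hom_naturality φ
  rw [hg] at this
  simpa using this.symm

/-- no maps from a projective module in degree `0` to `D^{≤ -1}` -/
lemma hom_projective_eq_zero (P : ModuleCat.{u} A) [Projective P] (Y : Dual.D A) [Y.IsLE (-1)]
    (f : (singleFunctor (ModuleCat.{u} A) 0).obj P ⟶ Y) : f = 0 := by
  obtain ⟨Y', hY', ⟨eY⟩⟩ := exists_iso_Q_obj_of_isLE Y (-1)
  let S : DRing.Cx A := (HomologicalComplex.single (ModuleCat.{u} A) (ComplexShape.up ℤ) 0).obj P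
  haveI : S.IsStrictlyLE 0 :=
    inferInstanceAs (((CochainComplex.singleFunctor (ModuleCat.{u} A) 0).obj P).IsStrictlyLE 0)
  haveI : ∀ n : ℤ, Projective (S.X n) := by
    intro n
    by_cases hn : n = 0
    · subst hn
      exact Projective.of_iso (HomologicalComplex.singleObjXSelf (ComplexShape.up ℤ) 0 P).symm
        inferInstance
    · exact (HomologicalComplex.isZero_single_obj_X (ComplexShape.up ℤ) 0 P n hn).projective
  haveI : S.IsKProjective := CochainComplex.isKProjective_of_projective S 0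
  have h0 : (f ≫ eY.hom : DRing.toD S ⟶ DRing.toD Y') = 0 := by
    obtain ⟨φ, hφ⟩ := exists_Q_map_eq_proj S Y' (f ≫ eY.hom)
    have : φ = 0 := by
      refine HomologicalComplex.hom_ext _ _ (fun j => ?_)
      by_cases hj : j = 0
      · subst hj
        exact (CochainComplex.isZero_of_isStrictlyLE Y' (-1) 0 (by omega)).eq_of_tgt _ _
      · exact (HomologicalComplex.isZero_single_obj_X (ComplexShape.up ℤ) 0 P j hj).eq_of_src _ _
    rw [← hφ, this, Functor.map_zero]
  exact (cancel_mono eY.hom).1 (h0.trans zero_comp.symm)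


/-- no maps from `M[0]` to `D^{≤ -d-1}` when `pd M ≤ d` -/
lemma hom_eq_zero_of_pd (d : ℕ) : ∀ (M : ModuleCat.{u} A), HasProjectiveDimensionLT M (d + 1) →
    ∀ (Y : Dual.D A), Y.IsLE (-(d : ℤ) - 1) →
    ∀ (f : (singleFunctor (ModuleCat.{u} A) 0).obj M ⟶ Y), f = 0 := by
  induction d with
  | zero =>
    intro M hM Y hY f
    haveI : Projective M := (projective_iff_hasProjectiveDimensionLT_one (X := M)).2 hM
    haveI : Y.IsLE (-1) := TStructure.t.isLE_of_le Y (-((0 : ℕ) : ℤ) - 1) (-1) (by simp)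
    exact hom_projective_eq_zero M Y f
  | succ d ih =>
    intro M hM Y hY f
    let S : ShortComplex (ModuleCat.{u} A) :=
      ShortComplex.mk (kernel.ι (Projective.π M)) (Projective.π M) (kernel.condition _)
    have hS : S.ShortExact :=
      { exact := ShortComplex.exact_of_f_is_kernel _ (kernelIsKernel _)
        mono_f := inferInstanceAs (Mono (kernel.ι (Projective.π M)))
        epi_g := inferInstanceAs (Epi (Projective.π M)) }
    haveI : Projective S.X₂ := inferInstanceAs (Projective (Projective.over M))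
    have hX₁ : HasProjectiveDimensionLT S.X₁ (d + 1) :=
      hS.hasProjectiveDimensionLT_X₁ (d + 1)
        (hasProjectiveDimensionLT_of_ge S.X₂ 1 (d + 1) (by omega)) hM
    have hT := rot_of_distTriang _ hS.singleTriangle_distinguished
    haveI : Y.IsLE (-1) := TStructure.t.isLE_of_le Y (-((d + 1 : ℕ) : ℤ) - 1) (-1)
      (by push_cast; omega)
    have h1 : hS.singleTriangle.rotate.mor₁ ≫ f = 0 :=
      hom_projective_eq_zero S.X₂ Y _
    obtain ⟨g, hg⟩ := Triangle.yoneda_exact₂ _ hT f h1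
    have hYs : (Y⟦(-1 : ℤ)⟧).IsLE (-(d : ℤ) - 1) :=
      TStructure.t.isLE_shift Y (-((d + 1 : ℕ) : ℤ) - 1) (-1) (-(d : ℤ) - 1) (by push_cast; omega)
    have h2 : (shiftFunctorCompIsoId (Dual.D A) 1 (-1) (by omega)).inv.app
        ((singleFunctor (ModuleCat.{u} A) 0).obj S.X₁) ≫ g⟦(-1 : ℤ)⟧' = 0 :=
      ih S.X₁ hX₁ _ hYs _
    have h3 : g⟦(-1 : ℤ)⟧' = 0 :=
      (cancel_epi ((shiftFunctorCompIsoId (Dual.D A) 1 (-1) (by omega)).inv.app
        ((singleFunctor (ModuleCat.{u} A) 0).obj S.X₁))).1 (h2.trans comp_zero.symm)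
    have h4 : g = 0 := by
      apply (shiftFunctor (Dual.D A) (-1 : ℤ)).map_injective
      rw [h3, Functor.map_zero]
    rw [hg, h4]
    exact comp_zero


lemma hom_shift_eq_zero (d : ℕ) (M : ModuleCat.{u} A) (hM : HasProjectiveDimensionLT M (d + 1))
    (j : ℤ) (L : Dual.D A) (hL : L.IsLE (j - d - 1))
    (f : ((singleFunctor (ModuleCat.{u} A) 0).obj M)⟦-j⟧ ⟶ L) : f = 0 := by
  have hLs : (L⟦j⟧).IsLE (-(d : ℤ) - 1) :=
    TStructure.t.isLE_shift L (j - d - 1) j (-(d : ℤ) - 1) (by omega)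
  have h2 : (shiftFunctorCompIsoId (Dual.D A) (-j) j (by omega)).inv.app
      ((singleFunctor (ModuleCat.{u} A) 0).obj M) ≫ f⟦j⟧' = 0 :=
    hom_eq_zero_of_pd d M hM _ hLs _
  have h3 : f⟦j⟧' = 0 :=
    (cancel_epi ((shiftFunctorCompIsoId (Dual.D A) (-j) j (by omega)).inv.app
      ((singleFunctor (ModuleCat.{u} A) 0).obj M))).1 (h2.trans comp_zero.symm)
  apply (shiftFunctor (Dual.D A) j).map_injective
  rw [h3, Functor.map_zero]

/-- vanishing across a gap, assuming global dimension `≤ d` -/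
theorem hom_eq_zero_of_gap (d : ℕ)
    (hgl : ∀ M : ModuleCat.{u} A, HasProjectiveDimensionLT M (d + 1)) (n : ℕ) :
    ∀ (K : Dual.D A) (k : ℤ), K.IsGE (k + 1) → K.IsLE (k + 1 + n) →
      ∀ (L : Dual.D A), L.IsLE (k - d) → ∀ f : K ⟶ L, f = 0 := by
  induction n with
  | zero =>
    intro K k hge hle L hL f
    haveI := hge
    haveI : K.IsLE (k + 1) := by simpa using hle
    obtain ⟨e⟩ := Groth.Agent.Helper3.DRingLib.exists_iso_single_HD K (k + 1)
    have hL' : L.IsLE ((k + 1) - d - 1) := by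
      have : (k + 1) - (d : ℤ) - 1 = k - d := by omega
      rw [this]; exact hL
    have h1 : e.inv ≫ f = 0 := hom_shift_eq_zero d _ (hgl _) (k + 1) L hL' _
    exact (cancel_epi e.inv).1 (h1.trans comp_zero.symm)
  | succ n ih =>
    intro K k hge hle L hL f
    haveI := hge
    set b : ℤ := k + 1 + (n + 1 : ℕ) with hb
    haveI : K.IsLE b := hle
    obtain ⟨X, Y, hX, hY, u', v', δ, hT⟩ := TStructure.t.exists_triangle K (b - 1) b (by omega)
    have iX : X.IsLE (b - 1) := ⟨hX⟩
    have iY : Y.IsGE b := ⟨hY⟩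
    have iY' : (Triangle.mk u' v' δ).obj₃.IsGE ((b - 1) + 1) := by
      have : b - 1 + 1 = b := by omega
      rw [this]; exact iY
    have iX' : (Triangle.mk u' v' δ).obj₁.IsLE (b - 1) := iX
    have iXa : X.IsGE (k + 1) := by
      rw [DerivedCategory.isGE_iff]
      intro i hi
      have : IsIso ((homologyFunctor (ModuleCat.{u} A) i).map (Triangle.mk u' v' δ).mor₁) :=
        Groth.Agent.Helper3.DRingLib.isIso_HD_mor₁ _ hT (b - 1) i (by omega)
      exact (K.isZero_of_isGE (k + 1) i hi).of_iso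
        (@asIso _ _ _ _ _ this)
    have iXn : X.IsLE (k + 1 + n) := by
      have : k + 1 + (n : ℤ) = b - 1 := by rw [hb]; push_cast; omega
      rw [this]; exact iX
    have iYb : Y.IsLE b := by
      rw [DerivedCategory.isLE_iff]
      intro i hi
      have : IsIso ((homologyFunctor (ModuleCat.{u} A) i).map (Triangle.mk u' v' δ).mor₂) :=
        Groth.Agent.Helper3.DRingLib.isIso_HD_mor₂ _ hT (b - 1) i (by omega)
      exact (K.isZero_of_isLE b i hi).of_iso (@asIso _ _ _ _ _ this).symm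
    have h1 : (Triangle.mk u' v' δ).mor₁ ≫ f = 0 := ih X k iXa iXn L hL _
    obtain ⟨g, hg⟩ := Triangle.yoneda_exact₂ _ hT f h1
    obtain ⟨e⟩ := Groth.Agent.Helper3.DRingLib.exists_iso_single_HD Y b
    have hL' : L.IsLE (b - d - 1) :=
      TStructure.t.isLE_of_le L (k - d) (b - d - 1) (by rw [hb]; push_cast; omega)
    have h2 : e.inv ≫ g = 0 := hom_shift_eq_zero d _ (hgl _) b L hL' _
    have h3 : g = 0 := (cancel_epi e.inv).1 (h2.trans comp_zero.symm)
    rw [hg, h3]
    exact comp_zero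

/-- regular rings of finite Krull dimension have finite global dimension -/
theorem globalDim_le (R : Type u) [CommRing R] [IsNoetherianRing R]
    (hreg : ∀ p : PrimeSpectrum R, IsRegularLocalRing (Localization.AtPrime p.asIdeal)) (d : ℕ)
    (hd : ringKrullDim R = d) (M : ModuleCat.{u} R) : HasProjectiveDimensionLT M (d + 1) := by
  refine Groth.Agent.Helper1.TorLib.hasProjectiveDimensionLT_of_quotients d (fun I => ?_) M
  show HasProjectiveDimensionLE (ModuleCat.of R (R ⧸ I)) d
  rw [ModuleCat.hasProjectiveDimensionLE_iff_forall_primeSpectrum]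
  intro p
  haveI := hreg p
  have h1 : ringKrullDim (Localization.AtPrime p.asIdeal) = p.asIdeal.height :=
    IsLocalization.AtPrime.ringKrullDim_eq_height p.asIdeal _
  have h2 : (p.asIdeal.height : WithBot ℕ∞) ≤ (d : WithBot ℕ∞) := by
    rw [← hd]
    exact Ideal.height_le_ringKrullDim_of_ne_top p.2.ne_top
  have h3 : p.asIdeal.height ≤ (d : ℕ∞) := by exact_mod_cast h2
  obtain ⟨d', hd'⟩ : ∃ d' : ℕ, p.asIdeal.height = d' :=
    ⟨p.asIdeal.height.toNat, (ENat.natCast_toNat (ne_top_of_le_ne_top (ENat.natCast_ne_top d) h3)).symm⟩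
  have h4 : d' ≤ d := by
    rw [hd'] at h3
    exact_mod_cast h3
  have h5 : ringKrullDim (Localization.AtPrime p.asIdeal) = d' := by
    rw [h1, hd']; rfl
  have h6 := Groth.Agent.Helper1.TorLib.hasProjectiveDimensionLT_of_isRegularLocalRing d' h5
    ((ModuleCat.of R (R ⧸ I)).localizedModule p.asIdeal.primeCompl)
  exact hasProjectiveDimensionLT_of_ge _ (d' + 1) (d + 1) (by omega)

theorem main (R : Type u) [CommRing R] [IsNoetherianRing R]
    (hreg : ∀ p : PrimeSpectrum R, IsRegularLocalRing (Localization.AtPrime p.asIdeal)) (d : ℕ)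
    (hd : ringKrullDim R = d) (K L : Dual.D R)
    (hKb : ∃ b : ℤ, ∀ i : ℤ, b < i → Subsingleton (Dual.HD R K i))
    (k : ℤ) (hK : ∀ i : ℤ, i ≤ k → Subsingleton (Dual.HD R K i))
    (hL : ∀ i : ℤ, k - d + 1 ≤ i → Subsingleton (Dual.HD R L i)) :
    Subsingleton (K ⟶ L) := by
  obtain ⟨b, hb⟩ := hKb
  have i1 : K.IsGE (k + 1) :=
    Groth.Agent.Helper3.DRingLib.isGE_of_HD K (k + 1) (fun i hi => hK i (by omega))
  have i2 : K.IsLE (k + 1 + (b - (k + 1)).toNat) :=
    Groth.Agent.Helper3.DRingLib.isLE_of_HD K _ (fun i hi => hb i (by omega))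
  have i3 : L.IsLE (k - d) :=
    Groth.Agent.Helper3.DRingLib.isLE_of_HD L _ (fun i hi => hL i (by omega))
  refine ⟨fun f g => ?_⟩
  rw [hom_eq_zero_of_gap d (globalDim_le R hreg d hd) _ K k i1 i2 L i3 f,
    hom_eq_zero_of_gap d (globalDim_le R hreg d hd) _ K k i1 i2 L i3 g]

end Groth.Agent.Helper6.RegGap
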