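import Mathlib
import Groth.Prelude.Def_Wider
import Groth.Prelude.Def_DRing2
import Groth.Agent.S6935
import Groth.Agent.Helper3.DRingTor6
import Groth.Agent.Helper3.DRingPC3
import Groth.Agent.Helper3.DRingCone
import Groth.Agent.Helper6.RegGap
import Groth.Agent.Helper6.DualSelf
import Groth.Agent.Helper6.ProjResCons

/-!
# Perfect modules and finite projective resolutions by finite modules
-/

set_option autoImplicit false
universe u

open CategoryTheory Limits Pretriangulated DerivedCategory Abelian
attribute [local instance] HasDerivedCategory.standard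

namespace Groth.Agent.Helper6.PerfRes

open Groth.Agent.Helper3.DRingLib

variable {R : Type u} [CommRing R]

/-- a perfect module is finite -/
lemma finite_of_isPerfectModule (M : Type u) [AddCommGroup M] [Module R M]
    (h : DRing.IsPerfectModule R M) : Module.Finite R M := by
  have hpc : DRing.IsPseudoCoherent' R (Dual.inD R M) := ((isPerfect_iff_pc_and_torDim _).1 h).1
  have h0 := (isPseudoCoherent'_iff_forall _).1 hpc 0
  exact (Groth.Agent.S6935.result R M).1.1 h0

/-- no maps from a K-projective complex vanishing below `a` to `D^{≤ a-1}` -/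
lemma hom_eq_zero_of_vanishesBelow (E : DRing.Cx R) [E.IsKProjective] (a : ℤ)
    (hE : ∀ i : ℤ, i < a → IsZero (E.X i))
    (Y : Dual.D R) [Y.IsLE (a - 1)] (f : DRing.toD E ⟶ Y) : f = 0 := by
  obtain ⟨Y', hY', ⟨eY⟩⟩ := exists_iso_Q_obj_of_isLE Y (a - 1)
  have h0 : (f ≫ eY.hom : DRing.toD E ⟶ DRing.toD Y') = 0 := by
    obtain ⟨φ, hφ⟩ := Groth.Agent.Helper6.RegGap.exists_Q_map_eq_proj E Y' (f ≫ eY.hom)
    have : φ = 0 := by
      refine HomologicalComplex.hom_ext _ _ (fun j => ?_)
      by_cases hj : j < a
      · exact (hE j hj).eq_of_src _ _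
      · exact (CochainComplex.isZero_of_isStrictlyLE Y' (a - 1) j (by omega)).eq_of_tgt _ _
    rw [← hφ, this, Functor.map_zero]
  exact (cancel_mono eY.hom).1 (h0.trans zero_comp.symm)

/-- a perfect module has finite projective dimension -/
lemma exists_pd_of_isPerfectModule (M : Type u) [AddCommGroup M] [Module R M]
    (h : DRing.IsPerfectModule R M) :
    ∃ d : ℕ, HasProjectiveDimensionLT (ModuleCat.of R M) d := by
  obtain ⟨E, a, b, hv, hfp, ⟨e⟩⟩ := h
  haveI : E.IsKProjective := isKProjective_of_vanishesAbove E b
    (fun i hi => hv i (Or.inr hi)) (fun i => (hfp i).2)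
  refine ⟨(1 - a).toNat, ?_⟩
  letI : HasExt.{u + 1} (ModuleCat.{u} R) := hasExt_of_hasDerivedCategory _
  rw [hasProjectiveDimensionLT_iff.{u + 1}]
  intro i hi Y x
  have hsub : Subsingleton ((singleFunctor (ModuleCat.{u} R) 0).obj (ModuleCat.of R M) ⟶
      ((singleFunctor (ModuleCat.{u} R) 0).obj Y)⟦(i : ℤ)⟧) := by
    refine ⟨fun f g => ?_⟩
    haveI h1 : (((singleFunctor (ModuleCat.{u} R) 0).obj Y)⟦(i : ℤ)⟧).IsLE (-(i : ℤ)) :=
      TStructure.t.isLE_shift _ 0 (i : ℤ) (-(i : ℤ)) (by omega)
    haveI h2 : (((singleFunctor (ModuleCat.{u} R) 0).obj Y)⟦(i : ℤ)⟧).IsLE (a - 1) :=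
      TStructure.t.isLE_of_le _ (-(i : ℤ)) (a - 1) (by omega)
    have hf : e.hom ≫ f = 0 :=
      hom_eq_zero_of_vanishesBelow E a (fun j hj => hv j (Or.inl hj)) _ _
    have hg : e.hom ≫ g = 0 :=
      hom_eq_zero_of_vanishesBelow E a (fun j hj => hv j (Or.inl hj)) _ _
    exact (cancel_epi e.hom).1 (hf.trans hg.symm)
  haveI := (Groth.Agent.Helper6.DualSelf.subsingleton_iff R (ModuleCat.of R M) Y i).1 hsub
  exact Subsingleton.elim _ _

/-- a finite projective module is perfect -/
lemma isPerfectModule_of_finite_projective (N : Type u) [AddCommGroup N] [Module R N]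
    [Module.Finite R N] [Module.Projective R N] : DRing.IsPerfectModule R N := by
  refine ⟨(CochainComplex.singleFunctor (ModuleCat.{u} R) 0).obj (ModuleCat.of R N), 0, 0,
    fun i hi => ?_, fun i => ?_,
    ⟨((singleFunctorIsoCompQ (ModuleCat.{u} R) 0).app (ModuleCat.of R N)).symm⟩⟩
  · exact HomologicalComplex.isZero_single_obj_X (ComplexShape.up ℤ) 0 _ i (by omega)
  · by_cases hi : i = 0
    · subst hi
      let e := (HomologicalComplex.singleObjXSelf (ComplexShape.up ℤ) 0
        (ModuleCat.of R N)).toLinearEquiv
      exact ⟨Module.Finite.equiv e.symm, Module.Projective.of_equiv e.symm⟩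
    · have hz : IsZero (((CochainComplex.singleFunctor (ModuleCat.{u} R) 0).obj
          (ModuleCat.of R N)).X i) :=
        HomologicalComplex.isZero_single_obj_X (ComplexShape.up ℤ) 0 _ i hi
      haveI := ModuleCat.subsingleton_of_isZero hz
      exact ⟨Module.Finite.of_finite, Module.Projective.of_free⟩

/-- the kernel of a surjection from a finite free module onto a perfect module is perfect -/
lemma isPerfectModule_ker (M : Type u) [AddCommGroup M] [Module R M]
    (h : DRing.IsPerfectModule R M) (n : ℕ) (f : (Fin n → R) →ₗ[R] M)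
    (hf : Function.Surjective f) : DRing.IsPerfectModule R (LinearMap.ker f) := by
  let S : ShortComplex (ModuleCat.{u} R) :=
    ShortComplex.mk (ModuleCat.ofHom (LinearMap.ker f).subtype) (ModuleCat.ofHom f)
      (by ext x; simp)
  have hS : S.ShortExact :=
    { exact := (ShortComplex.ShortExact.moduleCat_exact_iff_function_exact S).2
        (LinearMap.exact_subtype_ker_map f)
      mono_f := (ModuleCat.mono_iff_injective _).2 (Submodule.injective_subtype _)
      epi_g := (ModuleCat.epi_iff_surjective _).2 hf }
  have hT := hS.singleTriangle_distinguished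
  exact isPerfect_obj₁ _ hT (isPerfectModule_of_finite_projective (Fin n → R)) h

/-- finite resolutions of perfect modules, by induction on the projective dimension -/
theorem exists_resolution : ∀ (d : ℕ) (M : Type u) [AddCommGroup M] [Module R M],
    DRing.IsPerfectModule R M → HasProjectiveDimensionLE (ModuleCat.of R M) d →
      ∃ P : ProjectiveResolution (ModuleCat.of R M),
        (∀ i : ℕ, d < i → IsZero (P.complex.X i)) ∧ ∀ i : ℕ, Module.Finite R (P.complex.X i) := by
  intro d
  induction d with
  | zero =>
    intro M _ _ hM hpd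
    haveI : Projective (ModuleCat.of R M) := (projective_iff_hasProjectiveDimensionLE_zero _).2 hpd
    haveI := finite_of_isPerfectModule M hM
    refine ⟨ProjectiveResolution.self _, fun i hi => ?_, fun i => ?_⟩
    · apply HomologicalComplex.isZero_single_obj_X
      omega
    · by_cases hi : i = 0
      · subst hi
        exact inferInstanceAs (Module.Finite R M)
      · have hz : IsZero ((ProjectiveResolution.self (ModuleCat.of R M)).complex.X i) := by
          apply HomologicalComplex.isZero_single_obj_X
          exact hi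
        haveI := ModuleCat.subsingleton_of_isZero hz
        exact Module.Finite.of_finite
  | succ d ih =>
    intro M _ _ hM hpd
    haveI := finite_of_isPerfectModule M hM
    obtain ⟨n, f, hf⟩ := Module.Finite.exists_fin' R M
    let S : ShortComplex (ModuleCat.{u} R) :=
      ShortComplex.mk (ModuleCat.ofHom (LinearMap.ker f).subtype) (ModuleCat.ofHom f)
        (by ext x; simp)
    have hS : S.ShortExact :=
      { exact := (ShortComplex.ShortExact.moduleCat_exact_iff_function_exact S).2
          (LinearMap.exact_subtype_ker_map f)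
        mono_f := (ModuleCat.mono_iff_injective _).2 (Submodule.injective_subtype _)
        epi_g := (ModuleCat.epi_iff_surjective _).2 hf }
    haveI : Projective S.X₂ :=
      (IsProjective.iff_projective (R := R) (P := (Fin n → R))).1 inferInstance
    have h₂ : HasProjectiveDimensionLT S.X₂ (d + 1) := inferInstance
    have h₃ : HasProjectiveDimensionLT S.X₃ (d + 1 + 1) := hpd
    have h₁ : HasProjectiveDimensionLE (ModuleCat.of R (LinearMap.ker f)) d :=
      hS.hasProjectiveDimensionLT_X₁ (d + 1) h₂ h₃
    obtain ⟨Q, hQ1, hQ2⟩ := ih (LinearMap.ker f) (isPerfectModule_ker M hM n f hf) h₁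
    refine ⟨Groth.Agent.Helper6.ProjResCons.cons hS Q, fun i hi => ?_, fun i => ?_⟩
    · obtain _ | j := i
      · omega
      · exact hQ1 j (by omega)
    · obtain _ | j := i
      · exact inferInstanceAs (Module.Finite R (Fin n → R))
      · exact hQ2 j

/-- a module with a finite resolution by finite projectives is perfect -/
theorem isPerfectModule_of_resolution (M : Type u) [AddCommGroup M] [Module R M]
    (P : ProjectiveResolution (ModuleCat.of R M)) (d : ℕ)
    (h1 : ∀ i : ℕ, d < i → IsZero (P.complex.X i))
    (h2 : ∀ i : ℕ, Module.Finite R (P.complex.X i)) : DRing.IsPerfectModule R M := by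
  haveI : IsIso (DerivedCategory.Q.map P.π') := by
    rw [DerivedCategory.isIso_Q_map_iff_quasiIso]
    infer_instance
  refine ⟨P.cochainComplex, -(d : ℤ), 0, fun i hi => ?_, fun i => ?_,
    ⟨asIso (DerivedCategory.Q.map P.π') ≪≫
      ((singleFunctorIsoCompQ (ModuleCat.{u} R) 0).app (ModuleCat.of R M)).symm⟩⟩
  · rcases hi with hi | hi
    · obtain ⟨k, rfl⟩ := Int.exists_eq_neg_ofNat (show i ≤ 0 by omega)
      exact (h1 k (by omega)).of_iso (P.cochainComplexXIso (-(k : ℤ)) k rfl)
    · exact CochainComplex.isZero_of_isStrictlyLE _ 0 _ hi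
  · by_cases hi : i ≤ 0
    · obtain ⟨k, rfl⟩ := Int.exists_eq_neg_ofNat hi
      let e := (P.cochainComplexXIso (-(k : ℤ)) k rfl).toLinearEquiv
      haveI := h2 k
      haveI : Module.Projective R (P.complex.X k) :=
        (IsProjective.iff_projective (R := R) (P := P.complex.X k)).2 (P.projective k)
      exact ⟨Module.Finite.equiv e.symm, Module.Projective.of_equiv e.symm⟩
    · have hz : IsZero (P.cochainComplex.X i) :=
        CochainComplex.isZero_of_isStrictlyLE _ 0 _ (by omega)
      haveI := ModuleCat.subsingleton_of_isZero hz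
      exact ⟨Module.Finite.of_finite, Module.Projective.of_free⟩

theorem main (M : Type u) [AddCommGroup M] [Module R M] :
    DRing.IsPerfectModule R M ↔
      ∃ (P : ProjectiveResolution (ModuleCat.of R M)) (d : ℕ),
        (∀ i : ℕ, d < i → IsZero (P.complex.X i)) ∧ ∀ i : ℕ, Module.Finite R (P.complex.X i) := by
  constructor
  · intro h
    obtain ⟨d, hd⟩ := exists_pd_of_isPerfectModule M h
    have hd' : HasProjectiveDimensionLE (ModuleCat.of R M) d :=
      hasProjectiveDimensionLT_of_ge _ d (d + 1) (by omega)
    obtain ⟨P, h1, h2⟩ := exists_resolution d M h hd'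
    exact ⟨P, d, h1, h2⟩
  · rintro ⟨P, d, h1, h2⟩
    exact isPerfectModule_of_resolution M P d h1 h2

end Groth.Agent.Helper6.PerfRes
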