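import Mathlib

/-!
# Perfect rings of characteristic `p`: roots, tensor products, quotients
-/

set_option autoImplicit false
set_option linter.style.haveILetI false
set_option linter.unusedSectionVars false

universe u
open TensorProduct

namespace Groth.Agent.Helper6.PerfTor

/-- a perfect ring of characteristic `p` (the zero ring is allowed) -/
def IsPerf (p : ℕ) (R : Type*) [CommRing R] : Prop :=
  (p : R) = 0 ∧ Function.Bijective (fun x : R => x ^ p)

variable {p : ℕ} [hp : Fact p.Prime]

lemma add_pow_p {R : Type*} [CommRing R] (h0 : (p : R) = 0) (x y : R) :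
    (x + y) ^ p = x ^ p + y ^ p := by
  rcases subsingleton_or_nontrivial R with h | h
  · exact Subsingleton.elim _ _
  · haveI : CharP R p := (CharP.charP_iff_prime_eq_zero hp.out).2 h0
    exact add_pow_char x y p

lemma sub_pow_p {R : Type*} [CommRing R] (h0 : (p : R) = 0) (x y : R) :
    (x - y) ^ p = x ^ p - y ^ p := by
  rcases subsingleton_or_nontrivial R with h | h
  · exact Subsingleton.elim _ _
  · haveI : CharP R p := (CharP.charP_iff_prime_eq_zero hp.out).2 h0
    exact sub_pow_char x y

namespace IsPerf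

variable {R : Type*} [CommRing R] (h : IsPerf p R)

/-- the `p`-th root -/
noncomputable def root (x : R) : R := (Equiv.ofBijective _ h.2).symm x

lemma root_pow (x : R) : h.root x ^ p = x := (Equiv.ofBijective _ h.2).apply_symm_apply x

lemma root_pow' (x : R) : h.root (x ^ p) = x := (Equiv.ofBijective _ h.2).symm_apply_apply x

include h in
lemma pow_inj {x y : R} (hxy : x ^ p = y ^ p) : x = y := h.2.1 hxy

include h in
lemma eq_zero_of_pow {x : R} (hx : x ^ p = 0) : x = 0 :=
  h.pow_inj (by rw [hx, zero_pow hp.out.ne_zero])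

lemma root_mul (x y : R) : h.root (x * y) = h.root x * h.root y :=
  h.pow_inj (by rw [root_pow, mul_pow, root_pow, root_pow])

lemma root_add (x y : R) : h.root (x + y) = h.root x + h.root y :=
  h.pow_inj (by rw [root_pow, add_pow_p h.1, root_pow, root_pow])

lemma root_zero : h.root 0 = 0 :=
  h.pow_inj (by rw [root_pow, zero_pow hp.out.ne_zero])

lemma root_algebraMap {S : Type*} [CommRing S] [Algebra R S] (hS : IsPerf p S) (r : R) :
    hS.root (algebraMap R S r) = algebraMap R S (h.root r) :=
  hS.pow_inj (by rw [root_pow, ← map_pow, root_pow])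

/-- the compatible system of roots of an element -/
noncomputable def roots (a : R) (k : ℕ) : R := h.root^[k] a

lemma roots_zero (a : R) : h.roots a 0 = a := rfl

lemma roots_succ (a : R) (k : ℕ) : h.roots a (k + 1) = h.root (h.roots a k) :=
  Function.iterate_succ_apply' _ _ _

lemma roots_succ_pow (a : R) (k : ℕ) : h.roots a (k + 1) ^ p = h.roots a k := by
  rw [roots_succ, root_pow]

/-- an ideal stable under `p`-th roots -/
def RootClosed (K : Ideal R) : Prop := ∀ x ∈ K, h.root x ∈ K

lemma rootClosed_bot : h.RootClosed ⊥ := by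
  intro x hx
  rw [Ideal.mem_bot] at hx ⊢
  rw [hx, root_zero]

lemma rootClosed_sup {K K' : Ideal R} (hK : h.RootClosed K) (hK' : h.RootClosed K') :
    h.RootClosed (K ⊔ K') := by
  intro x hx
  obtain ⟨y, hy, z, hz, rfl⟩ := Submodule.mem_sup.1 hx
  rw [root_add]
  exact Submodule.add_mem_sup (hK y hy) (hK' z hz)

lemma rootClosed_span_roots (a : R) : h.RootClosed (Ideal.span (Set.range (h.roots a))) := by
  intro x hx
  induction hx using Submodule.span_induction with
  | mem y hy =>
    obtain ⟨k, rfl⟩ := hy
    exact Ideal.subset_span ⟨k + 1, h.roots_succ a k⟩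
  | zero =>
    rw [root_zero]
    exact Submodule.zero_mem _
  | add y z _ _ hy hz =>
    rw [root_add]
    exact Submodule.add_mem _ hy hz
  | smul c y _ hy =>
    rw [smul_eq_mul, root_mul]
    exact Ideal.mul_mem_left _ _ hy

lemma rootClosed_of_isRadical {K : Ideal R} (hK : K.IsRadical) : h.RootClosed K := by
  intro x hx
  refine hK (Ideal.mem_radical_iff.2 ⟨p, ?_⟩)
  rw [root_pow]
  exact hx

lemma roots_mem_of_isRadical {K : Ideal R} (hK : K.IsRadical) (a : R) (ha : a ∈ K) (k : ℕ) :
    h.roots a k ∈ K := by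
  induction k with
  | zero => exact ha
  | succ k ih =>
    rw [roots_succ]
    exact h.rootClosed_of_isRadical hK _ ih

/-- the quotient of a perfect ring by a root-closed ideal is perfect -/
theorem quotient (K : Ideal R) (hK : h.RootClosed K) : IsPerf p (R ⧸ K) := by
  refine ⟨?_, ⟨?_, ?_⟩⟩
  · rw [← map_natCast (Ideal.Quotient.mk K) p, h.1, map_zero]
  · intro x y hxy
    obtain ⟨a, rfl⟩ := Ideal.Quotient.mk_surjective x
    obtain ⟨b, rfl⟩ := Ideal.Quotient.mk_surjective y
    change (Ideal.Quotient.mk K a) ^ p = (Ideal.Quotient.mk K b) ^ p at hxy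
    rw [← map_pow, ← map_pow, Ideal.Quotient.eq, ← sub_pow_p h.1] at hxy
    rw [Ideal.Quotient.eq]
    have := hK _ hxy
    rwa [h.root_pow'] at this
  · intro x
    obtain ⟨a, rfl⟩ := Ideal.Quotient.mk_surjective x
    refine ⟨Ideal.Quotient.mk K (h.root a), ?_⟩
    show (Ideal.Quotient.mk K (h.root a)) ^ p = _
    rw [← map_pow, h.root_pow]

/-- the tensor product of perfect rings over a perfect ring is perfect -/
theorem tensor {R : Type*} {S : Type*} {T : Type*} [CommRing R] [CommRing S] [CommRing T] [Algebra R S] [Algebra R T]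
    (hR : IsPerf p R) (hS : IsPerf p S) (hT : IsPerf p T) : IsPerf p (S ⊗[R] T) := by
  have h0 : (p : S ⊗[R] T) = 0 := by
    rw [← map_natCast (algebraMap R (S ⊗[R] T)) p, hR.1, map_zero]
  let f : S →+ T →+ S ⊗[R] T :=
    { toFun := fun s =>
        { toFun := fun t => hS.root s ⊗ₜ[R] hT.root t
          map_zero' := by rw [hT.root_zero, tmul_zero]
          map_add' := fun t t' => by rw [hT.root_add, tmul_add] }
      map_zero' := by
        ext t
        show hS.root 0 ⊗ₜ[R] hT.root t = 0
        rw [hS.root_zero, zero_tmul]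
      map_add' := fun s s' => by
        ext t
        show hS.root (s + s') ⊗ₜ[R] hT.root t = hS.root s ⊗ₜ[R] hT.root t + hS.root s' ⊗ₜ[R] hT.root t
        rw [hS.root_add, add_tmul] }
  have hf : ∀ (r : R) (s : S) (t : T), f (r • s) t = f s (r • t) := by
    intro r s t
    show hS.root (r • s) ⊗ₜ[R] hT.root t = hS.root s ⊗ₜ[R] hT.root (r • t)
    rw [Algebra.smul_def, Algebra.smul_def, hS.root_mul, hT.root_mul, hR.root_algebraMap hS,
      hR.root_algebraMap hT, ← Algebra.smul_def, ← Algebra.smul_def, smul_tmul]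
  have hψ1 : ∀ z, (TensorProduct.liftAddHom f hf z) ^ p = z := by
    intro z
    induction z using TensorProduct.induction_on with
    | zero => rw [map_zero, zero_pow hp.out.ne_zero]
    | tmul s t =>
      show (hS.root s ⊗ₜ[R] hT.root t) ^ p = s ⊗ₜ t
      rw [Algebra.TensorProduct.tmul_pow, hS.root_pow, hT.root_pow]
    | add x y hx hy => rw [map_add, add_pow_p h0, hx, hy]
  have hψ2 : ∀ z, TensorProduct.liftAddHom f hf (z ^ p) = z := by
    intro z
    induction z using TensorProduct.induction_on with
    | zero => rw [zero_pow hp.out.ne_zero, map_zero]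
    | tmul s t =>
      rw [Algebra.TensorProduct.tmul_pow]
      show hS.root (s ^ p) ⊗ₜ[R] hT.root (t ^ p) = s ⊗ₜ t
      rw [hS.root_pow', hT.root_pow']
    | add x y hx hy => rw [add_pow_p h0, map_add, hx, hy]
  refine ⟨h0, ⟨fun x y hxy => ?_, fun z => ⟨TensorProduct.liftAddHom f hf z, hψ1 z⟩⟩⟩
  change x ^ p = y ^ p at hxy
  have := congrArg (TensorProduct.liftAddHom f hf) hxy
  rwa [hψ2, hψ2] at this

end IsPerf

lemma isPerf_zmod : IsPerf p (ZMod p) := by
  refine ⟨ZMod.natCast_self p, ?_⟩
  have : (fun x : ZMod p => x ^ p) = id := funext (fun x => ZMod.pow_card x)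
  rw [this]
  exact Function.bijective_id

end Groth.Agent.Helper6.PerfTor
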