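import Mathlib
import Groth.Agent.Helper6.PerfTor1
import Groth.Agent.Helper1.TorCrit
import Groth.Agent.Helper1.TorFlat

/-!
# `Tor` against the quotient by a "principal perfect" ideal `(g 0, g 1, …)`, `g (n+1) ^ p = g n`
-/

set_option autoImplicit false
set_option linter.style.haveILetI false
set_option linter.unusedSectionVars false

universe u
open TensorProduct CategoryTheory CategoryTheory.Limits Groth.Agent.Helper1.TorLib

namespace Groth.Agent.Helper6.PerfTor

section K

variable {A : Type u} [CommRing A] {p : ℕ} (hp : 1 < p) (g : ℕ → A)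
  (hg : ∀ n, g (n + 1) ^ p = g n)

/-- the elements `g n` as elements of the ideal they span -/
def gI (n : ℕ) : ↥(Ideal.span (Set.range g)) := ⟨g n, Ideal.subset_span ⟨n, rfl⟩⟩

include hg in
lemma g_eq_pow (n k : ℕ) : g n = g (n + k) ^ (p ^ k) := by
  induction k with
  | zero => simp
  | succ k ih =>
    rw [show n + (k + 1) = n + k + 1 from rfl, pow_succ', pow_mul, hg, ← ih]

include hp hg in
lemma g_eq_mul (n k : ℕ) : g n = g (n + k) ^ (p ^ k - 1) * g (n + k) := by
  rw [pow_sub_one_mul (pow_ne_zero k (by omega)), ← g_eq_pow g hg]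

include hp hg in
lemma gI_eq_smul (n k : ℕ) : gI g n = g (n + k) ^ (p ^ k - 1) • gI g (n + k) := by
  apply Subtype.ext
  show g n = g (n + k) ^ (p ^ k - 1) * g (n + k)
  exact g_eq_mul hp g hg n k

include hp hg in
lemma exists_eq_mul_of_mem (x : A) (hx : x ∈ Ideal.span (Set.range g)) :
    ∃ n b, x = b * g n := by
  induction hx using Submodule.span_induction with
  | mem y hy =>
    obtain ⟨n, rfl⟩ := hy
    exact ⟨n, 1, (one_mul _).symm⟩
  | zero => exact ⟨0, 0, (zero_mul _).symm⟩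
  | add y z _ _ hy hz =>
    obtain ⟨n, b, rfl⟩ := hy
    obtain ⟨m, c, rfl⟩ := hz
    have h1 : g n = g (n + m) ^ (p ^ m - 1) * g (n + m) := g_eq_mul hp g hg n m
    have h2 : g m = g (n + m) ^ (p ^ n - 1) * g (n + m) := by
      have := g_eq_mul hp g hg m n
      rwa [Nat.add_comm m n] at this
    refine ⟨n + m, b * g (n + m) ^ (p ^ m - 1) + c * g (n + m) ^ (p ^ n - 1), ?_⟩
    linear_combination b * h1 + c * h2
  | smul c y _ hy =>
    obtain ⟨n, b, rfl⟩ := hy
    exact ⟨n, c * b, by rw [smul_eq_mul, mul_assoc]⟩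

include hp hg in
lemma exists_pure (M : Type u) [AddCommGroup M] [Module A M]
    (t : M ⊗[A] ↥(Ideal.span (Set.range g))) : ∃ n m, t = m ⊗ₜ[A] gI g n := by
  induction t using TensorProduct.induction_on with
  | zero => exact ⟨0, 0, (zero_tmul _ _).symm⟩
  | tmul m x =>
    obtain ⟨n, b, hb⟩ := exists_eq_mul_of_mem hp g hg x.1 x.2
    refine ⟨n, b • m, ?_⟩
    have hx : x = b • gI g n := Subtype.ext hb
    rw [hx, TensorProduct.tmul_smul, TensorProduct.smul_tmul']
  | add t t' ht ht' =>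
    obtain ⟨n, m, rfl⟩ := ht
    obtain ⟨n', m', rfl⟩ := ht'
    refine ⟨n + n', g (n + n') ^ (p ^ n' - 1) • m + g (n + n') ^ (p ^ n - 1) • m', ?_⟩
    have e1 : m ⊗ₜ[A] gI g n = (g (n + n') ^ (p ^ n' - 1) • m) ⊗ₜ[A] gI g (n + n') := by
      rw [gI_eq_smul hp g hg n n', TensorProduct.tmul_smul, TensorProduct.smul_tmul']
    have e2 : m' ⊗ₜ[A] gI g n' = (g (n + n') ^ (p ^ n - 1) • m') ⊗ₜ[A] gI g (n + n') := by
      rw [gI_eq_smul hp g hg n' n, Nat.add_comm n' n, TensorProduct.tmul_smul,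
        TensorProduct.smul_tmul']
    rw [e1, e2, TensorProduct.add_tmul]

include hp hg in
/-- the key injectivity -/
theorem lTensor_subtype_injective (M : Type u) [AddCommGroup M] [Module A M]
    (hM : ∀ n (m : M), g n • m = 0 → g (n + 1) • m = 0) :
    Function.Injective (LinearMap.lTensor M (Ideal.span (Set.range g)).subtype) := by
  rw [injective_iff_map_eq_zero]
  intro t ht
  obtain ⟨n, m, rfl⟩ := exists_pure hp g hg M t
  have h1 : g n • m = 0 := by
    have := congrArg (TensorProduct.rid A M) ht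
    rw [LinearMap.lTensor_tmul, TensorProduct.rid_tmul, map_zero] at this
    exact this
  have h2 := hM n m h1
  rw [gI_eq_smul hp g hg n 1, pow_one, TensorProduct.tmul_smul, TensorProduct.smul_tmul']
  obtain ⟨q, hq⟩ : ∃ q, p - 1 = q + 1 := ⟨p - 2, by omega⟩
  rw [hq, pow_succ, mul_smul, h2, smul_zero, zero_tmul]

include hp hg in
lemma smul_eq_zero_step {X : Type*} [CommRing X] [Algebra A X]
    (hred : ∀ x : X, x ^ p = 0 → x = 0) (n : ℕ) (x : X) (h : g n • x = 0) :
    g (n + 1) • x = 0 := by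
  apply hred
  rw [smul_pow, hg, ← mul_pow_sub_one (by omega : p ≠ 0) x, ← smul_mul_assoc, h, zero_mul]

include hp hg in
theorem flat_span (hred : ∀ x : A, x ^ p = 0 → x = 0) :
    Module.Flat A ↥(Ideal.span (Set.range g)) := by
  rw [Module.Flat.iff_lTensor_injective']
  intro 𝔞
  have hK := lTensor_subtype_injective hp g hg ↥𝔞 (fun n a h => by
    apply Subtype.ext
    have h' : g n • (a : A) = 0 := congrArg Subtype.val h
    exact smul_eq_zero_step hp g hg (X := A) hred n a.1 h')
  obtain ⟨I, hI⟩ : ∃ I, I = Ideal.span (Set.range g) := ⟨_, rfl⟩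
  rw [← hI] at hK ⊢
  have hcomm : (I.subtype ∘ₗ (TensorProduct.rid A ↥I).toLinearMap) ∘ₗ
      LinearMap.lTensor ↥I 𝔞.subtype =
      (𝔞.subtype ∘ₗ (TensorProduct.rid A ↥𝔞).toLinearMap) ∘ₗ LinearMap.lTensor ↥𝔞 I.subtype ∘ₗ
        (TensorProduct.comm A ↥I ↥𝔞).toLinearMap := by
    apply TensorProduct.ext'
    intro x a
    simp [mul_comm]
  have hinj : Function.Injective ((𝔞.subtype ∘ₗ (TensorProduct.rid A ↥𝔞).toLinearMap) ∘ₗ
      LinearMap.lTensor ↥𝔞 I.subtype ∘ₗ (TensorProduct.comm A ↥I ↥𝔞).toLinearMap) := by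
    rw [LinearMap.coe_comp, LinearMap.coe_comp, LinearMap.coe_comp]
    exact (𝔞.injective_subtype.comp (TensorProduct.rid A ↥𝔞).injective).comp
      (hK.comp (TensorProduct.comm A ↥I ↥𝔞).injective)
  rw [← hcomm, LinearMap.coe_comp] at hinj
  exact Function.Injective.of_comp hinj

include hp hg in
/-- **Vanishing of `Tor` against the quotient by a principal perfect ideal.** -/
theorem isZero_tor_quotient_span (hred : ∀ x : A, x ^ p = 0 → x = 0)
    (X : Type u) [AddCommGroup X] [Module A X]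
    (hX : ∀ n (x : X), g n • x = 0 → g (n + 1) • x = 0) (i : ℕ) (hi : 0 < i) :
    IsZero (((Tor (ModuleCat.{u} A) i).obj
      (ModuleCat.of A (A ⧸ Ideal.span (Set.range g)))).obj (ModuleCat.of A X)) := by
  obtain ⟨I, hI⟩ : ∃ I, I = Ideal.span (Set.range g) := ⟨_, rfl⟩
  have hinj := lTensor_subtype_injective hp g hg X hX
  haveI : Module.Flat A ↥(Ideal.span (Set.range g)) := flat_span hp g hg hred
  rw [← hI] at hinj ⊢
  haveI : Module.Flat A ↥I := by rw [hI]; infer_instance
  obtain ⟨j, rfl⟩ : ∃ j, i = j + 1 := ⟨i - 1, by omega⟩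
  cases j with
  | zero =>
    rw [zero_add, isZero_torOne_quotient_iff, ← LinearMap.lTensor_inj_iff_rTensor_inj]
    exact hinj
  | succ j =>
    have hfg : Function.Exact I.subtype I.mkQ := LinearMap.exact_subtype_mkQ I
    have hS := scOfLinear_shortExact I.subtype I.mkQ I.injective_subtype
      (Submodule.mkQ_surjective I) hfg
    haveI : Module.Flat A (scOfLinear I.subtype I.mkQ hfg).X₂ := (inferInstance : Module.Flat A A)
    haveI : Module.Flat A (scOfLinear I.subtype I.mkQ hfg).X₁ := (inferInstance : Module.Flat A ↥I)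
    have hz2 : IsZero (((Tor (ModuleCat.{u} A) (j + 1 + 1)).obj
        (scOfLinear I.subtype I.mkQ hfg).X₂).obj (ModuleCat.of A X)) :=
      isZero_tor_of_flat_left _ _ (j + 1)
    have hz1 : IsZero (((Tor (ModuleCat.{u} A) (j + 1)).obj
        (scOfLinear I.subtype I.mkQ hfg).X₁).obj (ModuleCat.of A X)) :=
      isZero_tor_of_flat_left _ _ j
    have hmono : Mono (torδ (ModuleCat.of A X) hS (j + 1)) :=
      (tor_exact₃ (ModuleCat.of A X) hS (j + 1)).mono_g (hz2.eq_of_src _ _)
    exact @IsZero.of_mono _ _ _ _ _ (torδ (ModuleCat.of A X) hS (j + 1)) hmono hz1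

end K

end Groth.Agent.Helper6.PerfTor
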