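import Mathlib
import Groth.Agent.Helper6.PerfTor1
import Groth.Agent.Helper6.PerfTor2
import Groth.Agent.Helper1.TorBC2
import Groth.Agent.Helper1.TorBalance

/-!
# `Tor` against quotients by finitely generated perfect ideals
-/

set_option autoImplicit false
set_option linter.style.haveILetI false
set_option linter.unusedSectionVars false

universe u
open TensorProduct CategoryTheory CategoryTheory.Limits Groth.Agent.Helper1.TorLib

namespace Groth.Agent.Helper6.PerfTor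

variable {p : ℕ} [hp : Fact p.Prime]

/-- `Tor`-vanishing of `A ⧸ K` against all perfect `A`-algebras -/
def TV (p : ℕ) (A : Type u) [CommRing A] (K : Ideal A) : Prop :=
  ∀ (C : Type u) [CommRing C] [Algebra A C], IsPerf p C → ∀ i : ℕ, 0 < i →
    IsZero (((Tor (ModuleCat.{u} A) i).obj (ModuleCat.of A (A ⧸ K))).obj (ModuleCat.of A C))

lemma root_map {R S : Type*} [CommRing R] [CommRing S] (f : R →+* S) (hR : IsPerf p R)
    (hS : IsPerf p S) (x : R) : f (hR.root x) = hS.root (f x) :=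
  hS.pow_inj (by rw [← map_pow, hR.root_pow, hS.root_pow])

lemma roots_map {R S : Type*} [CommRing R] [CommRing S] (f : R →+* S) (hR : IsPerf p R)
    (hS : IsPerf p S) (a : R) (k : ℕ) : f (hR.roots a k) = hS.roots (f a) k := by
  induction k with
  | zero => rfl
  | succ k ih => rw [hR.roots_succ, hS.roots_succ, root_map f hR hS, ih]

variable {A : Type u} [CommRing A]

lemma tv_bot : TV p A ⊥ := by
  intro C _ _ _ i hi
  obtain ⟨j, rfl⟩ : ∃ j, i = j + 1 := ⟨i - 1, by omega⟩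
  haveI : Module.Flat A (A ⧸ (⊥ : Ideal A)) :=
    Module.Flat.of_linearEquiv (Submodule.quotEquivOfEqBot (⊥ : Ideal A) rfl)
  haveI : Module.Flat A (ModuleCat.of A (A ⧸ (⊥ : Ideal A))) :=
    (inferInstance : Module.Flat A (A ⧸ (⊥ : Ideal A)))
  exact isZero_tor_of_flat_left _ _ j

lemma tv_span_roots (hA : IsPerf p A) (a : A) :
    TV p A (Ideal.span (Set.range (hA.roots a))) := by
  intro C _ _ hC i hi
  exact isZero_tor_quotient_span hp.out.one_lt (hA.roots a) (hA.roots_succ_pow a)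
    (fun x hx => hA.eq_zero_of_pow hx) C
    (fun n x h => smul_eq_zero_step hp.out.one_lt (hA.roots a) (hA.roots_succ_pow a)
      (fun x hx => hC.eq_zero_of_pow hx) n x h) i hi

lemma nonempty_doubleQuot_equiv (K G : Ideal A) (J' : Ideal (A ⧸ K))
    (hJ' : J' = G.map (Ideal.Quotient.mkₐ A K)) :
    Nonempty (((A ⧸ K) ⧸ J') ≃ₗ[A] A ⧸ (K ⊔ G)) := by
  subst hJ'
  exact ⟨(DoubleQuot.quotQuotEquivQuotSupₐ A K G).toLinearEquiv⟩

/-- the induction step -/
theorem tv_sup (hA : IsPerf p A) (K : Ideal A) (hK : hA.RootClosed K) (hT : TV p A K) (a : A) :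
    TV p A (K ⊔ Ideal.span (Set.range (hA.roots a))) := by
  intro C _ _ hC n hn
  have hA' : IsPerf p (A ⧸ K) := hA.quotient K hK
  obtain ⟨J', hJ'⟩ : ∃ J' : Ideal (A ⧸ K),
      J' = Ideal.span (Set.range (hA'.roots (Ideal.Quotient.mk K a))) := ⟨_, rfl⟩
  have hmap : J' = (Ideal.span (Set.range (hA.roots a))).map (Ideal.Quotient.mkₐ A K) := by
    rw [hJ', Ideal.map_span, ← Set.range_comp]
    congr 2
    funext k
    exact (roots_map (Ideal.Quotient.mk K) hA hA' a k).symm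
  obtain ⟨e⟩ := nonempty_doubleQuot_equiv K (Ideal.span (Set.range (hA.roots a))) J' hmap
  -- symmetry
  obtain ⟨e1⟩ := nonempty_tor_symm_iso
    (ModuleCat.of A (A ⧸ (K ⊔ Ideal.span (Set.range (hA.roots a))))) (ModuleCat.of A C) n
  refine IsZero.of_iso ?_ e1
  refine IsZero.of_iso ?_ (((Tor (ModuleCat.{u} A) n).obj (ModuleCat.of A C)).mapIso
    e.toModuleIso.symm)
  -- base change
  have hP : ∀ q : ℕ, 0 < q → Subsingleton
      (((Tor (ModuleCat.{u} A) q).obj (ModuleCat.of A C)).obj (ModuleCat.of A (A ⧸ K))) := by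
    intro q hq
    obtain ⟨e3⟩ := nonempty_tor_symm_iso (ModuleCat.of A C) (ModuleCat.of A (A ⧸ K)) q
    exact ModuleCat.subsingleton_of_isZero (IsZero.of_iso (hT C hC q hq) e3)
  obtain ⟨φ, hφ⟩ := exists_semilinear_tor_of_tor_vanishing (A := A) (A' := A ⧸ K) C
    ((A ⧸ K) ⧸ J') hP n
  have hC' : IsPerf p ((A ⧸ K) ⊗[A] C) := IsPerf.tensor hA hA' hC
  have hz : IsZero (((Tor (ModuleCat.{u} (A ⧸ K)) n).obj
      (ModuleCat.of (A ⧸ K) ((A ⧸ K) ⊗[A] C))).obj (ModuleCat.of (A ⧸ K) ((A ⧸ K) ⧸ J'))) := by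
    obtain ⟨e4⟩ := nonempty_tor_symm_iso (ModuleCat.of (A ⧸ K) ((A ⧸ K) ⊗[A] C))
      (ModuleCat.of (A ⧸ K) ((A ⧸ K) ⧸ J')) n
    refine IsZero.of_iso ?_ e4
    subst hJ'
    exact tv_span_roots hA' (Ideal.Quotient.mk K a) ((A ⧸ K) ⊗[A] C) hC' n hn
  haveI := ModuleCat.subsingleton_of_isZero hz
  haveI := hφ.1.subsingleton
  exact ModuleCat.isZero_of_subsingleton _

/-- the perfect ideal generated by a finite set -/
noncomputable def perfSpan (hA : IsPerf p A) (S : Finset A) : Ideal A :=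
  Ideal.span {y | ∃ s ∈ S, ∃ k : ℕ, y = hA.roots s k}

lemma perfSpan_empty (hA : IsPerf p A) : perfSpan hA ∅ = ⊥ := by
  simp [perfSpan]

lemma perfSpan_insert [DecidableEq A] (hA : IsPerf p A) (a : A) (S : Finset A) :
    perfSpan hA (insert a S) = perfSpan hA S ⊔ Ideal.span (Set.range (hA.roots a)) := by
  unfold perfSpan
  rw [← Ideal.span_union]
  congr 1
  ext y
  simp only [Finset.mem_insert, Set.mem_ofPred_eq, Set.mem_union, Set.mem_range]
  constructor
  · rintro ⟨s, hs | hs, k, rfl⟩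
    · right
      exact ⟨k, by rw [hs]⟩
    · left
      exact ⟨s, hs, k, rfl⟩
  · rintro (⟨s, hs, k, rfl⟩ | ⟨k, rfl⟩)
    · exact ⟨s, Or.inr hs, k, rfl⟩
    · exact ⟨a, Or.inl rfl, k, rfl⟩

lemma perfSpan_mono (hA : IsPerf p A) {S S' : Finset A} (h : S ⊆ S') :
    perfSpan hA S ≤ perfSpan hA S' :=
  Ideal.span_mono (fun _ ⟨s, hs, k, hk⟩ => ⟨s, h hs, k, hk⟩)

lemma mem_perfSpan (hA : IsPerf p A) {S : Finset A} {a : A} (ha : a ∈ S) : a ∈ perfSpan hA S :=
  Ideal.subset_span ⟨a, ha, 0, rfl⟩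

theorem perfSpan_good (hA : IsPerf p A) (S : Finset A) :
    hA.RootClosed (perfSpan hA S) ∧ TV p A (perfSpan hA S) := by
  classical
  induction S using Finset.induction_on with
  | empty =>
    rw [perfSpan_empty]
    exact ⟨hA.rootClosed_bot, tv_bot⟩
  | insert a S _ ih =>
    rw [perfSpan_insert]
    exact ⟨hA.rootClosed_sup ih.1 (hA.rootClosed_span_roots a), tv_sup hA _ ih.1 ih.2 a⟩

end Groth.Agent.Helper6.PerfTor
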