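import Mathlib
import Groth.Agent.Helper6.PerfTor1
import Groth.Agent.Helper6.PerfTor2
import Groth.Agent.Helper6.PerfTor3
import Groth.Agent.Helper1.TorColim

/-!
# `Tor_i^A(B, C) = 0` for perfect rings of characteristic `p`
-/

set_option autoImplicit false
set_option linter.style.haveILetI false
set_option linter.unusedSectionVars false

universe u
open TensorProduct CategoryTheory CategoryTheory.Limits Groth.Agent.Helper1.TorLib

namespace Groth.Agent.Helper6.PerfTor

section DQ

variable {A : Type u} [CommRing A] {J : Type u} [Preorder J] [IsDirected J (· ≤ ·)] [Nonempty J]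
  (K : J → Ideal A) (hK : Monotone K)

/-- the diagram of quotients -/
noncomputable def quotFunctor : J ⥤ ModuleCat.{u} A where
  obj j := ModuleCat.of A (A ⧸ K j)
  map {j j'} f := ModuleCat.ofHom (Submodule.factor (hK (leOfHom f)))
  map_id j := by
    apply ModuleCat.hom_ext
    exact Submodule.linearMap_qext _ (LinearMap.ext fun a => rfl)
  map_comp f g := by
    apply ModuleCat.hom_ext
    exact Submodule.linearMap_qext _ (LinearMap.ext fun a => rfl)

/-- the cocone to the quotient by the union -/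
noncomputable def quotCocone : Cocone (quotFunctor K hK) where
  pt := ModuleCat.of A (A ⧸ ⨆ j, K j)
  ι :=
    { app := fun j => ModuleCat.ofHom (Submodule.factor (le_iSup K j))
      naturality := fun j j' f => by
        apply ModuleCat.hom_ext
        exact Submodule.linearMap_qext _ (LinearMap.ext fun a => rfl) }

lemma cocone_app_mk (s : Cocone (quotFunctor K hK)) (j j' : J) (a : A) :
    (s.ι.app j).hom (Submodule.Quotient.mk a) = (s.ι.app j').hom (Submodule.Quotient.mk a) := by
  obtain ⟨k, hjk, hj'k⟩ := exists_ge_ge j j'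
  have h1 := s.w (homOfLE hjk)
  have h2 := s.w (homOfLE hj'k)
  rw [← h1, ← h2]
  rfl

lemma cocone_app_mk_eq_zero (s : Cocone (quotFunctor K hK)) (j : J) (a : A)
    (ha : a ∈ ⨆ j, K j) : (s.ι.app j).hom (Submodule.Quotient.mk a) = 0 := by
  obtain ⟨j', hj'⟩ := (Submodule.mem_iSup_of_directed K hK.directed_le).1 ha
  rw [cocone_app_mk K hK s j j' a]
  have h0 : (Submodule.Quotient.mk a : ↑((quotFunctor K hK).obj j')) = 0 :=
    (Submodule.Quotient.mk_eq_zero (K j')).2 hj'
  exact (congrArg (fun x => (ModuleCat.Hom.hom (s.ι.app j')) x) h0).trans (map_zero _)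

/-- the quotient by the union is the colimit of the quotients -/
noncomputable def quotIsColimit : IsColimit (quotCocone K hK) where
  desc s := ModuleCat.ofHom (Submodule.liftQ (⨆ j, K j)
    ((s.ι.app (Classical.arbitrary J)).hom ∘ₗ (K (Classical.arbitrary J)).mkQ)
    (fun a ha => by
      rw [LinearMap.mem_ker]
      exact cocone_app_mk_eq_zero K hK s _ a ha))
  fac s j := by
    apply ModuleCat.hom_ext
    refine Submodule.linearMap_qext _ (LinearMap.ext fun a => ?_)
    exact cocone_app_mk K hK s (Classical.arbitrary J) j a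
  uniq s m hm := by
    apply ModuleCat.hom_ext
    refine Submodule.linearMap_qext _ (LinearMap.ext fun a => ?_)
    exact congrArg (fun f => (ModuleCat.Hom.hom f)
      (Submodule.Quotient.mk a : A ⧸ K (Classical.arbitrary J))) (hm (Classical.arbitrary J))

include hK in
theorem isZero_of_directed_iSup (G : ModuleCat.{u} A ⥤ ModuleCat.{u} A)
    [PreservesColimitsOfShape J G]
    (hz : ∀ j, IsZero (G.obj (ModuleCat.of A (A ⧸ K j)))) :
    IsZero (G.obj (ModuleCat.of A (A ⧸ ⨆ j, K j))) := by
  have hc := isColimitOfPreserves G (quotIsColimit K hK)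
  rw [IsZero.iff_id_eq_zero]
  apply hc.hom_ext
  intro j
  exact (hz j).eq_of_src _ _

end DQ

variable {p : ℕ} [hp : Fact p.Prime]

lemma roots_mem_of_rootClosed {A : Type u} [CommRing A] (hA : IsPerf p A) {I : Ideal A}
    (hI : hA.RootClosed I) (a : A) (ha : a ∈ I) (k : ℕ) : hA.roots a k ∈ I := by
  induction k with
  | zero => exact ha
  | succ k ih =>
    rw [hA.roots_succ]
    exact hI _ ih

/-- **Surjective case.** -/
theorem tv_of_rootClosed {A : Type u} [CommRing A] (hA : IsPerf p A) (I : Ideal A)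
    (hI : hA.RootClosed I) : TV p A I := by
  classical
  intro C _ _ hC n hn
  let K : Finset ↥I → Ideal A := fun S => perfSpan hA (S.map ⟨Subtype.val, Subtype.val_injective⟩)
  have hK : Monotone K := fun S S' h => perfSpan_mono hA (Finset.map_subset_map.2 h)
  have hle : ∀ S, K S ≤ I := by
    intro S
    refine Ideal.span_le.2 ?_
    rintro y ⟨s, hs, k, rfl⟩
    obtain ⟨s', -, rfl⟩ := Finset.mem_map.1 hs
    exact roots_mem_of_rootClosed hA hI _ s'.2 k
  have heq : (⨆ S, K S) = I := by
    apply le_antisymm (iSup_le hle)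
    intro x hx
    refine (le_iSup K {⟨x, hx⟩}) (mem_perfSpan hA ?_)
    exact Finset.mem_map.2 ⟨⟨x, hx⟩, Finset.mem_singleton_self _, rfl⟩
  haveI := preservesColimitsOfShape_tor_flip (ModuleCat.of A C) n (Finset ↥I)
  have hz := isZero_of_directed_iSup K hK ((Tor (ModuleCat.{u} A) n).flip.obj (ModuleCat.of A C))
    (fun S => (perfSpan_good hA _).2 C hC n hn)
  have e : ModuleCat.of A (A ⧸ ⨆ S, K S) ≅ ModuleCat.of A (A ⧸ I) :=
    (Submodule.quotEquivOfEq _ _ heq).toModuleIso
  exact IsZero.of_iso hz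
    ((((Tor (ModuleCat.{u} A) n).flip.obj (ModuleCat.of A C)).mapIso e).symm)

/-- **Perfect rings are `Tor`-independent.** -/
theorem main (A B C : Type u) [CommRing A] [CommRing B] [CommRing C] [CharP A p] [Algebra A B]
    [Algebra A C] (hA : IsPerf p A) (hB : IsPerf p B) (hC : IsPerf p C) (i : ℕ) (hi : 0 < i) :
    IsZero (((Tor (ModuleCat.{u} A) i).obj (ModuleCat.of A B)).obj (ModuleCat.of A C)) := by
  letI : Algebra (ZMod p) A := ZMod.algebra A p
  letI : Algebra (ZMod p) B := ((algebraMap A B).comp (algebraMap (ZMod p) A)).toAlgebra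
  haveI : IsScalarTower (ZMod p) A B := IsScalarTower.of_algebraMap_eq (fun x => rfl)
  have hP : IsPerf p (A ⊗[ZMod p] B) := IsPerf.tensor isPerf_zmod hA hB
  let π : A ⊗[ZMod p] B →ₐ[A] B :=
    Algebra.TensorProduct.lift (Algebra.ofId A B) (AlgHom.id (ZMod p) B) (fun _ _ => Commute.all _ _)
  have hπ : Function.Surjective π := by
    intro b
    refine ⟨1 ⊗ₜ b, ?_⟩
    show Algebra.TensorProduct.lift (Algebra.ofId A B) (AlgHom.id (ZMod p) B) _ (1 ⊗ₜ b) = b
    rw [Algebra.TensorProduct.lift_tmul, map_one, one_mul]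
    rfl
  letI : Algebra (A ⊗[ZMod p] B) B := π.toRingHom.toAlgebra
  haveI : IsScalarTower A (A ⊗[ZMod p] B) B :=
    IsScalarTower.of_algebraMap_eq (fun a => (π.commutes a).symm)
  haveI : Module.Flat A (A ⊗[ZMod p] B) := inferInstance
  obtain ⟨φ, hφ⟩ := exists_semilinear_tor_flat_left (A := A) (A' := A ⊗[ZMod p] B) B C i
  have hPC : IsPerf p ((A ⊗[ZMod p] B) ⊗[A] C) := IsPerf.tensor hA hP hC
  have hsurj : Function.Surjective (Algebra.linearMap (A ⊗[ZMod p] B) B) := hπ
  have hroot : hP.RootClosed (LinearMap.ker (Algebra.linearMap (A ⊗[ZMod p] B) B)) := by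
    intro x hx
    rw [LinearMap.mem_ker] at hx ⊢
    have h1 : π x = 0 := hx
    show π (hP.root x) = 0
    have h2 := root_map π.toRingHom hP hB x
    have h3 : π (hP.root x) = hB.root (π x) := h2
    rw [h3, h1, hB.root_zero]
  have hz := tv_of_rootClosed hP _ hroot ((A ⊗[ZMod p] B) ⊗[A] C) hPC i hi
  have e : ModuleCat.of (A ⊗[ZMod p] B)
      ((A ⊗[ZMod p] B) ⧸ LinearMap.ker (Algebra.linearMap (A ⊗[ZMod p] B) B)) ≅
      ModuleCat.of (A ⊗[ZMod p] B) B :=
    ((Algebra.linearMap (A ⊗[ZMod p] B) B).quotKerEquivOfSurjective hsurj).toModuleIso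
  have hz' : IsZero (((Tor (ModuleCat.{u} (A ⊗[ZMod p] B)) i).obj
      (ModuleCat.of (A ⊗[ZMod p] B) B)).obj
      (ModuleCat.of (A ⊗[ZMod p] B) ((A ⊗[ZMod p] B) ⊗[A] C))) :=
    IsZero.of_iso hz (((Tor (ModuleCat.{u} (A ⊗[ZMod p] B)) i).mapIso e.symm).app _)
  haveI := ModuleCat.subsingleton_of_isZero hz'
  haveI := hφ.1.subsingleton
  exact ModuleCat.isZero_of_subsingleton _

end Groth.Agent.Helper6.PerfTor
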