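import Mathlib

/-!
Localizations of a product of domains at a prime ideal.
-/

namespace Groth.Agent.Helper6.PiLocalization

open Polynomial

open Classical in
theorem idem_mem_or {A : Type*} [CommRing A] (P : Ideal A) [P.IsPrime] (e : A) (he : e * (1 - e) = 0) :
    e ∈ P ∨ (1 - e) ∈ P := by
  have : e * (1 - e) ∈ P := by rw [he]; exact P.zero_mem
  exact Ideal.IsPrime.mem_or_mem ‹_› this

theorem map_eq_zero_of_mul {A : Type*} [CommRing A] (P : Ideal A) [P.IsPrime] (e a : A) (he : e ∉ P)
    (h : e * a = 0) : algebraMap A (Localization.AtPrime P) a = 0 := by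
  rw [IsLocalization.map_eq_zero_iff P.primeCompl]
  exact ⟨⟨e, he⟩, h⟩

universe u

theorem isDomain_localization_pi {ι : Type u} (R : ι → Type u)
    [∀ i, CommRing (R i)] [∀ i, IsDomain (R i)]
    (P : Ideal (∀ i, R i)) [P.IsPrime] :
    IsDomain (Localization.AtPrime P) := by
  classical
  set L := Localization.AtPrime P with hL
  have key1 : ∀ (e : ∀ i, R i), e * (1 - e) = 0 → (1 - e) ∈ P → algebraMap _ L e = 1 := by
    intro e he h1
    have hne : e ∉ P := by
      intro h
      have : (1 : ∀ i, R i) ∈ P := by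
        have := P.add_mem h h1
        simpa using this
      exact (Ideal.IsPrime.ne_top ‹_›) ((Ideal.eq_top_iff_one _).2 this)
    have := map_eq_zero_of_mul P e (1 - e) hne he
    rw [map_sub, map_one, sub_eq_zero] at this
    exact this.symm
  have key0 : ∀ (e : ∀ i, R i), e * (1 - e) = 0 → e ∈ P → algebraMap _ L e = 0 := by
    intro e he h1
    have hne : (1 - e) ∉ P := by
      intro h
      have : (1 : ∀ i, R i) ∈ P := by
        have := P.add_mem h1 h
        simpa using this
      exact (Ideal.IsPrime.ne_top ‹_›) ((Ideal.eq_top_iff_one _).2 this)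
    exact map_eq_zero_of_mul P (1 - e) e hne (by rw [mul_comm]; exact he)
  have : NoZeroDivisors L := by
    refine ⟨?_⟩
    intro x y hxy
    obtain ⟨a, s, rfl⟩ := IsLocalization.exists_mk'_eq P.primeCompl x
    obtain ⟨b, t, rfl⟩ := IsLocalization.exists_mk'_eq P.primeCompl y
    rw [← IsLocalization.mk'_mul, IsLocalization.mk'_eq_zero_iff] at hxy
    obtain ⟨m, hm⟩ := hxy
    simp only [IsLocalization.mk'_eq_zero_iff]
    set e : ∀ i, R i := fun i => if a i = 0 then 1 else 0 with he
    set f : ∀ i, R i := fun i => if b i = 0 then 1 else 0 with hf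
    have hea : e * a = 0 := by
      funext i
      simp only [he, Pi.mul_apply, Pi.zero_apply]
      split_ifs with h <;> simp [h]
    have hfb : f * b = 0 := by
      funext i
      simp only [hf, Pi.mul_apply, Pi.zero_apply]
      split_ifs with h <;> simp [h]
    have hee : e * (1 - e) = 0 := by
      funext i
      simp only [he, Pi.mul_apply, Pi.zero_apply, Pi.sub_apply, Pi.one_apply]
      split_ifs with h <;> simp
    have hff : f * (1 - f) = 0 := by
      funext i
      simp only [hf, Pi.mul_apply, Pi.zero_apply, Pi.sub_apply, Pi.one_apply]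
      split_ifs with h <;> simp
    have hmef : (m : ∀ i, R i) * ((1 - e) * (1 - f)) = 0 := by
      funext i
      have hmi := congrFun hm i
      simp only [Pi.mul_apply, Pi.zero_apply] at hmi
      simp only [he, hf, Pi.mul_apply, Pi.zero_apply, Pi.sub_apply, Pi.one_apply]
      split_ifs with h1 h2 h2
      · simp
      · simp
      · simp
      · rcases mul_eq_zero.1 hmi with h | h
        · simp [h]
        · rcases mul_eq_zero.1 h with h | h
          · exact absurd h h1
          · exact absurd h h2
    have hmem : (1 - e) * (1 - f) ∈ P := by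
      have : (m : ∀ i, R i) * ((1 - e) * (1 - f)) ∈ P := by rw [hmef]; exact P.zero_mem
      rcases Ideal.IsPrime.mem_or_mem ‹_› this with h | h
      · exact absurd h m.2
      · exact h
    rcases Ideal.IsPrime.mem_or_mem ‹_› hmem with h | h
    · left
      have hne : e ∉ P := by
        intro h'
        have : (1 : ∀ i, R i) ∈ P := by
          have := P.add_mem h' h
          simpa using this
        exact (Ideal.IsPrime.ne_top ‹_›) ((Ideal.eq_top_iff_one _).2 this)
      exact ⟨⟨e, hne⟩, hea⟩
    · right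
      have hne : f ∉ P := by
        intro h'
        have : (1 : ∀ i, R i) ∈ P := by
          have := P.add_mem h' h
          simpa using this
        exact (Ideal.IsPrime.ne_top ‹_›) ((Ideal.eq_top_iff_one _).2 this)
      exact ⟨⟨f, hne⟩, hfb⟩
  exact NoZeroDivisors.to_isDomain L

theorem dvd_of_scaleRoots_root {R : Type*} [CommRing R] [IsDomain R] [IsIntegrallyClosed R]
    (g : R[X]) (hg : g.Monic) (a b : R) (h : eval a (scaleRoots g b) = 0) : b ∣ a := by
  by_cases hb : b = 0
  · subst hb
    rw [scaleRoots_zero, hg.leadingCoeff, one_smul, eval_pow, eval_X] at h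
    have := eq_zero_of_pow_eq_zero h
    rw [this]
  · set K := FractionRing R
    set f := algebraMap R K
    have hfb : f b ≠ 0 := by
      intro h0
      exact hb ((IsFractionRing.injective R K) (by rw [h0, map_zero]))
    have h1 : eval₂ f (f b * (f a / f b)) (scaleRoots g b) = f b ^ g.natDegree * eval₂ f (f a / f b) g :=
      scaleRoots_eval₂_mul f _ _
    have h2 : f b * (f a / f b) = f a := by rw [mul_comm, div_mul_cancel₀ _ hfb]
    rw [h2, eval₂_at_apply, h, map_zero] at h1
    have h3 : eval₂ f (f a / f b) g = 0 := by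
      rcases mul_eq_zero.1 h1.symm with h | h
      · exact absurd h (pow_ne_zero _ hfb)
      · exact h
    have hint : IsIntegral R (f a / f b) := ⟨g, hg, h3⟩
    obtain ⟨c, hc⟩ := IsIntegrallyClosed.isIntegral_iff.1 hint
    refine ⟨c, ?_⟩
    apply IsFractionRing.injective R K
    rw [map_mul, hc, h2]


theorem intClosed_pi_aux {ι : Type*} (R : ι → Type*)
    [∀ i, CommRing (R i)] [∀ i, IsDomain (R i)] [∀ i, IsIntegrallyClosed (R i)]
    (M : Submonoid (∀ i, R i)) (L : Type*) [CommRing L] [Algebra (∀ i, R i) L]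
    [IsLocalization M L] [IsDomain L] (K : Type*) [Field K] [Algebra L K] [IsFractionRing L K]
    [Algebra (∀ i, R i) K] [IsScalarTower (∀ i, R i) L K]
    (x : K) (hx : IsIntegral L x) : ∃ z : L, algebraMap L K z = x := by
  classical
  have hf : ∀ u, algebraMap (∀ i, R i) K u = algebraMap L K (algebraMap _ L u) :=
    fun u => IsScalarTower.algebraMap_apply _ L K u
  obtain ⟨m, hm⟩ := IsIntegral.exists_multiple_integral_of_isLocalization M (Rₘ := L) x hx
  obtain ⟨y, hy⟩ : ∃ y : K, y = m • x := ⟨_, rfl⟩
  rw [← hy] at hm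
  obtain ⟨g, hg, hgy⟩ := hm
  obtain ⟨a', b', hb', hab⟩ := IsFractionRing.div_surjective (A := L) y
  obtain ⟨α1, s1, ha1⟩ := IsLocalization.exists_mk'_eq M a'
  obtain ⟨β1, t1, hb1⟩ := IsLocalization.exists_mk'_eq M b'
  have hb'0 : b' ≠ 0 := nonZeroDivisors.ne_zero hb'
  obtain ⟨α, hα⟩ : ∃ α : ∀ i, R i, α = α1 * t1 := ⟨_, rfl⟩
  obtain ⟨β, hβ⟩ : ∃ β : ∀ i, R i, β = β1 * s1 := ⟨_, rfl⟩
  have hφα : algebraMap _ L α = a' * algebraMap _ L (s1 : ∀ i, R i) * algebraMap _ L (t1 : ∀ i, R i) := by
    rw [hα, map_mul, ← ha1, IsLocalization.mk'_spec]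
  have hφβ : algebraMap _ L β = b' * algebraMap _ L (t1 : ∀ i, R i) * algebraMap _ L (s1 : ∀ i, R i) := by
    rw [hβ, map_mul, ← hb1, IsLocalization.mk'_spec]
  have hs1 : IsUnit (algebraMap _ L (s1 : ∀ i, R i)) := IsLocalization.map_units L s1
  have ht1 : IsUnit (algebraMap _ L (t1 : ∀ i, R i)) := IsLocalization.map_units L t1
  have hφβ0 : algebraMap _ L β ≠ 0 := by
    rw [hφβ]
    exact mul_ne_zero (mul_ne_zero hb'0 ht1.ne_zero) hs1.ne_zero
  have hfβ0 : algebraMap _ K β ≠ 0 := by
    rw [hf]
    intro h0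
    exact hφβ0 ((IsFractionRing.injective L K) (by rw [h0, map_zero]))
  have hyβ : algebraMap _ K β * y = algebraMap _ K α := by
    have hb'K : algebraMap L K b' ≠ 0 := by
      intro h0
      exact hb'0 ((IsFractionRing.injective L K) (by rw [h0, map_zero]))
    have h1 : algebraMap L K b' * (algebraMap L K a' / algebraMap L K b') = algebraMap L K a' := by
      rw [mul_comm, div_mul_cancel₀ _ hb'K]
    rw [hf, hf, hφα, hφβ, ← hab]
    simp only [map_mul]
    linear_combination (algebraMap L K (algebraMap _ L (t1 : ∀ i, R i)) *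
      algebraMap L K (algebraMap _ L (s1 : ∀ i, R i))) * h1
  -- the scaled equation
  have h1 : eval₂ (algebraMap _ K) (algebraMap _ K β * y) (scaleRoots g β) =
      algebraMap _ K β ^ g.natDegree * eval₂ (algebraMap _ K) y g :=
    scaleRoots_eval₂_mul _ _ _
  have hgy' : eval₂ (algebraMap _ K) y g = 0 := hgy
  rw [hyβ, hgy', mul_zero, eval₂_at_apply, hf] at h1
  have h2 : algebraMap _ L (eval α (scaleRoots g β)) = 0 :=
    (IsFractionRing.injective L K) (by rw [h1, map_zero])
  rw [IsLocalization.map_eq_zero_iff M] at h2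
  obtain ⟨m₂, hm₂⟩ := h2
  -- componentwise
  have hdiv : ∀ i, (m₂ : ∀ i, R i) i ≠ 0 → β i ∣ α i := by
    intro i hi
    apply dvd_of_scaleRoots_root (g.map (Pi.evalRingHom R i)) (hg.map _)
    have h3 := congrFun hm₂ i
    simp only [Pi.mul_apply, Pi.zero_apply] at h3
    have h4 : (eval α (scaleRoots g β)) i = 0 := by
      rcases mul_eq_zero.1 h3 with h | h
      · exact absurd h hi
      · exact h
    have h5 : (eval α (scaleRoots g β)) i = eval (α i) ((scaleRoots g β).map (Pi.evalRingHom R i)) := by
      rw [eval_map]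
      exact (Polynomial.hom_eval₂ (scaleRoots g β) (RingHom.id _) (Pi.evalRingHom R i) α)
    rw [h5, map_scaleRoots] at h4
    · exact h4
    · rw [hg.leadingCoeff, map_one]; exact one_ne_zero
  obtain ⟨c, hc⟩ : ∃ c : ∀ i, R i, ∀ i, β i ∣ α i → α i = β i * c i :=
    ⟨fun i => if h : β i ∣ α i then h.choose else 0, fun i h => by
      simp only [dif_pos h]; exact h.choose_spec⟩
  have hmc : (m₂ : ∀ i, R i) * α = (m₂ : ∀ i, R i) * (β * c) := by
    funext i
    show (m₂ : ∀ i, R i) i * α i = (m₂ : ∀ i, R i) i * (β i * c i)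
    by_cases hi : (m₂ : ∀ i, R i) i = 0
    · rw [hi, zero_mul, zero_mul]
    · rw [← hc i (hdiv i hi)]
  have hφc : algebraMap _ L α = algebraMap _ L β * algebraMap _ L c := by
    have := congrArg (algebraMap _ L) hmc
    rw [map_mul, map_mul, map_mul] at this
    exact (IsLocalization.map_units L m₂).mul_left_cancel this
  have hyc : y = algebraMap L K (algebraMap _ L c) := by
    have : algebraMap _ K β * y = algebraMap _ K β * algebraMap L K (algebraMap _ L c) := by
      rw [hyβ, hf, hf, hφc, map_mul]
    exact mul_left_cancel₀ hfβ0 this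
  -- x = m⁻¹ y
  refine ⟨IsLocalization.mk' L 1 m * algebraMap _ L c, ?_⟩
  have hmx : y = algebraMap L K (algebraMap _ L (m : ∀ i, R i)) * x := by
    rw [hy, Submonoid.smul_def, Algebra.smul_def, hf]
  have hmu : IsUnit (algebraMap _ L (m : ∀ i, R i)) := IsLocalization.map_units L m
  have : algebraMap L K (algebraMap _ L (m : ∀ i, R i)) *
      algebraMap L K (IsLocalization.mk' L 1 m * algebraMap _ L c) =
      algebraMap L K (algebraMap _ L (m : ∀ i, R i)) * x := by
    rw [← hmx, hyc, ← map_mul, ← mul_assoc, mul_comm (algebraMap _ L (m : ∀ i, R i)),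
      IsLocalization.mk'_spec, map_one, one_mul]
  have hne : algebraMap L K (algebraMap _ L (m : ∀ i, R i)) ≠ 0 := by
    intro h0
    exact hmu.ne_zero ((IsFractionRing.injective L K) (by rw [h0, map_zero]))
  exact mul_left_cancel₀ hne this

theorem isIntegrallyClosed_localization_pi {ι : Type u} (R : ι → Type u)
    [∀ i, CommRing (R i)] [∀ i, IsDomain (R i)] [∀ i, IsIntegrallyClosed (R i)]
    (P : Ideal (∀ i, R i)) [P.IsPrime] :
    IsDomain (Localization.AtPrime P) ∧ IsIntegrallyClosed (Localization.AtPrime P) := by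
  have := isDomain_localization_pi R P
  refine ⟨inferInstance, ?_⟩
  rw [isIntegrallyClosed_iff (FractionRing (Localization.AtPrime P))]
  intro x hx
  exact intClosed_pi_aux R P.primeCompl (Localization.AtPrime P) _ x hx

end Groth.Agent.Helper6.PiLocalization
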