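import Mathlib
import Groth.Prelude.Def_EtBase
import Groth.Prelude.Def_EtCore
import Groth.Prelude.Def_EtZar
import Groth.Prelude.Def_EtGm
import Groth.Agent.Helper6.UnivZarB
import Groth.Agent.Helper6.H90D

/-! Restriction of étale sheaves to Zariski opens: restriction maps and gluing. -/

set_option autoImplicit false
set_option linter.style.haveILetI false
set_option linter.unusedSectionVars false
set_option linter.unusedVariables false
set_option linter.unusedSimpArgs false

universe u

open CategoryTheory CategoryTheory.Limits Opposite AlgebraicGeometry TopologicalSpace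

namespace Groth.Agent.Helper6.PicH1A

open Groth.Agent.Helper6.H90D

variable {X : Scheme.{u}}

/-- the object of the small étale site of an open subscheme -/
noncomputable abbrev oo (U : X.Opens) : X.Etale := (EtZar.zarToEt X).obj U

/-- the morphism of the small étale site of an inclusion of opens -/
noncomputable abbrev om {U V : X.Opens} (h : U ≤ V) : oo U ⟶ oo V := (EtZar.zarToEt X).map (homOfLE h)

lemma om_comp {U V W : X.Opens} (h : U ≤ V) (h' : V ≤ W) : om h ≫ om h' = om (h.trans h') :=
  ((EtZar.zarToEt X).map_comp (homOfLE h) (homOfLE h')).symm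

lemma om_self (U : X.Opens) : om (le_refl U) = 𝟙 (oo U) := (EtZar.zarToEt X).map_id U

variable (F : EtCoh.Ab X)

/-- Zariski restriction of sections of an étale sheaf -/
noncomputable abbrev rz {U V : X.Opens} (h : U ≤ V) (s : F.obj.obj (op (oo V))) : F.obj.obj (op (oo U)) :=
  res F (om h) s

lemma rz_rz {U V W : X.Opens} (h : U ≤ V) (h' : V ≤ W) (s : F.obj.obj (op (oo W))) :
    rz F h (rz F h' s) = rz F (h.trans h') s := by
  show res F (om h) (res F (om h') s) = res F (om (h.trans h')) s
  rw [← res_comp, om_comp]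

lemma rz_self (U : X.Opens) (s : F.obj.obj (op (oo U))) : rz F (le_refl U) s = s := by
  show (F.obj.map (om (le_refl U)).op).hom s = s
  rw [om_self, op_id, F.obj.map_id]
  rfl

lemma rz_add {U V : X.Opens} (h : U ≤ V) (a b : F.obj.obj (op (oo V))) :
    rz F h (a + b) = rz F h a + rz F h b := res_add F _ a b

lemma rz_sub {U V : X.Opens} (h : U ≤ V) (a b : F.obj.obj (op (oo V))) :
    rz F h (a - b) = rz F h a - rz F h b := res_sub F _ a b

lemma rz_zero {U V : X.Opens} (h : U ≤ V) : rz F h (0 : F.obj.obj (op (oo V))) = 0 := res_zero F _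

lemma rz_neg {U V : X.Opens} (h : U ≤ V) (a : F.obj.obj (op (oo V))) :
    rz F h (-a) = -rz F h a := map_neg (F.obj.map (om h).op).hom a

variable {F} in
lemma rz_nat {G : EtCoh.Ab X} (α : F ⟶ G) {U V : X.Opens} (h : U ≤ V) (s : F.obj.obj (op (oo V))) :
    (α.hom.app (op (oo U))).hom (rz F h s) = rz G h ((α.hom.app (op (oo V))).hom s) :=
  res_nat α (om h) s

/-- the restriction to the Zariski site, as a sheaf on the topological space -/
noncomputable def Fz : TopCat.Sheaf AddCommGrpCat.{u+1} X.toTopCat := (EtZar.resZar X).obj F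

/-- gluing sections of an étale sheaf over a Zariski covering -/
theorem existsUnique_glue {Z : Type u} (V : Z → X.Opens) (W : X.Opens) (hle : ∀ z, V z ≤ W)
    (hcov : W ≤ ⨆ z, V z) (s : ∀ z, F.obj.obj (op (oo (V z))))
    (h : ∀ z z', rz F (inf_le_left : V z ⊓ V z' ≤ V z) (s z) =
      rz F (inf_le_right : V z ⊓ V z' ≤ V z') (s z')) :
    ∃! t : F.obj.obj (op (oo W)), ∀ z, rz F (hle z) t = s z :=
  TopCat.Sheaf.existsUnique_gluing' (Fz F) V W (fun z => homOfLE (hle z)) hcov s
    (fun z z' => h z z')

/-- sections of an étale sheaf agreeing on a Zariski covering are equal -/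
theorem ext_of_cover {Z : Type u} (V : Z → X.Opens) (W : X.Opens) (hle : ∀ z, V z ≤ W)
    (hcov : W ≤ ⨆ z, V z) (t t' : F.obj.obj (op (oo W)))
    (h : ∀ z, rz F (hle z) t = rz F (hle z) t') : t = t' := by
  have hc : ∀ z z', rz F (inf_le_left : V z ⊓ V z' ≤ V z) (rz F (hle z) t) =
      rz F (inf_le_right : V z ⊓ V z' ≤ V z') (rz F (hle z') t) := by
    intro z z'
    rw [rz_rz, rz_rz]
  obtain ⟨t₀, -, hu⟩ := existsUnique_glue F V W hle hcov (fun z => rz F (hle z) t) hc
  rw [hu t (fun _ => rfl), hu t' (fun z => (h z).symm)]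

end Groth.Agent.Helper6.PicH1A
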