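import Mathlib
import Groth.Agent.Helper6.PicH1A
import Groth.Agent.Helper6.ZarEpsA
import Groth.Agent.Helper1.CechInjA

/-! Čech 1-cocycles of an injective étale sheaf on a Zariski covering are coboundaries. -/

set_option autoImplicit false
set_option linter.style.haveILetI false
set_option linter.unusedSectionVars false
set_option linter.unusedVariables false
set_option linter.unusedSimpArgs false

universe u

open CategoryTheory CategoryTheory.Limits Opposite AlgebraicGeometry TopologicalSpace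

namespace Groth.Agent.Helper6.PicH1B

open Groth.Agent.Helper6.PicH1A Groth.Agent.Helper6.H90D Groth.Agent.Helper1.Cech

variable {X : Scheme.{u}} (I : EtCoh.Ab X)

/-- the underlying presheaf on opens -/
noncomputable abbrev Iz : X.Opensᵒᵖ ⥤ AddCommGrpCat.{u + 1} := ((EtZar.resZar X).obj I).obj

instance injIz [Injective I] : Injective (Iz I) := by
  haveI : Injective ((EtZar.resZar X).obj I) := Groth.Agent.Helper6.ZarEpsA.injective_resZar X I
  haveI : Injective ((sheafToPresheaf (Opens.grothendieckTopology X) AddCommGrpCat.{u + 1}).obj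
      ((EtZar.resZar X).obj I)) :=
    Injective.injective_of_adjoint (sheafificationAdjunction _ AddCommGrpCat.{u + 1}) _
  exact this

lemma Iz_map {W W' : X.Opens} (φ : W' ⟶ W) (s : I.obj.obj (op (oo W))) :
    ((Iz I).map φ.op).hom s = rz I φ.le s := rfl

section

variable {Z : Type u} (V : Z → X.Opens)

/-- the lifted family -/
abbrev VL : ULift.{u + 1} Z → X.Opens := fun i => V i.down

lemma prod_le {n : ℕ} (x : Fin (n + 1) → ULift.{u + 1} Z) (k : Fin (n + 1)) :
    prodU (VL V) x ≤ V (x k).down := (Pi.π (VL V ∘ x) k).le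

lemma le_prod {n : ℕ} (x : Fin (n + 1) → ULift.{u + 1} Z) (W : X.Opens)
    (h : ∀ k, W ≤ V (x k).down) : W ≤ prodU (VL V) x :=
  (Pi.lift (fun k => homOfLE (h k)) : W ⟶ prodU (VL V) x).le

/-- restriction of a component of a cochain -/
noncomputable def cmp {n : ℕ} (b : (cx (VL V) (Iz I)).X n) (y : Fin (n + 1) → ULift.{u + 1} Z)
    (W : X.Opens) (hW : W ≤ prodU (VL V) y) : I.obj.obj (op (oo W)) :=
  rz I hW (comp (VL V) (Iz I) n y b)

lemma cmp_congr {n : ℕ} (b : (cx (VL V) (Iz I)).X n) {y y' : Fin (n + 1) → ULift.{u + 1} Z}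
    (h : y = y') (W : X.Opens) (hW : W ≤ prodU (VL V) y) (hW' : W ≤ prodU (VL V) y') :
    cmp I V b y W hW = cmp I V b y' W hW' := by
  subst h
  rfl

lemma cmp_rz {n : ℕ} (b : (cx (VL V) (Iz I)).X n) (y : Fin (n + 1) → ULift.{u + 1} Z)
    (W W' : X.Opens) (hW : W ≤ prodU (VL V) y) (h : W' ≤ W) :
    rz I h (cmp I V b y W hW) = cmp I V b y W' (h.trans hW) := rz_rz I _ _ _


variable [Injective I]

set_option maxHeartbeats 800000 in
theorem exists_coboundary
    (c : ∀ z z', I.obj.obj (op (oo (V z ⊓ V z'))))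
    (hc : ∀ z z' z'',
      rz I (le_inf (inf_le_left.trans inf_le_left) inf_le_right :
          V z ⊓ V z' ⊓ V z'' ≤ V z ⊓ V z'') (c z z'') =
        rz I (inf_le_left : V z ⊓ V z' ⊓ V z'' ≤ V z ⊓ V z') (c z z') +
        rz I (le_inf (inf_le_left.trans inf_le_right) inf_le_right :
          V z ⊓ V z' ⊓ V z'' ≤ V z' ⊓ V z'') (c z' z'')) :
    ∃ b : ∀ z, I.obj.obj (op (oo (V z))), ∀ z z',
      c z z' = rz I (inf_le_right : V z ⊓ V z' ≤ V z') (b z') -
        rz I (inf_le_left : V z ⊓ V z' ≤ V z) (b z) := by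
  let ct : (cx (VL V) (Iz I)).X 1 := mk (fun x : Fin 2 → ULift.{u + 1} Z =>
    (rz I (le_inf (prod_le V x 0) (prod_le V x 1)) (c (x 0).down (x 1).down) :
      (Iz I).obj (op (prodU (VL V) x))))
  have hct : (cx (VL V) (Iz I)).d 1 2 ct = 0 := by
    apply ext
    intro x
    rw [comp_d, map_zero, Fin.sum_univ_three]
    have t0 : (Iz I).map (face (VL V) 0 x).op (comp (VL V) (Iz I) 1 (x ∘ Fin.succAbove 0) ct) =
        rz I (le_inf (prod_le V x 1) (prod_le V x 2)) (c (x 1).down (x 2).down) := by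
      rw [comp_mk]
      exact rz_rz I _ _ _
    have t1 : (Iz I).map (face (VL V) 1 x).op (comp (VL V) (Iz I) 1 (x ∘ Fin.succAbove 1) ct) =
        rz I (le_inf (prod_le V x 0) (prod_le V x 2)) (c (x 0).down (x 2).down) := by
      rw [comp_mk]
      exact rz_rz I _ _ _
    have t2 : (Iz I).map (face (VL V) 2 x).op (comp (VL V) (Iz I) 1 (x ∘ Fin.succAbove 2) ct) =
        rz I (le_inf (prod_le V x 0) (prod_le V x 1)) (c (x 0).down (x 1).down) := by
      rw [comp_mk]
      exact rz_rz I _ _ _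
    rw [t0, t1, t2]
    have h3 : prodU (VL V) x ≤ V (x 0).down ⊓ V (x 1).down ⊓ V (x 2).down :=
      le_inf (le_inf (prod_le V x 0) (prod_le V x 1)) (prod_le V x 2)
    have key := congrArg (rz I h3) (hc (x 0).down (x 1).down (x 2).down)
    rw [rz_add, rz_rz, rz_rz, rz_rz] at key
    rw [key]
    simp
    abel
  obtain ⟨bt, hbt⟩ := Groth.Agent.Helper1.CechInj.exists_of_cocycle_self (VL V) (Iz I) 0 ct hct
  let y₁ : Z → Fin 1 → ULift.{u + 1} Z := fun z _ => ULift.up z
  let y₂ : Z → Z → Fin 2 → ULift.{u + 1} Z := fun z z' => ![ULift.up z, ULift.up z']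
  refine ⟨fun z => cmp I V bt (y₁ z) (V z) (le_prod V (y₁ z) (V z) (fun _ => le_rfl)), ?_⟩
  intro z z'
  have hW : V z ⊓ V z' ≤ prodU (VL V) (y₂ z z') := by
    apply le_prod
    intro k
    fin_cases k
    · exact inf_le_left
    · exact inf_le_right
  have h1 := congrArg (fun t => rz I hW (comp (VL V) (Iz I) 1 (y₂ z z') t)) hbt
  simp only at h1
  rw [comp_d, Fin.sum_univ_two, comp_mk] at h1
  have e2 : rz I hW (rz I (le_inf (prod_le V (y₂ z z') 0) (prod_le V (y₂ z z') 1))
      (c (y₂ z z' 0).down (y₂ z z' 1).down)) = c z z' :=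
    (rz_rz I _ _ _).trans (rz_self I _ _)
  have e0 : rz I hW ((Iz I).map (face (VL V) 0 (y₂ z z')).op
      (comp (VL V) (Iz I) 0 (y₂ z z' ∘ Fin.succAbove 0) bt)) =
      rz I (inf_le_right : V z ⊓ V z' ≤ V z')
        (cmp I V bt (y₁ z') (V z') (le_prod V (y₁ z') (V z') (fun _ => le_rfl))) := by
    rw [cmp_rz]
    have h : rz I hW ((Iz I).map (face (VL V) 0 (y₂ z z')).op
        (comp (VL V) (Iz I) 0 (y₂ z z' ∘ Fin.succAbove 0) bt)) =
        cmp I V bt (y₂ z z' ∘ Fin.succAbove 0) (V z ⊓ V z')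
          (hW.trans (face (VL V) 0 (y₂ z z')).le) := rz_rz I _ _ _
    rw [h]
    exact cmp_congr I V bt (funext fun k => by fin_cases k; rfl) _ _ _
  have e1 : rz I hW ((Iz I).map (face (VL V) 1 (y₂ z z')).op
      (comp (VL V) (Iz I) 0 (y₂ z z' ∘ Fin.succAbove 1) bt)) =
      rz I (inf_le_left : V z ⊓ V z' ≤ V z)
        (cmp I V bt (y₁ z) (V z) (le_prod V (y₁ z) (V z) (fun _ => le_rfl))) := by
    rw [cmp_rz]
    have h : rz I hW ((Iz I).map (face (VL V) 1 (y₂ z z')).op
        (comp (VL V) (Iz I) 0 (y₂ z z' ∘ Fin.succAbove 1) bt)) =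
        cmp I V bt (y₂ z z' ∘ Fin.succAbove 1) (V z ⊓ V z')
          (hW.trans (face (VL V) 1 (y₂ z z')).le) := rz_rz I _ _ _
    rw [h]
    exact cmp_congr I V bt (funext fun k => by fin_cases k; rfl) _ _ _
  rw [e2] at h1
  rw [← h1, ← e0, ← e1, ← rz_sub]
  congr 1
  simp
  abel

end

end Groth.Agent.Helper6.PicH1B
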