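import Mathlib
import Groth.Agent.Helper6.PicH1B
import Groth.Agent.Helper6.H90E
import Groth.Agent.Helper6.ZarEpsB
import Groth.Agent.Helper9.ZarEtCoh
import Groth.Agent.Helper1.CC1

/-! `H¹(X_et, G_m) = 0` iff Zariski 1-cocycles of units are coboundaries. -/

set_option autoImplicit false
set_option linter.style.haveILetI false
set_option linter.unusedSectionVars false
set_option linter.unusedVariables false
set_option linter.unusedSimpArgs false

universe u

open CategoryTheory CategoryTheory.Limits Opposite AlgebraicGeometry TopologicalSpace Abelian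

namespace Groth.Agent.Helper6.PicH1C

open Groth.Agent.Helper6.PicH1A Groth.Agent.Helper6.PicH1B Groth.Agent.Helper6.H90B
  Groth.Agent.Helper6.H90D Groth.Agent.Helper6.H90E Groth.Agent.Helper1.CC

variable {X : Scheme.{u}}

/-- Zariski 1-cocycles of units are coboundaries -/
def UnitsH1Triv (X : Scheme.{u}) : Prop :=
  ∀ (Z : Type u) (V : Z → X.Opens), (∀ x : X, ∃ z, x ∈ V z) →
    ∀ (g : ∀ z z', Γ(X, V z ⊓ V z')), (∀ z z', IsUnit (g z z')) →
    (∀ z z' z'', ρ (le_inf (inf_le_left.trans inf_le_left) inf_le_right :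
          V z ⊓ V z' ⊓ V z'' ≤ V z ⊓ V z'') (g z z'') =
        ρ (inf_le_left : V z ⊓ V z' ⊓ V z'' ≤ V z ⊓ V z') (g z z') *
        ρ (le_inf (inf_le_left.trans inf_le_right) inf_le_right :
          V z ⊓ V z' ⊓ V z'' ≤ V z' ⊓ V z'') (g z' z'')) →
    ∃ h : ∀ z, Γ(X, V z), (∀ z, IsUnit (h z)) ∧
      ∀ z z', ρ (inf_le_left : V z ⊓ V z' ≤ V z) (h z) * g z z' =
        ρ (inf_le_right : V z ⊓ V z' ≤ V z') (h z')

lemma topIso_homOfLE {W W' : X.Opens} (h : W' ≤ W) (a : Γ(↑W, ⊤)) :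
    W'.topIso.hom ((X.homOfLE h).appTop a) = ρ h (W.topIso.hom a) := by
  rw [Scheme.homOfLE_appTop]
  simp only [Scheme.Opens.topIso_hom, ρ]
  show (X.presheaf.map _ ≫ X.presheaf.map _) a = (X.presheaf.map _ ≫ X.presheaf.map _) a
  rw [← X.presheaf.map_comp, ← X.presheaf.map_comp]
  rfl

/-- sections of `G_m` over an open as units of the ring of functions -/
noncomputable def gu (W : X.Opens) (γ : (EtCoh.Gm X).obj.obj (op (oo W))) : (Γ(X, W))ˣ :=
  Units.map ((W.topIso.hom.hom : Γ(↑W, ⊤) →+* Γ(X, W)) : Γ(↑W, ⊤) →* Γ(X, W))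
    (show (Γ(↑W, ⊤))ˣ from gmTo (oo W) γ)

/-- units of the ring of functions as sections of `G_m` -/
noncomputable def ug (W : X.Opens) (a : (Γ(X, W))ˣ) : (EtCoh.Gm X).obj.obj (op (oo W)) :=
  gmOf (oo W) (show (Γ((oo W).left, ⊤))ˣ from
    Units.map ((W.topIso.inv.hom : Γ(X, W) →+* Γ(↑W, ⊤)) : Γ(X, W) →* Γ(↑W, ⊤)) a)

lemma gu_ug (W : X.Opens) (a : (Γ(X, W))ˣ) : gu W (ug W a) = a := by
  apply Units.ext
  show W.topIso.hom (W.topIso.inv a.val) = a.val
  rw [← CommRingCat.comp_apply, Iso.inv_hom_id]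
  rfl

lemma gu_injective (W : X.Opens) : Function.Injective (gu (X := X) W) := by
  intro γ γ' h
  apply gmTo_injective
  apply Units.ext
  have h1 := congrArg (fun a : (Γ(X, W))ˣ => W.topIso.inv a.val) h
  simp only [gu, Units.coe_map, MonoidHom.coe_coe] at h1
  have e : ∀ b : Γ(↑W, ⊤), W.topIso.inv (W.topIso.hom b) = b := by
    intro b
    rw [← CommRingCat.comp_apply, Iso.hom_inv_id]
    rfl
  exact (e _).symm.trans (h1.trans (e _))

lemma gu_add (W : X.Opens) (γ γ' : (EtCoh.Gm X).obj.obj (op (oo W))) :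
    gu W (γ + γ') = gu W γ * gu W γ' :=
  map_mul (Units.map ((W.topIso.hom.hom : Γ(↑W, ⊤) →+* Γ(X, W)) : Γ(↑W, ⊤) →* Γ(X, W)))
    (show (Γ(↑W, ⊤))ˣ from gmTo (oo W) γ) (show (Γ(↑W, ⊤))ˣ from gmTo (oo W) γ')

lemma gu_sub (W : X.Opens) (γ γ' : (EtCoh.Gm X).obj.obj (op (oo W))) :
    gu W (γ - γ') = gu W γ / gu W γ' :=
  map_div (Units.map ((W.topIso.hom.hom : Γ(↑W, ⊤) →+* Γ(X, W)) : Γ(↑W, ⊤) →* Γ(X, W)))
    (show (Γ(↑W, ⊤))ˣ from gmTo (oo W) γ) (show (Γ(↑W, ⊤))ˣ from gmTo (oo W) γ')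

lemma gu_rz {W W' : X.Opens} (h : W' ≤ W) (γ : (EtCoh.Gm X).obj.obj (op (oo W))) :
    gu W' (rz (EtCoh.Gm X) h γ) = Units.map (ρ h : _ →* _) (gu W γ) := by
  apply Units.ext
  exact topIso_homOfLE h _

section Main

variable {I Q : EtCoh.Ab X} (f : EtCoh.Gm X ⟶ I) (π : I ⟶ Q) (w : f ≫ π = 0)
  (hS : (ShortComplex.mk f π w).ShortExact)

/-- restriction of a global section to an open -/
noncomputable abbrev qr (q : Q.obj.obj (op (EtCoh.top X))) (W : X.Opens) : Q.obj.obj (op (oo W)) :=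
  res Q (toTop (oo W)) q

lemma rz_qr (q : Q.obj.obj (op (EtCoh.top X))) {W W' : X.Opens} (h : W' ≤ W) :
    rz Q h (qr q W) = qr q W' := by
  show res Q (om h) (res Q (toTop (oo W)) q) = res Q (toTop (oo W')) q
  rw [← res_comp]
  exact congrArg (fun k => res Q k q) ((EtCore.topIsTerminal X).hom_ext _ _)

include hS in
set_option maxHeartbeats 1600000 in
theorem surjective_of_unitsH1Triv (h : UnitsH1Triv X) :
    Function.Surjective (π.hom.app (op (EtCoh.top X))).hom := by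
  intro q
  haveI : Epi π := hS.epi_g
  choose U hxU t0 ht0 using fun x => exists_zariski_lift f π w hS q x
  let t : ∀ x : X, I.obj.obj (op (oo (U x))) := t0
  have ht : ∀ x, (π.hom.app (op (oo (U x)))).hom (t x) = qr q (U x) := ht0
  let d : ∀ x y : X, I.obj.obj (op (oo (U x ⊓ U y))) := fun x y =>
    rz I (inf_le_right : U x ⊓ U y ≤ U y) (t y) - rz I (inf_le_left : U x ⊓ U y ≤ U x) (t x)
  have hd : ∀ x y, (π.hom.app (op (oo (U x ⊓ U y)))).hom (d x y) = 0 := by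
    intro x y
    show (π.hom.app (op (oo (U x ⊓ U y)))).hom (_ - _) = 0
    rw [map_sub, rz_nat, rz_nat, ht, ht, rz_qr, rz_qr, sub_self]
  choose γ hγ using fun x y => GalDescN.exact_sections hS (oo (U x ⊓ U y)) (d x y) (hd x y)
  replace hγ : ∀ x y, (f.hom.app (op (oo (U x ⊓ U y)))).hom (γ x y) = d x y := hγ
  -- the cocycle of units
  have hcocγ : ∀ x y z,
      rz (EtCoh.Gm X) (le_inf (inf_le_left.trans inf_le_left) inf_le_right :
          U x ⊓ U y ⊓ U z ≤ U x ⊓ U z) (γ x z) =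
        rz (EtCoh.Gm X) (inf_le_left : U x ⊓ U y ⊓ U z ≤ U x ⊓ U y) (γ x y) +
        rz (EtCoh.Gm X) (le_inf (inf_le_left.trans inf_le_right) inf_le_right :
          U x ⊓ U y ⊓ U z ≤ U y ⊓ U z) (γ y z) := by
    intro x y z
    apply GalDescN.injective_sections hS
    show (f.hom.app _).hom _ = (f.hom.app _).hom _
    rw [map_add, rz_nat, rz_nat, rz_nat, hγ, hγ, hγ]
    show rz I _ (_ - _) = rz I _ (_ - _) + rz I _ (_ - _)
    rw [rz_sub, rz_sub, rz_sub, rz_rz, rz_rz, rz_rz, rz_rz, rz_rz, rz_rz]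
    abel
  let g : ∀ x y : X, Γ(X, U x ⊓ U y) := fun x y => (gu (U x ⊓ U y) (γ x y)).val
  have hg : ∀ x y, IsUnit (g x y) := fun x y => (gu (U x ⊓ U y) (γ x y)).isUnit
  have hcoc : ∀ x y z, ρ (le_inf (inf_le_left.trans inf_le_left) inf_le_right :
          U x ⊓ U y ⊓ U z ≤ U x ⊓ U z) (g x z) =
        ρ (inf_le_left : U x ⊓ U y ⊓ U z ≤ U x ⊓ U y) (g x y) *
        ρ (le_inf (inf_le_left.trans inf_le_right) inf_le_right :
          U x ⊓ U y ⊓ U z ≤ U y ⊓ U z) (g y z) := by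
    intro x y z
    have h1 := congrArg (fun a => (gu (U x ⊓ U y ⊓ U z) a).val) (hcocγ x y z)
    simp only [gu_add, gu_rz, Units.val_mul, Units.coe_map, MonoidHom.coe_coe] at h1
    exact h1
  obtain ⟨hh, hhu, hrel⟩ := h X U (fun x => ⟨x, hxU x⟩) g hg hcoc
  let η : ∀ x : X, (EtCoh.Gm X).obj.obj (op (oo (U x))) := fun x => ug (U x) (hhu x).unit
  have hη : ∀ x y, rz (EtCoh.Gm X) (inf_le_left : U x ⊓ U y ≤ U x) (η x) + γ x y =
      rz (EtCoh.Gm X) (inf_le_right : U x ⊓ U y ≤ U y) (η y) := by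
    intro x y
    apply gu_injective
    apply Units.ext
    rw [gu_add, gu_rz, gu_rz, gu_ug, gu_ug]
    exact hrel x y
  let s : ∀ x : X, I.obj.obj (op (oo (U x))) := fun x =>
    t x - (f.hom.app (op (oo (U x)))).hom (η x)
  have hs : ∀ x y, rz I (inf_le_left : U x ⊓ U y ≤ U x) (s x) =
      rz I (inf_le_right : U x ⊓ U y ≤ U y) (s y) := by
    intro x y
    show rz I _ (_ - _) = rz I _ (_ - _)
    rw [rz_sub, rz_sub, ← rz_nat, ← rz_nat, ← hη x y, map_add, hγ]
    show _ = _ - (_ + (_ - _))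
    abel
  have hcov : (⊤ : X.Opens) ≤ ⨆ x, U x := by
    intro x _
    exact Opens.mem_iSup.2 ⟨x, hxU x⟩
  obtain ⟨sT, hsT, -⟩ := existsUnique_glue I U ⊤ (fun _ => le_top) hcov s hs
  have hπ : (π.hom.app (op (oo (⊤ : X.Opens)))).hom sT = qr q ⊤ := by
    apply ext_of_cover Q U ⊤ (fun _ => le_top) hcov
    intro x
    rw [← rz_nat, hsT, rz_qr]
    show (π.hom.app _).hom (_ - _) = _
    rw [map_sub, ht, π_f_apply f π w, sub_zero]
  let κ : EtCoh.top X ⟶ oo (⊤ : X.Opens) :=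
    (Groth.Agent.Helper9.ZarEtCoh.isTerminalZarTop X).from _
  refine ⟨res I κ sT, ?_⟩
  rw [res_nat, hπ]
  show res Q κ (res Q (toTop (oo ⊤)) q) = q
  rw [← res_comp]
  have e : κ ≫ toTop (oo (⊤ : X.Opens)) = 𝟙 _ := (EtCore.topIsTerminal X).hom_ext _ _
  rw [e]
  show (Q.obj.map (𝟙 (EtCoh.top X)).op).hom q = q
  rw [op_id, Q.obj.map_id]
  rfl

include hS in
set_option maxHeartbeats 1600000 in
theorem unitsH1Triv_of_surjective [Injective I]
    (hsurj : Function.Surjective (π.hom.app (op (oo (⊤ : X.Opens)))).hom) : UnitsH1Triv X := by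
  intro Z V hcovV g hg hcoc
  let γ : ∀ z z', (EtCoh.Gm X).obj.obj (op (oo (V z ⊓ V z'))) := fun z z' =>
    ug (V z ⊓ V z') (hg z z').unit
  let c : ∀ z z', I.obj.obj (op (oo (V z ⊓ V z'))) := fun z z' =>
    (f.hom.app (op (oo (V z ⊓ V z')))).hom (γ z z')
  have hc : ∀ z z' z'',
      rz I (le_inf (inf_le_left.trans inf_le_left) inf_le_right :
          V z ⊓ V z' ⊓ V z'' ≤ V z ⊓ V z'') (c z z'') =
        rz I (inf_le_left : V z ⊓ V z' ⊓ V z'' ≤ V z ⊓ V z') (c z z') +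
        rz I (le_inf (inf_le_left.trans inf_le_right) inf_le_right :
          V z ⊓ V z' ⊓ V z'' ≤ V z' ⊓ V z'') (c z' z'') := by
    intro z z' z''
    show rz I _ ((f.hom.app _).hom _) = rz I _ ((f.hom.app _).hom _) + rz I _ ((f.hom.app _).hom _)
    rw [← rz_nat, ← rz_nat, ← rz_nat, ← map_add]
    congr 1
    apply gu_injective
    apply Units.ext
    rw [gu_add, gu_rz, gu_rz, gu_rz, gu_ug, gu_ug, gu_ug]
    exact hcoc z z' z''
  obtain ⟨b, hb⟩ := exists_coboundary I V c hc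
  have hcov : (⊤ : X.Opens) ≤ ⨆ z, V z := by
    intro x _
    obtain ⟨z, hz⟩ := hcovV x
    exact Opens.mem_iSup.2 ⟨z, hz⟩
  have hπb : ∀ z z', rz Q (inf_le_left : V z ⊓ V z' ≤ V z) ((π.hom.app (op (oo (V z)))).hom (b z)) =
      rz Q (inf_le_right : V z ⊓ V z' ≤ V z') ((π.hom.app (op (oo (V z')))).hom (b z')) := by
    intro z z'
    rw [← rz_nat, ← rz_nat]
    have h1 := congrArg (π.hom.app (op (oo (V z ⊓ V z')))).hom (hb z z')
    rw [map_sub] at h1
    have h2 : (π.hom.app (op (oo (V z ⊓ V z')))).hom (c z z') = 0 := π_f_apply f π w _ _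
    rw [h2] at h1
    exact (sub_eq_zero.1 h1.symm).symm
  obtain ⟨qT, hqT, -⟩ := existsUnique_glue Q V ⊤ (fun _ => le_top) hcov
    (fun z => (π.hom.app (op (oo (V z)))).hom (b z)) hπb
  obtain ⟨tT, htT⟩ := hsurj qT
  have hk : ∀ z, (π.hom.app (op (oo (V z)))).hom (b z - rz I le_top tT) = 0 := by
    intro z
    rw [map_sub, rz_nat, htT, hqT, sub_self]
  choose η hη using fun z => GalDescN.exact_sections hS (oo (V z)) _ (hk z)
  replace hη : ∀ z, (f.hom.app (op (oo (V z)))).hom (η z) = b z - rz I le_top tT := hη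
  refine ⟨fun z => (gu (V z) (η z)).val, fun z => (gu (V z) (η z)).isUnit, ?_⟩
  intro z z'
  have h1 : rz (EtCoh.Gm X) (inf_le_left : V z ⊓ V z' ≤ V z) (η z) + γ z z' =
      rz (EtCoh.Gm X) (inf_le_right : V z ⊓ V z' ≤ V z') (η z') := by
    apply GalDescN.injective_sections hS
    show (f.hom.app _).hom _ = (f.hom.app _).hom _
    rw [map_add, rz_nat, rz_nat, hη, hη]
    show rz I _ (_ - _) + c z z' = rz I _ (_ - _)
    rw [hb, rz_sub, rz_sub, rz_rz, rz_rz]
    abel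
  have h2 := congrArg (fun a => (gu (V z ⊓ V z') a).val) h1
  simp only [gu_add, gu_rz, gu_ug, Units.val_mul, Units.coe_map, MonoidHom.coe_coe,
    IsUnit.unit_spec] at h2
  have h3 : (gu (V z ⊓ V z') (γ z z')).val = g z z' := by
    show (gu (V z ⊓ V z') (ug (V z ⊓ V z') (hg z z').unit)).val = g z z'
    rw [gu_ug]
    rfl
  rw [h3] at h2
  exact h2

end Main

/-- the étale side: `H¹(X_et, G_m) = 0` iff Zariski cocycles of units are coboundaries -/
theorem subsingleton_H1_iff (X : Scheme.{u}) :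
    Subsingleton (EtCoh.H X (EtCoh.Gm X) 1) ↔ UnitsH1Triv X := by
  let I : EtCoh.Ab X := Injective.under (EtCoh.Gm X)
  let f : EtCoh.Gm X ⟶ I := Injective.ι (EtCoh.Gm X)
  let π : I ⟶ cokernel f := cokernel.π f
  have w : f ≫ π = 0 := cokernel.condition f
  have hS : (ShortComplex.mk f π w).ShortExact := ⟨ShortComplex.exact_cokernel f⟩
  constructor
  · intro hsub
    have hsurj := Groth.Agent.Helper6.ZarEpsB.surjective_of_H1
      (Groth.Agent.Helper9.ZarEtCoh.isTerminalZarTop X) hS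
      (fun x => @Subsingleton.elim _ hsub x 0)
    exact unitsH1Triv_of_surjective f π w hS hsurj
  · intro h
    have hsurj := surjective_of_unitsH1Triv f π w hS h
    refine subsingleton_of_forall_eq 0 ?_
    intro x
    have hx : x.comp (Ext.mk₀ f) (add_zero 1) = 0 := Ext.eq_zero_of_injective _
    obtain ⟨y, hy⟩ := Ext.covariant_sequence_exact₁ _ hS x hx (zero_add 1)
    obtain ⟨q, rfl⟩ := (Sheaf.H.equiv₀ (cokernel f) (EtCore.topIsTerminal X)).symm.surjective y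
    obtain ⟨i, rfl⟩ := hsurj q
    have hn := Sheaf.H.equiv₀_symm_naturality (EtCore.topIsTerminal X) π i
    have hn' : (Sheaf.H.equiv₀ (cokernel f) (EtCore.topIsTerminal X)).symm
        ((π.hom.app (op (EtCoh.top X))).hom i) =
        Sheaf.H.map π 0 ((Sheaf.H.equiv₀ I (EtCore.topIsTerminal X)).symm i) := hn.symm
    rw [← hy, hn', Sheaf.H.map_apply,
      Ext.comp_assoc _ _ _ (add_zero 0) (zero_add 1) (by omega)]
    have h5 : (Ext.mk₀ π).comp hS.extClass (zero_add 1) = 0 := hS.comp_extClass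
    rw [h5, Ext.comp_zero]

end Groth.Agent.Helper6.PicH1C
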