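import Mathlib
import Groth.Agent.Helper1.SubProd
import Groth.Agent.Helper1.CC1
import Groth.Agent.Helper3.GlueInv
import Groth.Agent.Helper3.FrameGlue
import Groth.Agent.Helper4.TwistExt
import Groth.Agent.Helper4.StalkExact

/-! Gluing the structure sheaves along a cocycle of units. -/

set_option autoImplicit false
set_option linter.style.haveILetI false
set_option linter.unusedSectionVars false
set_option linter.unusedVariables false
set_option linter.unusedSimpArgs false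

universe u

open CategoryTheory CategoryTheory.Limits Opposite AlgebraicGeometry TopologicalSpace

namespace Groth.Agent.Helper6.PicH1D

open Scheme.Modules Groth.Agent.Helper3.GlueInv Groth.Agent.Helper1.CC
  Groth.Agent.Helper4.TwistExt Groth.Agent.Helper1

variable {X : Scheme.{u}} {Z : Type u} (V : Z → X.Opens) (g : ∀ z z', Γ(X, V z ⊓ V z'))

theorem T_le (z z' : Z) (W : X.Opens) : W ⊓ (V z ⊓ V z') ≤ W ⊓ V z :=
  inf_le_inf_left _ inf_le_left

theorem T_le' (z z' : Z) (W : X.Opens) : W ⊓ (V z ⊓ V z') ≤ W ⊓ V z' :=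
  inf_le_inf_left _ inf_le_right

lemma map_ρ {W W' W'' : X.Opens} (h : W ≤ W') (h' : W' ≤ W'') (a : Γ(X, W'')) :
    X.presheaf.map (homOfLE h).op (ρ h' a) = ρ (h.trans h') a := by
  rw [← ρ_def, ρ_ρ]

/-- the gluing condition on a family over `W` -/
def Cond (W : X.Opens) (t : ∀ z, Γ(Rz V z, W)) : Prop :=
  ∀ z z', resX V z W (W ⊓ (V z ⊓ V z')) (T_le V z z' W) (t z) =
    ρ (inf_le_right : W ⊓ (V z ⊓ V z') ≤ V z ⊓ V z') (g z z') *
      resX V z' W (W ⊓ (V z ⊓ V z')) (T_le' V z z' W) (t z')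

theorem cond_zero (W : X.Opens) : Cond V g W (fun _ => 0) := by
  intro z z'
  rw [resX_zero, resX_zero, mul_zero]

theorem cond_add (W : X.Opens) (t t' : ∀ z, Γ(Rz V z, W)) (h : Cond V g W t)
    (h' : Cond V g W t') : Cond V g W (fun z => t z + t' z) := by
  intro z z'
  rw [resX_add, resX_add, mul_add, h z z', h' z z']

theorem cond_smul (W : X.Opens) (r : Γ(X, W)) (t : ∀ z, Γ(Rz V z, W)) (h : Cond V g W t) :
    Cond V g W (fun z => r • t z) := by
  intro z z'
  rw [resX_smul, resX_smul, h z z']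
  exact mul_left_comm _ _ _

theorem cond_res {W W' : X.Opens} (f : W' ⟶ W) (t : ∀ z, Γ(Rz V z, W)) (h : Cond V g W t) :
    Cond V g W' (fun z => (Rz V z).presheaf.map f.op (t z)) := by
  intro z z'
  have hle : W' ⊓ (V z ⊓ V z') ≤ W ⊓ (V z ⊓ V z') := inf_le_inf_right _ f.le
  have h1 := congrArg (X.presheaf.map (homOfLE hle).op) (h z z')
  rw [map_mul, map_resX, map_resX, map_ρ] at h1
  rw [resX_map, resX_map]
  exact h1

theorem cond_loc (W : X.Opens) (t : ∀ z, Γ(Rz V z, W))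
    (h : ∀ x ∈ W, ∃ (W' : X.Opens) (f : W' ⟶ W), x ∈ W' ∧
      Cond V g W' (fun z => (Rz V z).presheaf.map f.op (t z))) : Cond V g W t := by
  intro z z'
  apply eq_of_locally
  intro x hx
  obtain ⟨W', f, hxW', hc⟩ := h x hx.1
  have hle : W' ⊓ (V z ⊓ V z') ≤ W ⊓ (V z ⊓ V z') := inf_le_inf_right _ f.le
  refine ⟨W' ⊓ (V z ⊓ V z'), hle, ⟨hxW', hx.2⟩, ?_⟩
  have h1 := hc z z'
  rw [resX_map, resX_map] at h1
  rw [ρ_def, ρ_def, map_mul, map_resX, map_resX, map_ρ]
  exact h1

/-- the local condition -/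
noncomputable def lc : SubProd.LocalCond (fun z => Rz V z) where
  C W σ := Cond V g W σ
  zero W := cond_zero V g W
  add W σ σ' h h' := cond_add V g W _ _ h h'
  smul W r σ h := cond_smul V g W r _ h
  res f σ h := cond_res V g f _ h
  loc W σ h := cond_loc V g W _ h

/-- a function on `W ⊓ V z` as a section of `Rz V z` over `W` -/
noncomputable def ofFn (z : Z) (W : X.Opens) (a : Γ(X, W ⊓ V z)) : Γ(Rz V z, W) :=
  (show Γ(X, (V z).ι ''ᵁ ((V z).ι ⁻¹ᵁ W)) from X.presheaf.map (homOfLE (img_le V z W)).op a)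

theorem resX_ofFn (z : Z) (W T : X.Opens) (hT : T ≤ W ⊓ V z) (a : Γ(X, W ⊓ V z)) :
    resX V z W T hT (ofFn V z W a) = ρ hT a := by
  unfold resX ofFn
  change (X.presheaf.map _ ≫ X.presheaf.map _) a = _
  rw [← X.presheaf.map_comp]
  rfl

section Frames

variable (hcoc : ∀ z z' z'', ρ (le_inf (inf_le_left.trans inf_le_left) inf_le_right :
          V z ⊓ V z' ⊓ V z'' ≤ V z ⊓ V z'') (g z z'') =
        ρ (inf_le_left : V z ⊓ V z' ⊓ V z'' ≤ V z ⊓ V z') (g z z') *
        ρ (le_inf (inf_le_left.trans inf_le_right) inf_le_right :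
          V z ⊓ V z' ⊓ V z'' ≤ V z' ⊓ V z'') (g z' z''))

include hcoc in
/-- the cocycle identity on any smaller open -/
theorem coc_on (z z' z'' : Z) (T : X.Opens) (h02 : T ≤ V z ⊓ V z'') (h01 : T ≤ V z ⊓ V z')
    (h12 : T ≤ V z' ⊓ V z'') :
    ρ h02 (g z z'') = ρ h01 (g z z') * ρ h12 (g z' z'') := by
  have hT : T ≤ V z ⊓ V z' ⊓ V z'' := le_inf h01 (h02.trans inf_le_right)
  have h1 := congrArg (ρ hT) (hcoc z z' z'')
  rw [map_mul, ρ_ρ, ρ_ρ, ρ_ρ] at h1
  exact h1

/-- the components of the frame over `V z₀` -/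
noncomputable def fr (z₀ : Z) : ∀ z, Γ(Rz V z, V z₀) := fun z =>
  ofFn V z (V z₀) (ρ (le_inf inf_le_right inf_le_left : V z₀ ⊓ V z ≤ V z ⊓ V z₀) (g z z₀))

include hcoc in
theorem cond_fr (z₀ : Z) : Cond V g (V z₀) (fr V g z₀) := by
  intro z z'
  unfold fr
  rw [resX_ofFn, resX_ofFn, ρ_ρ, ρ_ρ]
  exact coc_on V g hcoc z z' z₀ _ _ _ _

variable (hg : ∀ z z', IsUnit (g z z'))

include hcoc hg in
theorem g_self (z : Z) (T : X.Opens) (h : T ≤ V z ⊓ V z) : ρ h (g z z) = 1 := by
  have h1 := coc_on V g hcoc z z z T h h h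
  have hu : IsUnit (ρ h (g z z)) := (hg z z).map (ρ h)
  obtain ⟨d, hd⟩ := hu.exists_left_inv
  have h2 := congrArg (fun a => d * a) h1
  simp only [← mul_assoc, hd, one_mul] at h2
  exact h2.symm

include hcoc hg in
set_option maxHeartbeats 800000 in
/-- **gluing the structure sheaves along a cocycle of units** -/
theorem exists_of_cocycle :
    ∃ (L : X.Modules) (s : ∀ z, Γ(L, V z)), (∀ z, IsFrame L (V z) (s z)) ∧
      ∀ z z', L.presheaf.map (homOfLE (inf_le_right : V z ⊓ V z' ≤ V z')).op (s z') =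
        g z z' • L.presheaf.map (homOfLE (inf_le_left : V z ⊓ V z' ≤ V z)).op (s z) := by
  let L := SubProd.L (lc V g)
  let π : ∀ z, L ⟶ Rz V z := fun z => SubProd.π (lc V g) z
  choose s hs using fun z₀ => SubProd.exists_section (lc V g) (V z₀) (fr V g z₀)
    (cond_fr V g hcoc z₀)
  have hs' : ∀ z₀ z, (π z).app (V z₀) (s z₀) = fr V g z₀ z := hs
  -- the components of the restrictions of the frames
  have hcomp : ∀ (z₀ i : Z) (T : X.Opens) (hT : T ≤ V z₀) (T' : X.Opens) (hT' : T' ≤ T ⊓ V i),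
      resX V i T T' hT' ((π i).app T (L.presheaf.map (homOfLE hT).op (s z₀))) =
        ρ (le_inf (hT'.trans inf_le_right) (hT'.trans (inf_le_left.trans hT)) :
          T' ≤ V i ⊓ V z₀) (g i z₀) := by
    intro z₀ i T hT T' hT'
    rw [Groth.Agent.Helper4.StalkExact.app_res, hs', resX_map]
    unfold fr
    rw [resX_ofFn, ρ_ρ]
  refine ⟨L, s, ?_, ?_⟩
  · intro z₀ T hT
    constructor
    · intro m
      refine ⟨resX V z₀ T T (le_inf le_rfl hT) ((π z₀).app T m), ?_⟩
      apply SubProd.ext (lc V g) T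
      intro i
      apply (resX_bijective V i T (T ⊓ V i) le_rfl le_rfl).1
      have hle : T ⊓ (V i ⊓ V z₀) ≤ T ⊓ V i := T_le V i z₀ T
      have hle' : T ⊓ V i ≤ T ⊓ (V i ⊓ V z₀) :=
        le_inf inf_le_left (le_inf inf_le_right (inf_le_left.trans hT))
      apply (ρ_bijective hle hle').1
      have hc := SubProd.cond (lc V g) T m i z₀
      set r := resX V z₀ T T (le_inf le_rfl hT) ((π z₀).app T m) with hr
      have e1 : ρ hle (resX V i T (T ⊓ V i) le_rfl ((π i).app T m)) =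
          resX V i T (T ⊓ (V i ⊓ V z₀)) (T_le V i z₀ T) ((π i).app T m) := by
        rw [ρ_def, map_resX]
      have e3 : ρ (inf_le_left : T ⊓ (V i ⊓ V z₀) ≤ T) r =
          resX V z₀ T (T ⊓ (V i ⊓ V z₀)) (T_le' V i z₀ T) ((π z₀).app T m) := by
        rw [hr, ρ_def, map_resX]
      have e2 : ρ hle (resX V i T (T ⊓ V i) le_rfl ((π i).app T
          (r • L.presheaf.map (homOfLE hT).op (s z₀)))) =
          ρ (inf_le_left : T ⊓ (V i ⊓ V z₀) ≤ T) r *
            ρ (inf_le_right : T ⊓ (V i ⊓ V z₀) ≤ V i ⊓ V z₀) (g i z₀) := by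
        rw [Scheme.Modules.Hom.app_smul, resX_smul, hcomp, map_mul, ← ρ_def, ρ_ρ, ρ_ρ]
      show ρ hle (resX V i T (T ⊓ V i) le_rfl ((π i).app T m)) =
        ρ hle (resX V i T (T ⊓ V i) le_rfl ((π i).app T
          (r • L.presheaf.map (homOfLE hT).op (s z₀))))
      rw [e1, e2, e3]
      exact hc.trans (mul_comm _ _)
    · intro r hr
      have h1 := congrArg (fun m => resX V z₀ T T (le_inf le_rfl hT) ((π z₀).app T m)) hr
      simp only at h1
      rw [Scheme.Modules.Hom.app_smul, resX_smul, hcomp, g_self V g hcoc hg, mul_one, map_zero,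
        resX_zero] at h1
      have h2 : X.presheaf.map (homOfLE ((le_inf le_rfl hT : T ≤ T ⊓ V z₀).trans inf_le_left)).op r
          = r := ρ_refl _ r
      rw [h2] at h1
      exact h1
  · intro z z'
    apply SubProd.ext (lc V g) (V z ⊓ V z')
    intro i
    apply (resX_bijective V i (V z ⊓ V z') (V z ⊓ V z' ⊓ V i) le_rfl le_rfl).1
    show resX V i _ _ le_rfl ((π i).app _ (L.presheaf.map (homOfLE _).op (s z'))) =
      resX V i _ _ le_rfl ((π i).app _ (g z z' • L.presheaf.map (homOfLE _).op (s z)))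
    rw [Scheme.Modules.Hom.app_smul, resX_smul, hcomp, hcomp, ← ρ_def]
    rw [coc_on V g hcoc i z z' (V z ⊓ V z' ⊓ V i)
      (le_inf inf_le_right (inf_le_left.trans inf_le_right))
      (le_inf inf_le_right (inf_le_left.trans inf_le_left)) inf_le_left]
    exact mul_comm _ _

end Frames

end Groth.Agent.Helper6.PicH1D
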