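import Mathlib
import Groth.Agent.Helper6.PicH1C
import Groth.Agent.Helper6.PicH1D
import Groth.Agent.Helper1.CC3
import Groth.Agent.Helper3.DiscPic2
import Groth.Agent.Helper3.FrameFin
import Groth.Agent.Helper4.GenLoc
import Groth.Agent.Helper4.SN366
import Groth.Agent.Helper3.FrameGlue

/-! Zariski cocycles of units are coboundaries iff all invertible modules are trivial. -/

set_option autoImplicit false
set_option linter.style.haveILetI false
set_option linter.unusedSectionVars false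
set_option linter.unusedVariables false
set_option linter.unusedSimpArgs false

universe u

open CategoryTheory CategoryTheory.Limits Opposite AlgebraicGeometry TopologicalSpace

namespace Groth.Agent.Helper6.PicH1E

open Scheme.Modules Groth.Agent.Helper1.CC Groth.Agent.Helper4.TwistExt Groth.Agent.Helper6.PicH1C
  Groth.Agent.Helper4.GenLoc

variable {X : Scheme.{u}}

theorem unitsH1Triv_of_forall
    (hall : ∀ L : X.Modules, PicF.IsInvertible L → Nonempty (L ≅ Coh.structureModule X)) :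
    UnitsH1Triv X := by
  intro Z V hcov g hg hcoc
  obtain ⟨L, s, hs, hrel⟩ := Groth.Agent.Helper6.PicH1D.exists_of_cocycle V g hcoc hg
  have hL : PicF.IsInvertible L := by
    intro y
    obtain ⟨z, hz⟩ := hcov y
    exact ⟨V z, hz, Groth.Agent.Helper1.CC.nonempty_iso_of_generator L (V z) (s z)
      (fun T hT => Groth.Agent.Helper3.DiscPic2.bijective_of_isFrame L (V z) (s z) (hs z) T hT)⟩
  obtain ⟨φ⟩ := hall L hL
  refine ⟨fun z => toFn (φ.hom.app (V z) (s z)), ?_, ?_⟩
  · intro z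
    obtain ⟨r, hr⟩ := Groth.Agent.Helper4.SN366.isFrame_coeff (hs z) (φ.inv.app (V z) (one X (V z)))
    have h1 := congrArg (fun m => toFn (φ.hom.app (V z) m)) hr
    simp only at h1
    rw [Scheme.Modules.Hom.app_smul, toFn_smul] at h1
    have h2 : φ.hom.app (V z) (φ.inv.app (V z) (one X (V z))) = one X (V z) := by
      have := congrArg (fun ψ : Coh.structureModule X ⟶ Coh.structureModule X =>
        ψ.app (V z) (one X (V z))) φ.inv_hom_id
      exact this
    rw [h2] at h1
    exact IsUnit.of_mul_eq_one r ((mul_comm _ _).trans h1.symm)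
  · intro z z'
    have h1 := congrArg (fun m => toFn (φ.hom.app (V z ⊓ V z') m)) (hrel z z')
    simp only at h1
    rw [Scheme.Modules.Hom.app_smul, toFn_smul, Groth.Agent.Helper4.StalkExact.app_res,
      Groth.Agent.Helper4.StalkExact.app_res, toFn_map, toFn_map] at h1
    exact ((mul_comm _ _).trans h1.symm)

set_option maxHeartbeats 800000 in
theorem forall_of_unitsH1Triv (h : UnitsH1Triv X) (L : X.Modules) (hL : PicF.IsInvertible L) :
    Nonempty (L ≅ Coh.structureModule X) := by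
  have hloc : ∀ x : X, ∃ (T : X.Opens) (e : Γ(L, T)), x ∈ T ∧ IsFrame L T e := by
    intro x
    obtain ⟨W, hxW, ⟨ε⟩⟩ := hL x
    refine ⟨W.ι ''ᵁ ⊤, _, ?_, isFrame_of_triv L W ε⟩
    rw [Scheme.Opens.ι_image_top]
    exact hxW
  choose V e hxV he using hloc
  have htr : ∀ x y, ∃ a : Γ(X, V x ⊓ V y), IsUnit a ∧
      L.presheaf.map (homOfLE (inf_le_right : V x ⊓ V y ≤ V y)).op (e y) =
        a • L.presheaf.map (homOfLE (inf_le_left : V x ⊓ V y ≤ V x)).op (e x) := fun x y =>
    Groth.Agent.Helper3.FrameFin.exists_unit_of_frames _ _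
      (Groth.Agent.Helper3.FrameFin.isFrame_of_le (he x) inf_le_left)
      (Groth.Agent.Helper3.FrameFin.isFrame_of_le (he y) inf_le_right)
  choose g hg hrel using htr
  -- the relation on smaller opens
  have hrelT : ∀ (x y : X) (T : X.Opens) (hx : T ≤ V x) (hy : T ≤ V y),
      L.presheaf.map (homOfLE hy).op (e y) =
        ρ (le_inf hx hy : T ≤ V x ⊓ V y) (g x y) • L.presheaf.map (homOfLE hx).op (e x) := by
    intro x y T hx hy
    have h1 := congrArg (L.presheaf.map (homOfLE (le_inf hx hy : T ≤ V x ⊓ V y)).op) (hrel x y)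
    rw [smul_res, map_map, map_map] at h1
    exact h1
  have hcoc : ∀ x y z, ρ (le_inf (inf_le_left.trans inf_le_left) inf_le_right :
          V x ⊓ V y ⊓ V z ≤ V x ⊓ V z) (g x z) =
        ρ (inf_le_left : V x ⊓ V y ⊓ V z ≤ V x ⊓ V y) (g x y) *
        ρ (le_inf (inf_le_left.trans inf_le_right) inf_le_right :
          V x ⊓ V y ⊓ V z ≤ V y ⊓ V z) (g y z) := by
    intro x y z
    have hx : V x ⊓ V y ⊓ V z ≤ V x := inf_le_left.trans inf_le_left
    have hy : V x ⊓ V y ⊓ V z ≤ V y := inf_le_left.trans inf_le_right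
    have hz : V x ⊓ V y ⊓ V z ≤ V z := inf_le_right
    have hfx := Groth.Agent.Helper3.FrameFin.isFrame_of_le (he x) hx
    have h1 := hrelT x z _ hx hz
    have h2 := hrelT y z _ hy hz
    have h3 := hrelT x y _ hx hy
    rw [h3, ← mul_smul] at h2
    have h4 := h1.symm.trans h2
    rw [← sub_eq_zero, ← sub_smul] at h4
    have h5 := Groth.Agent.Helper4.SN366.isFrame_inj hfx _ h4
    rw [sub_eq_zero] at h5
    exact h5.trans (mul_comm _ _)
  obtain ⟨hh, hhu, hhrel⟩ := h X V (fun x => ⟨x, hxV x⟩) g hg hcoc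
  -- the corrected frames
  let hi : ∀ x, Γ(X, V x) := fun x => ((hhu x).unit⁻¹ : (Γ(X, V x))ˣ).val
  have hiu : ∀ x, IsUnit (hi x) := fun x => ((hhu x).unit⁻¹ : (Γ(X, V x))ˣ).isUnit
  have hmul : ∀ x, hi x * hh x = 1 := fun x => (hhu x).val_inv_mul
  let e' : ∀ x, Γ(L, V x) := fun x => hi x • e x
  have he' : ∀ x, IsFrame L (V x) (e' x) := fun x =>
    Groth.Agent.Helper3.FrameGlue.isFrame_smul_unit (he x) (hi x) (hiu x)
  have hag : ∀ x y, L.presheaf.map (homOfLE (inf_le_left : V x ⊓ V y ≤ V x)).op (e' x) =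
      L.presheaf.map (homOfLE (inf_le_right : V x ⊓ V y ≤ V y)).op (e' y) := by
    intro x y
    show L.presheaf.map _ (hi x • e x) = L.presheaf.map _ (hi y • e y)
    rw [smul_res, smul_res, hrel x y, ← mul_smul]
    congr 1
    -- ρ (hi x) = ρ (hi y) * g x y
    have k1 : ρ (inf_le_left : V x ⊓ V y ≤ V x) (hi x) * ρ (inf_le_left : V x ⊓ V y ≤ V x) (hh x)
        = 1 := by rw [← map_mul, hmul, map_one]
    have k2 : ρ (inf_le_right : V x ⊓ V y ≤ V y) (hi y) * ρ (inf_le_right : V x ⊓ V y ≤ V y) (hh y)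
        = 1 := by rw [← map_mul, hmul, map_one]
    calc ρ (inf_le_left : V x ⊓ V y ≤ V x) (hi x)
        = ρ (inf_le_left : V x ⊓ V y ≤ V x) (hi x) *
            (ρ (inf_le_right : V x ⊓ V y ≤ V y) (hi y) *
              ρ (inf_le_right : V x ⊓ V y ≤ V y) (hh y)) := by rw [k2, mul_one]
      _ = ρ (inf_le_left : V x ⊓ V y ≤ V x) (hi x) *
            (ρ (inf_le_right : V x ⊓ V y ≤ V y) (hi y) *
              (ρ (inf_le_left : V x ⊓ V y ≤ V x) (hh x) * g x y)) := by rw [hhrel x y]
      _ = (ρ (inf_le_left : V x ⊓ V y ≤ V x) (hi x) *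
            ρ (inf_le_left : V x ⊓ V y ≤ V x) (hh x)) *
            (ρ (inf_le_right : V x ⊓ V y ≤ V y) (hi y) * g x y) := by ring
      _ = ρ (inf_le_right : V x ⊓ V y ≤ V y) (hi y) * g x y := by rw [k1, one_mul]
  have hcov : (⊤ : X.Opens) ≤ ⨆ x, V x := by
    intro x _
    exact Opens.mem_iSup.2 ⟨x, hxV x⟩
  obtain ⟨e₀, he₀, -⟩ := Groth.Agent.Helper3.FrameGlue.exists_glue_frames V e' he' hag ⊤
    (fun _ => le_top) hcov
  exact Groth.Agent.Helper3.FrameGlue.nonempty_iso_of_isFrame_top L e₀ he₀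

/-- the module side -/
theorem unitsH1Triv_iff (X : Scheme.{u}) : UnitsH1Triv X ↔
    ∀ L : X.Modules, PicF.IsInvertible L → Nonempty (L ≅ Coh.structureModule X) :=
  ⟨fun h L hL => forall_of_unitsH1Triv h L hL, unitsH1Triv_of_forall⟩

/-- `H¹(X_et, G_m) = 0` iff every invertible module is trivial -/
theorem main (X : Scheme.{u}) : Subsingleton (EtCoh.H X (EtCoh.Gm X) 1) ↔
    ∀ L : X.Modules, PicF.IsInvertible L → Nonempty (L ≅ Coh.structureModule X) :=
  (subsingleton_H1_iff X).trans (unitsH1Triv_iff X)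

end Groth.Agent.Helper6.PicH1E
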