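import Mathlib
import Groth.Agent.Helper6.ExtTenMod

/-!
# The sequence `0 → R[X] ⊗ M → R[X] ⊗ M → M → 0` (multiplication by `X`, evaluation at `0`)
-/

set_option autoImplicit false
universe u
open CategoryTheory CategoryTheory.Limits Polynomial TensorProduct

namespace Groth.Agent.Helper6.PolyEvalMod

open Groth.Agent.Helper6.ExtTenMod

variable (R : Type u) [CommRing R]

/-- the inclusion of constants -/
noncomputable abbrev cR : R →+* R[X] := Polynomial.C

/-- evaluation at zero -/
noncomputable abbrev ev : R[X] →+* R := Polynomial.evalRingHom (0 : R)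

lemma ev_comp_cR : (ev R).comp (cR R) = RingHom.id R := by
  ext r
  simp

variable {R} (M : ModuleCat.{u} R)

/-- the module `R[X] ⊗ M` -/
noncomputable abbrev E : ModuleCat.{u} R[X] := (ModuleCat.extendScalars.{u, u, u} (cR R)).obj M

lemma tm_C_mul (r : R) (p : R[X]) (m : M) :
    tm (cR R) M (Polynomial.C r * p) m = tm (cR R) M p (r • m) :=
  TensorProduct.smul_tmul (R := R) (R' := R)
    (M := (ModuleCat.restrictScalars (cR R)).obj (ModuleCat.of R[X] R[X])) (N := M) r p m

lemma tm_add_left (p q : R[X]) (m : M) :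
    tm (cR R) M (p + q) m = tm (cR R) M p m + tm (cR R) M q m :=
  TensorProduct.add_tmul (R := R)
    (M := (ModuleCat.restrictScalars (cR R)).obj (ModuleCat.of R[X] R[X])) (N := M) p q m

lemma tm_add_right (p : R[X]) (m m' : M) :
    tm (cR R) M p (m + m') = tm (cR R) M p m + tm (cR R) M p m' :=
  TensorProduct.tmul_add (R := R)
    (M := (ModuleCat.restrictScalars (cR R)).obj (ModuleCat.of R[X] R[X])) (N := M) p m m'

lemma tm_zero_left (m : M) : tm (cR R) M 0 m = 0 :=
  TensorProduct.zero_tmul (R := R)
    (M := (ModuleCat.restrictScalars (cR R)).obj (ModuleCat.of R[X] R[X])) (N := M) m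

lemma tm_zero_right (p : R[X]) : tm (cR R) M p 0 = 0 :=
  TensorProduct.tmul_zero (R := R)
    (M := (ModuleCat.restrictScalars (cR R)).obj (ModuleCat.of R[X] R[X])) M p

/-- `divX ⊗ M` as an additive map -/
noncomputable def Dm : E M →+ E M :=
  TensorProduct.liftAddHom (R := R)
    (M := (ModuleCat.restrictScalars (cR R)).obj (ModuleCat.of R[X] R[X])) (N := M)
    { toFun := fun s =>
        { toFun := fun n => tm (cR R) M (Polynomial.divX (show R[X] from s)) n
          map_zero' := tm_zero_right M _
          map_add' := fun a b => tm_add_right M _ a b }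
      map_zero' := by
        ext n
        show tm (cR R) M (Polynomial.divX (0 : R[X])) n = 0
        rw [Polynomial.divX_zero]
        exact tm_zero_left M n
      map_add' := fun a b => by
        ext n
        show tm (cR R) M (Polynomial.divX ((show R[X] from a) + (show R[X] from b))) n = _
        rw [Polynomial.divX_add]
        exact tm_add_left M _ _ n }
    (fun r s n => by
      show tm (cR R) M (Polynomial.divX (Polynomial.C r * (show R[X] from s))) n =
        tm (cR R) M (Polynomial.divX (show R[X] from s)) (r • n)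
      rw [Polynomial.divX_C_mul]
      exact tm_C_mul M r _ n)

lemma Dm_tm (p : R[X]) (m : M) : Dm M (tm (cR R) M p m) = tm (cR R) M (Polynomial.divX p) m := rfl

/-- `D (X • x) = x` -/
lemma Dm_X_smul (x : E M) : Dm M ((Polynomial.X : R[X]) • x) = x := by
  refine ext_induction (cR R) M (P := fun x => Dm M ((Polynomial.X : R[X]) • x) = x) ?_ ?_ ?_ x
  · rw [smul_zero, map_zero]
  · intro p m
    rw [smul_tm, Dm_tm]
    congr 1
    ext n
    simp
  · intro x y hx hy
    rw [smul_add, map_add, hx, hy]

lemma X_smul_injective : Function.Injective (fun x : E M => (Polynomial.X : R[X]) • x) := by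
  intro x y h
  have := congrArg (Dm M) h
  simpa only [Dm_X_smul] using this

/-- the identity `M → res_C (res_ev M)` -/
noncomputable def ιM : M ⟶ (ModuleCat.restrictScalars (cR R)).obj
    ((ModuleCat.restrictScalars (ev R)).obj M) :=
  ModuleCat.ofHom
    (Y := (ModuleCat.restrictScalars (cR R)).obj ((ModuleCat.restrictScalars (ev R)).obj M))
    { toFun := fun m => m
      map_add' := fun _ _ => rfl
      map_smul' := fun r m => by
        show r • m = (ev R) ((cR R) r) • m
        simp }

/-- evaluation at zero: `R[X] ⊗ M → M`, as a morphism of `R[X]`-modules -/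
noncomputable def πM : E M ⟶ (ModuleCat.restrictScalars (ev R)).obj M :=
  ((ModuleCat.extendRestrictScalarsAdj.{u, u, u} (cR R)).homEquiv M
    ((ModuleCat.restrictScalars (ev R)).obj M)).symm (ιM M)

lemma πM_one_tm (m : M) : (πM M).hom (tm (cR R) M 1 m) = m := by
  have h := ModuleCat.extendRestrictScalarsAdj_homEquiv_apply (f := cR R) (πM M) m
  have h2 : ((ModuleCat.extendRestrictScalarsAdj.{u, u, u} (cR R)).homEquiv M
    ((ModuleCat.restrictScalars (ev R)).obj M)) (πM M) = ιM M := Equiv.apply_symm_apply _ _
  refine h.symm.trans ?_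
  rw [h2]
  rfl

lemma πM_tm (p : R[X]) (m : M) :
    (πM M).hom (tm (cR R) M p m) =
      (show (ModuleCat.restrictScalars (ev R)).obj M from (Polynomial.eval (0 : R) p) • m) := by
  have h1 : tm (cR R) M p m = p • tm (cR R) M 1 m := by
    rw [smul_tm, mul_one]
  rw [h1, map_smul, πM_one_tm]
  rfl

lemma πM_X_smul (x : E M) : (πM M).hom ((Polynomial.X : R[X]) • x) = 0 := by
  rw [map_smul]
  show (ev R) (Polynomial.X : R[X]) • (show M from (πM M).hom x) = (0 : M)
  have : (ev R) (Polynomial.X : R[X]) = 0 := by simp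
  rw [this, zero_smul]

/-- the decomposition `x = X • D x + 1 ⊗ π x` -/
lemma decomp (x : E M) :
    x = (Polynomial.X : R[X]) • Dm M x + tm (cR R) M 1 ((πM M).hom x) := by
  refine ext_induction (cR R) M
    (P := fun x => x = (Polynomial.X : R[X]) • Dm M x + tm (cR R) M 1 ((πM M).hom x)) ?_ ?_ ?_ x
  · rw [map_zero, map_zero, smul_zero, zero_add]
    exact (tm_zero_right M 1).symm
  · intro p m
    rw [Dm_tm, smul_tm, πM_tm]
    have h1 : tm (cR R) M 1 (show M from (Polynomial.eval (0 : R) p) • m) =
        tm (cR R) M (Polynomial.C (Polynomial.eval (0 : R) p)) m := by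
      rw [← tm_C_mul, mul_one]
    refine Eq.trans ?_ (congrArg (fun z => tm (cR R) M (Polynomial.X * Polynomial.divX p) m + z)
      h1.symm)
    rw [← tm_add_left, ← Polynomial.coeff_zero_eq_eval_zero, Polynomial.X_mul_divX_add]
  · intro x y hx hy
    have e1 : (πM M).hom (x + y) = (πM M).hom x + (πM M).hom y := map_add _ _ _
    rw [map_add, smul_add, e1]
    have e2 : tm (cR R) M 1 ((πM M).hom x + (πM M).hom y) =
        tm (cR R) M 1 ((πM M).hom x) + tm (cR R) M 1 ((πM M).hom y) := tm_add_right M 1 _ _
    rw [e2]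
    nth_rewrite 1 [hx]
    nth_rewrite 1 [hy]
    abel

lemma πM_surjective : Function.Surjective (πM M).hom := fun m => ⟨_, πM_one_tm M m⟩

lemma exact_X_π (x : E M) (hx : (πM M).hom x = 0) : ∃ y : E M, (Polynomial.X : R[X]) • y = x := by
  refine ⟨Dm M x, ?_⟩
  have h := decomp M x
  have h0 : tm (cR R) M 1 ((πM M).hom x) = 0 :=
    (congrArg (fun z : M => tm (cR R) M 1 z) hx).trans (tm_zero_right M 1)
  rw [h0, add_zero] at h
  exact h.symm

end Groth.Agent.Helper6.PolyEvalMod
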