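import Mathlib
import Groth.Prelude.Def_DRing4
import Groth.Prelude.Def_DTen4
import Groth.Agent.Helper6.PolyEvalMod
import Groth.Agent.Helper6.LBCCompute
import Groth.Agent.Helper6.LBaseCmp
import Groth.Agent.Helper6.KProjRes

/-!
# A K-projective resolution over `R[X]` of a complex of `R`-modules on which `X` acts by zero
-/

set_option autoImplicit false
universe u
open CategoryTheory CategoryTheory.Limits Polynomial

namespace Groth.Agent.Helper6.PolyEvalCx

open Groth.Agent.Helper6.PolyEvalMod Groth.Agent.Helper6.ExtTenMod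

variable {R : Type u} [CommRing R]

/-- multiplication by `X` on `R[X] ⊗ M` -/
noncomputable def mulXM (M : ModuleCat.{u} R) : E M ⟶ E M := (Polynomial.X : R[X]) • 𝟙 (E M)

lemma mulXM_apply (M : ModuleCat.{u} R) (x : E M) :
    (mulXM M).hom x = (Polynomial.X : R[X]) • x := rfl

/-- the short complex `R[X] ⊗ M → R[X] ⊗ M → M` -/
noncomputable def scM (M : ModuleCat.{u} R) : ShortComplex (ModuleCat.{u} R[X]) :=
  ShortComplex.mk (mulXM M) (πM M) (by
    refine ModuleCat.hom_ext (LinearMap.ext fun x => ?_)
    exact πM_X_smul M x)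

lemma scM_shortExact (M : ModuleCat.{u} R) : (scM M).ShortExact := by
  haveI : Mono (scM M).f := by
    rw [ModuleCat.mono_iff_injective]
    exact X_smul_injective M
  haveI : Epi (scM M).g := by
    rw [ModuleCat.epi_iff_surjective]
    exact πM_surjective M
  refine ShortComplex.ShortExact.mk ?_
  rw [ShortComplex.moduleCat_exact_iff]
  intro x hx
  exact exact_X_π M x hx

/-- evaluation at zero as a natural transformation -/
noncomputable def πNat : ModuleCat.extendScalars.{u, u, u} (cR R) ⟶
    ModuleCat.restrictScalars.{u} (ev R) where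
  app M := πM M
  naturality M N g := by
    apply ModuleCat.ExtendScalars.hom_ext
    intro m
    show (πM N).hom (tm (cR R) N 1 (g.hom m)) = g.hom ((πM M).hom (tm (cR R) M 1 m))
    rw [πM_one_tm, πM_one_tm]

variable (P : DRing.Cx R)

/-- `R[X] ⊗ P` -/
noncomputable abbrev PX : DRing.Cx R[X] := (Groth.Agent.Helper6.LBCCompute.bcCxF (cR R)).obj P

/-- `P` with `X` acting by zero -/
noncomputable abbrev T : DRing.Cx R[X] := (DTen.resCx (ev R)).obj P

/-- multiplication by `X` on `R[X] ⊗ P` -/
noncomputable def mulX : PX P ⟶ PX P := (Polynomial.X : R[X]) • 𝟙 (PX P)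

lemma mulX_f (n : ℤ) : (mulX P).f n = mulXM (P.X n) := rfl

/-- evaluation at zero `R[X] ⊗ P → P` -/
noncomputable def πCx : PX P ⟶ T P :=
  (NatTrans.mapHomologicalComplex πNat (ComplexShape.up ℤ)).app P

lemma πCx_f (n : ℤ) : (πCx P).f n = πM (P.X n) := rfl

/-- the short complex of complexes -/
noncomputable def sc : ShortComplex (DRing.Cx R[X]) :=
  ShortComplex.mk (mulX P) (πCx P) (by
    ext n : 1
    rw [HomologicalComplex.comp_f, mulX_f, πCx_f]
    exact (scM (P.X n)).zero)

lemma sc_shortExact : (sc P).ShortExact := by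
  apply HomologicalComplex.shortExact_of_degreewise_shortExact
  intro n
  exact scM_shortExact (P.X n)

/-- the K-projective resolution of `T P` -/
noncomputable abbrev Qc : DRing.Cx R[X] := CochainComplex.mappingCone (mulX P)

noncomputable def q : Qc P ⟶ T P := CochainComplex.mappingCone.descShortComplex (sc P)

lemma quasiIso_q : QuasiIso (q P) :=
  CochainComplex.mappingCone.quasiIso_descShortComplex (sc_shortExact P)

instance isKProjective_PX [P.IsKProjective] : (PX P).IsKProjective :=
  Groth.Agent.Helper6.LBaseCmp.isKProjective_ext (cR R) P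

instance isKProjective_Qc [P.IsKProjective] : (Qc P).IsKProjective :=
  Groth.Agent.Helper6.KProjRes.isKProjective_mappingCone (mulX P)

end Groth.Agent.Helper6.PolyEvalCx
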