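import Mathlib
import Groth.Prelude.Def_DRing4
import Groth.Prelude.Def_DTen4
import Groth.Agent.Helper6.PolyEvalCx

/-!
# `R ⊗^L_{R[X]} K ≅ K ⊕ K[1]` for `K` an `R`-complex regarded over `R[X]` via `X ↦ 0`
-/

set_option autoImplicit false
universe u
open CategoryTheory CategoryTheory.Limits Polynomial DerivedCategory

attribute [local instance] HasDerivedCategory.standard

namespace Groth.Agent.Helper6.PolyEvalD

open Groth.Agent.Helper6.PolyEvalMod Groth.Agent.Helper6.PolyEvalCx Groth.Agent.Helper6.ExtTenMod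
open Pretriangulated

/-- extension of scalars is semilinear on morphisms -/
lemma extendScalars_map_smul {S B : Type u} [CommRing S] [CommRing B] (f : S →+* B)
    {M N : ModuleCat.{u} S} (s : S) (g : M ⟶ N) :
    (ModuleCat.extendScalars.{u, u, u} f).map (s • g) =
      f s • (ModuleCat.extendScalars.{u, u, u} f).map g := by
  apply ModuleCat.ExtendScalars.hom_ext
  intro m
  show tm f N 1 (s • g.hom m) = f s • tm f N 1 (g.hom m)
  rw [smul_tm, mul_one]
  have h := TensorProduct.smul_tmul (R := S) (R' := S)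
    (M := (ModuleCat.restrictScalars f).obj (ModuleCat.of B B)) (N := N) s (1 : B) (g.hom m)
  refine h.symm.trans ?_
  show tm f N (f s * 1) (g.hom m) = tm f N (f s) (g.hom m)
  rw [mul_one]

section cone

variable {A : Type u} [CommRing A]

/-- the cone of a zero map splits in the derived category -/
lemma nonempty_cone_zero_iso {K L : DRing.Cx A} (f : K ⟶ L) (hf : f = 0) :
    Nonempty (Q.obj (CochainComplex.mappingCone f) ≅
      Q.obj L ⊞ (shiftFunctor (Dual.D A) (1 : ℤ)).obj (Q.obj K)) := by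
  subst hf
  have hT := DerivedCategory.mappingCone_triangle_distinguished (0 : K ⟶ L)
  have hT' := rot_of_distTriang _ hT
  obtain ⟨e, -, -⟩ := exists_iso_binaryBiproduct_of_distTriang _ hT' (by
    show -(shiftFunctor (Dual.D A) (1 : ℤ)).map (Q.map (0 : K ⟶ L)) = 0
    rw [Functor.map_zero, Functor.map_zero, neg_zero])
  exact ⟨e⟩

end cone

variable {R : Type u} [CommRing R]

/-- `R ⊗_{R[X]} (R[X] ⊗_R M) ≅ M`, naturally -/
noncomputable def extExtIso : ModuleCat.extendScalars.{u, u, u} (cR R) ⋙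
    ModuleCat.extendScalars.{u, u, u} (ev R) ≅ 𝟭 (ModuleCat.{u} R) :=
  (ModuleCat.extendScalarsComp.{u} (cR R) (ev R)).symm ≪≫
    eqToIso (congrArg (fun f => ModuleCat.extendScalars.{u, u, u} f) (ev_comp_cR R)) ≪≫
    ModuleCat.extendScalarsId.{u} R

variable (P : DRing.Cx R)

/-- `R ⊗_{R[X]} (R[X] ⊗_R P) ≅ P` -/
noncomputable def extExtCxIso :
    (Groth.Agent.Helper6.LBCCompute.bcCxF (ev R)).obj (PX P) ≅ P :=
  HomologicalComplex.Hom.isoOfComponents (fun i => extExtIso.app (P.X i)) (by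
    intro i j _
    exact ((extExtIso (R := R)).hom.naturality (P.d i j)).symm)

lemma map_mulX_eq_zero : (Groth.Agent.Helper6.LBCCompute.bcCxF (ev R)).map (mulX P) = 0 := by
  ext n : 1
  show (ModuleCat.extendScalars.{u, u, u} (ev R)).map ((mulX P).f n) = 0
  have h := extendScalars_map_smul (ev R) (Polynomial.X : R[X]) (𝟙 (E (P.X n)))
  refine h.trans ?_
  have : (ev R) (Polynomial.X : R[X]) = 0 := by simp
  rw [this, zero_smul]
  rfl

variable [DRing.HasLBaseChange (ev R)]

theorem nonempty_iso (K : Dual.D R)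
    [HasBinaryBiproduct K ((shiftFunctor (Dual.D R) (1 : ℤ)).obj K)] :
    Nonempty ((DRing.LBaseChange (ev R)).obj ((DRing.restrictD (ev R)).obj K) ≅
      K ⊞ (shiftFunctor (Dual.D R) (1 : ℤ)).obj K) := by
  obtain ⟨P, f, hP, -, -, hq, -⟩ :=
    Groth.Agent.Helper6.KProjRes.exists_resolution (DerivedCategory.Q.objPreimage K)
  haveI := hP
  have hiso : IsIso (DerivedCategory.Q.map f) :=
    (DerivedCategory.isIso_Q_map_iff_quasiIso _ _).mpr hq
  let e : DRing.toD P ≅ K :=
    asIso (DerivedCategory.Q.map f) ≪≫ DerivedCategory.Q.objObjPreimageIso K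
  -- step 1: restriction
  let e1 : (DRing.restrictD (ev R)).obj K ≅ DRing.toD (T P) :=
    (DRing.restrictD (ev R)).mapIso e.symm ≪≫ (DTen.resFactors (ev R)).app P
  -- step 2: the resolution
  haveI : QuasiIso (q P) := quasiIso_q P
  haveI : IsIso (DerivedCategory.Q.map (q P)) :=
    (DerivedCategory.isIso_Q_map_iff_quasiIso _ _).mpr inferInstance
  let e2 : DRing.toD (Qc P) ≅ DRing.toD (T P) := asIso (DerivedCategory.Q.map (q P))
  -- step 3: compute the base change
  let e3 : (DRing.LBaseChange (ev R)).obj (DRing.toD (Qc P)) ≅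
      DRing.toD ((Groth.Agent.Helper6.LBCCompute.bcCxF (ev R)).obj (Qc P)) :=
    Groth.Agent.Helper6.LBCCompute.lbcIso (ev R) (Qc P)
  -- step 4: the cone
  let e4 : (Groth.Agent.Helper6.LBCCompute.bcCxF (ev R)).obj (Qc P) ≅
      CochainComplex.mappingCone ((Groth.Agent.Helper6.LBCCompute.bcCxF (ev R)).map (mulX P)) :=
    CochainComplex.mappingCone.mapHomologicalComplexIso (mulX P)
      (ModuleCat.extendScalars.{u, u, u} (ev R))
  obtain ⟨e5⟩ := nonempty_cone_zero_iso
    ((Groth.Agent.Helper6.LBCCompute.bcCxF (ev R)).map (mulX P)) (map_mulX_eq_zero P)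
  -- step 5: identify the summands
  let e6 : DRing.toD ((Groth.Agent.Helper6.LBCCompute.bcCxF (ev R)).obj (PX P)) ≅ K :=
    DerivedCategory.Q.mapIso (extExtCxIso P) ≪≫ e
  exact ⟨(DRing.LBaseChange (ev R)).mapIso (e1 ≪≫ e2.symm) ≪≫ e3 ≪≫
    DerivedCategory.Q.mapIso e4 ≪≫ e5 ≪≫
    biprod.mapIso e6 ((shiftFunctor (Dual.D R) (1 : ℤ)).mapIso e6)⟩

end Groth.Agent.Helper6.PolyEvalD
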