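import Mathlib
import Groth.Prelude.Def_LefPen

set_option autoImplicit false
set_option linter.style.haveILetI false
set_option linter.unusedSectionVars false

/-!
# Polynomial functions on a vector space (`LefPen.IsPolyFun`) and points in general position

Helper API for `LefPen.IsPolyFun`, `LefPen.IsZOpen`, `LefPen.IsGeneric`, and the statement that
`m ≥ C(r+d,d)` general points of `k^{r+1}` impose independent conditions on forms of degree `d`.
-/

universe u

namespace Groth.Agent.Helper6.PolyFun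

open LefPen

section API

variable {k : Type u} [Field k] {V : Type u} [AddCommGroup V] [Module k V]

theorem const (c : k) : IsPolyFun k (fun _ : V => c) := by
  have e : (fun _ : V => c) = algebraMap k (V → k) c := by
    ext v; simp
  unfold IsPolyFun
  rw [e]
  exact Subalgebra.algebraMap_mem _ c

theorem linear (l : Module.Dual k V) : IsPolyFun k (fun v => l v) :=
  Algebra.subset_adjoin ⟨l, rfl⟩

theorem add {f g : V → k} (hf : IsPolyFun k f) (hg : IsPolyFun k g) :
    IsPolyFun k (fun v => f v + g v) := by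
  unfold IsPolyFun at hf hg ⊢
  exact Subalgebra.add_mem _ hf hg

theorem mul {f g : V → k} (hf : IsPolyFun k f) (hg : IsPolyFun k g) :
    IsPolyFun k (fun v => f v * g v) := by
  unfold IsPolyFun at hf hg ⊢
  exact Subalgebra.mul_mem _ hf hg

theorem sum {ι : Type*} (s : Finset ι) (f : ι → V → k) (h : ∀ i ∈ s, IsPolyFun k (f i)) :
    IsPolyFun k (fun v => ∑ i ∈ s, f i v) := by
  have e : (fun v => ∑ i ∈ s, f i v) = ∑ i ∈ s, f i := by
    ext v; rw [Finset.sum_apply]
  unfold IsPolyFun at h ⊢
  rw [e]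
  exact Subalgebra.sum_mem _ h

theorem prod {ι : Type*} (s : Finset ι) (f : ι → V → k) (h : ∀ i ∈ s, IsPolyFun k (f i)) :
    IsPolyFun k (fun v => ∏ i ∈ s, f i v) := by
  have e : (fun v => ∏ i ∈ s, f i v) = ∏ i ∈ s, f i := by
    ext v; rw [Finset.prod_apply]
  unfold IsPolyFun at h ⊢
  rw [e]
  exact Subalgebra.prod_mem _ h

theorem det {n : Type*} [Fintype n] [DecidableEq n] (M : V → Matrix n n k)
    (h : ∀ i j, IsPolyFun k (fun v => M v i j)) : IsPolyFun k (fun v => (M v).det) := by
  simp only [Matrix.det_apply']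
  exact sum _ _ (fun σ _ => mul (const _) (prod _ _ (fun i _ => h _ _)))

theorem pi_linear {ι : Type} [Fintype ι] [DecidableEq ι] (φ : (ι → k) →ₗ[k] k) (g : ι → V → k)
    (hg : ∀ i, IsPolyFun k (g i)) : IsPolyFun k (fun v => φ (fun i => g i v)) := by
  have e : (fun v => φ (fun i => g i v)) =
      fun v => ∑ i, g i v * φ (fun j => if i = j then 1 else 0) := by
    ext v
    rw [LinearMap.pi_apply_eq_sum_univ φ (fun i => g i v)]
    simp [smul_eq_mul]
  rw [e]
  exact sum _ _ (fun i _ => mul (hg i) (const _))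

end API

section Coord

variable {k : Type u} [Field k] {m r : ℕ}

theorem coord (i : Fin m) (j : Fin (r + 1)) :
    IsPolyFun k (fun x : Fin m → (Fin (r + 1) → k) => x i j) :=
  linear ((LinearMap.proj j : (Fin (r + 1) → k) →ₗ[k] k) ∘ₗ
    (LinearMap.proj i : (Fin m → (Fin (r + 1) → k)) →ₗ[k] (Fin (r + 1) → k)))

theorem aeval_coord (i : Fin m) (G : MvPolynomial (Fin (r + 1)) k) :
    IsPolyFun k (fun x : Fin m → (Fin (r + 1) → k) => MvPolynomial.aeval (x i) G) := by
  induction G using MvPolynomial.induction_on with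
  | C a => simpa using const (V := Fin m → (Fin (r + 1) → k)) a
  | add p q hp hq => simpa using add hp hq
  | mul_X p j hp => simpa using mul hp (coord i j)

end Coord

section Main

variable {k : Type u} [Field k] {r d m : ℕ}

/-- Evaluation of forms of degree `d` at `m` points. -/
noncomputable def ev (x : Fin m → (Fin (r + 1) → k)) : LefPen.Form r k d →ₗ[k] (Fin m → k) :=
  LinearMap.pi (fun i => (MvPolynomial.aeval (x i)).toLinearMap ∘ₗ
    (MvPolynomial.homogeneousSubmodule (Fin (r + 1)) k d).subtype)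

theorem ev_apply (x : Fin m → (Fin (r + 1) → k)) (G : LefPen.Form r k d) (i : Fin m) :
    ev x G i = MvPolynomial.aeval (x i) G.1 := rfl

theorem mem_iff (x : Fin m → (Fin (r + 1) → k)) :
    (∀ G : LefPen.Form r k d, (∀ i : Fin m, MvPolynomial.aeval (x i) G.1 = 0) → G = 0) ↔
      LinearMap.ker (ev (d := d) x) = ⊥ := by
  rw [LinearMap.ker_eq_bot']
  constructor
  · intro h G hG
    exact h G (fun i => congrFun hG i)
  · intro h G hG
    exact h G (funext fun i => hG i)

instance finite_form : Module.Finite k (LefPen.Form r k d) :=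
  Module.Finite.iff_fg.mpr (MvPolynomial.homogeneousSubmodule_fg (Fin (r + 1)) k d)

theorem finrank_form : Module.finrank k (LefPen.Form r k d) = (r + d).choose d := by
  classical
  have hset : {e : Fin (r + 1) →₀ ℕ | e.degree = d} =
      ↑((Finset.univ : Finset (Fin (r + 1))).finsuppAntidiag d) := by
    ext e
    simp [Finsupp.degree_eq_sum]
  show Module.finrank k ↥(MvPolynomial.homogeneousSubmodule (Fin (r + 1)) k d) = _
  rw [MvPolynomial.homogeneousSubmodule_eq_finsupp_supported, hset,
    LinearEquiv.finrank_eq (AddMonoidAlgebra.supportedEquivFinsupp _),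
    Module.finrank_finsupp_self, Fintype.card_eq_nat_card, Nat.card_coe_set_eq,
    Set.ncard_coe_finset,
    Finset.card_finsuppAntidiag_nat_eq_choose, Finset.card_univ, Fintype.card_fin]
  congr 1
  omega

theorem isZOpen : LefPen.IsZOpen k {x : Fin m → (Fin (r + 1) → k) |
      ∀ G : LefPen.Form r k d, (∀ i : Fin m, MvPolynomial.aeval (x i) G.1 = 0) → G = 0} := by
  classical
  intro x hx
  have hker : LinearMap.ker (ev (d := d) x) = ⊥ := (mem_iff x).mp hx
  obtain ⟨L, hL⟩ := LinearMap.exists_leftInverse_of_injective (ev (d := d) x) hker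
  let B := Module.finBasis k (LefPen.Form r k d)
  refine ⟨fun w => LinearMap.det (L ∘ₗ ev w), ?_, ?_, ?_⟩
  · have e : (fun w : Fin m → (Fin (r + 1) → k) => LinearMap.det (L ∘ₗ ev (d := d) w)) =
        fun w => (LinearMap.toMatrix B B (L ∘ₗ ev w)).det := by
      ext w; rw [LinearMap.det_toMatrix]
    rw [e]
    refine det _ (fun j' j => ?_)
    have e2 : (fun w : Fin m → (Fin (r + 1) → k) =>
          LinearMap.toMatrix B B (L ∘ₗ ev (d := d) w) j' j) =
        fun w => ((Finsupp.lapply j' : (Fin _ →₀ k) →ₗ[k] k) ∘ₗ B.repr.toLinearMap ∘ₗ L)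
          (fun i => MvPolynomial.aeval (w i) (B j).1) := by
      ext w
      rw [LinearMap.toMatrix_apply]
      rfl
    rw [e2]
    exact pi_linear _ _ (fun i => aeval_coord i _)
  · show LinearMap.det (L ∘ₗ ev x) ≠ 0
    rw [hL, LinearMap.det_id]
    exact one_ne_zero
  · intro w hw
    apply (mem_iff w).mpr
    have hk : LinearMap.ker (L ∘ₗ ev (d := d) w) = ⊥ := by
      by_contra hk
      exact hw (LinearMap.det_eq_zero_iff_ker_ne_bot.mpr hk)
    rw [LinearMap.ker_eq_bot'] at hk ⊢
    intro G hG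
    exact hk G (by rw [LinearMap.comp_apply, hG, map_zero])

theorem exists_sep_aux [Infinite k] : ∀ n : ℕ, ∀ U : Submodule k (LefPen.Form r k d),
    Module.finrank k U = n →
    ∃ s : Finset (Fin (r + 1) → k), s.card ≤ n ∧
      ∀ G ∈ U, (∀ p ∈ s, MvPolynomial.aeval p G.1 = 0) → G = 0 := by
  classical
  intro n
  induction n using Nat.strong_induction_on with
  | _ n ih =>
    intro U hn
    by_cases hU : U = ⊥
    · refine ⟨∅, by simp, fun G hG _ => ?_⟩
      rw [hU] at hG
      exact (Submodule.mem_bot k).mp hG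
    · obtain ⟨G₀, hG₀U, hG₀⟩ := Submodule.exists_mem_ne_zero_of_ne_bot hU
      have hG₀' : G₀.1 ≠ 0 := fun h0 => hG₀ (Subtype.ext h0)
      obtain ⟨p, hp⟩ : ∃ p : Fin (r + 1) → k, MvPolynomial.aeval p G₀.1 ≠ 0 := by
        by_contra hcon
        push Not at hcon
        refine hG₀' (MvPolynomial.funext (fun p => ?_))
        rw [map_zero]
        exact hcon p
      let φ : LefPen.Form r k d →ₗ[k] k := (MvPolynomial.aeval p).toLinearMap ∘ₗ
        (MvPolynomial.homogeneousSubmodule (Fin (r + 1)) k d).subtype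
      have hφ : ∀ G : LefPen.Form r k d, φ G = MvPolynomial.aeval p G.1 := fun _ => rfl
      have hlt : U ⊓ LinearMap.ker φ < U := by
        refine lt_of_le_of_ne inf_le_left (fun heq => ?_)
        have h1 : G₀ ∈ U ⊓ LinearMap.ker φ := heq.symm ▸ hG₀U
        have h2 : φ G₀ = 0 := LinearMap.mem_ker.mp h1.2
        exact hp (by rw [← hφ]; exact h2)
      have hfr := Submodule.finrank_lt_finrank_of_lt hlt
      rw [hn] at hfr
      obtain ⟨s', hs'c, hs'⟩ := ih _ hfr (U ⊓ LinearMap.ker φ) rfl
      refine ⟨insert p s', ?_, fun G hG hv => ?_⟩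
      · have := Finset.card_insert_le p s'
        omega
      · refine hs' G ⟨hG, ?_⟩ (fun q hq => hv q (Finset.mem_insert_of_mem hq))
        exact LinearMap.mem_ker.mpr ((hφ G).trans (hv p (Finset.mem_insert_self _ _)))

theorem exists_mem [Infinite k] (hm : Nat.choose (r + d) d ≤ m) :
    ∃ x : Fin m → (Fin (r + 1) → k), ∀ G : LefPen.Form r k d,
      (∀ i : Fin m, MvPolynomial.aeval (x i) G.1 = 0) → G = 0 := by
  classical
  obtain ⟨s, hsc, hs⟩ := exists_sep_aux (k := k) (r := r) (d := d) _
    (⊤ : Submodule k (LefPen.Form r k d)) rfl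
  rw [finrank_top, finrank_form] at hsc
  have hsm : s.card ≤ m := hsc.trans hm
  refine ⟨fun i => if h : i.1 < s.card then (s.equivFin.symm ⟨i.1, h⟩).1 else 0, fun G hG => ?_⟩
  refine hs G Submodule.mem_top (fun p hp => ?_)
  have := hG ⟨(s.equivFin ⟨p, hp⟩).1, lt_of_lt_of_le (s.equivFin ⟨p, hp⟩).2 hsm⟩
  simpa using this

theorem main [Infinite k] (hm : Nat.choose (r + d) d ≤ m) :
    LefPen.IsZOpen k {x : Fin m → (Fin (r + 1) → k) |
      ∀ G : LefPen.Form r k d, (∀ i : Fin m, MvPolynomial.aeval (x i) G.1 = 0) → G = 0} ∧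
    LefPen.IsGeneric k {x : Fin m → (Fin (r + 1) → k) |
      ∀ G : LefPen.Form r k d, (∀ i : Fin m, MvPolynomial.aeval (x i) G.1 = 0) → G = 0} := by
  have hZ := isZOpen (k := k) (r := r) (d := d) (m := m)
  refine ⟨hZ, ?_⟩
  obtain ⟨x₀, hx₀⟩ := exists_mem (k := k) (r := r) (d := d) (m := m) hm
  obtain ⟨f, hf, hfx, hfS⟩ := hZ x₀ hx₀
  exact ⟨f, hf, ⟨x₀, hfx⟩, hfS⟩

end Main

end Groth.Agent.Helper6.PolyFun
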