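import Mathlib

/-!
# The polynomial model of a curve singularity given by a subalgebra of `∏ k[[x]]`
-/

set_option autoImplicit false
set_option linter.style.haveILetI false
set_option linter.unusedSectionVars false
set_option linter.unusedVariables false

namespace Groth.Agent.Helper6.PolyModel

open Polynomial

universe u

theorem order_coe_ge {k : Type u} [Field k] (p : Polynomial k) (d : ℕ) (h : X ^ d ∣ p) :
    (d : ℕ∞) ≤ (p : PowerSeries k).order := by
  apply PowerSeries.nat_le_order
  intro i hi
  rw [Polynomial.coeff_coe]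
  exact Polynomial.X_pow_dvd_iff.1 h i hi

theorem main (k : Type u) [Field k] (s : ℕ)
    (R : Subalgebra k (Fin s → PowerSeries k))
    (hloc : ∀ f ∈ R, ∀ i j : Fin s, PowerSeries.constantCoeff (f i) = PowerSeries.constantCoeff (f j))
    (c : Fin s → ℕ)
    (hc : ∀ f : Fin s → PowerSeries k,
      (∀ g : Fin s → PowerSeries k, g * f ∈ R) ↔ ∀ i, ((c i : ℕ) : ℕ∞) ≤ (f i).order)
    (A : Subalgebra k (Fin s → Polynomial k))
    (hA : ∀ g : Fin s → Polynomial k, g ∈ A ↔ (fun i => ((g i : Polynomial k) : PowerSeries k)) ∈ R) :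
    Algebra.FiniteType k ↥A ∧
    (∀ e ∈ A, e * e = e → e = 0 ∨ e = 1) ∧
    Module.Finite ↥A (Fin s → Polynomial k) ∧
    (∃ N : ℕ, ∀ g : Fin N → (Fin s → Polynomial k),
      (∀ n, g n ∈ A ∧ ∀ i, (g n i).coeff 0 = 0) → ∀ p : Fin s → Polynomial k, p * ∏ n, g n ∈ A) ∧
    (∀ f ∈ R, ∀ N : ℕ, ∃ g ∈ A, ∀ i : Fin s, (N : ℕ∞) ≤ (f i - ((g i : Polynomial k) : PowerSeries k)).order) ∧
    (∀ N : ℕ, ∃ M : ℕ, ∀ g : ↥A, (∀ i : Fin s, Polynomial.X ^ M ∣ (g : Fin s → Polynomial k) i) →
      g ∈ (Ideal.span {h : ↥A | ∀ i : Fin s, ((h : Fin s → Polynomial k) i).coeff 0 = 0}) ^ N) := by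
  obtain ⟨d, hd⟩ : ∃ d, d = Finset.univ.sup c + 1 := ⟨_, rfl⟩
  have hd1 : 1 ≤ d := by omega
  have hcd : ∀ i, c i ≤ d := fun i => by
    have := Finset.le_sup (f := c) (Finset.mem_univ i); omega
  have cond : ∀ f : Fin s → PowerSeries k, (∀ i, (d : ℕ∞) ≤ (f i).order) → f ∈ R := by
    intro f hf
    have := (hc f).2 (fun i => le_trans (by exact_mod_cast hcd i) (hf i)) 1
    rwa [one_mul] at this
  have condP : ∀ p : Fin s → Polynomial k, (∀ i, X ^ d ∣ p i) → p ∈ A := by
    intro p hp
    rw [hA]
    exact cond _ (fun i => order_coe_ge (p i) d (hp i))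
  have hu : (fun _ : Fin s => (X : Polynomial k) ^ d) ∈ A := condP _ (fun i => dvd_rfl)
  have hfinM : Module.Finite ↥A (Fin s → Polynomial k) := by
    obtain ⟨gen, hgen⟩ : ∃ gen : Fin s × Fin d → (Fin s → Polynomial k),
        gen = fun ij : Fin s × Fin d => Pi.single ij.1 (X ^ (ij.2 : ℕ)) := ⟨_, rfl⟩
    have hspan : Submodule.span ↥A (Set.range gen) = ⊤ := by
      rw [eq_top_iff]
      intro p _
      have hp : p = ∑ i, Pi.single i (p i) := (Finset.univ_sum_single p).symm
      rw [hp]
      refine Submodule.sum_mem _ (fun i _ => ?_)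
      have key : ∀ q : Polynomial k,
          (Pi.single i q : Fin s → Polynomial k) ∈ Submodule.span ↥A (Set.range gen) := by
        intro q
        induction q using Polynomial.induction_on' with
        | add q₁ q₂ h₁ h₂ => rw [Pi.single_add]; exact Submodule.add_mem _ h₁ h₂
        | monomial n a =>
          have hmem : (algebraMap k (Fin s → Polynomial k) a *
              (fun _ : Fin s => (X : Polynomial k) ^ d) ^ (n / d)) ∈ A :=
            A.mul_mem (A.algebraMap_mem a) (A.pow_mem hu _)
          have heq : (Pi.single i (Polynomial.monomial n a) : Fin s → Polynomial k) =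
              (⟨_, hmem⟩ : ↥A) • gen (i, ⟨n % d, Nat.mod_lt _ hd1⟩) := by
            rw [Subalgebra.smul_def, hgen]
            funext j
            by_cases hj : j = i
            · subst hj
              simp only [Pi.single_eq_same, smul_eq_mul, Pi.mul_apply, Pi.pow_apply,
                Pi.algebraMap_apply, Polynomial.algebraMap_apply, Algebra.algebraMap_self,
                RingHom.id_apply]
              rw [← Polynomial.C_mul_X_pow_eq_monomial]
              conv_lhs => rw [← Nat.div_add_mod n d, pow_add, pow_mul]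
              ring
            · simp [Pi.single_eq_of_ne hj]
          rw [heq]
          exact Submodule.smul_mem _ _ (Submodule.subset_span ⟨_, rfl⟩)
      exact key (p i)
    rw [Module.finite_def, ← hspan]
    exact Submodule.fg_span (Set.finite_range gen)
  have hFT : Algebra.FiniteType k ↥A := by
    constructor
    refine fg_of_fg_of_fg k ↥A (Fin s → Polynomial k) ?_ ?_ Subtype.val_injective
    · exact (inferInstance : Algebra.FiniteType k (Fin s → Polynomial k)).out
    · exact Module.finite_def.1 hfinM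
  refine ⟨hFT, ?_, hfinM, ?_, ?_, ?_⟩
  · intro e he hee
    have hcomp : ∀ i, e i = 0 ∨ e i = 1 := by
      intro i
      have h := congrFun hee i
      simp only [Pi.mul_apply] at h
      have h' : e i * (e i - 1) = 0 := by rw [mul_sub, mul_one, h, sub_self]
      rcases mul_eq_zero.1 h' with h0 | h1
      · exact Or.inl h0
      · exact Or.inr (sub_eq_zero.1 h1)
    have hconst : ∀ i j, (e i).coeff 0 = (e j).coeff 0 := by
      intro i j
      have := hloc _ ((hA e).1 he) i j
      rwa [Polynomial.constantCoeff_coe, Polynomial.constantCoeff_coe] at this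
    by_cases h0 : ∀ i, e i = 0
    · left; funext i; exact h0 i
    · right
      push Not at h0
      obtain ⟨i₀, hi₀⟩ := h0
      have h1 : e i₀ = 1 := (hcomp i₀).resolve_left hi₀
      funext j
      rcases hcomp j with hj | hj
      · exfalso
        have := hconst j i₀
        rw [hj, h1] at this
        simp at this
      · exact hj
  · refine ⟨d, fun g hg p => condP _ (fun i => ?_)⟩
    rw [Pi.mul_apply, Finset.prod_apply]
    apply dvd_mul_of_dvd_right
    have : (X : Polynomial k) ^ d = ∏ _n : Fin d, (X : Polynomial k) := by simp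
    rw [this]
    exact Finset.prod_dvd_prod_of_dvd _ _ (fun n _ => Polynomial.X_dvd_iff.2 ((hg n).2 i))
  · intro f hf N
    obtain ⟨n, hn⟩ : ∃ n, n = max N d := ⟨_, rfl⟩
    have hNn : N ≤ n := hn ▸ le_max_left N d
    have hdn : d ≤ n := hn ▸ le_max_right N d
    have hord : ∀ i, (n : ℕ∞) ≤
        (f i - ((PowerSeries.trunc n (f i) : Polynomial k) : PowerSeries k)).order := by
      intro i
      apply PowerSeries.nat_le_order
      intro m hm
      rw [map_sub, PowerSeries.coeff_coe_trunc_of_lt hm, sub_self]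
    have hδ : (fun i => f i - ((PowerSeries.trunc n (f i) : Polynomial k) : PowerSeries k)) ∈ R :=
      cond _ (fun i => le_trans (by exact_mod_cast hdn) (hord i))
    refine ⟨fun i => PowerSeries.trunc n (f i), ?_,
      fun i => le_trans (by exact_mod_cast hNn) (hord i)⟩
    rw [hA]
    have : (fun i => ((PowerSeries.trunc n (f i) : Polynomial k) : PowerSeries k)) =
        f - (fun i => f i - ((PowerSeries.trunc n (f i) : Polynomial k) : PowerSeries k)) := by
      funext i; simp
    rw [this]
    exact R.sub_mem hf hδ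
  · intro N
    rcases N with _ | N
    · exact ⟨0, fun g _ => by rw [pow_zero, Ideal.one_eq_top]; trivial⟩
    refine ⟨(N + 1) * d, fun g hg => ?_⟩
    obtain ⟨m0, hm0⟩ : ∃ m0 : Ideal ↥A, m0 = Ideal.span
        {h : ↥A | ∀ i : Fin s, ((h : Fin s → Polynomial k) i).coeff 0 = 0} := ⟨_, rfl⟩
    rw [← hm0]
    choose h hh using hg
    have hXd0 : ((X : Polynomial k) ^ d).coeff 0 = 0 := by
      rw [Polynomial.coeff_X_pow, if_neg (by omega)]
    have hw : ∀ i, (Pi.single i (X ^ d) : Fin s → Polynomial k) ∈ A := fun i =>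
      condP _ (fun j => by
        by_cases hj : j = i
        · subst hj; rw [Pi.single_eq_same]
        · rw [Pi.single_eq_of_ne hj]; exact dvd_zero _)
    have hv : ∀ i, (Pi.single i (X ^ d * h i) : Fin s → Polynomial k) ∈ A := fun i =>
      condP _ (fun j => by
        by_cases hj : j = i
        · subst hj; rw [Pi.single_eq_same]; exact dvd_mul_right _ _
        · rw [Pi.single_eq_of_ne hj]; exact dvd_zero _)
    have hwm : ∀ i, (⟨_, hw i⟩ : ↥A) ∈ m0 := fun i => by
      rw [hm0]; apply Ideal.subset_span
      intro j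
      show ((Pi.single i (X ^ d) : Fin s → Polynomial k) j).coeff 0 = 0
      by_cases hj : j = i
      · subst hj; rw [Pi.single_eq_same, hXd0]
      · rw [Pi.single_eq_of_ne hj]; simp
    have hvm : ∀ i, (⟨_, hv i⟩ : ↥A) ∈ m0 := fun i => by
      rw [hm0]; apply Ideal.subset_span
      intro j
      show ((Pi.single i (X ^ d * h i) : Fin s → Polynomial k) j).coeff 0 = 0
      by_cases hj : j = i
      · subst hj; rw [Pi.single_eq_same, Polynomial.mul_coeff_zero, hXd0, zero_mul]
      · rw [Pi.single_eq_of_ne hj]; simp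
    have hsum : g = ∑ i, (⟨_, hw i⟩ : ↥A) ^ N * ⟨_, hv i⟩ := by
      apply Subtype.ext
      rw [AddSubmonoidClass.coe_finsetSum]
      funext j
      rw [Finset.sum_apply, Finset.sum_eq_single j]
      · show (g : Fin s → Polynomial k) j =
          (((Pi.single j (X ^ d) : Fin s → Polynomial k) ^ N *
            (Pi.single j (X ^ d * h j) : Fin s → Polynomial k) : Fin s → Polynomial k)) j
        rw [Pi.mul_apply, Pi.pow_apply, Pi.single_eq_same, Pi.single_eq_same, hh j]
        ring
      · intro i _ hij
        show (((Pi.single i (X ^ d) : Fin s → Polynomial k) ^ N *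
            (Pi.single i (X ^ d * h i) : Fin s → Polynomial k) : Fin s → Polynomial k)) j = 0
        rw [Pi.mul_apply, Pi.single_eq_of_ne (Ne.symm hij) (X ^ d * h i), mul_zero]
      · intro h'; exact absurd (Finset.mem_univ j) h'
    rw [hsum]
    refine Ideal.sum_mem _ (fun i _ => ?_)
    rw [pow_succ]
    exact Ideal.mul_mem_mul (Ideal.pow_mem_pow (hwm i) N) (hvm i)

end Groth.Agent.Helper6.PolyModel
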