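import Mathlib

set_option autoImplicit false

namespace Groth.Agent.Helper6.PolyODE

open Polynomial

variable {A : Type*} [CommRing A]

theorem isUnit_natCast_of_lt {p : ℕ} (hu : IsUnit (((p - 1).factorial : ℕ) : A)) {n : ℕ}
    (hn0 : 0 < n) (hn : n < p) : IsUnit ((n : ℕ) : A) := by
  have hd : n ∣ (p - 1).factorial := Nat.dvd_factorial hn0 (by omega)
  obtain ⟨m, hm⟩ := hd
  rw [hm, Nat.cast_mul] at hu
  exact isUnit_of_mul_isUnit_left hu

/-- coefficientwise form of the ODE `F * C c = F' * (1 + μ X)`. -/
theorem ode_coeff {μ c : A} {F : A[X]}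
    (h : F * Polynomial.C c = Polynomial.derivative F * (1 + Polynomial.C μ * Polynomial.X)) (n : ℕ) :
    F.coeff n * c = F.coeff (n + 1) * ((n : A) + 1) + μ * (F.coeff n * (n : A)) := by
  have h1 := congrArg (fun q => Polynomial.coeff q n) h
  simp only [Polynomial.coeff_mul_C] at h1
  rw [h1, mul_add, mul_one, Polynomial.coeff_add, Polynomial.coeff_derivative, ← mul_assoc,
    mul_comm (Polynomial.derivative F) (Polynomial.C μ), mul_assoc, Polynomial.coeff_C_mul]
  congr 1
  cases n with
  | zero => simp
  | succ n =>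
    rw [Polynomial.coeff_mul_X, Polynomial.coeff_derivative]
    push_cast
    ring

open MvPolynomial in
theorem coeff_X_mul_pderiv {σ : Type*} (i : σ) (P : MvPolynomial σ A) (m : σ →₀ ℕ) :
    MvPolynomial.coeff m (MvPolynomial.X i * MvPolynomial.pderiv i P) =
      MvPolynomial.coeff m P * (m i : A) := by
  classical
  rw [MvPolynomial.coeff_X_mul']
  by_cases hi : i ∈ m.support
  · rw [if_pos hi, MvPolynomial.coeff_pderiv]
    have hmi : m i ≠ 0 := Finsupp.mem_support_iff.mp hi
    have e : m - Finsupp.single i 1 + Finsupp.single i 1 = m := by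
      ext j
      by_cases hj : j = i
      · subst hj
        simp only [Finsupp.coe_add, Finsupp.coe_tsub, Pi.add_apply, Pi.sub_apply,
          Finsupp.single_eq_same]
        omega
      · simp [Finsupp.single_eq_of_ne hj]
    rw [e]
    congr 1
    have : ((m - Finsupp.single i 1 : σ →₀ ℕ) i : ℕ) + 1 = m i := by
      simp only [Finsupp.coe_tsub, Pi.sub_apply, Finsupp.single_eq_same]
      omega
    rw [← this]; push_cast; ring
  · rw [if_neg hi]
    have : m i = 0 := by simpa using hi
    rw [this]; simp

section two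

open MvPolynomial

local notation "S" => MvPolynomial (Fin 2) A

/-- evaluation at `y = 0`. -/
noncomputable def ev0 : MvPolynomial (Fin 2) A →ₐ[A] MvPolynomial (Fin 2) A :=
  MvPolynomial.aeval ![MvPolynomial.X 0, 0]

theorem exists_eq_ev0_add (P : MvPolynomial (Fin 2) A) :
    ∃ H : MvPolynomial (Fin 2) A, P = ev0 P + MvPolynomial.X 1 * H := by
  induction P using MvPolynomial.induction_on with
  | C a => exact ⟨0, by simp [ev0]⟩
  | add p q hp hq =>
    obtain ⟨H1, h1⟩ := hp
    obtain ⟨H2, h2⟩ := hq
    refine ⟨H1 + H2, ?_⟩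
    rw [map_add]
    nth_rewrite 1 [h1]
    nth_rewrite 1 [h2]
    ring
  | mul_X p i hp =>
    obtain ⟨H, h⟩ := hp
    fin_cases i
    · refine ⟨H * MvPolynomial.X 0, ?_⟩
      have : ev0 (MvPolynomial.X (0 : Fin 2) : MvPolynomial (Fin 2) A) = MvPolynomial.X 0 := by
        simp [ev0]
      simp only [Fin.zero_eta, map_mul, this]
      nth_rewrite 1 [h]
      ring
    · refine ⟨p, ?_⟩
      have : ev0 (MvPolynomial.X (1 : Fin 2) : MvPolynomial (Fin 2) A) = 0 := by
        simp [ev0]
      simp only [Fin.mk_one, map_mul, this, mul_zero, zero_add]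
      ring

theorem coeff_eq_zero_of_ev0 {G : MvPolynomial (Fin 2) A} (hG : ev0 G = 0) (m : Fin 2 →₀ ℕ)
    (hm : m 1 = 0) : MvPolynomial.coeff m G = 0 := by
  classical
  obtain ⟨H, h⟩ := exists_eq_ev0_add G
  rw [hG, zero_add] at h
  rw [h, MvPolynomial.coeff_X_mul', if_neg]
  simpa using hm

/-- Uniqueness for the two-variable ODE. -/
theorem eq_zero_of_ode {p : ℕ} (hu : IsUnit (((p - 1).factorial : ℕ) : A)) (μ c : A)
    (G : MvPolynomial (Fin 2) A) (hdeg : MvPolynomial.degreeOf 1 G < p) (h0 : ev0 G = 0)
    (hode : (1 + MvPolynomial.C μ * MvPolynomial.X 1) * MvPolynomial.pderiv 1 G =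
      MvPolynomial.C c * G) : G = 0 := by
  classical
  have hp : 0 < p := by omega
  have hrec : ∀ m : Fin 2 →₀ ℕ, MvPolynomial.coeff (m + Finsupp.single 1 1) G * ((m 1 : A) + 1)
      + μ * (MvPolynomial.coeff m G * (m 1 : A)) = c * MvPolynomial.coeff m G := by
    intro m
    have h1 := congrArg (MvPolynomial.coeff m) hode
    rw [MvPolynomial.coeff_C_mul, add_mul, one_mul, mul_assoc, MvPolynomial.coeff_add,
      MvPolynomial.coeff_C_mul, coeff_X_mul_pderiv, MvPolynomial.coeff_pderiv] at h1
    exact h1
  have key : ∀ j : ℕ, ∀ m : Fin 2 →₀ ℕ, m 1 = j → MvPolynomial.coeff m G = 0 := by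
    intro j
    induction j with
    | zero => intro m hm; exact coeff_eq_zero_of_ev0 h0 m hm
    | succ j ih =>
      intro m hm
      by_cases hjp : j + 1 < p
      · set m' : Fin 2 →₀ ℕ := m - Finsupp.single 1 1 with hm'
        have e : m' + Finsupp.single 1 1 = m := by
          ext i
          by_cases hi : i = 1
          · subst hi
            simp only [hm', Finsupp.coe_add, Finsupp.coe_tsub, Pi.add_apply, Pi.sub_apply,
              Finsupp.single_eq_same]
            omega
          · simp [hm', Finsupp.single_eq_of_ne hi]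
        have hm'1 : m' 1 = j := by
          simp only [hm', Finsupp.coe_tsub, Pi.sub_apply, Finsupp.single_eq_same]
          omega
        have h1 := hrec m'
        rw [e, ih m' hm'1, hm'1] at h1
        simp only [zero_mul, mul_zero, add_zero] at h1
        have hunit : IsUnit (((j + 1 : ℕ) : ℕ) : A) := isUnit_natCast_of_lt hu (by omega) hjp
        have : MvPolynomial.coeff m G * (((j + 1 : ℕ) : ℕ) : A) = 0 := by
          push_cast; exact h1
        exact (hunit.mul_left_eq_zero).mp this
      · by_contra hne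
        have hmem : m ∈ G.support := MvPolynomial.mem_support_iff.mpr hne
        have := (MvPolynomial.degreeOf_lt_iff hp).mp hdeg m hmem
        omega
  ext m
  rw [MvPolynomial.coeff_zero]
  exact key (m 1) m rfl

theorem degreeOf_aeval_le (i : Fin 2) (q : MvPolynomial (Fin 2) A) (F : A[X]) :
    MvPolynomial.degreeOf i (Polynomial.aeval q F) ≤ F.natDegree * MvPolynomial.degreeOf i q := by
  rw [Polynomial.aeval_eq_sum_range]
  refine (MvPolynomial.degreeOf_sum_le i _ _).trans ?_
  apply Finset.sup_le
  intro k hk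
  rw [MvPolynomial.smul_eq_C_mul]
  refine (MvPolynomial.degreeOf_C_mul_le _ i _).trans ?_
  refine (MvPolynomial.degreeOf_pow_le i q k).trans ?_
  have : k ≤ F.natDegree := by
    have := Finset.mem_range.mp hk; omega
  exact Nat.mul_le_mul_right _ this

end two

section main

open MvPolynomial

variable (μ : A) (F : A[X])

/-- The defect polynomial `G = F(x)F(y) - a₀² - F(x+y+μxy) + a₀`. -/
noncomputable def zz : MvPolynomial (Fin 2) A :=
  MvPolynomial.X 0 + MvPolynomial.X 1 + MvPolynomial.C μ * MvPolynomial.X 0 * MvPolynomial.X 1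

noncomputable def GG : MvPolynomial (Fin 2) A :=
  Polynomial.aeval (MvPolynomial.X 0 : MvPolynomial (Fin 2) A) F *
      Polynomial.aeval (MvPolynomial.X 1 : MvPolynomial (Fin 2) A) F - MvPolynomial.C (F.coeff 0 ^ 2)
    - Polynomial.aeval (zz μ) F + MvPolynomial.C (F.coeff 0)

theorem pderiv_GG :
    MvPolynomial.pderiv 1 (GG μ F) =
      Polynomial.aeval (MvPolynomial.X 0 : MvPolynomial (Fin 2) A) F *
        Polynomial.aeval (MvPolynomial.X 1 : MvPolynomial (Fin 2) A) (Polynomial.derivative F)
      - Polynomial.aeval (zz μ) (Polynomial.derivative F) *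
          (1 + MvPolynomial.C μ * MvPolynomial.X 0) := by
  have hx : MvPolynomial.pderiv (1 : Fin 2) (MvPolynomial.X 0 : MvPolynomial (Fin 2) A) = 0 :=
    MvPolynomial.pderiv_X_of_ne (by decide)
  have hy : MvPolynomial.pderiv (1 : Fin 2) (MvPolynomial.X 1 : MvPolynomial (Fin 2) A) = 1 :=
    MvPolynomial.pderiv_X_self 1
  have hz : MvPolynomial.pderiv (1 : Fin 2) (zz μ) = 1 + MvPolynomial.C μ * MvPolynomial.X 0 := by
    unfold zz
    rw [map_add, map_add, hx, hy, Derivation.leibniz, hy, Derivation.leibniz, hx,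
      MvPolynomial.pderiv_C]
    simp only [smul_eq_mul]
    ring
  unfold GG
  rw [map_add, map_sub, map_sub, MvPolynomial.pderiv_C, MvPolynomial.pderiv_C, Derivation.leibniz,
    Derivation.map_aeval, Derivation.map_aeval, Derivation.map_aeval, hx, hy, hz]
  simp only [smul_eq_mul]
  ring

theorem one_add_mul_one_add :
    (1 + MvPolynomial.C μ * MvPolynomial.X 0) * (1 + MvPolynomial.C μ * MvPolynomial.X 1) =
      (1 + MvPolynomial.C μ * zz μ : MvPolynomial (Fin 2) A) := by
  unfold zz; ring

theorem aeval_ode (q : MvPolynomial (Fin 2) A) {c : A}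
    (h : F * Polynomial.C c = Polynomial.derivative F * (1 + Polynomial.C μ * Polynomial.X)) :
    Polynomial.aeval q (Polynomial.derivative F) * (1 + MvPolynomial.C μ * q) =
      Polynomial.aeval q F * MvPolynomial.C c := by
  have := congrArg (Polynomial.aeval q) h
  simp only [map_mul, map_add, map_one, Polynomial.aeval_C, Polynomial.aeval_X,
    MvPolynomial.algebraMap_eq] at this
  exact this.symm

theorem ev0_GG : ev0 (GG μ F) =
    (MvPolynomial.C (F.coeff 0) - 1) *
      (Polynomial.aeval (MvPolynomial.X 0 : MvPolynomial (Fin 2) A) F - MvPolynomial.C (F.coeff 0)) := by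
  have hx : ev0 (MvPolynomial.X (0 : Fin 2) : MvPolynomial (Fin 2) A) = MvPolynomial.X 0 := by
    simp [ev0]
  have hy : ev0 (MvPolynomial.X (1 : Fin 2) : MvPolynomial (Fin 2) A) = 0 := by
    simp [ev0]
  have hz : ev0 (zz μ) = MvPolynomial.X 0 := by
    unfold zz
    rw [map_add, map_add, map_mul, map_mul, hx, hy]
    simp
  have hC : ∀ a : A, ev0 (MvPolynomial.C a : MvPolynomial (Fin 2) A) = MvPolynomial.C a := by
    intro a; simp [ev0]
  unfold GG
  rw [map_add, map_sub, map_sub, map_mul, ← Polynomial.aeval_algHom_apply,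
    ← Polynomial.aeval_algHom_apply, ← Polynomial.aeval_algHom_apply, hx, hy, hz, hC, hC,
    ← Polynomial.coeff_zero_eq_aeval_zero', MvPolynomial.algebraMap_eq, map_pow]
  ring

theorem degreeOf_GG_le [Nontrivial A] : MvPolynomial.degreeOf 1 (GG μ F) ≤ F.natDegree := by
  have hx : MvPolynomial.degreeOf (1 : Fin 2) (MvPolynomial.X 0 : MvPolynomial (Fin 2) A) = 0 :=
    MvPolynomial.degreeOf_X_of_ne (by decide)
  have hy : MvPolynomial.degreeOf (1 : Fin 2) (MvPolynomial.X 1 : MvPolynomial (Fin 2) A) = 1 :=
    MvPolynomial.degreeOf_X_self 1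
  have hz : MvPolynomial.degreeOf (1 : Fin 2) (zz μ) ≤ 1 := by
    unfold zz
    refine (MvPolynomial.degreeOf_add_le _ _ _).trans (max_le ?_ ?_)
    · refine (MvPolynomial.degreeOf_add_le _ _ _).trans (max_le ?_ ?_)
      · rw [hx]; omega
      · rw [hy]
    · refine (MvPolynomial.degreeOf_mul_le _ _ _).trans ?_
      rw [hy]
      have := MvPolynomial.degreeOf_mul_le (1 : Fin 2) (MvPolynomial.C μ)
        (MvPolynomial.X 0 : MvPolynomial (Fin 2) A)
      rw [MvPolynomial.degreeOf_C, hx] at this
      omega
  have h1 := degreeOf_aeval_le (1 : Fin 2) (MvPolynomial.X 0 : MvPolynomial (Fin 2) A) F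
  have h2 := degreeOf_aeval_le (1 : Fin 2) (MvPolynomial.X 1 : MvPolynomial (Fin 2) A) F
  have h3 := degreeOf_aeval_le (1 : Fin 2) (zz μ) F
  rw [hx] at h1
  rw [hy] at h2
  have h3' : MvPolynomial.degreeOf 1 (Polynomial.aeval (zz μ) F) ≤ F.natDegree :=
    h3.trans (by nlinarith)
  unfold GG
  refine (MvPolynomial.degreeOf_add_le _ _ _).trans (max_le ?_ ?_)
  · refine (MvPolynomial.degreeOf_sub_le _ _ _).trans (max_le ?_ h3')
    refine (MvPolynomial.degreeOf_sub_le _ _ _).trans (max_le ?_ ?_)
    · refine (MvPolynomial.degreeOf_mul_le _ _ _).trans ?_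
      omega
    · rw [MvPolynomial.degreeOf_C]; omega
  · rw [MvPolynomial.degreeOf_C]; omega

/-- evaluation `x ↦ X, y ↦ 0` to one-variable polynomials. -/
noncomputable def ev1 : MvPolynomial (Fin 2) A →ₐ[A] A[X] :=
  MvPolynomial.aeval ![Polynomial.X, 0]

theorem ev1_pderiv_GG :
    ev1 (MvPolynomial.pderiv 1 (GG μ F)) =
      F * Polynomial.C (F.coeff 1) -
        Polynomial.derivative F * (1 + Polynomial.C μ * Polynomial.X) := by
  have hx : ev1 (MvPolynomial.X (0 : Fin 2) : MvPolynomial (Fin 2) A) = Polynomial.X := by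
    simp [ev1]
  have hy : ev1 (MvPolynomial.X (1 : Fin 2) : MvPolynomial (Fin 2) A) = 0 := by
    simp [ev1]
  have hz : ev1 (zz μ) = Polynomial.X := by
    unfold zz
    rw [map_add, map_add, map_mul, map_mul, hx, hy]
    simp
  have hC : ∀ a : A, ev1 (MvPolynomial.C a : MvPolynomial (Fin 2) A) = Polynomial.C a := by
    intro a; simp [ev1]
  rw [pderiv_GG, map_sub, map_mul, map_mul, map_add, map_one, map_mul, hC, hx,
    ← Polynomial.aeval_algHom_apply, ← Polynomial.aeval_algHom_apply,
    ← Polynomial.aeval_algHom_apply, hx, hy, hz, Polynomial.aeval_X_left_apply,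
    Polynomial.aeval_X_left_apply, ← Polynomial.coeff_zero_eq_aeval_zero',
    Polynomial.coeff_derivative]
  simp

theorem main (p : ℕ) (hu : IsUnit (((p - 1).factorial : ℕ) : A)) (hF : F.natDegree < p) :
    (Polynomial.aeval (MvPolynomial.X 0 : MvPolynomial (Fin 2) A) F *
          Polynomial.aeval (MvPolynomial.X 1 : MvPolynomial (Fin 2) A) F -
            MvPolynomial.C (F.coeff 0 ^ 2) =
        Polynomial.aeval (MvPolynomial.X 0 + MvPolynomial.X 1 +
            MvPolynomial.C μ * MvPolynomial.X 0 * MvPolynomial.X 1 : MvPolynomial (Fin 2) A) F -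
          MvPolynomial.C (F.coeff 0)) ↔
      F * Polynomial.C (F.coeff 1) =
        Polynomial.derivative F * (1 + Polynomial.C μ * Polynomial.X) := by
  have hG : (Polynomial.aeval (MvPolynomial.X 0 : MvPolynomial (Fin 2) A) F *
          Polynomial.aeval (MvPolynomial.X 1 : MvPolynomial (Fin 2) A) F -
            MvPolynomial.C (F.coeff 0 ^ 2) =
        Polynomial.aeval (MvPolynomial.X 0 + MvPolynomial.X 1 +
            MvPolynomial.C μ * MvPolynomial.X 0 * MvPolynomial.X 1 : MvPolynomial (Fin 2) A) F -
          MvPolynomial.C (F.coeff 0)) ↔ GG μ F = 0 := by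
    unfold GG zz
    constructor
    · intro h; rw [h]; ring
    · intro h
      linear_combination h
  rw [hG]
  constructor
  · intro h
    have h1 := ev1_pderiv_GG μ F
    rw [h, map_zero, map_zero] at h1
    exact sub_eq_zero.mp h1.symm
  · intro hode
    rcases subsingleton_or_nontrivial A with hA | hA
    · exact Subsingleton.elim _ _
    set c := F.coeff 1 with hc
    set a0 := F.coeff 0 with ha0
    -- Step 1
    have h1 : a0 * c = c := by
      have := ode_coeff hode 0
      simp only [Nat.cast_zero, zero_add, mul_one, mul_zero, add_zero] at this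
      exact this
    -- Step 2
    have h2 : ∀ n : ℕ, (a0 - 1) * F.coeff (n + 1) = 0 := by
      intro n
      induction n with
      | zero =>
        simp only [zero_add]
        rw [← hc]; linear_combination h1
      | succ n ih =>
        by_cases hn : n + 2 < p
        · have h3 := ode_coeff hode (n + 1)
          push_cast at h3
          have h4 : (a0 - 1) * F.coeff (n + 1 + 1) * (((n + 2 : ℕ) : ℕ) : A) = 0 := by
            push_cast
            linear_combination (c - μ * ((n : A) + 1)) * ih - (a0 - 1) * h3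
          have hunit : IsUnit (((n + 2 : ℕ) : ℕ) : A) := isUnit_natCast_of_lt hu (by omega) hn
          exact (hunit.mul_left_eq_zero).mp h4
        · rw [Polynomial.coeff_eq_zero_of_natDegree_lt (by omega), mul_zero]
    -- Step 3
    have hK : (Polynomial.C a0 - 1) * (F - Polynomial.C a0) = 0 := by
      have : (Polynomial.C a0 - 1 : A[X]) = Polynomial.C (a0 - 1) := by simp
      rw [this]
      ext n
      rw [Polynomial.coeff_C_mul, Polynomial.coeff_sub, Polynomial.coeff_zero]
      cases n with
      | zero => simp [ha0]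
      | succ n =>
        rw [Polynomial.coeff_C_succ, sub_zero]
        exact h2 n
    have hev0 : ev0 (GG μ F) = 0 := by
      rw [ev0_GG]
      have := congrArg (Polynomial.aeval (MvPolynomial.X 0 : MvPolynomial (Fin 2) A)) hK
      simp only [map_mul, map_sub, map_one, Polynomial.aeval_C, MvPolynomial.algebraMap_eq,
        map_zero] at this
      exact this
    -- Step 4
    have hode2 : (1 + MvPolynomial.C μ * MvPolynomial.X 1) * MvPolynomial.pderiv 1 (GG μ F) =
        MvPolynomial.C c * GG μ F := by
      rw [pderiv_GG]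
      have e1 := aeval_ode μ F (MvPolynomial.X 1 : MvPolynomial (Fin 2) A) hode
      have e2 := aeval_ode μ F (zz μ) hode
      have e3 := one_add_mul_one_add (A := A) μ
      have e4 : (MvPolynomial.C c : MvPolynomial (Fin 2) A) * MvPolynomial.C (a0 ^ 2) =
          MvPolynomial.C c * MvPolynomial.C a0 := by
        rw [← map_mul, ← map_mul]
        congr 1
        linear_combination a0 * h1
      unfold GG
      rw [← ha0]
      linear_combination
        (Polynomial.aeval (MvPolynomial.X 0 : MvPolynomial (Fin 2) A) F) * e1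
        - e2 - (Polynomial.aeval (zz μ) (Polynomial.derivative F)) * e3
        + e4
    have hdeg : MvPolynomial.degreeOf 1 (GG μ F) < p :=
      lt_of_le_of_lt (degreeOf_GG_le μ F) hF
    exact eq_zero_of_ode hu μ c (GG μ F) hdeg hev0 hode2

end main

end Groth.Agent.Helper6.PolyODE
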