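import Mathlib

namespace Groth.Agent.Helper6.PowBasis

open Polynomial

section field
variable {k : Type*} [Field k] (p : ℕ) [Fact p.Prime] [CharP k p]

theorem eq_zero_of_dvd_expand (g : k[X]) (hsep : g.Separable) (s : ℕ)
    (h : k[X]) (hdeg : h.natDegree < g.natDegree) (hdvd : g ∣ expand k (p ^ s) h) : h = 0 := by
  classical
  by_contra hne
  let K := AlgebraicClosure k
  haveI : CharP K p := charP_of_injective_algebraMap (algebraMap k K).injective p
  have hg0 : g ≠ 0 := by
    rintro rfl
    simp at hdeg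
  set gK := g.map (algebraMap k K) with hgK
  set hK := h.map (algebraMap k K) with hhK
  have hsplit : gK.Splits := IsAlgClosed.splits _
  have hcard : gK.roots.card = g.natDegree := by
    rw [← hsplit.natDegree_eq_card_roots, hgK, natDegree_map]
  have hnodup : gK.roots.Nodup := nodup_roots hsep.map
  have hinj : Function.Injective (fun x : K => x ^ (p ^ s)) := iterateFrobenius_inj K p s
  let Z : Finset K := (gK.roots.toFinset).image (fun x : K => x ^ (p ^ s))
  have hZcard : Z.card = g.natDegree := by
    rw [Finset.card_image_of_injective _ hinj, Multiset.toFinset_card_of_nodup hnodup, hcard]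
  have hhK0 : hK ≠ 0 := by
    rw [hhK]
    exact (Polynomial.map_ne_zero_iff (algebraMap k K).injective).2 hne
  have hsub : Z.val ⊆ hK.roots := by
    intro z hz
    rw [Finset.mem_val, Finset.mem_image] at hz
    obtain ⟨a, ha, rfl⟩ := hz
    rw [Multiset.mem_toFinset, mem_roots'] at ha
    rw [mem_roots hhK0, IsRoot.def]
    have h1 : gK ∣ expand K (p ^ s) hK := by
      rw [hhK, ← map_expand]
      exact Polynomial.map_dvd _ hdvd
    have h2 : eval a (expand K (p ^ s) hK) = 0 := by
      obtain ⟨c, hc⟩ := h1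
      rw [hc, eval_mul, ha.2, zero_mul]
    rwa [expand_eval] at h2
  have := card_le_degree_of_subset_roots hsub
  rw [hZcard, hhK, natDegree_map] at this
  omega

theorem linearIndependent_pow (g : k[X]) (hsep : g.Separable) (s : ℕ) :
    LinearIndependent k (fun i : Fin g.natDegree => AdjoinRoot.root g ^ (p ^ s * (i : ℕ))) := by
  classical
  rw [Fintype.linearIndependent_iff]
  intro c hc
  set h : k[X] := ∑ i : Fin g.natDegree, C (c i) * X ^ (i : ℕ) with hh
  have hg0 : g ≠ 0 := hsep.ne_zero
  have hdeg : h.degree < g.natDegree := degree_sum_fin_lt c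
  have hmk : AdjoinRoot.mk g (expand k (p ^ s) h) = 0 := by
    rw [← hc, hh, map_sum, map_sum]
    refine Finset.sum_congr rfl fun i _ => ?_
    rw [map_mul, expand_C, map_pow, expand_X, map_mul, map_pow, map_pow, AdjoinRoot.mk_X,
      AdjoinRoot.mk_C, ← pow_mul, Algebra.smul_def]
    rfl
  rw [AdjoinRoot.mk_eq_zero] at hmk
  have hzero : h = 0 := by
    by_cases h0 : h = 0
    · exact h0
    refine eq_zero_of_dvd_expand p g hsep s h ?_ hmk
    rw [degree_eq_natDegree h0] at hdeg
    exact_mod_cast hdeg
  intro i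
  have := congrArg (fun f => coeff f (i : ℕ)) hzero
  simp only [hh, finsetSum_coeff, coeff_C_mul, coeff_X_pow, coeff_zero] at this
  rw [Finset.sum_eq_single i] at this
  · simpa using this
  · intro j _ hj
    have : (i : ℕ) ≠ (j : ℕ) := fun e => hj (Fin.ext e.symm)
    simp [this]
  · intro hi
    exact absurd (Finset.mem_univ i) hi

theorem span_pow_eq_top (g : k[X]) (hg : g.Monic) (hsep : g.Separable) (s : ℕ) :
    Submodule.span k (Set.range
      (fun i : Fin g.natDegree => AdjoinRoot.root g ^ (p ^ s * (i : ℕ)))) = ⊤ := by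
  haveI := hg.finite_adjoinRoot
  refine (linearIndependent_pow p g hsep s).span_eq_top_of_card_eq_finrank' ?_
  rw [Module.finrank_eq_card_basis (AdjoinRoot.powerBasis' hg).basis]
  simp

end field

section loc

variable {A : Type*} [CommRing A] [IsLocalRing A] (p : ℕ) [Fact p.Prime]
  [CharP (IsLocalRing.ResidueField A) p]

theorem field_repr (g : A[X]) (hg : g.Monic) (hsep : g.Separable) (s : ℕ) (d : ℕ)
    (hd : d = (g.map (IsLocalRing.residue A)).natDegree)
    (y : AdjoinRoot (g.map (IsLocalRing.residue A))) :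
    ∃ c : Fin d → IsLocalRing.ResidueField A,
      ∑ i, c i • AdjoinRoot.root (g.map (IsLocalRing.residue A)) ^ (p ^ s * (i : ℕ)) = y := by
  subst hd
  have h := span_pow_eq_top p (g.map (IsLocalRing.residue A)) (hg.map _) hsep.map s
  have hy : y ∈ Submodule.span (IsLocalRing.ResidueField A) (Set.range
      (fun i : Fin (g.map (IsLocalRing.residue A)).natDegree =>
        AdjoinRoot.root (g.map (IsLocalRing.residue A)) ^ (p ^ s * (i : ℕ)))) := by
    rw [h]; trivial
  rw [Submodule.mem_span_range_iff_exists_fun] at hy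
  exact hy

theorem top_le_span (g : A[X]) (hg : g.Monic) (hsep : g.Separable) (s : ℕ) :
    ⊤ ≤ Submodule.span A (Set.range
      (fun i : Fin g.natDegree => AdjoinRoot.root g ^ (p ^ s * (i : ℕ)))) := by
  classical
  haveI := hg.finite_adjoinRoot
  refine Submodule.le_of_le_smul_of_le_jacobson_bot (I := IsLocalRing.maximalIdeal A)
    Module.Finite.fg_top ?_ ?_
  · rw [IsLocalRing.jacobson_eq_maximalIdeal ⊥ bot_ne_top]
  intro x _
  obtain ⟨f, rfl⟩ := AdjoinRoot.mk_surjective x
  set res := IsLocalRing.residue A with hres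
  obtain ⟨cbar, hcbar⟩ := field_repr p g hg hsep s g.natDegree (hg.natDegree_map res).symm
    (AdjoinRoot.mk (g.map res) (f.map res))
  choose c hc using fun i => IsLocalRing.residue_surjective (cbar i)
  set f₁ : A[X] := f - ∑ i : Fin g.natDegree, C (c i) * X ^ (p ^ s * (i : ℕ)) with hf₁
  have h1 : AdjoinRoot.mk (g.map res) (f₁.map res) = 0 := by
    rw [hf₁, Polynomial.map_sub, map_sub, ← hcbar, Polynomial.map_sum, map_sum, sub_eq_zero]
    refine Finset.sum_congr rfl fun i _ => ?_
    rw [Polynomial.map_mul, Polynomial.map_pow, map_C, map_X, map_mul, map_pow, AdjoinRoot.mk_X,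
      AdjoinRoot.mk_C, Algebra.smul_def, hc i]
    rfl
  rw [AdjoinRoot.mk_eq_zero] at h1
  obtain ⟨hbar, hhbar⟩ := h1
  obtain ⟨h, rfl⟩ := Polynomial.map_surjective res IsLocalRing.residue_surjective hbar
  set r : A[X] := f₁ - g * h with hr
  have hr0 : r.map res = 0 := by
    rw [hr, Polynomial.map_sub, Polynomial.map_mul, hhbar, sub_self]
  have hrm : ∀ n, r.coeff n ∈ IsLocalRing.maximalIdeal A := by
    intro n
    have := congrArg (fun q => coeff q n) hr0
    simp only [coeff_map, coeff_zero] at this
    rwa [hres, IsLocalRing.residue_eq_zero_iff] at this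
  have hfe : AdjoinRoot.mk g f = AdjoinRoot.mk g r +
      ∑ i : Fin g.natDegree, c i • AdjoinRoot.root g ^ (p ^ s * (i : ℕ)) := by
    have : f = r + g * h + ∑ i : Fin g.natDegree, C (c i) * X ^ (p ^ s * (i : ℕ)) := by
      rw [hr, hf₁]; ring
    conv_lhs => rw [this]
    rw [map_add, map_add, map_mul, AdjoinRoot.mk_self, zero_mul, add_zero, map_sum]
    congr 1
    refine Finset.sum_congr rfl fun i _ => ?_
    rw [map_mul, map_pow, AdjoinRoot.mk_X, AdjoinRoot.mk_C, Algebra.smul_def]
    rfl
  rw [hfe, add_comm]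
  refine Submodule.add_mem_sup ?_ ?_
  · refine Submodule.sum_mem _ fun i _ => Submodule.smul_mem _ _ (Submodule.subset_span ⟨i, rfl⟩)
  · have : AdjoinRoot.mk g r = aeval (AdjoinRoot.root g) r := by
      rw [AdjoinRoot.aeval_eq]
    rw [this, aeval_eq_sum_range]
    refine Submodule.sum_mem _ fun n _ => ?_
    exact Submodule.smul_mem_smul (hrm n) trivial

theorem main (g : Polynomial A) (hg : g.Monic) (hsep : g.Separable) (s : ℕ) :
    ∃ b : Module.Basis (Fin g.natDegree) A (AdjoinRoot g),
      ∀ i : Fin g.natDegree, b i = AdjoinRoot.root g ^ (p ^ s * (i : ℕ)) := by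
  haveI := hg.finite_adjoinRoot
  haveI := hg.free_adjoinRoot
  refine ⟨basisOfTopLeSpanOfCardEqFinrank _ (top_le_span p g hg hsep s) ?_, fun i => ?_⟩
  · rw [Module.finrank_eq_card_basis (AdjoinRoot.powerBasis' hg).basis]
    simp
  · rw [coe_basisOfTopLeSpanOfCardEqFinrank]

end loc

end Groth.Agent.Helper6.PowBasis
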