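import Mathlib
import Groth.Prelude.Def_W4c1imperftorsorsPerf

set_option autoImplicit false
set_option linter.style.haveILetI false
set_option linter.unusedSectionVars false

universe u
open Polynomial TensorProduct W4c1imperftorsors

namespace Groth.Agent.Helper6.PrePerfEx

theorem span_pair_le_ker {S T : Type*} [CommRing S] [CommRing T] (φ : S →+* T) (a b : S)
    (ha : φ a = 0) (hb : φ b = 0) : Ideal.span {a, b} ≤ RingHom.ker φ := by
  rw [Ideal.span_le]
  intro x hx
  rw [Set.mem_insert_iff, Set.mem_singleton_iff] at hx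
  rcases hx with rfl | rfl
  · exact ha
  · exact hb

section general
variable (p : ℕ) [Fact p.Prime] (R : Type u) [CommRing R] [CharP R p]
  (A : Type u) [CommRing A] [Algebra R A]

theorem tmul_move (j : ℕ) (r s : R) (a : ASrc p R A j) :
    (r * s ^ p ^ j) ⊗ₜ[Src p R j] a =
      r ⊗ₜ[Src p R j] ((aEquiv p R A j).symm (algebraMap R A s) * a) := by
  have h := TensorProduct.smul_tmul (R := Src p R j) ((srcEquiv p R j).symm s) r a
  rw [Algebra.smul_def, Algebra.smul_def, algebraMap_src, algebraMap_aSrc,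
    RingEquiv.apply_symm_apply] at h
  rw [mul_comm r, h]

/-- Maps out of the Frobenius twist. -/
noncomputable def liftT (j : ℕ) {B : Type*} [CommRing B] (f : R →+* B) (g : A →+* B)
    (compat : ∀ s : R, f (s ^ p ^ j) = g (algebraMap R A s)) : Twist p R A j →+* B :=
  letI : Algebra (Src p R j) B := (f.comp (algebraMap (Src p R j) R)).toAlgebra
  (Algebra.TensorProduct.lift
    ({ toRingHom := f, commutes' := fun _ => rfl } : R →ₐ[Src p R j] B)
    ({ toRingHom := g.comp (aEquiv p R A j : ASrc p R A j →+* A)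
       commutes' := fun s => by
        show g (aEquiv p R A j (algebraMap (Src p R j) (ASrc p R A j) s)) =
          f (algebraMap (Src p R j) R s)
        rw [algebraMap_aSrc, RingEquiv.apply_symm_apply, algebraMap_src, compat] } :
      ASrc p R A j →ₐ[Src p R j] B)
    (fun _ _ => Commute.all _ _)).toRingHom

theorem liftT_tmul (j : ℕ) {B : Type*} [CommRing B] (f : R →+* B) (g : A →+* B)
    (compat : ∀ s : R, f (s ^ p ^ j) = g (algebraMap R A s)) (r : R) (a : ASrc p R A j) :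
    liftT p R A j f g compat (r ⊗ₜ[Src p R j] a) = f r * g (aEquiv p R A j a) := by
  unfold liftT
  letI : Algebra (Src p R j) B := (f.comp (algebraMap (Src p R j) R)).toAlgebra
  exact Algebra.TensorProduct.lift_tmul _ _ _ r a

theorem algebraMap_twist (j : ℕ) (r : R) :
    algebraMap R (Twist p R A j) r = r ⊗ₜ[Src p R j] (1 : ASrc p R A j) := by
  rw [Algebra.TensorProduct.algebraMap_apply, Algebra.algebraMap_self, RingHom.id_apply]

variable [CharP A p]

theorem relFrob_tmul (j : ℕ) (r : R) (a : ASrc p R A (j + 1)) :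
    relFrob p R A j (r ⊗ₜ[Src p R (j + 1)] a) =
      r ⊗ₜ[Src p R j] ((aEquiv p R A j).symm ((aEquiv p R A (j + 1) a) ^ p)) := by
  show relFrobAux p R A j (r ⊗ₜ[Src p R (j + 1)] a) = _
  rw [relFrobAux, Algebra.TensorProduct.lift_tmul]
  show algebraMap R (Twist p R A j) r * ((1 : R) ⊗ₜ[Src p R j]
    (aEquiv p R A j).symm (frobenius A p (aEquiv p R A (j + 1) a))) = _
  rw [algebraMap_twist, Algebra.TensorProduct.tmul_mul_tmul, mul_one, one_mul, frobenius_def]

theorem mem_prePerf (x : Π j, Twist p R A j) :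
    x ∈ prePerf p R A ↔ ∀ j, relFrob p R A j (x (j + 1)) = x j := by
  rw [prePerf, Algebra.mem_iInf]
  rfl

end general

section specific
variable (p : ℕ) [Fact p.Prime] (R : Type u) [CommRing R] [CharP R p] (u v : R)

/-- The algebra `R[X]/(uX, X^2 - v^2)`. -/
abbrev AA : Type u := R[X] ⧸ Ideal.span {(C u * X : R[X]), X ^ 2 - C (v ^ 2)}

/-- evaluation at `X = v`. -/
noncomputable def evv (huv : u * v = 0) : AA R u v →+* R :=
  Ideal.Quotient.lift _ (Polynomial.evalRingHom v) (fun a ha => by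
    have := span_pair_le_ker (Polynomial.evalRingHom v) (C u * X) (X ^ 2 - C (v ^ 2))
      (by simp [huv]) (by simp) ha
    exact this)

theorem evv_mk (huv : u * v = 0) (f : R[X]) :
    evv R u v huv (Ideal.Quotient.mk _ f) = f.eval v := rfl

theorem evv_algebraMap (huv : u * v = 0) (s : R) :
    evv R u v huv (algebraMap R (AA R u v) s) = s := by
  show evv R u v huv (Ideal.Quotient.mk _ (C s)) = s
  rw [evv_mk, eval_C]

/-- class of `X`. -/
noncomputable def Xb : AA R u v := Ideal.Quotient.mk _ X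

theorem evv_Xb (huv : u * v = 0) : evv R u v huv (Xb R u v) = v := by
  rw [Xb, evv_mk, eval_X]

theorem u_mul_Xb : algebraMap R (AA R u v) u * Xb R u v = 0 := by
  show Ideal.Quotient.mk _ (C u) * Ideal.Quotient.mk _ X = 0
  rw [← map_mul, Ideal.Quotient.eq_zero_iff_mem]
  exact Ideal.subset_span (Set.mem_insert _ _)

theorem Xb_sq : Xb R u v ^ 2 = algebraMap R (AA R u v) (v ^ 2) := by
  show Ideal.Quotient.mk _ X ^ 2 = Ideal.Quotient.mk _ (C (v ^ 2))
  rw [← map_pow, ← sub_eq_zero, ← map_sub, Ideal.Quotient.eq_zero_iff_mem]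
  exact Ideal.subset_span (Set.mem_insert_of_mem _ (Set.mem_singleton _))

theorem Xb_pow_p (hp : p ≠ 2) :
    Xb R u v ^ p = algebraMap R (AA R u v) (v ^ (p - 1)) * Xb R u v := by
  obtain ⟨k, hk⟩ := (Fact.out : p.Prime).odd_of_ne_two hp
  have h1 : p - 1 = 2 * k := by omega
  rw [h1, hk, pow_succ, pow_mul, Xb_sq, pow_mul, map_pow (algebraMap R (AA R u v)) (v ^ 2) k]

theorem Xb_pow_repr (n : ℕ) : ∃ c d : R,
    (Xb R u v) ^ n = algebraMap R (AA R u v) c + algebraMap R (AA R u v) d * Xb R u v := by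
  induction n with
  | zero => exact ⟨1, 0, by simp⟩
  | succ n ih =>
    obtain ⟨c, d, h⟩ := ih
    refine ⟨d * v ^ 2, c, ?_⟩
    rw [pow_succ, h, add_mul, mul_assoc, ← pow_two, Xb_sq, map_mul]
    ring

theorem repr (a : AA R u v) : ∃ c d : R,
    a = algebraMap R (AA R u v) c + algebraMap R (AA R u v) d * Xb R u v := by
  obtain ⟨f, rfl⟩ := Ideal.Quotient.mk_surjective a
  induction f using Polynomial.induction_on' with
  | add f g hf hg =>
    obtain ⟨c, d, h⟩ := hf
    obtain ⟨c', d', h'⟩ := hg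
    exact ⟨c + c', d + d', by rw [map_add, h, h', map_add, map_add]; ring⟩
  | monomial n s =>
    obtain ⟨c, d, h⟩ := Xb_pow_repr R u v n
    refine ⟨s * c, s * d, ?_⟩
    rw [← C_mul_X_pow_eq_monomial, map_mul, map_pow (Ideal.Quotient.mk _) X n]
    show algebraMap R (AA R u v) s * (Xb R u v) ^ n = _
    rw [h, map_mul, map_mul]
    ring

/-- class of `X` in the source copy. -/
noncomputable def XbS (j : ℕ) : ASrc p R (AA R u v) j := (aEquiv p R (AA R u v) j).symm (Xb R u v)

theorem twist_repr (j : ℕ) (x : Twist p R (AA R u v) j) : ∃ a b : R,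
    x = a ⊗ₜ[Src p R j] (1 : ASrc p R (AA R u v) j) + b ⊗ₜ[Src p R j] XbS p R u v j := by
  induction x using TensorProduct.induction_on with
  | zero => exact ⟨0, 0, by rw [zero_tmul, zero_tmul, add_zero]⟩
  | tmul r a' =>
    obtain ⟨c, d, h⟩ := repr R u v (aEquiv p R (AA R u v) j a')
    refine ⟨r * c ^ p ^ j, r * d ^ p ^ j, ?_⟩
    rw [tmul_move, tmul_move, ← tmul_add]
    congr 1
    apply (aEquiv p R (AA R u v) j).injective
    rw [h, map_add, map_mul, map_mul, RingEquiv.apply_symm_apply, RingEquiv.apply_symm_apply,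
      map_one, mul_one, XbS, RingEquiv.apply_symm_apply]
  | add x y hx hy =>
    obtain ⟨a, b, rfl⟩ := hx
    obtain ⟨a', b', rfl⟩ := hy
    exact ⟨a + a', b + b', by rw [add_tmul, add_tmul]; abel⟩

/-- `r ⊗ f ↦ r f(v)^{p^j}`. -/
noncomputable def Phi (huv : u * v = 0) (j : ℕ) : Twist p R (AA R u v) j →+* R :=
  liftT p R (AA R u v) j (RingHom.id R) ((iterateFrobenius R p j).comp (evv R u v huv))
    (fun s => by
      rw [RingHom.id_apply, RingHom.comp_apply, evv_algebraMap, iterateFrobenius_def])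

theorem Phi_apply (huv : u * v = 0) (j : ℕ) (a b : R) :
    Phi p R u v huv j (a ⊗ₜ[Src p R j] (1 : ASrc p R (AA R u v) j) +
      b ⊗ₜ[Src p R j] XbS p R u v j) = a + b * v ^ p ^ j := by
  rw [map_add, Phi, liftT_tmul, liftT_tmul]
  simp only [map_one, mul_one, RingHom.id_apply, XbS, RingEquiv.apply_symm_apply,
    RingHom.comp_apply, evv_Xb, iterateFrobenius_def]

theorem Phi_one (huv : u * v = 0) (j : ℕ) (a : R) :
    Phi p R u v huv j (a ⊗ₜ[Src p R j] (1 : ASrc p R (AA R u v) j)) = a := by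
  rw [Phi, liftT_tmul]
  simp only [map_one, mul_one, RingHom.id_apply]

/-- `R/(u^{p^j})`. -/
abbrev Rbar (j : ℕ) : Type u := R ⧸ Ideal.span {u ^ p ^ j}

/-- `X^2 - v^{2p^j}` over `R/(u^{p^j})`. -/
noncomputable def gpoly (j : ℕ) : (Rbar p R u j)[X] :=
  X ^ 2 - C (Ideal.Quotient.mk _ ((v ^ 2) ^ p ^ j))

/-- `(R/(u^{p^j}))[X]/(X^2 - v^{2p^j})`. -/
abbrev Bj (j : ℕ) : Type u := AdjoinRoot (gpoly p R u v j)

/-- `R → B_j`. -/
noncomputable def fB (j : ℕ) : R →+* Bj p R u v j :=
  (AdjoinRoot.of (gpoly p R u v j)).comp (Ideal.Quotient.mk _)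

/-- `R → B_j` twisted by Frobenius. -/
noncomputable def rho (j : ℕ) : R →+* Bj p R u v j :=
  (fB p R u v j).comp (iterateFrobenius R p j)

theorem rho_apply (j : ℕ) (s : R) : rho p R u v j s = fB p R u v j (s ^ p ^ j) := rfl

theorem fB_u (j : ℕ) : fB p R u v j (u ^ p ^ j) = 0 := by
  show AdjoinRoot.of _ (Ideal.Quotient.mk _ (u ^ p ^ j)) = 0
  rw [Ideal.Quotient.eq_zero_iff_mem.mpr (Ideal.mem_span_singleton_self _), map_zero]

/-- `A → B_j`. -/
noncomputable def gB (j : ℕ) : AA R u v →+* Bj p R u v j :=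
  Ideal.Quotient.lift _ (Polynomial.eval₂RingHom (rho p R u v j) (AdjoinRoot.root _))
    (fun a ha => by
      refine span_pair_le_ker _ _ _ ?_ ?_ ha
      · rw [coe_eval₂RingHom, eval₂_mul, eval₂_C, eval₂_X, rho_apply, fB_u, zero_mul]
      · rw [coe_eval₂RingHom, eval₂_sub, eval₂_pow, eval₂_X, eval₂_C, rho_apply]
        have h := AdjoinRoot.eval₂_root (gpoly p R u v j)
        rw [gpoly, eval₂_sub, eval₂_pow, eval₂_X, eval₂_C] at h
        exact h)

theorem gB_algebraMap (j : ℕ) (s : R) :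
    gB p R u v j (algebraMap R (AA R u v) s) = fB p R u v j (s ^ p ^ j) := by
  show gB p R u v j (Ideal.Quotient.mk _ (C s)) = _
  rw [gB, Ideal.Quotient.lift_mk, coe_eval₂RingHom, eval₂_C, rho_apply]

theorem gB_Xb (j : ℕ) : gB p R u v j (Xb R u v) = AdjoinRoot.root _ := by
  rw [Xb, gB, Ideal.Quotient.lift_mk, coe_eval₂RingHom, eval₂_X]

/-- `T_j → B_j`. -/
noncomputable def Psi (j : ℕ) : Twist p R (AA R u v) j →+* Bj p R u v j :=
  liftT p R (AA R u v) j (fB p R u v j) (gB p R u v j)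
    (fun s => (gB_algebraMap p R u v j s).symm)

theorem Psi_apply (j : ℕ) (a b : R) :
    Psi p R u v j (a ⊗ₜ[Src p R j] (1 : ASrc p R (AA R u v) j) +
      b ⊗ₜ[Src p R j] XbS p R u v j) =
      fB p R u v j a + fB p R u v j b * AdjoinRoot.root _ := by
  rw [map_add, Psi, liftT_tmul, liftT_tmul]
  simp only [map_one, mul_one, XbS, RingEquiv.apply_symm_apply, gB_Xb]

theorem fB_lin_zero (j : ℕ) (a b : R)
    (h : fB p R u v j a + fB p R u v j b * AdjoinRoot.root _ = 0) :
    b ∈ Ideal.span {u ^ p ^ j} := by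
  have hq : AdjoinRoot.mk (gpoly p R u v j)
      (C (Ideal.Quotient.mk _ b) * X + C (Ideal.Quotient.mk _ a)) = 0 := by
    rw [map_add, map_mul, AdjoinRoot.mk_C, AdjoinRoot.mk_X, add_comm]
    exact h
  rw [AdjoinRoot.mk_eq_zero] at hq
  have hmonic : (gpoly p R u v j).Monic := monic_X_pow_sub_C _ two_ne_zero
  by_contra hb
  have hne : (C (Ideal.Quotient.mk (Ideal.span {u ^ p ^ j}) b) * X +
      C (Ideal.Quotient.mk (Ideal.span {u ^ p ^ j}) a) : (Rbar p R u j)[X]) ≠ 0 := by
    intro h0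
    have h1 := congrArg (fun q => q.coeff 1) h0
    simp at h1
    exact hb (Ideal.Quotient.eq_zero_iff_mem.mp h1)
  haveI : Nontrivial (Rbar p R u j) :=
    ⟨⟨Ideal.Quotient.mk _ b, 0, fun h0 => hb (Ideal.Quotient.eq_zero_iff_mem.mp h0)⟩⟩
  refine hmonic.not_dvd_of_natDegree_lt hne ?_ hq
  rw [gpoly, natDegree_X_pow_sub_C]
  exact lt_of_le_of_lt natDegree_linear_le (by norm_num)

theorem ann (huv : u * v = 0) (j : ℕ) (a b : R)
    (h : a ⊗ₜ[Src p R j] (1 : ASrc p R (AA R u v) j) + b ⊗ₜ[Src p R j] XbS p R u v j = 0) :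
    a = 0 ∧ b ∈ Ideal.span {u ^ p ^ j} := by
  have h1 := congrArg (Psi p R u v j) h
  rw [Psi_apply, map_zero] at h1
  have hb := fB_lin_zero p R u v j a b h1
  have h2 := congrArg (Phi p R u v huv j) h
  rw [Phi_apply, map_zero] at h2
  obtain ⟨t, ht⟩ := Ideal.mem_span_singleton'.mp hb
  have h3 : b * v ^ p ^ j = 0 := by
    rw [← ht, mul_assoc, ← mul_pow, huv,
      zero_pow (pow_ne_zero _ (Fact.out : p.Prime).ne_zero), mul_zero]
  rw [h3, add_zero] at h2
  exact ⟨h2, hb⟩

theorem kill (j : ℕ) (b : R) (hb : b ∈ Ideal.span {u ^ p ^ j}) :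
    b ⊗ₜ[Src p R j] XbS p R u v j = 0 := by
  obtain ⟨t, rfl⟩ := Ideal.mem_span_singleton'.mp hb
  rw [tmul_move, XbS, ← map_mul, u_mul_Xb, map_zero, tmul_zero]

theorem relFrob_repr [CharP (AA R u v) p] (hp : p ≠ 2) (j : ℕ) (a b : R) :
    relFrob p R (AA R u v) j (a ⊗ₜ[Src p R (j + 1)] (1 : ASrc p R (AA R u v) (j + 1)) +
        b ⊗ₜ[Src p R (j + 1)] XbS p R u v (j + 1)) =
      a ⊗ₜ[Src p R j] (1 : ASrc p R (AA R u v) j) +
        (b * (v ^ (p - 1)) ^ p ^ j) ⊗ₜ[Src p R j] XbS p R u v j := by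
  have e1 : relFrob p R (AA R u v) j (a ⊗ₜ[Src p R (j + 1)] (1 : ASrc p R (AA R u v) (j + 1))) =
      a ⊗ₜ[Src p R j] (1 : ASrc p R (AA R u v) j) := by
    rw [relFrob_tmul, map_one, one_pow, map_one]
  have e2 : relFrob p R (AA R u v) j (b ⊗ₜ[Src p R (j + 1)] XbS p R u v (j + 1)) =
      (b * (v ^ (p - 1)) ^ p ^ j) ⊗ₜ[Src p R j] XbS p R u v j := by
    rw [relFrob_tmul, tmul_move]
    congr 1
    show (aEquiv p R (AA R u v) j).symm (Xb R u v ^ p) = _
    rw [Xb_pow_p p R u v hp, map_mul]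
    rfl
  rw [map_add, e1, e2]

theorem main (hp : p ≠ 2) (huv : u * v = 0)
    (hsep : ∀ N : ℕ, 1 ≤ N → ∀ g : R,
      (∀ n : ℕ, g ∈ Ideal.span {v ^ n} ⊔ Ideal.span {u ^ N}) → g ∈ Ideal.span {u ^ N})
    [CharP (AA R u v) p] :
    Function.Bijective (algebraMap R ↥(prePerf p R (AA R u v))) := by
  have hcoe : ∀ (r : R) (j : ℕ),
      ((algebraMap R ↥(prePerf p R (AA R u v)) r : ↥(prePerf p R (AA R u v))) :
        Π j, Twist p R (AA R u v) j) j = r ⊗ₜ[Src p R j] (1 : ASrc p R (AA R u v) j) := by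
    intro r j
    rw [Subalgebra.coe_algebraMap, Pi.algebraMap_apply, algebraMap_twist]
  constructor
  · intro r r' h
    have h0 := congrArg
      (fun x : ↥(prePerf p R (AA R u v)) => (x : Π j, Twist p R (AA R u v) j) 0) h
    simp only [hcoe] at h0
    have h1 := congrArg (Phi p R u v huv 0) h0
    rwa [Phi_one, Phi_one] at h1
  · intro x
    choose a b hab using fun j => twist_repr p R u v j (x.1 j)
    have hx := (mem_prePerf p R (AA R u v) x.1).mp x.2
    have hrel : ∀ j, a (j + 1) = a j ∧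
        b (j + 1) * (v ^ (p - 1)) ^ p ^ j - b j ∈ Ideal.span {u ^ p ^ j} := by
      intro j
      have h1 := hx j
      rw [hab (j + 1), hab j, relFrob_repr p R u v hp j] at h1
      have h2 : (a (j + 1) - a j) ⊗ₜ[Src p R j] (1 : ASrc p R (AA R u v) j) +
          (b (j + 1) * (v ^ (p - 1)) ^ p ^ j - b j) ⊗ₜ[Src p R j] XbS p R u v j = 0 := by
        rw [sub_tmul, sub_tmul, ← add_sub_add_comm, h1, sub_self]
      obtain ⟨h3, h4⟩ := ann p R u v huv j _ _ h2
      exact ⟨sub_eq_zero.mp h3, h4⟩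
    have ha : ∀ j, a j = a 0 := by
      intro j
      induction j with
      | zero => rfl
      | succ j ih => rw [(hrel j).1, ih]
    have hbm : ∀ m j, b j ∈ Ideal.span {v ^ m} ⊔ Ideal.span {u ^ p ^ j} := by
      intro m
      induction m with
      | zero =>
        intro j
        rw [pow_zero, Ideal.span_singleton_one]
        exact Submodule.mem_sup_left Submodule.mem_top
      | succ m ih =>
        intro j
        obtain ⟨y, hy, z, hz, hyz⟩ := Submodule.mem_sup.mp (ih (j + 1))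
        have hpos : 1 ≤ (p - 1) * p ^ j :=
          Nat.one_le_iff_ne_zero.mpr (Nat.mul_ne_zero
            (by have := (Fact.out : p.Prime).two_le; omega)
            (pow_ne_zero _ (Fact.out : p.Prime).ne_zero))
        have hc : (v ^ (p - 1)) ^ p ^ j = v * v ^ ((p - 1) * p ^ j - 1) := by
          rw [← pow_mul, ← pow_succ']
          congr 1
          exact (Nat.sub_add_cancel hpos).symm
        have e : b j = b (j + 1) * (v ^ (p - 1)) ^ p ^ j -
            (b (j + 1) * (v ^ (p - 1)) ^ p ^ j - b j) := by ring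
        rw [e]
        refine Ideal.sub_mem _ ?_ (Submodule.mem_sup_right (hrel j).2)
        rw [← hyz, add_mul]
        refine Ideal.add_mem _ (Submodule.mem_sup_left ?_) (Submodule.mem_sup_right ?_)
        · rw [Ideal.mem_span_singleton] at hy ⊢
          obtain ⟨y', rfl⟩ := hy
          rw [hc, pow_succ]
          exact ⟨y' * v ^ ((p - 1) * p ^ j - 1), by ring⟩
        · rw [Ideal.mem_span_singleton] at hz ⊢
          exact Dvd.dvd.mul_right ((pow_dvd_pow u (Nat.pow_le_pow_right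
            (Fact.out : p.Prime).pos (Nat.le_succ j))).trans hz) _
    have hb : ∀ j, b j ∈ Ideal.span {u ^ p ^ j} := fun j =>
      hsep (p ^ j) (Nat.one_le_pow _ _ (Fact.out : p.Prime).pos) (b j) (fun n => hbm n j)
    refine ⟨a 0, Subtype.ext (funext fun j => ?_)⟩
    rw [hcoe, hab j, kill p R u v j (b j) (hb j), add_zero, ha j]

end specific

end Groth.Agent.Helper6.PrePerfEx
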