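import Mathlib
import Groth.Agent.Helper5.SurjDim

/-!
# Systems of parameters through a given element, stable under perturbation
-/

namespace Groth.Agent.Helper6.PrinRad

universe u

open IsLocalRing

theorem exists_pad {α : Type*} [Zero α] (d' n : ℕ) (h : d' ≤ n) (f' : Fin d' → α) :
    ∃ g : Fin n → α, Set.range f' ⊆ Set.range g ∧ Set.range g ⊆ insert 0 (Set.range f') := by
  refine ⟨fun i => if hi : (i : ℕ) < d' then f' ⟨i, hi⟩ else 0, ?_, ?_⟩
  · rintro _ ⟨j, rfl⟩
    refine ⟨⟨j, lt_of_lt_of_le j.2 h⟩, ?_⟩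
    simp
  · rintro _ ⟨i, rfl⟩
    by_cases hi : (i : ℕ) < d'
    · simp only [hi, dite_true]
      exact Or.inr ⟨_, rfl⟩
    · simp only [hi, dite_false]
      exact Or.inl rfl

variable {R : Type u} [CommRing R] [IsNoetherianRing R] [IsLocalRing R]

/-- In a Noetherian local ring `A`, there are `ht 𝔪` elements generating an `𝔪`-primary ideal. -/
theorem exists_fin_radical (A : Type u) [CommRing A] [IsNoetherianRing A] [IsLocalRing A]
    (k : ℕ) (hk : ringKrullDim A ≤ k) :
    ∃ (d' : ℕ) (f' : Fin d' → A), d' ≤ k ∧ (∀ i, f' i ∈ maximalIdeal A) ∧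
      maximalIdeal A ≤ (Ideal.span (Set.range f')).radical := by
  classical
  have hmtop : (maximalIdeal A).height ≠ ⊤ := Ideal.height_ne_top Ideal.IsPrime.ne_top'
  set d0 := (maximalIdeal A).height.toNat with hd0
  have hd0' : ((d0 : ℕ) : ℕ∞) = (maximalIdeal A).height := ENat.natCast_toNat hmtop
  obtain ⟨J, hJm, hJr, hJh⟩ := _root_.exists_spanRank_le_and_le_height_of_le_height
    (maximalIdeal A) d0 (le_of_eq hd0')
  have hJfg : J.FG := IsNoetherian.noetherian J
  rw [Submodule.FG.spanRank_le_iff hJfg] at hJr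
  obtain ⟨s, hs, hsJ⟩ := Submodule.FG.exists_span_finset_card_eq_spanFinrank hJfg
  have hrange : Set.range (fun i => (s.equivFin.symm i : A)) = (s : Set A) := by
    ext x
    constructor
    · rintro ⟨i, rfl⟩
      exact (s.equivFin.symm i).2
    · intro hx
      exact ⟨s.equivFin ⟨x, hx⟩, by simp⟩
  change Ideal.span (s : Set A) = J at hsJ
  refine ⟨s.card, fun i => (s.equivFin.symm i : A), ?_, ?_, ?_⟩
  · have h1 : s.card ≤ d0 := hs ▸ hJr
    have h2 : ((d0 : ℕ) : WithBot ℕ∞) ≤ k := by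
      have h3 : (((d0 : ℕ) : ℕ∞) : WithBot ℕ∞) = ringKrullDim A := by
        rw [hd0', maximalIdeal_height_eq_ringKrullDim]
      calc ((d0 : ℕ) : WithBot ℕ∞) = (((d0 : ℕ) : ℕ∞) : WithBot ℕ∞) := rfl
        _ = ringKrullDim A := h3
        _ ≤ k := hk
    have h4 : d0 ≤ k := by exact_mod_cast h2
    exact h1.trans h4
  · intro i
    apply hJm
    rw [← hsJ]
    exact Ideal.subset_span (s.equivFin.symm i).2
  · rw [hrange, hsJ, Ideal.radical_eq_sInf]
    refine le_sInf ?_
    rintro p ⟨hJp, hp⟩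
    have hpm : p ≤ maximalIdeal A := le_maximalIdeal hp.ne_top
    have h1 : (maximalIdeal A).height ≤ p.height := by
      rw [← hd0']
      exact hJh.trans (Ideal.height_mono hJp)
    have := Ideal.eq_of_le_of_height_le (I := p) (h := hpm) (h_height := h1)
    rw [this]

/-- **Perturbation-stable systems of parameters.** -/
theorem exists_sop_perturb (d : ℕ) (hd : ringKrullDim R = d) (f : R)
    (hf : f ∈ maximalIdeal R) (hmin : ∀ p ∈ minimalPrimes R, f ∉ p) :
    ∃ (g : Fin (d - 1) → R) (N : ℕ), (∀ i, g i ∈ maximalIdeal R) ∧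
      maximalIdeal R ≤ (Ideal.span (insert f (Set.range g))).radical ∧
      maximalIdeal R ^ N ≤ maximalIdeal R * Ideal.span (insert f (Set.range g)) ∧
      ∀ h ∈ maximalIdeal R ^ N,
        Ideal.span (insert (f + h) (Set.range g)) = Ideal.span (insert f (Set.range g)) := by
  classical
  -- `d ≥ 1`
  have hd1 : 1 ≤ d := by
    by_contra hcon
    have hd0 : d = 0 := by omega
    haveI : Ring.KrullDimLE 0 R := by
      rw [Ring.krullDimLE_iff, hd, hd0]
    exact hmin _ (Ideal.mem_minimalPrimes_of_krullDimLE_zero (maximalIdeal R)) hf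
  have hjac : Ideal.jacobson (⊥ : Ideal R) = maximalIdeal R :=
    IsLocalRing.jacobson_eq_maximalIdeal ⊥ bot_ne_top
  have hfI : Ideal.span {f} ≤ maximalIdeal R := (Ideal.span_singleton_le_iff_mem _).2 hf
  set I0 := Ideal.span {f} with hI0
  haveI : Nontrivial (R ⧸ I0) :=
    Ideal.Quotient.nontrivial_iff.2 (fun h => (maximalIdeal.isMaximal R).ne_top
      (top_le_iff.1 (h ▸ hfI)))
  haveI : IsLocalRing (R ⧸ I0) :=
    IsLocalRing.of_surjective' (Ideal.Quotient.mk I0) Ideal.Quotient.mk_surjective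
  haveI hloc : IsLocalHom (Ideal.Quotient.mk I0) :=
    isLocalHom_of_le_jacobson_bot I0 (hjac ▸ hfI)
  have hdimA : ringKrullDim (R ⧸ I0) ≤ ((d - 1 : ℕ) : WithBot ℕ∞) := by
    have h1 := Groth.Agent.Helper5.SurjDim.ringKrullDim_quotient_succ_le f hmin
    rw [hd] at h1
    generalize ringKrullDim (R ⧸ I0) = z at h1 ⊢
    induction z using WithBot.recBotCoe with
    | bot => exact bot_le
    | coe z =>
      induction z using ENat.recTopCoe with
      | top =>
        exfalso
        have h2 : (⊤ : ℕ∞) + 1 ≤ (d : ℕ∞) := by exact_mod_cast h1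
        simp at h2
      | coe m =>
        have h2 : m + 1 ≤ d := by exact_mod_cast h1
        have h3 : m ≤ d - 1 := by omega
        change ((m : ℕ) : WithBot ℕ∞) ≤ _
        exact_mod_cast h3
  obtain ⟨d', f', hd', hf'm, hf'rad⟩ := exists_fin_radical (R ⧸ I0) (d - 1) hdimA
  -- lift
  let ℓ : R ⧸ I0 → R := Function.surjInv Ideal.Quotient.mk_surjective
  have hℓ : ∀ a, Ideal.Quotient.mk I0 (ℓ a) = a := Function.surjInv_eq _
  obtain ⟨g, hg1, hg2⟩ := exists_pad d' (d - 1) hd' (fun i => ℓ (f' i))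
  have hmem_of_mk : ∀ x : R, Ideal.Quotient.mk I0 x ∈ maximalIdeal (R ⧸ I0) →
      x ∈ maximalIdeal R := by
    intro x hx
    rw [mem_maximalIdeal, mem_nonunits_iff] at hx ⊢
    exact fun hu => hx (hu.map _)
  have hmk_mem : ∀ x : R, x ∈ maximalIdeal R →
      Ideal.Quotient.mk I0 x ∈ maximalIdeal (R ⧸ I0) := by
    intro x hx
    rw [mem_maximalIdeal, mem_nonunits_iff] at hx ⊢
    exact fun hu => hx (isUnit_of_map_unit (Ideal.Quotient.mk I0) x hu)
  have hgm : ∀ i, g i ∈ maximalIdeal R := by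
    intro i
    rcases hg2 ⟨i, rfl⟩ with h0 | ⟨j, hj⟩
    · rw [h0]; exact Ideal.zero_mem _
    · rw [← hj]
      apply hmem_of_mk
      rw [hℓ]
      exact hf'm j
  set I := Ideal.span (insert f (Set.range g)) with hI
  have hfmem : f ∈ I := Ideal.subset_span (Set.mem_insert _ _)
  have hgmem : ∀ i, g i ∈ I := fun i => Ideal.subset_span (Set.mem_insert_of_mem _ ⟨i, rfl⟩)
  have hIm : I ≤ maximalIdeal R := by
    rw [hI, Ideal.span_le]
    rintro x (rfl | ⟨i, rfl⟩)
    · exact hf
    · exact hgm i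
  have hrad : maximalIdeal R ≤ I.radical := by
    intro x hx
    obtain ⟨n, hn⟩ := hf'rad (hmk_mem x hx)
    refine ⟨n, ?_⟩
    -- `mk (x^n) ∈ span (range f') = map mk (span (range (ℓ ∘ f')))`
    have h1 : Ideal.span (Set.range f') =
        Ideal.map (Ideal.Quotient.mk I0) (Ideal.span (Set.range fun i => ℓ (f' i))) := by
      rw [Ideal.map_span, ← Set.range_comp]
      congr 2
      ext i
      exact (hℓ (f' i)).symm
    rw [h1, ← map_pow] at hn
    have h2 : x ^ n ∈ (Ideal.map (Ideal.Quotient.mk I0)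
        (Ideal.span (Set.range fun i => ℓ (f' i)))).comap (Ideal.Quotient.mk I0) := hn
    rw [Ideal.comap_map_of_surjective _ Ideal.Quotient.mk_surjective,
      ← RingHom.ker_eq_comap_bot, Ideal.mk_ker] at h2
    refine (sup_le ?_ ?_ : _ ⊔ I0 ≤ I) h2
    · rw [Ideal.span_le]
      rintro _ ⟨i, rfl⟩
      obtain ⟨j, hj⟩ := hg1 ⟨i, rfl⟩
      rw [← hj]
      exact hgmem j
    · exact (Ideal.span_singleton_le_iff_mem _).2 hfmem
  obtain ⟨n, hn⟩ := Ideal.exists_pow_le_of_le_radical_of_fg hrad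
    (IsNoetherian.noetherian (maximalIdeal R))
  have hN : maximalIdeal R ^ (n + 1) ≤ maximalIdeal R * I := by
    rw [pow_succ']
    exact Ideal.mul_mono_right hn
  refine ⟨g, n + 1, hgm, hrad, hN, ?_⟩
  intro h hh
  have hhI : h ∈ maximalIdeal R * I := hN hh
  have hhI' : h ∈ I := Ideal.mul_le_right hhI
  apply le_antisymm
  · rw [Ideal.span_le]
    rintro x (rfl | ⟨i, rfl⟩)
    · exact I.add_mem hfmem hhI'
    · exact hgmem i
  · refine Submodule.le_of_le_smul_of_le_jacobson_bot (I := maximalIdeal R)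
      (IsNoetherian.noetherian I) (le_of_eq hjac.symm) ?_
    rw [Ideal.span_le]
    rintro x (hx | ⟨i, rfl⟩)
    · have h2 : (f + h) - h ∈ Ideal.span (insert (f + h) (Set.range g)) ⊔
          maximalIdeal R • Ideal.span (insert f (Set.range g)) := by
        refine Submodule.sub_mem _ (Submodule.mem_sup_left
          (Ideal.subset_span (Set.mem_insert _ _))) (Submodule.mem_sup_right ?_)
        rw [Ideal.smul_eq_mul]
        exact hhI
      rw [add_sub_cancel_right] at h2
      rw [hx]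
      exact h2
    · exact Submodule.mem_sup_left (Ideal.subset_span (Set.mem_insert_of_mem _ ⟨i, rfl⟩))

end Groth.Agent.Helper6.PrinRad
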