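import Mathlib

/-!
# Counting minimal primes by the colength of a parameter ideal (one-dimensional case, in place)
-/

namespace Groth.Agent.Helper6.PrinRad

universe u

open IsLocalRing

variable {R : Type u} [CommRing R]

theorem length_quotient_succ_le {I J : Ideal R} (h : I < J) :
    Module.length R (R ⧸ J) + 1 ≤ Module.length R (R ⧸ I) := by
  let g : (R ⧸ I) →ₗ[R] (R ⧸ J) := Submodule.mapQ I J LinearMap.id (by simpa using h.le)
  have hg : Function.Surjective g := by
    intro y
    obtain ⟨x, rfl⟩ := Submodule.Quotient.mk_surjective _ y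
    exact ⟨Submodule.Quotient.mk x, rfl⟩
  rw [Module.length_eq_add_of_exact (LinearMap.ker g).subtype g (Submodule.subtype_injective _) hg
    (LinearMap.exact_subtype_ker_map g), add_comm]
  gcongr
  obtain ⟨x, hxJ, hxI⟩ := SetLike.exists_of_lt h
  have hmem : (Submodule.Quotient.mk x : R ⧸ I) ∈ LinearMap.ker g := by
    rw [LinearMap.mem_ker]
    change (Submodule.Quotient.mk x : R ⧸ J) = 0
    rw [Submodule.Quotient.mk_eq_zero]
    exact hxJ
  have hne : (⟨Submodule.Quotient.mk x, hmem⟩ : LinearMap.ker g) ≠ 0 := by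
    intro h0
    have h1 : (Submodule.Quotient.mk x : R ⧸ I) = 0 := congrArg Subtype.val h0
    rw [Submodule.Quotient.mk_eq_zero] at h1
    exact hxI h1
  haveI : Nontrivial (LinearMap.ker g) := ⟨⟨_, 0, hne⟩⟩
  exact Order.one_le_iff_pos.2 Module.length_pos

theorem length_quotient_mono {I J : Ideal R} (h : I ≤ J) :
    Module.length R (R ⧸ J) ≤ Module.length R (R ⧸ I) := by
  let g : (R ⧸ I) →ₗ[R] (R ⧸ J) := Submodule.mapQ I J LinearMap.id (by simpa using h)
  have hg : Function.Surjective g := by
    intro y
    obtain ⟨x, rfl⟩ := Submodule.Quotient.mk_surjective _ y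
    exact ⟨Submodule.Quotient.mk x, rfl⟩
  exact Module.length_le_of_surjective g hg

variable [IsNoetherianRing R] [IsLocalRing R]

theorem card_le_length (g0 : R) (hg0 : g0 ∈ maximalIdeal R) (Q : Finset (Ideal R))
    (hprime : ∀ q ∈ Q, q.IsPrime) (hg : ∀ q ∈ Q, g0 ∉ q)
    (hinc : ∀ q ∈ Q, ∀ q' ∈ Q, q ≤ q' → q = q') :
    (Q.card : ℕ∞) ≤ Module.length R (R ⧸ (Q.inf id ⊔ Ideal.span {g0})) := by
  classical
  induction Q using Finset.induction_on with
  | empty => simp
  | insert q Q hqQ ih =>
    have ih' := ih (fun p hp => hprime p (Finset.mem_insert_of_mem hp))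
      (fun p hp => hg p (Finset.mem_insert_of_mem hp))
      (fun p hp p' hp' => hinc p (Finset.mem_insert_of_mem hp) p' (Finset.mem_insert_of_mem hp'))
    set a := Q.inf id with ha
    have ha' : (insert q Q).inf id = q ⊓ a := by rw [Finset.inf_insert, id]
    have hqp : q.IsPrime := hprime q (Finset.mem_insert_self q Q)
    have hlt : q ⊓ a ⊔ Ideal.span {g0} < a ⊔ Ideal.span {g0} := by
      refine lt_of_le_of_ne (sup_le_sup_right inf_le_right _) ?_
      intro heq
      have h1 : a ≤ q ⊓ a ⊔ Ideal.span {g0} • a := by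
        intro x hx
        have hx' : x ∈ q ⊓ a ⊔ Ideal.span {g0} := by
          rw [heq]
          exact Ideal.mem_sup_left hx
        obtain ⟨y, hy, z, hz, hyz⟩ := Submodule.mem_sup.1 hx'
        obtain ⟨r, hr⟩ := Ideal.mem_span_singleton'.1 hz
        have hra : r ∈ a := by
          rw [ha, Submodule.mem_finsetInf]
          intro p hp
          have hpp : p.IsPrime := hprime p (Finset.mem_insert_of_mem hp)
          have h2 : r * g0 ∈ p := by
            have h3 : r * g0 = x - y := by rw [hr, ← hyz, add_sub_cancel_left]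
            rw [h3]
            have hxp : x ∈ p := by
              rw [ha, Submodule.mem_finsetInf] at hx
              exact hx p hp
            have hyp : y ∈ p := by
              have hya : y ∈ a := hy.2
              rw [ha, Submodule.mem_finsetInf] at hya
              exact hya p hp
            exact p.sub_mem hxp hyp
          rcases hpp.mem_or_mem h2 with h4 | h4
          · exact h4
          · exact absurd h4 (hg p (Finset.mem_insert_of_mem hp))
        rw [← hyz]
        refine Submodule.add_mem_sup hy ?_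
        rw [← hr, mul_comm, ← smul_eq_mul]
        exact Submodule.smul_mem_smul (Ideal.mem_span_singleton_self g0) hra
      have hjac : Ideal.span {g0} ≤ Ideal.jacobson (⊥ : Ideal R) := by
        rw [IsLocalRing.jacobson_eq_maximalIdeal ⊥ bot_ne_top]
        exact (Ideal.span_singleton_le_iff_mem _).2 hg0
      have h5 : a ≤ q ⊓ a :=
        Submodule.le_of_le_smul_of_le_jacobson_bot (IsNoetherian.noetherian a) hjac h1
      have h6 : Q.inf id ≤ q := h5.trans inf_le_left
      obtain ⟨p, hp, hpq⟩ := (Ideal.IsPrime.inf_le' hqp).1 h6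
      have h7 : p = q := hinc p (Finset.mem_insert_of_mem hp) q (Finset.mem_insert_self q Q) hpq
      exact hqQ (h7 ▸ hp)
    rw [ha', Finset.card_insert_of_notMem hqQ]
    calc ((Q.card + 1 : ℕ) : ℕ∞) = (Q.card : ℕ∞) + 1 := by push_cast; rfl
      _ ≤ Module.length R (R ⧸ (a ⊔ Ideal.span {g0})) + 1 := by gcongr
      _ ≤ _ := length_quotient_succ_le hlt

end Groth.Agent.Helper6.PrinRad
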