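import Mathlib
import Groth.Agent.Helper6.PrinRad1
import Groth.Agent.Helper6.PrinRad2
import Groth.Agent.Helper6.PrinRad3
import Groth.Agent.Helper6.Dim1Rel

/-!
# Principal radical ideals in two-dimensional normal local domains
-/

namespace Groth.Agent.Helper6.PrinRad

universe u

open IsLocalRing

section ordprod

variable {R : Type u} [CommRing R] [IsDomain R] [IsNoetherianRing R] [IsIntegrallyClosed R]

theorem ord_one (q : Ideal R) [hqp : q.IsPrime] (hq : q.height = 1) : ord q hq (1 : R) = 0 :=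
  (ord_eq_zero_iff q hq 1).2 (fun h => hqp.ne_top ((Ideal.eq_top_iff_one _).2 h))

theorem ord_prod (q : Ideal R) [q.IsPrime] (hq : q.height = 1) {ι : Type*} (s : Finset ι)
    (f : ι → R) : ord q hq (∏ i ∈ s, f i) = ∑ i ∈ s, ord q hq (f i) := by
  classical
  induction s using Finset.induction_on with
  | empty => simp [ord_one]
  | insert i s hi ih => rw [Finset.prod_insert hi, Finset.sum_insert hi, ord_mul, ih]

theorem finiteHeight_of_height_eq_one {q : Ideal R} (hq : q.height = 1) : q.FiniteHeight :=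
  q.finiteHeight_iff.mpr (Or.inr (by rw [hq]; exact ENat.one_ne_top))

theorem eq_of_le_ht1 {q q' : Ideal R} [q.IsPrime] (hq : q.height = 1) (hq' : q'.height = 1)
    (h : q ≤ q') : q = q' := by
  haveI := finiteHeight_of_height_eq_one hq
  exact Ideal.eq_of_le_of_height_le (I := q) (h := h) (h_height := by rw [hq, hq'])

/-- the set of height-one primes containing `x` -/
def Ht1 (x : R) : Set (Ideal R) := {q | q.IsPrime ∧ q.height = 1 ∧ x ∈ q}

theorem ht1_finite {x : R} (hx : x ≠ 0) : (Ht1 x).Finite := by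
  refine (Ideal.finite_minimalPrimes_of_isNoetherianRing R (Ideal.span {x})).subset ?_
  rintro q ⟨hqp, hq1, hxq⟩
  haveI := hqp
  haveI := finiteHeight_of_height_eq_one hq1
  refine Ideal.mem_minimalPrimes_of_height_le ((Ideal.span_singleton_le_iff_mem _).2 hxq) ?_
  rw [hq1, Order.one_le_iff_ne_zero]
  intro h0
  rw [Ideal.height_eq_zero_iff_eq_bot, Ideal.span_singleton_eq_bot] at h0
  exact hx h0

end ordprod

variable {R : Type u} [CommRing R] [IsDomain R] [IsNoetherianRing R] [IsLocalRing R]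
  [IsIntegrallyClosed R]

theorem main (hdim : ringKrullDim R = 2) (s : Finset (Ideal R))
    (hs : ∀ p ∈ s, p.IsPrime ∧ p.height = 1) :
    ∃ f : R, f ≠ 0 ∧ (∀ p ∈ s, f ∈ p) ∧ IsReduced (R ⧸ Ideal.span {f}) := by
  classical
  set 𝔪 := maximalIdeal R with h𝔪
  have hmht : 𝔪.height = 2 := by
    have h1 : ((𝔪.height : ℕ∞) : WithBot ℕ∞) = ((2 : ℕ∞) : WithBot ℕ∞) := by
      rw [IsLocalRing.maximalIdeal_height_eq_ringKrullDim, hdim]
      norm_cast
    exact WithBot.coe_injective h1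
  have h21 : ¬ ((2 : ℕ∞) ≤ 1) := by
    have : ¬ ((2 : ℕ) ≤ 1) := by norm_num
    exact_mod_cast this
  have h12 : (1 : ℕ∞) ≤ 2 := by
    have : (1 : ℕ) ≤ 2 := by norm_num
    exact_mod_cast this
  have h2ne1 : (2 : ℕ∞) ≠ 1 := by
    have : (2 : ℕ) ≠ 1 := by norm_num
    exact_mod_cast this
  have h20 : (2 : ℕ∞) ≠ 0 := by
    have : (2 : ℕ) ≠ 0 := by norm_num
    exact_mod_cast this
  -- Step 0: the initial element
  have hprod : 𝔪 * ∏ p ∈ s, p ≠ ⊥ := by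
    rw [Ne, Ideal.mul_eq_bot, not_or]
    refine ⟨fun h => ?_, ?_⟩
    · have h0 : 𝔪.height = 0 := Ideal.height_eq_zero_iff_eq_bot.2 h
      rw [hmht] at h0
      exact h20 h0
    · rw [← Ideal.zero_eq_bot, Finset.prod_eq_zero_iff]
      push Not
      intro p hp
      exact Ideal.ne_bot_of_height_eq_one (hs p hp).2
  obtain ⟨f₀, hf₀mem, hf₀⟩ := Submodule.exists_mem_ne_zero_of_ne_bot hprod
  have hle1 : 𝔪 * ∏ p ∈ s, p ≤ 𝔪 := Ideal.mul_le_left
  have hf₀m : f₀ ∈ 𝔪 := hle1 hf₀mem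
  have hf₀s : ∀ p ∈ s, f₀ ∈ p := fun p hp => by
    have hle2 : 𝔪 * ∏ p ∈ s, p ≤ ∏ p ∈ s, p := Ideal.mul_le_right
    have h1 : f₀ ∈ ∏ p ∈ s, p := hle2 hf₀mem
    exact (Finset.inf_le hp : s.inf (fun p => p) ≤ p) (Ideal.prod_le_inf h1)
  -- Step 1: the system of parameters
  have hmin : ∀ p ∈ minimalPrimes R, f₀ ∉ p := by
    intro p hp
    rw [IsDomain.minimalPrimes_eq_singleton_bot, Set.mem_singleton_iff] at hp
    rw [hp]
    simpa using hf₀
  obtain ⟨g, N, hgm, hrad, hN, hpert⟩ :=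
    exists_sop_perturb 2 (by rw [hdim]; norm_cast) f₀ hf₀m hmin
  set g0 : R := g ⟨0, by norm_num⟩ with hg0
  have hgi : ∀ i, g i = g0 := by
    intro i
    rw [hg0]
    congr 1
    apply Fin.ext
    have := i.2
    simp only at this ⊢
    omega
  set I := Ideal.span (insert f₀ (Set.range g)) with hI
  have hgI : ∀ f', f' - f₀ ∈ 𝔪 ^ N → Ideal.span (insert f' (Set.range g)) = I := by
    intro f' hf'
    have h1 := hpert (f' - f₀) hf'
    rwa [add_sub_cancel] at h1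
  have hjac : Ideal.jacobson (⊥ : Ideal R) = 𝔪 :=
    IsLocalRing.jacobson_eq_maximalIdeal ⊥ bot_ne_top
  have hnotin : f₀ ∉ 𝔪 ^ N := by
    intro hmem
    have h1 : I ≤ Ideal.span {g0} ⊔ 𝔪 • I := by
      rw [hI, Ideal.span_le]
      rintro x (hx | ⟨i, rfl⟩)
      · rw [hx]
        refine Submodule.mem_sup_right ?_
        rw [Ideal.smul_eq_mul]
        exact hN hmem
      · refine Submodule.mem_sup_left ?_
        rw [hgi i]
        exact Ideal.mem_span_singleton_self _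
    have h2 : I ≤ Ideal.span {g0} :=
      Submodule.le_of_le_smul_of_le_jacobson_bot (IsNoetherian.noetherian I)
        (le_of_eq hjac.symm) h1
    have h3 : 𝔪 ∈ (Ideal.span {g0}).minimalPrimes := by
      refine ⟨⟨inferInstance, (Ideal.span_singleton_le_iff_mem _).2 (hgm _)⟩, ?_⟩
      rintro p ⟨hpp, hgp⟩ _
      calc 𝔪 ≤ I.radical := hrad
        _ ≤ (Ideal.span {g0}).radical := Ideal.radical_mono h2
        _ ≤ p := hpp.radical_le_iff.2 hgp
    have h4 := Ideal.height_le_one_of_isPrincipal_of_mem_minimalPrimes (Ideal.span {g0}) 𝔪 h3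
    rw [hmht] at h4
    exact h21 h4
  have hnotin' : ∀ f', f' - f₀ ∈ 𝔪 ^ N → f' ∉ 𝔪 ^ N := fun f' h1 h2 => hnotin (by
    have h3 := (𝔪 ^ N).sub_mem h2 h1
    rwa [sub_sub_cancel] at h3)
  -- Step 3: the family and the count
  let 𝒮 : Set R := {f' | f' - f₀ ∈ 𝔪 ^ N ∧ ∀ p ∈ s, f' ∈ p}
  have hf₀𝒮 : f₀ ∈ 𝒮 := ⟨by rw [sub_self]; exact Ideal.zero_mem _, hf₀s⟩
  have hne0 : ∀ f' ∈ 𝒮, f' ≠ 0 := fun f' hf' h0 =>
    hnotin' f' hf'.1 (h0 ▸ Ideal.zero_mem _)
  have hlen : Module.length R (R ⧸ I) ≠ ⊤ := by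
    apply Groth.Agent.Helper6.Dim1.length_ne_top_of_support_maximal
    intro p hp
    rw [Module.support_eq_zeroLocus, Ideal.annihilator_quotient] at hp
    have hIp : I ≤ p.asIdeal := hp
    have h1 : 𝔪 ≤ p.asIdeal := hrad.trans (p.2.radical_le_iff.2 hIp)
    have h2 : 𝔪 = p.asIdeal := (maximalIdeal.isMaximal R).eq_of_le p.2.ne_top h1
    rw [← h2]
    infer_instance
  set e := (Module.length R (R ⧸ I)).toNat with he
  let cnt : R → ℕ := fun x => (Ht1 x).ncard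
  have hbound : ∀ f' ∈ 𝒮, cnt f' ≤ e := by
    intro f' hf'
    have hf'0 := hne0 f' hf'
    have hfin := ht1_finite hf'0
    have hQmem : ∀ q, q ∈ hfin.toFinset ↔ q ∈ Ht1 f' := fun q => hfin.mem_toFinset
    have hI' : Ideal.span (insert f' (Set.range g)) = I := hgI f' hf'.1
    have hgq : ∀ q ∈ hfin.toFinset, g0 ∉ q := by
      intro q hq hg0q
      obtain ⟨hqp, hq1, hfq⟩ := (hQmem q).1 hq
      have hIq : I ≤ q := by
        rw [← hI', Ideal.span_le]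
        rintro x (hx | ⟨i, rfl⟩)
        · rw [hx]; exact hfq
        · rw [hgi i]; exact hg0q
      have h1 : 𝔪 ≤ q := hrad.trans (hqp.radical_le_iff.2 hIq)
      have hq𝔪 : 𝔪 = q := (maximalIdeal.isMaximal R).eq_of_le hqp.ne_top h1
      rw [← hq𝔪, hmht] at hq1
      exact h2ne1 hq1
    have h1 := card_le_length g0 (hgm _) hfin.toFinset (fun q hq => ((hQmem q).1 hq).1) hgq
      (fun q hq q' hq' hle => by
        haveI := ((hQmem q).1 hq).1
        exact eq_of_le_ht1 ((hQmem q).1 hq).2.1 ((hQmem q').1 hq').2.1 hle)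
    have h2 : I ≤ hfin.toFinset.inf id ⊔ Ideal.span {g0} := by
      rw [← hI', Ideal.span_le]
      rintro x (hx | ⟨i, rfl⟩)
      · refine Ideal.mem_sup_left ?_
        rw [hx, Submodule.mem_finsetInf]
        intro q hq
        exact ((hQmem q).1 hq).2.2
      · rw [hgi i]
        exact Ideal.mem_sup_right (Ideal.mem_span_singleton_self _)
    have h3 := h1.trans (length_quotient_mono h2)
    have h4 : cnt f' = hfin.toFinset.card := Set.ncard_eq_toFinset_card (Ht1 f') hfin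
    rw [h4]
    have h5 : (hfin.toFinset.card : ℕ∞) ≤ (e : ℕ∞) := by
      rw [he, ENat.natCast_toNat hlen]
      exact h3
    exact_mod_cast h5
  -- Step 4: a member with the largest number of height-one primes
  obtain ⟨f', hf'𝒮, hmaxf'⟩ : ∃ f' ∈ 𝒮, ∀ f'' ∈ 𝒮, cnt f'' ≤ cnt f' := by
    have hbdd : BddAbove (cnt '' 𝒮) := ⟨e, by rintro _ ⟨x, hx, rfl⟩; exact hbound x hx⟩
    have hne : (cnt '' 𝒮).Nonempty := ⟨_, f₀, hf₀𝒮, rfl⟩
    obtain ⟨x, hx, hxe⟩ := Nat.sSup_mem hne hbdd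
    exact ⟨x, hx, fun y hy => by rw [hxe]; exact le_csSup hbdd ⟨y, hy, rfl⟩⟩
  have hf'0 := hne0 f' hf'𝒮
  refine ⟨f', hf'0, hf'𝒮.2, ?_⟩
  -- Step 5
  by_contra hred
  have hex : ∃ (q₁ : Ideal R) (_ : q₁.IsPrime) (hq₁ : q₁.height = 1), 2 ≤ ord q₁ hq₁ f' := by
    by_contra hcon
    apply hred
    refine isReduced_of_forall_ord_le_one f' hf'0 ?_
    intro p hpp hp
    by_contra hlt
    rw [not_le] at hlt
    refine hcon ⟨p, hpp, hp, ?_⟩
    have := Order.add_one_le_of_lt hlt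
    rwa [one_add_one_eq_two] at this
  obtain ⟨q₁, hq₁p, hq₁, hord2⟩ := hex
  haveI := hq₁p
  have hfin := ht1_finite hf'0
  have hQmem : ∀ q, q ∈ hfin.toFinset ↔ q ∈ Ht1 f' := fun q => hfin.mem_toFinset
  have hfq₁ : f' ∈ q₁ := (one_le_ord_iff q₁ hq₁ f').1 (h12.trans hord2)
  have hq₁Q : q₁ ∈ hfin.toFinset := (hQmem q₁).2 ⟨hq₁p, hq₁, hfq₁⟩
  obtain ⟨a, haq, hao⟩ := exists_ord_eq_one q₁ hq₁
  have hq₁𝔪 : q₁ < 𝔪 := lt_of_le_of_ne (le_maximalIdeal hq₁p.ne_top) (fun h => by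
    rw [h, hmht] at hq₁
    exact h2ne1 hq₁)
  obtain ⟨c, hc𝔪, hcq⟩ := SetLike.exists_of_lt hq₁𝔪
  have hb : ∀ q ∈ hfin.toFinset.erase q₁, ∃ b ∈ q, b ∉ q₁ := by
    intro q hq
    obtain ⟨hne, hqQ⟩ := Finset.mem_erase.1 hq
    obtain ⟨hqp, hq1, _⟩ := (hQmem q).1 hqQ
    by_contra hcon
    push Not at hcon
    haveI := hqp
    exact hne (eq_of_le_ht1 hq1 hq₁ (fun b hb => hcon b hb))
  choose! b hbq hbq₁ using hb
  let nq : Ideal R → ℕ := fun q =>
    (if h : q.IsPrime ∧ q.height = 1 then (@ord R _ _ _ _ q h.1 h.2 f').toNat else 0) + 1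
  obtain ⟨h', hh'def⟩ : ∃ h' : R, h' = a * c ^ N * ∏ q ∈ hfin.toFinset.erase q₁, b q ^ nq q :=
    ⟨_, rfl⟩
  have hh'N : h' ∈ 𝔪 ^ N := by
    have h1 : c ^ N ∈ 𝔪 ^ N := Ideal.pow_mem_pow hc𝔪 N
    have h2 : h' = c ^ N * (a * ∏ q ∈ hfin.toFinset.erase q₁, b q ^ nq q) := by
      rw [hh'def]; ring
    rw [h2]
    exact Ideal.mul_mem_right _ _ h1
  have hh'Q : ∀ q ∈ hfin.toFinset, h' ∈ q := by
    intro q hq
    by_cases hqq : q = q₁
    · rw [hqq, hh'def]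
      exact Ideal.mul_mem_right _ _ (Ideal.mul_mem_right _ _ haq)
    · have hqe : q ∈ hfin.toFinset.erase q₁ := Finset.mem_erase.2 ⟨hqq, hq⟩
      rw [hh'def]
      refine Ideal.mul_mem_left _ _ ?_
      obtain ⟨k, hk⟩ := Finset.dvd_prod_of_mem (fun q => b q ^ nq q) hqe
      rw [hk]
      exact Ideal.mul_mem_right _ _ (Ideal.pow_mem_of_mem _ (hbq q hqe) _ (Nat.succ_pos _))
  have hord_h'_q₁ : ord q₁ hq₁ h' = 1 := by
    rw [hh'def, ord_mul, ord_mul, ord_pow, hao, (ord_eq_zero_iff q₁ hq₁ c).2 hcq, smul_zero,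
      add_zero, ord_prod, Finset.sum_eq_zero, add_zero]
    intro q hq
    rw [ord_pow, (ord_eq_zero_iff q₁ hq₁ (b q)).2 (hbq₁ q hq), smul_zero]
  have hord_h'_q : ∀ q ∈ hfin.toFinset.erase q₁, ∀ (hqp : q.IsPrime) (hq1 : q.height = 1),
      ord q hq1 f' < ord q hq1 h' := by
    intro q hq hqp hq1
    have h1 : ord q hq1 (b q ^ nq q) ≤ ord q hq1 h' := by
      obtain ⟨k, hk⟩ := Finset.dvd_prod_of_mem (fun q => b q ^ nq q) hq
      have h2 : h' = b q ^ nq q * (a * c ^ N * k) := by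
        rw [hh'def, hk]; ring
      rw [h2, ord_mul]
      exact le_self_add
    have h2 : (nq q : ℕ∞) ≤ ord q hq1 (b q ^ nq q) := by
      rw [ord_pow]
      have h3 := (one_le_ord_iff q hq1 (b q)).2 (hbq q hq)
      calc (nq q : ℕ∞) = nq q • (1 : ℕ∞) := by simp
        _ ≤ nq q • ord q hq1 (b q) := nsmul_le_nsmul_right h3 _
    have h3 : ord q hq1 f' < (nq q : ℕ∞) := by
      have hne : ord q hq1 f' ≠ ⊤ := fun h => hf'0 ((ord_eq_top_iff q hq1 f').1 h)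
      have h4 : nq q = (ord q hq1 f').toNat + 1 := by
        simp only [nq, dif_pos (⟨hqp, hq1⟩ : q.IsPrime ∧ q.height = 1)]
      rw [h4]
      conv_lhs => rw [← ENat.natCast_toNat hne]
      exact_mod_cast Nat.lt_succ_self _
    exact lt_of_lt_of_le h3 (h2.trans h1)
  obtain ⟨f'', hf''⟩ : ∃ f'' : R, f'' = f' + h' := ⟨_, rfl⟩
  have hf''𝒮 : f'' ∈ 𝒮 := by
    refine ⟨?_, fun p hp => ?_⟩
    · have h1 : f'' - f₀ = (f' - f₀) + h' := by rw [hf'']; ring
      rw [h1]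
      exact Ideal.add_mem _ hf'𝒮.1 hh'N
    · rw [hf'']
      exact Ideal.add_mem _ (hf'𝒮.2 p hp)
        (hh'Q p ((hQmem p).2 ⟨(hs p hp).1, (hs p hp).2, hf'𝒮.2 p hp⟩))
  have hf''0 := hne0 f'' hf''𝒮
  have hsub : Ht1 f' ⊆ Ht1 f'' := by
    rintro q ⟨hqp, hq1, hfq⟩
    refine ⟨hqp, hq1, ?_⟩
    rw [hf'']
    exact Ideal.add_mem _ hfq (hh'Q q ((hQmem q).2 ⟨hqp, hq1, hfq⟩))
  have heqset : Ht1 f' = Ht1 f'' :=
    Set.eq_of_subset_of_ncard_le hsub (hmaxf' f'' hf''𝒮) (ht1_finite hf''0)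
  have hq₁f'' : ord q₁ hq₁ f'' ≤ 1 := by
    by_contra hlt
    rw [not_le] at hlt
    have h2 : 2 ≤ ord q₁ hq₁ f'' := by
      have := Order.add_one_le_of_lt hlt
      rwa [one_add_one_eq_two] at this
    have h3 := ord_sub q₁ hq₁ f'' f'
    have h4 : f'' - f' = h' := by rw [hf'']; ring
    rw [h4, hord_h'_q₁] at h3
    exact h21 ((le_min h2 hord2).trans h3)
  have hordle : ∀ (p : Ideal R) [p.IsPrime] (hp : p.height = 1), ord p hp f'' ≤ ord p hp f' := by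
    intro p hpp hp
    by_cases hpQ : p ∈ Ht1 f'
    · by_cases hpq₁ : p = q₁
      · subst hpq₁
        exact hq₁f''.trans (h12.trans hord2)
      · have hpe : p ∈ hfin.toFinset.erase q₁ := Finset.mem_erase.2 ⟨hpq₁, (hQmem p).2 hpQ⟩
        have hlt := hord_h'_q p hpe hpp hp
        by_contra hcon
        rw [not_le] at hcon
        have h3 := ord_sub p hp f'' h'
        have h4 : f'' - h' = f' := by rw [hf'']; ring
        rw [h4] at h3
        exact absurd (lt_of_lt_of_le (lt_min hcon hlt) h3) (lt_irrefl _)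
    · have h1 : f'' ∉ p := fun h => hpQ (heqset ▸ ⟨hpp, hp, h⟩)
      rw [(ord_eq_zero_iff p hp f'').2 h1]
      exact zero_le
  obtain ⟨u, hu⟩ := dvd_of_forall_ord_le f'' f' hf''0 (fun p _ hp => hordle p hp)
  have huq : u ∈ q₁ := by
    by_contra hnot
    have h0 := (ord_eq_zero_iff q₁ hq₁ u).2 hnot
    have h1 : ord q₁ hq₁ f' = ord q₁ hq₁ f'' := by
      conv_lhs => rw [hu]
      rw [ord_mul, h0, add_zero]
    rw [h1] at hord2
    exact h21 (hord2.trans hq₁f'')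
  have hu𝔪 : u ∈ 𝔪 := le_maximalIdeal hq₁p.ne_top huq
  have hunit : IsUnit (1 - u) := by
    by_contra hnu
    have h1 : 1 - u ∈ 𝔪 := (mem_maximalIdeal _).2 (mem_nonunits_iff.2 hnu)
    have h2 : (1 : R) ∈ 𝔪 := by
      have h3 := 𝔪.add_mem h1 hu𝔪
      rwa [sub_add_cancel] at h3
    exact (maximalIdeal.isMaximal R).ne_top ((Ideal.eq_top_iff_one _).2 h2)
  have hh'eq : h' = f'' * (1 - u) := by
    rw [mul_sub, mul_one, ← hu, hf'']; ring
  obtain ⟨v, hv⟩ := hunit.exists_right_inv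
  have hf''eq : f'' = h' * v := by rw [hh'eq, mul_assoc, hv, mul_one]
  have hf''N : f'' ∈ 𝔪 ^ N := by
    rw [hf''eq]
    exact Ideal.mul_mem_right _ _ hh'N
  exact hnotin' f'' hf''𝒮.1 hf''N

theorem main_dvd (hdim : ringKrullDim R = 2) (a : R) (ha0 : a ≠ 0) :
    ∃ c : R, c ≠ 0 ∧ IsReduced (R ⧸ Ideal.span {c}) ∧ ∃ n : ℕ, a ∣ c ^ n := by
  classical
  have hfin := ht1_finite ha0
  have hQmem : ∀ q, q ∈ hfin.toFinset ↔ q ∈ Ht1 a := fun q => hfin.mem_toFinset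
  obtain ⟨f, hf0, hfs, hred⟩ := main hdim hfin.toFinset
    (fun p hp => ⟨((hQmem p).1 hp).1, ((hQmem p).1 hp).2.1⟩)
  refine ⟨f, hf0, hred, ?_⟩
  let nq : Ideal R → ℕ := fun q =>
    if h : q.IsPrime ∧ q.height = 1 then (@ord R _ _ _ _ q h.1 h.2 a).toNat else 0
  refine ⟨∑ q ∈ hfin.toFinset, nq q, ?_⟩
  refine dvd_of_forall_ord_le a _ ha0 ?_
  intro p hpp hp
  by_cases hap : a ∈ p
  · have hpQ : p ∈ hfin.toFinset := (hQmem p).2 ⟨hpp, hp, hap⟩
    have hne : ord p hp a ≠ ⊤ := fun h => ha0 ((ord_eq_top_iff p hp a).1 h)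
    have h1 : nq p = (ord p hp a).toNat := by
      simp only [nq, dif_pos (⟨hpp, hp⟩ : p.IsPrime ∧ p.height = 1)]
    have h2 : nq p ≤ ∑ q ∈ hfin.toFinset, nq q :=
      Finset.single_le_sum (f := nq) (fun _ _ => Nat.zero_le _) hpQ
    have h3 : 1 ≤ ord p hp f := (one_le_ord_iff p hp f).2 (hfs p hpQ)
    rw [ord_pow]
    calc ord p hp a = ((ord p hp a).toNat : ℕ∞) := (ENat.natCast_toNat hne).symm
      _ = (nq p : ℕ∞) := by rw [h1]
      _ ≤ ((∑ q ∈ hfin.toFinset, nq q : ℕ) : ℕ∞) := by exact_mod_cast h2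
      _ = (∑ q ∈ hfin.toFinset, nq q) • (1 : ℕ∞) := by simp
      _ ≤ (∑ q ∈ hfin.toFinset, nq q) • ord p hp f := nsmul_le_nsmul_right h3 _
  · rw [(ord_eq_zero_iff p hp a).2 hap]
    exact zero_le

end Groth.Agent.Helper6.PrinRad
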