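import Mathlib

set_option autoImplicit false

namespace Groth.Agent.Helper6.ProCompl

open CategoryTheory ProfiniteGrp ProfiniteGrp.ProfiniteCompletion

universe u
variable {G G' G'' : Type u} [Group G] [Group G'] [Group G'']

/-- The map induced on profinite completions. -/
noncomputable def hat (f : G →* G') :
    completion (GrpCat.of G) →ₜ* completion (GrpCat.of G') :=
  (profiniteCompletion.map (GrpCat.ofHom f)).hom

theorem hat_eta (f : G →* G') (g : G) :
    hat f (etaFn (GrpCat.of G) g) = etaFn (GrpCat.of G') (f g) := by
  have h := lift_eta (G := GrpCat.of G) (P := completion (GrpCat.of G'))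
    (GrpCat.ofHom f ≫ eta (GrpCat.of G'))
  exact ConcreteCategory.congr_hom h g

theorem continuous_hat (f : G →* G') : Continuous (hat f) := (hat f).continuous_toFun

instance discrete_obj (H : FiniteIndexNormalSubgroup G) :
    DiscreteTopology ((diagram (GrpCat.of G)).obj H) := ⟨rfl⟩

theorem continuous_component (H : FiniteIndexNormalSubgroup G) :
    Continuous (fun x : completion (GrpCat.of G) => x.val H) :=
  (continuous_apply H).comp continuous_subtype_val

/-- Two continuous maps out of the completion into a Hausdorff space agreeing on `G` are equal. -/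
theorem ext_of_eta {Y : Type*} [TopologicalSpace Y] [T2Space Y]
    (φ₁ φ₂ : completion (GrpCat.of G) → Y) (h₁ : Continuous φ₁) (h₂ : Continuous φ₂)
    (h : ∀ g : G, φ₁ (etaFn (GrpCat.of G) g) = φ₂ (etaFn (GrpCat.of G) g)) : φ₁ = φ₂ :=
  (denseRange (GrpCat.of G)).equalizer h₁ h₂ (funext h)

/-- The component formula for the induced map. -/
theorem hat_component (f : G →* G') (H' : FiniteIndexNormalSubgroup G')
    (x : completion (GrpCat.of G)) :
    (hat f x).val H' =
      QuotientGroup.map (H'.comap f).toSubgroup H'.toSubgroup f (fun _ h => h)
        (x.val (H'.comap f)) := by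
  have := ext_of_eta (Y := (diagram (GrpCat.of G')).obj H')
    (fun x => (hat f x).val H')
    (fun x => QuotientGroup.map (H'.comap f).toSubgroup H'.toSubgroup f (fun _ h => h)
        (x.val (H'.comap f)))
    ((continuous_component H').comp (continuous_hat f))
    (continuous_of_discreteTopology.comp (continuous_component (H'.comap f)))
    (fun g => by
      simp only [hat_eta]
      rfl)
  exact congrFun this x

end Groth.Agent.Helper6.ProCompl
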