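import Mathlib
import Groth.Agent.Helper6.ProCompl

set_option autoImplicit false

namespace Groth.Agent.Helper6.ProCompl

open CategoryTheory ProfiniteGrp ProfiniteGrp.ProfiniteCompletion

universe u
variable {G G' : Type u} [Group G] [Group G']

/-- Closure criterion in the completion: it is enough to match each single component. -/
theorem mem_closure_of_forall_component (S : Set (completion (GrpCat.of G)))
    (z : completion (GrpCat.of G))
    (h : ∀ H : FiniteIndexNormalSubgroup G, ∃ s ∈ S, s.val H = z.val H) : z ∈ closure S := by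
  rw [mem_closure_iff]
  rintro U ⟨s, hsO, hsv⟩ hzU
  rw [← hsv] at hzU
  have hzU' : z.val ∈ s := hzU
  rcases (isOpen_pi_iff.mp hsO) _ hzU' with ⟨J, fJ, hJ1, hJ2⟩
  let M : Subgroup G := iInf fun (j : J) => j.val
  have hM : M.Normal := Subgroup.normal_iInf_normal fun j => inferInstance
  have hMFinite : M.FiniteIndex := by
    apply Subgroup.finiteIndex_iInf
    infer_instance
  let m : FiniteIndexNormalSubgroup G := { toSubgroup := M }
  obtain ⟨s₀, hs₀S, hs₀⟩ := h m
  refine ⟨s₀, ?_, hs₀S⟩
  rw [← hsv]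
  apply hJ2
  intro a a_in_J
  let M_to_Na : m ⟶ a := (iInf_le (fun (j : J) => (j.val.toSubgroup)) ⟨a, a_in_J⟩).hom
  have e1 := s₀.property M_to_Na
  have e2 := z.property M_to_Na
  have e3 : s₀.val a = z.val a := by rw [← e1, ← e2, hs₀]
  change s₀.val a ∈ fJ a
  rw [e3]
  exact (hJ1 a a_in_J).right

theorem eta_one : etaFn (GrpCat.of G) 1 = 1 := rfl

theorem isClosed_range_hat (f : G →* G') : IsClosed (Set.range (hat f)) :=
  (isCompact_range (continuous_hat f)).isClosed

theorem hat_surjective_of_surjective (f : G →* G') (hf : Function.Surjective f) :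
    Function.Surjective (hat f) := by
  rw [← Set.range_eq_univ, ← (isClosed_range_hat f).closure_eq, ← Set.univ_subset_iff,
    ← (denseRange (GrpCat.of G')).closure_eq]
  apply closure_mono
  rintro _ ⟨g', rfl⟩
  obtain ⟨g, rfl⟩ := hf g'
  exact ⟨etaFn _ g, hat_eta f g⟩


section Abelian

variable {A : Type u} [CommGroup A] (A' : Subgroup A)

theorem hat_mk_hat_subtype (y : completion (GrpCat.of A')) :
    hat (QuotientGroup.mk' A') (hat A'.subtype y) = 1 := by
  have := ext_of_eta (Y := completion (GrpCat.of (A ⧸ A')))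
    (fun y => hat (QuotientGroup.mk' A') (hat A'.subtype y)) (fun _ => 1)
    ((continuous_hat _).comp (continuous_hat _)) continuous_const
    (fun g => by
      simp only [hat_eta]
      have : (QuotientGroup.mk' A') (A'.subtype g) = 1 := by
        rw [QuotientGroup.mk'_apply, QuotientGroup.eq_one_iff]
        exact g.2
      rw [this]
      rfl)
  exact congrFun this y

theorem mem_range_hat_subtype_of_hat_mk_eq_one (z : completion (GrpCat.of A))
    (hz : hat (QuotientGroup.mk' A') z = 1) : z ∈ Set.range (hat A'.subtype) := by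
  rw [← (isClosed_range_hat A'.subtype).closure_eq]
  apply mem_closure_of_forall_component
  intro H
  -- the subgroup `(H ⊔ A')` pushed to the quotient
  let q := QuotientGroup.mk' A'
  have hq : Function.Surjective q := QuotientGroup.mk'_surjective A'
  haveI : (H.toSubgroup ⊔ A').FiniteIndex := Subgroup.finiteIndex_of_le (le_sup_left)
  haveI : ((H.toSubgroup ⊔ A').map q).FiniteIndex := by
    refine ⟨fun h0 => ?_⟩
    have := Subgroup.index_map_dvd (H.toSubgroup ⊔ A') hq
    rw [h0, zero_dvd_iff] at this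
    exact Subgroup.FiniteIndex.index_ne_zero this
  let Kbar : FiniteIndexNormalSubgroup (A ⧸ A') :=
    FiniteIndexNormalSubgroup.ofSubgroup ((H.toSubgroup ⊔ A').map q)
  let K' : FiniteIndexNormalSubgroup A := Kbar.comap q
  have hHK : H ≤ K' := by
    intro g hg
    change q g ∈ (H.toSubgroup ⊔ A').map q
    exact Subgroup.mem_map_of_mem q (Subgroup.mem_sup_left hg)
  have hK'mem : ∀ g : A, g ∈ K'.toSubgroup → ∃ h ∈ H.toSubgroup, ∃ a' ∈ A', h * a' = g := by
    intro g hg
    have hg' : q g ∈ (H.toSubgroup ⊔ A').map q := hg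
    obtain ⟨k, hk, hkg⟩ := Subgroup.mem_map.1 hg'
    have h1 : k⁻¹ * g ∈ A' := by
      rw [← QuotientGroup.eq]
      exact hkg
    have h2 : g ∈ H.toSubgroup ⊔ A' := by
      have : g = k * (k⁻¹ * g) := by group
      rw [this]
      exact Subgroup.mul_mem _ hk (Subgroup.mem_sup_right h1)
    exact Subgroup.mem_sup.1 h2
  -- z at K' is trivial
  have h1 := hat_component q Kbar z
  rw [hz] at h1
  obtain ⟨g, hg⟩ := QuotientGroup.mk_surjective (z.val K')
  have hzK' : z.val K' = 1 := by
    rw [← hg]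
    have h2 : (QuotientGroup.map K'.toSubgroup Kbar.toSubgroup q (fun _ h => h))
        (QuotientGroup.mk g) = (QuotientGroup.mk (q g) : (A ⧸ A') ⧸ Kbar.toSubgroup) := rfl
    have h3 : ((1 : completion (GrpCat.of (A ⧸ A'))).val Kbar) =
        (1 : (A ⧸ A') ⧸ Kbar.toSubgroup) := rfl
    have hg2 : (z.val (Kbar.comap q)) = QuotientGroup.mk g := hg.symm
    rw [hg2, h2, h3] at h1
    have h4 : q g ∈ Kbar.toSubgroup := (QuotientGroup.eq_one_iff _).1 h1.symm
    exact (QuotientGroup.eq_one_iff g).2 h4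
  -- compatibility
  obtain ⟨g₀, hg₀⟩ := QuotientGroup.mk_surjective (z.val H)
  have hcompat := z.property (homOfLE hHK)
  rw [hzK', ← hg₀] at hcompat
  have h5 : (QuotientGroup.mk g₀ : A ⧸ K'.toSubgroup) = 1 := hcompat
  have h6 : g₀ ∈ K'.toSubgroup := (QuotientGroup.eq_one_iff g₀).1 h5
  obtain ⟨h, hh, a', ha', hprod⟩ := hK'mem g₀ h6
  refine ⟨hat A'.subtype (etaFn _ ⟨a', ha'⟩), ⟨_, rfl⟩, ?_⟩
  rw [hat_eta, ← hg₀]
  change (QuotientGroup.mk a' : A ⧸ H.toSubgroup) = QuotientGroup.mk g₀
  rw [QuotientGroup.eq, ← hprod]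
  have : a'⁻¹ * (h * a') = h := by
    rw [mul_comm h a', inv_mul_cancel_left]
  rw [this]
  exact hh

end Abelian

end Groth.Agent.Helper6.ProCompl
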