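import Mathlib
import Groth.Agent.Helper6.ProCompl2
import Groth.Agent.Helper6.BddSep

set_option autoImplicit false

namespace Groth.Agent.Helper6.ProCompl

open CategoryTheory ProfiniteGrp ProfiniteGrp.ProfiniteCompletion

universe u

theorem hat_subtype_injective {A : Type u} [CommGroup A] (A' : Subgroup A)
    (htors : ∃ N : ℕ, 0 < N ∧ ∀ x : A ⧸ A', IsOfFinOrder x → x ^ N = 1) :
    Function.Injective (hat A'.subtype) := by
  rw [injective_iff_map_eq_one]
  intro y hy
  apply ProfiniteGrp.limit_ext
  intro H'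
  haveI : H'.toSubgroup.FiniteIndex := inferInstance
  obtain ⟨H, hHfin, hH⟩ := Groth.Agent.Helper6.BddSep.exists_finiteIndex_comap_le A' htors
    H'.toSubgroup
  let Hn : FiniteIndexNormalSubgroup A := FiniteIndexNormalSubgroup.ofSubgroup H
  have h1 := hat_component A'.subtype Hn y
  rw [hy] at h1
  obtain ⟨a', ha'⟩ := QuotientGroup.mk_surjective (y.val (Hn.comap A'.subtype))
  have hcomp : y.val (Hn.comap A'.subtype) = 1 := by
    rw [← ha']
    have ha2 : y.val (Hn.comap A'.subtype) = QuotientGroup.mk a' := ha'.symm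
    rw [ha2] at h1
    have h2 : (QuotientGroup.map (Hn.comap A'.subtype).toSubgroup Hn.toSubgroup A'.subtype
        (fun _ h => h)) (QuotientGroup.mk a') = (QuotientGroup.mk (a' : A) : A ⧸ H) := rfl
    have h3 : ((1 : completion (GrpCat.of A)).val Hn) = (1 : A ⧸ H) := rfl
    rw [h2, h3] at h1
    have h4 : (a' : A) ∈ H := (QuotientGroup.eq_one_iff _).1 h1.symm
    exact (QuotientGroup.eq_one_iff a').2 h4
  have hle : Hn.comap A'.subtype ≤ H' := by
    intro a ha
    exact hH a ha
  have hcompat := y.property (homOfLE hle)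
  rw [hcomp] at hcompat
  rw [← hcompat]
  rfl

end Groth.Agent.Helper6.ProCompl
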