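import Mathlib
import Groth.Prelude.Def_EtBase
import Groth.Prelude.Def_EtCore
import Groth.Prelude.Def_EtAcyc
import Groth.Prelude.Def_EtLim
import Groth.Agent.Helper3.FRank2
import Groth.Agent.Helper4.LTorsB
import Groth.Agent.Helper6.AcycComp
import Groth.Agent.Helper6.GalDescG
import Groth.Agent.Helper6.FEtTrB
import Groth.Agent.Helper6.FEtTrD
import Groth.Agent.Helper6.HofPushBC2
import Groth.Agent.Helper6.LimCohU
import Groth.Agent.Helper6.LimCohW
import Groth.Agent.Helper6.LimCohZ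
import Groth.Agent.Helper6.ProFEtA
import Groth.Agent.Helper9.HpullComp
import Groth.Agent.Helper9.PushEpiAb
import Groth.Agent.Helper9.LocalBFin
import Groth.Agent.Helper9.PropBOfLocal
import Groth.Agent.Helper9.EtPushInj
import Groth.Agent.S14451

/-! Cohomology of a pro-(finite étale) cover of degrees prime to `ℓ`. -/

set_option autoImplicit false
set_option linter.style.haveILetI false
set_option linter.unusedSectionVars false
set_option linter.unusedVariables false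
set_option linter.unusedSimpArgs false

universe u

open CategoryTheory CategoryTheory.Limits Opposite AlgebraicGeometry

namespace Groth.Agent.Helper6.ProFEtB

open Groth.Agent.Helper6.LimCohA Groth.Agent.Helper6.LimCohZ

section LT

variable (ℓ : ℕ) [hℓ : Fact ℓ.Prime]

lemma primesIn_pow (m : ℕ) : EtAcyc.PrimesIn {ℓ} (ℓ ^ m) := by
  refine ⟨pow_pos hℓ.out.pos m, fun p hp hdvd => ?_⟩
  have := (Nat.prime_dvd_prime_iff_eq hp hℓ.out).1 (hp.dvd_of_dvd_pow hdvd)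
  exact this

lemma exists_pow_of_primesIn {k : ℕ} (h : EtAcyc.PrimesIn {ℓ} k) : ∃ m, k = ℓ ^ m :=
  ⟨_, Nat.eq_prime_pow_of_unique_prime_dvd (Nat.pos_iff_ne_zero.1 h.1)
    (fun {d} hd hdk => h.2 d hd hdk)⟩

lemma isLTorsion_iff {Y : Scheme.{u}} (G : EtCoh.Ab Y) :
    EtAcyc.IsLTorsion {ℓ} G ↔
      ∀ (U : Y.Etale) (s : EtCoh.sect G U) (y : ↥U.left), ∃ (V : Y.Etale) (φ : V ⟶ U),
        (∃ v : ↥V.left, φ.left.base v = y) ∧ ∃ m : ℕ, (ℓ ^ m) • G.obj.map φ.op s = 0 := by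
  constructor
  · intro h U s y
    obtain ⟨V, g, k, hv, hk, hks⟩ := h U s y
    obtain ⟨m, rfl⟩ := exists_pow_of_primesIn ℓ hk
    exact ⟨V, g, hv, m, hks⟩
  · intro h U s y
    obtain ⟨V, g, hv, m, hm⟩ := h U s y
    exact ⟨V, g, ℓ ^ m, hv, primesIn_pow ℓ m, hm⟩

end LT

section Trace

variable {X X' : Scheme.{u}} (f : X' ⟶ X) [IsFinite f] [Etale f]

/-- a class killed by pullback to a finite étale cover of constant rank `d` is killed by `d` -/
theorem nsmul_eq_zero_of_finrank (d : ℕ) (hrank : ∀ s, f.finrank s = d)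
    [PreservesFiniteLimits (EtCoh.pull f)] (F : EtCoh.Ab X) (q : ℕ) (z : EtCoh.H X F q)
    (hz : EtCore.Hpull f F q z = 0) : d • z = 0 := by
  obtain ⟨Y, ψ, hψf, hψe, hψs, -, inj, hinj, ⟨hc⟩⟩ := Groth.Agent.Helper3.FSplit.splitDeg d f hrank
  haveI := hψe
  haveI := hψs
  let T := FEtTrB.traceData f ψ inj hinj hc
  exact GalDescG.nsmul_eq_zero_of_Hpull_eq_zero f (GalDescD.cor T) (GalDescD.cor_counit T) z hz

end Trace

section HpullZero

variable {X Y Z : Scheme.{u}}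

lemma H_map_inv_hom {A B : EtCoh.Ab X} (e : A ≅ B) (n : ℕ) (x : EtCoh.H X A n) :
    Sheaf.H.map e.inv n (Sheaf.H.map e.hom n x) = x := by
  rw [← Sheaf.H.map_comp_apply, e.hom_inv_id, Sheaf.H.map_id_apply]

lemma Hpull_eq_zero_of_comp (f : X ⟶ Y) (g : Y ⟶ Z) (h : X ⟶ Z) (w : f ≫ g = h)
    [PreservesFiniteLimits (EtCoh.pull f)] [PreservesFiniteLimits (EtCoh.pull g)]
    [PreservesFiniteLimits (EtCoh.pull h)] (G : EtCoh.Ab Z) (n : ℕ) (x : EtCoh.H Z G n)
    (hx : EtCore.Hpull f ((EtCoh.pull g).obj G) n (EtCore.Hpull g G n x) = 0) :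
    EtCore.Hpull h G n x = 0 := by
  subst w
  rw [Groth.Agent.Helper9.HpullComp.Hpull_comp f g G n x, hx, map_zero]

end HpullZero

section Main

variable (ℓ : ℕ) [hℓ : Fact ℓ.Prime] (n : ℕ)
  (S : Scheme.{u}) [CompactSpace ↥S] [QuasiSeparatedSpace ↥S]
  {ι : Type u} [Preorder ι] [IsDirected ι (· ≤ ·)] [Nonempty ι] (Xs : ιᵒᵖ ⥤ Over S)
  (hfin : ∀ i, IsFinite (Xs.obj i).hom) (het : ∀ i, AlgebraicGeometry.Etale (Xs.obj i).hom)
  (c : Cone Xs) (hc : IsLimit c)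

/-- the underlying system of schemes -/
abbrev Zs : ιᵒᵖ ⥤ Scheme.{u} := Xs ⋙ Over.forget S

/-- the underlying cone of schemes -/
abbrev cZ : Cone (Zs S Xs) := (Over.forget S).mapCone c

attribute [local instance] IsCofiltered.isConnected in
/-- the underlying cone of schemes is a limit cone -/
noncomputable def hcZ : IsLimit (cZ S Xs c) := isLimitOfPreserves (Over.forget S) hc

include hfin in
lemma haffZ ⦃a b : ιᵒᵖ⦄ (h : a ⟶ b) : IsAffineHom ((Zs S Xs).map h) := by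
  haveI := hfin a
  haveI := hfin b
  haveI : IsFinite ((Xs.map h).left ≫ (Xs.obj b).hom) := by
    rw [Over.w]
    infer_instance
  haveI : IsFinite (Xs.map h).left := IsFinite.of_comp (Xs.map h).left (Xs.obj b).hom
  show IsAffineHom (Xs.map h).left
  infer_instance

/-- the structure morphisms -/
abbrev pS (a : ιᵒᵖ) : (Zs S Xs).obj a ⟶ S := (Xs.obj a).hom

include hfin in
lemma hqcZ (a : ιᵒᵖ) : CompactSpace ↥((Zs S Xs).obj a) := by
  haveI : IsFinite (pS S Xs a) := hfin a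
  exact QuasiCompact.compactSpace_of_compactSpace (pS S Xs a)

include hfin in
lemma hqsZ (a : ιᵒᵖ) : QuasiSeparatedSpace ↥((Zs S Xs).obj a) := by
  haveI : IsFinite (pS S Xs a) := hfin a
  exact quasiSeparatedSpace_of_quasiSeparated (pS S Xs a)

section PartB

include hfin hc in
theorem partB (F : EtCoh.Ab c.pt.left) (hF : EtAcyc.IsLTorsion {ℓ} F)
    (hne : Nontrivial (EtCoh.H c.pt.left F n)) :
    EtAcyc.IsLTorsion {ℓ} ((EtCoh.push c.pt.hom).obj F) ∧
      Nontrivial (EtCoh.H S ((EtCoh.push c.pt.hom).obj F) n) := by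
  have haff := haffZ S Xs hfin
  have hqc := hqcZ S Xs hfin
  have hqs := hqsZ S Xs hfin
  have hlim := hcZ S Xs c hc
  have G := Groth.Agent.Helper6.LimCohI.geo (Zs S Xs) haff (cZ S Xs c) hlim
  obtain ⟨i₀⟩ := ‹Nonempty ι›
  have hw : ∀ j : ι, (cZ S Xs c).π.app (op j) ≫ pS S Xs (op j) = c.pt.hom :=
    fun j => Over.w (c.π.app (op j))
  haveI : IsAffineHom c.pt.hom := by
    rw [← hw i₀]
    have a1 : IsAffineHom ((cZ S Xs c).π.app (op i₀)) := G.affine i₀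
    haveI : IsFinite (pS S Xs (op i₀)) := hfin _
    have a2 : IsAffineHom (pS S Xs (op i₀)) := inferInstance
    exact MorphismProperty.comp_mem _ _ _ a1 a2
  constructor
  · exact Groth.Agent.Helper4.LTors.isLTorsion_push c.pt.hom F hF
  · obtain ⟨ξ, hξ⟩ := exists_ne (0 : EtCoh.H c.pt.left F n)
    obtain ⟨h1, -⟩ := Groth.Agent.Helper6.LimCohW.push_form (Zs S Xs) (cZ S Xs c) F haff hqc hqs
      hlim n
    obtain ⟨j, ξj, hj⟩ := h1 ξ
    have hξj : ξj ≠ 0 := by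
      rintro rfl
      exact hξ (hj.symm.trans (map_zero _))
    haveI : IsFinite (pS S Xs (op j)) := hfin _
    have hbij := Groth.Agent.S14451.result (pS S Xs (op j))
      ((EtCoh.push ((cZ S Xs c).π.app (op j))).obj F)
      (fun q hq => Groth.Agent.Helper9.PushEpiAb.isZero_Rpush
        (Groth.Agent.Helper9.LocalB.propB_of_isFinite _) _ q hq) n
    obtain ⟨ζ, hζ⟩ := hbij.2 ξj
    have hζ0 : ζ ≠ 0 := by
      rintro rfl
      exact hξj (hζ.symm.trans (map_zero _))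
    let e := pk (pS S Xs (op j)) ((cZ S Xs c).π.app (op j)) c.pt.hom (hw j) F
    refine ⟨⟨Sheaf.H.map (inv e) n ζ, 0, ?_⟩⟩
    intro h0
    have h2 := congrArg (Sheaf.H.map e n) h0
    rw [← Sheaf.H.map_comp_apply, IsIso.inv_hom_id, Sheaf.H.map_id_apply] at h2
    exact hζ0 (h2.trans (map_zero _))

end PartB

section PartA

include hfin het hc in
theorem partA (d : ιᵒᵖ → ℕ) (hd : ∀ i, ℓ.Coprime (d i))
    (hdeg : ∀ (i : ιᵒᵖ) (Ω : Type u) [Field Ω] [IsAlgClosed Ω] (η : Spec (CommRingCat.of Ω) ⟶ S),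
      Nat.card {t : Spec (CommRingCat.of Ω) ⟶ (Xs.obj i).left // t ≫ (Xs.obj i).hom = η} = d i)
    (G : EtCoh.Ab S) (hG : EtAcyc.IsLTorsion {ℓ} G) (hne : Nontrivial (EtCoh.H S G n)) :
    EtAcyc.IsLTorsion {ℓ} ((EtCoh.pull c.pt.hom).obj G) ∧
      Nontrivial (EtCoh.H c.pt.left ((EtCoh.pull c.pt.hom).obj G) n) := by
  have haff := haffZ S Xs hfin
  have hqc := hqcZ S Xs hfin
  have hqs := hqsZ S Xs hfin
  have hlim := hcZ S Xs c hc
  obtain ⟨i₀⟩ := ‹Nonempty ι›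
  have hw : ∀ j : ι, (cZ S Xs c).π.app (op j) ≫ pS S Xs (op j) = c.pt.hom :=
    fun j => Over.w (c.π.app (op j))
  refine ⟨Groth.Agent.Helper6.AcycComp.isLTorsion_pull c.pt.hom {ℓ} G hG, ?_⟩
  by_contra hnt
  rw [not_nontrivial_iff_subsingleton] at hnt
  obtain ⟨α, hα⟩ := exists_ne (0 : EtCoh.H S G n)
  let F₀ : EtCoh.Ab ((Zs S Xs).obj (op i₀)) := (EtCoh.pull (pS S Xs (op i₀))).obj G
  let e : (EtCoh.pull ((cZ S Xs c).π.app (op i₀))).obj F₀ ≅ (EtCoh.pull c.pt.hom).obj G :=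
    ((EtCore.pullComp ((cZ S Xs c).π.app (op i₀)) (pS S Xs (op i₀))).symm ≪≫
      EtCore.pullCongr (hw i₀)).app G
  haveI hsub : Subsingleton (EtCoh.H (cZ S Xs c).pt
      ((EtCoh.pull ((cZ S Xs c).π.app (op i₀))).obj F₀) n) := by
    refine ⟨fun a b => ?_⟩
    have h1 : Sheaf.H.map e.hom n a = Sheaf.H.map e.hom n b := hnt.elim _ _
    have h2 := congrArg (Sheaf.H.map e.inv n) h1
    exact (H_map_inv_hom e n a).symm.trans (h2.trans (H_map_inv_hom e n b))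
  obtain ⟨-, h2⟩ := Groth.Agent.Helper6.LimCohU.single (Zs S Xs) (cZ S Xs c) i₀ F₀ haff hqc hqs
    hlim n
  let β : EtCoh.H ((Zs S Xs).obj (op i₀)) F₀ n := EtCore.Hpull (pS S Xs (op i₀)) G n α
  let b : (Zs S Xs).obj (op i₀) ⟶ (Zs S Xs).obj (op i₀) :=
    (Zs S Xs).map (homOfLE (le_refl i₀)).op
  let ξj : EtCoh.H ((Zs S Xs).obj (op i₀)) ((EtCoh.pull b).obj F₀) n := EtCore.Hpull b F₀ n β
  obtain ⟨k, hk, hk0⟩ := h2 i₀ (le_refl i₀) ξj (hsub.elim _ _)
  let a : (Zs S Xs).obj (op k) ⟶ (Zs S Xs).obj (op i₀) := (Zs S Xs).map (homOfLE hk).op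
  have h3 : EtCore.Hpull (a ≫ b) F₀ n β = 0 := Hpull_eq_zero_of_comp a b (a ≫ b) rfl F₀ n β hk0
  have w' : (a ≫ b) ≫ pS S Xs (op i₀) = pS S Xs (op k) := by
    have e1 : b ≫ pS S Xs (op i₀) = pS S Xs (op i₀) := Over.w (Xs.map (homOfLE (le_refl i₀)).op)
    have e2 : a ≫ pS S Xs (op i₀) = pS S Xs (op k) := Over.w (Xs.map (homOfLE hk).op)
    rw [Category.assoc, e1, e2]
  have h4 : EtCore.Hpull (pS S Xs (op k)) G n α = 0 :=
    Hpull_eq_zero_of_comp (a ≫ b) (pS S Xs (op i₀)) (pS S Xs (op k)) w' G n α h3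
  haveI : IsFinite (pS S Xs (op k)) := hfin _
  haveI : Etale (pS S Xs (op k)) := het _
  have hrank := Groth.Agent.Helper6.ProFEtA.finrank_eq_of_card_lifts (pS S Xs (op k)) (d (op k))
    (fun Ω _ _ η => hdeg (op k) Ω η)
  have h5 := nsmul_eq_zero_of_finrank (pS S Xs (op k)) (d (op k)) hrank G n α h4
  have hL : ∀ p : ℕ, p.Prime → p ∈ ({ℓ} : Set ℕ) → ¬ p ∣ d (op k) := by
    intro p hp hpl
    have hpl' : p = ℓ := hpl
    subst hpl'
    exact (Nat.Prime.coprime_iff_not_dvd hp).1 (hd (op k))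
  exact hα (Groth.Agent.Helper6.FEtTrD.eq_zero_of_nsmul_eq_zero hL G hG n α h5)

end PartA

end Main

end Groth.Agent.Helper6.ProFEtB
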