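import Mathlib
import Groth.Agent.Helper6.FpAlg
import Groth.Agent.Helper6.RepComp

/-!
# Helper6: products of 1-morphisms over the base (`f₁ × f₂`)
-/

set_option autoImplicit false
set_option linter.style.haveILetI false
set_option linter.unusedVariables false
universe w' v' w v u v₇ u₇ v₆ u₆ v₅ u₅ v₄ u₄ v₃ u₃ v₂ u₂ v₁ u₁

namespace Groth.Agent.Helper6.ProdMap
open CategoryTheory Functor FibCat Limits AlgebraicGeometry Opposite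
open Groth.Agent.Helper3 Groth.Agent.Helper6.FpTools Groth.Agent.Helper6.AlgStInv

section General

variable {C : Type u₁} [Category.{v₁} C]

/-- two morphisms of the base lying over the same identity coincide -/
theorem selfOver_hom_eq {a b T : C} (φ ψ : a ⟶ b) (hφ : (selfOver C).p.IsHomLift (𝟙 T) φ)
    (hψ : (selfOver C).p.IsHomLift (𝟙 T) ψ) : φ = ψ := by
  have h1 : φ = eqToHom (IsHomLift.domain_eq (selfOver C).p (𝟙 T) φ) ≫ 𝟙 T ≫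
      eqToHom (IsHomLift.codomain_eq (selfOver C).p (𝟙 T) φ).symm :=
    IsHomLift.fac' (selfOver C).p (𝟙 T) φ
  have h2 : ψ = eqToHom (IsHomLift.domain_eq (selfOver C).p (𝟙 T) ψ) ≫ 𝟙 T ≫
      eqToHom (IsHomLift.codomain_eq (selfOver C).p (𝟙 T) ψ).symm :=
    IsHomLift.fac' (selfOver C).p (𝟙 T) ψ
  exact h1.trans h2.symm

variable {𝒜 : BasedCategory.{v₂, u₂} C} {𝒴₁ : BasedCategory.{v₃, u₃} C}
  {𝒴₂ : BasedCategory.{v₄, u₄} C}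

/-- two functors into a product over the base with isomorphic projections are isomorphic -/
def isoOfProj (G G' : 𝒜 ⥤ᵇ fp (toSelf 𝒴₁) (toSelf 𝒴₂))
    (α₁ : BasedFunctor.comp G (fpFst (toSelf 𝒴₁) (toSelf 𝒴₂)) ≅
      BasedFunctor.comp G' (fpFst (toSelf 𝒴₁) (toSelf 𝒴₂)))
    (α₂ : BasedFunctor.comp G (fpSnd (toSelf 𝒴₁) (toSelf 𝒴₂)) ≅
      BasedFunctor.comp G' (fpSnd (toSelf 𝒴₁) (toSelf 𝒴₂))) : G ≅ G' :=
  BasedNatIso.mkNatIso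
    (NatIso.ofComponents
      (fun a => fpMkIso (appIso α₁ a) (appIso α₂ a) (by
        haveI l1 : 𝒴₁.p.IsHomLift (𝟙 (𝒜.p.obj a)) (appIso α₁ a).hom := appIso_hom_lift α₁ a rfl
        haveI l2 : 𝒴₂.p.IsHomLift (𝟙 (𝒜.p.obj a)) (appIso α₂ a).hom := appIso_hom_lift α₂ a rfl
        have e1 : 𝒴₁.p.obj (G.obj a).obj.fst = 𝒜.p.obj a :=
          (BasedFunctor.comp G (fpFst (toSelf 𝒴₁) (toSelf 𝒴₂))).w_obj a
        have e2 : 𝒴₁.p.obj (G'.obj a).obj.fst = 𝒜.p.obj a :=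
          (BasedFunctor.comp G' (fpFst (toSelf 𝒴₁) (toSelf 𝒴₂))).w_obj a
        have l3 : (selfOver C).p.IsHomLift (𝟙 (𝒜.p.obj a)) (G'.obj a).obj.iso.hom :=
          lift_id_transport e2 _ (G'.obj a).property
        have l4 : (selfOver C).p.IsHomLift (𝟙 (𝒜.p.obj a)) (G.obj a).obj.iso.hom :=
          lift_id_transport e1 _ (G.obj a).property
        have l5 : (selfOver C).p.IsHomLift (𝟙 (𝒜.p.obj a)) ((toSelf 𝒴₁).map (appIso α₁ a).hom) :=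
          inferInstance
        have l6 : (selfOver C).p.IsHomLift (𝟙 (𝒜.p.obj a)) ((toSelf 𝒴₂).map (appIso α₂ a).hom) :=
          inferInstance
        exact selfOver_hom_eq _ _ (lift_id_comp' _ _ l5 l3) (lift_id_comp' _ _ l4 l6)))
      (fun {a a'} g => fp_hom_ext (appIso_hom_naturality α₁ g) (appIso_hom_naturality α₂ g)))
    (fun a => fpMkIso_lift _ _ _ (appIso_hom_lift α₁ a rfl))

section Defs

variable {𝒳₁ : BasedCategory.{v₂, u₂} C} {𝒳₂ : BasedCategory.{v₃, u₃} C}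
  {𝒴₁ : BasedCategory.{v₄, u₄} C} {𝒴₂ : BasedCategory.{v₅, u₅} C}

/-- `𝒳 ×_𝒵 𝒱 ⟶ 𝒳 ×_𝒵 𝒴` for `v : 𝒱 ⟶ 𝒴` (any base category) -/
def rightMap' {𝒳 : BasedCategory.{v₂, u₂} C} {𝒴 : BasedCategory.{v₃, u₃} C}
    {𝒵 : BasedCategory.{v₄, u₄} C} {𝒱 : BasedCategory.{v₅, u₅} C}
    (f : 𝒳 ⥤ᵇ 𝒵) (h : 𝒴 ⥤ᵇ 𝒵) (v : 𝒱 ⥤ᵇ 𝒴) : fp f (BasedFunctor.comp v h) ⥤ᵇ fp f h :=
  BasedFunctor.comp (fpSwap f (BasedFunctor.comp v h))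
    (BasedFunctor.comp (pasteInner v h f) (fpSwap h f))

variable (f₁ : 𝒳₁ ⥤ᵇ 𝒴₁) (f₂ : 𝒳₂ ⥤ᵇ 𝒴₂)

/-- `𝒳₁ ×_C 𝒳₂ ≃ 𝒳₁ ×_{f₁, C, f₂} 𝒳₂` -/
def K : fp (toSelf 𝒳₁) (toSelf 𝒳₂) ⥤ᵇ
    fp (BasedFunctor.comp f₁ (toSelf 𝒴₁)) (BasedFunctor.comp f₂ (toSelf 𝒴₂)) :=
  cospanFunctor (BasedFunctor.comp f₁ (toSelf 𝒴₁)) (BasedFunctor.comp f₂ (toSelf 𝒴₂))
    (toSelf 𝒳₁) (toSelf 𝒳₂) (BasedFunctor.id _) (BasedFunctor.id _) (BasedFunctor.id _)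
    (toSelfIso f₁) (toSelfIso f₂)

theorem isEquivOver_K : IsEquivOver (K f₁ f₂) :=
  isEquivOver_cospanFunctor _ _ _ _ _ _ _ _ _ (isEquivOver_id _) (isEquivOver_id _) (isEquivOver_id _)

/-- the product map in two steps -/
def Psi : fp (BasedFunctor.comp f₁ (toSelf 𝒴₁)) (BasedFunctor.comp f₂ (toSelf 𝒴₂)) ⥤ᵇ
    fp (toSelf 𝒴₁) (toSelf 𝒴₂) :=
  BasedFunctor.comp (pasteInner f₁ (toSelf 𝒴₁) (BasedFunctor.comp f₂ (toSelf 𝒴₂)))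
    (rightMap' (toSelf 𝒴₁) (toSelf 𝒴₂) f₂)

/-- the product map of the statement is the two-step product map -/
def prodIso
    (e : BasedFunctor.comp (BasedFunctor.comp (fpFst (toSelf 𝒳₁) (toSelf 𝒳₂)) f₁) (toSelf 𝒴₁) ≅
      BasedFunctor.comp (BasedFunctor.comp (fpSnd (toSelf 𝒳₁) (toSelf 𝒳₂)) f₂) (toSelf 𝒴₂)) :
    fpLift (BasedFunctor.comp (fpFst (toSelf 𝒳₁) (toSelf 𝒳₂)) f₁)
      (BasedFunctor.comp (fpSnd (toSelf 𝒳₁) (toSelf 𝒳₂)) f₂) e ≅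
      BasedFunctor.comp (K f₁ f₂) (Psi f₁ f₂) :=
  isoOfProj _ _ (Iso.refl _) (Iso.refl _)

end Defs

end General

section Rep1

variable {C : Type u} [Category.{v} C]
variable {𝒰 𝒱 𝒳 𝒴 𝒵 : BasedCategory.{v, max u v} C}

theorem isRep1_fpFst (f : 𝒳 ⥤ᵇ 𝒴) (g : 𝒵 ⥤ᵇ 𝒴) (hf : IsRepresentable1 f) :
    IsRepresentable1 (fpFst g f) := by
  intro U G
  exact (isRepresentable_iff_of_isEquivOver (pasteLeft G g f) (isEquivOver_pasteLeft G g f)).1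
    (hf U (BasedFunctor.comp G g))

theorem isRep1_comp (f : 𝒳 ⥤ᵇ 𝒴) (g : 𝒴 ⥤ᵇ 𝒵) (hf : IsRepresentable1 f) (hg : IsRepresentable1 g) :
    IsRepresentable1 (BasedFunctor.comp f g) := by
  intro U G
  obtain ⟨V, F, hF⟩ := hg U G
  obtain ⟨E', hE', -, -⟩ := Groth.Agent.Helper3.EquivOver.symm hF
  exact (isRepresentable_iff_of_isEquivOver (compFunctor G g f E')
    (isEquivOver_compFunctor G g f E' hE')).1 (hf V (BasedFunctor.comp E' (fpSnd G g)))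

theorem isRep1_pasteInner {𝒵 : BasedCategory.{v, w} C} (u : 𝒰 ⥤ᵇ 𝒳) (f : 𝒳 ⥤ᵇ 𝒵) (h : 𝒴 ⥤ᵇ 𝒵)
    (hu : IsRepresentable1 u) :
    IsRepresentable1 (pasteInner u f h) := by
  have h1 : IsRepresentable1 (fpSnd u (fpFst f h)) :=
    isRepresentable1_of_square (fpFst (fpFst f h) u) (fpSnd u (fpFst f h)) (fpSwap u (fpFst f h))
      (BasedFunctor.id _) (isEquivOver_fpSwap _ _) (isEquivOver_id _) (Iso.refl _)
      (isRep1_fpFst u (fpFst f h) hu)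
  exact isRepresentable1_of_square (fpSnd u (fpFst f h)) (pasteInner u f h) (pasteLeft u f h)
    (BasedFunctor.id _) (isEquivOver_pasteLeft u f h) (isEquivOver_id _) (Iso.refl _) h1

theorem isRep1_rightMap' {𝒵 : BasedCategory.{v, w} C} (f : 𝒳 ⥤ᵇ 𝒵) (h : 𝒴 ⥤ᵇ 𝒵) (v : 𝒱 ⥤ᵇ 𝒴)
    (hv : IsRepresentable1 v) :
    IsRepresentable1 (rightMap' f h v) := by
  have h1 : IsRepresentable1 (pasteInner v h f) := isRep1_pasteInner v h f hv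
  have h2 : IsRepresentable1 (BasedFunctor.comp (pasteInner v h f) (fpSwap h f)) :=
    isRepresentable1_of_square' (BasedFunctor.comp (pasteInner v h f) (fpSwap h f)) (pasteInner v h f)
      (BasedFunctor.id _) (fpSwap h f) (isEquivOver_id _) (isEquivOver_fpSwap _ _) (Iso.refl _) h1
  exact isRepresentable1_of_square (BasedFunctor.comp (pasteInner v h f) (fpSwap h f))
    (rightMap' f h v) (fpSwap f (BasedFunctor.comp v h)) (BasedFunctor.id _)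
    (isEquivOver_fpSwap _ _) (isEquivOver_id _) (Iso.refl _) h2

variable {𝒳₁ 𝒳₂ 𝒴₁ 𝒴₂ : BasedCategory.{v, max u v} C}

/-- S12790 -/
theorem isRepresentable1_prodMap (f₁ : 𝒳₁ ⥤ᵇ 𝒴₁) (f₂ : 𝒳₂ ⥤ᵇ 𝒴₂) (hf₁ : IsRepresentable1 f₁)
    (hf₂ : IsRepresentable1 f₂)
    (e : BasedFunctor.comp (BasedFunctor.comp (fpFst (toSelf 𝒳₁) (toSelf 𝒳₂)) f₁) (toSelf 𝒴₁) ≅
      BasedFunctor.comp (BasedFunctor.comp (fpSnd (toSelf 𝒳₁) (toSelf 𝒳₂)) f₂) (toSelf 𝒴₂)) :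
    IsRepresentable1 (fpLift (BasedFunctor.comp (fpFst (toSelf 𝒳₁) (toSelf 𝒳₂)) f₁)
      (BasedFunctor.comp (fpSnd (toSelf 𝒳₁) (toSelf 𝒳₂)) f₂) e) := by
  have hΨ : IsRepresentable1 (Psi f₁ f₂) :=
    isRep1_comp _ _ (isRep1_pasteInner f₁ (toSelf 𝒴₁) (BasedFunctor.comp f₂ (toSelf 𝒴₂)) hf₁)
      (isRep1_rightMap' (toSelf 𝒴₁) (toSelf 𝒴₂) f₂ hf₂)
  exact isRepresentable1_of_square (Psi f₁ f₂) _ (K f₁ f₂) (BasedFunctor.id _) (isEquivOver_K f₁ f₂)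
    (isEquivOver_id _) (prodIso f₁ f₂ e) hΨ

end Rep1

section AlgStPart

open Groth.Agent.Helper6.FpAlg Groth.Agent.Helper6.ChartOver Groth.Agent.Helper6.AlgStSpMap

variable {S : Scheme.{u}} {𝒳₁ 𝒳₂ 𝒴₁ 𝒴₂ : AlgSt.Cat S}

/-- S12789 -/
theorem repByAlgSpWith_prodMap
    (h𝒳₁ : IsFibGrpd 𝒳₁.p) (h𝒳₂ : IsFibGrpd 𝒳₂.p) (h𝒴₁ : IsFibGrpd 𝒴₁.p) (h𝒴₂ : IsFibGrpd 𝒴₂.p)
    (P : MorphismProperty (AlgSp.Sp S))
    (hPc : ∀ ⦃X Y Z : AlgSp.Sp S⦄, AlgSp.IsAlgSpace X → AlgSp.IsAlgSpace Y → AlgSp.IsAlgSpace Z →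
      ∀ (a : X ⟶ Y) (b : Y ⟶ Z), P a → P b → P (a ≫ b))
    (hP : AlgSp.IsLocalOnBase AlgSp.IsFppfCover P)
    (f₁ : 𝒳₁ ⥤ᵇ 𝒴₁) (f₂ : 𝒳₂ ⥤ᵇ 𝒴₂) (hf₁ : AlgSt.RepByAlgSpWith P f₁)
    (hf₂ : AlgSt.RepByAlgSpWith P f₂)
    (e : BasedFunctor.comp (BasedFunctor.comp (fpFst (toSelf 𝒳₁) (toSelf 𝒳₂)) f₁) (toSelf 𝒴₁) ≅
      BasedFunctor.comp (BasedFunctor.comp (fpSnd (toSelf 𝒳₁) (toSelf 𝒳₂)) f₂) (toSelf 𝒴₂)) :
    AlgSt.RepByAlgSpWith P (fpLift (BasedFunctor.comp (fpFst (toSelf 𝒳₁) (toSelf 𝒳₂)) f₁)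
      (BasedFunctor.comp (fpSnd (toSelf 𝒳₁) (toSelf 𝒳₂)) f₂) e) := by
  have hself : IsFibGrpd (selfOver (Over S)).p := Groth.Agent.Helper3.FibGrpd.isFibGrpd_id
  have hW1 : IsFibGrpd (fp (BasedFunctor.comp f₁ (toSelf 𝒴₁)) (BasedFunctor.comp f₂ (toSelf 𝒴₂))).p :=
    isFibGrpd_fp _ _ h𝒳₁ h𝒳₂ hself
  have hW2 : IsFibGrpd (fp (toSelf 𝒴₁) (BasedFunctor.comp f₂ (toSelf 𝒴₂))).p :=
    isFibGrpd_fp _ _ h𝒴₁ h𝒳₂ hself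
  have hΨ : AlgSt.RepByAlgSpWith P (Psi f₁ f₂) :=
    Groth.Agent.Helper6.RepComp.repByAlgSpWith_comp hW1 hW2 P hPc hP _ _
      (rep_pasteInner P f₁ (toSelf 𝒴₁) _ hf₁) (rep_rightMap P (toSelf 𝒴₁) (toSelf 𝒴₂) f₂ hf₂)
  exact repByAlgSpWith_of_iso P (prodIso f₁ f₂ e)
    (rep_equiv_comp P (K f₁ f₂) (isEquivOver_K f₁ f₂) (Psi f₁ f₂) hΨ)

end AlgStPart

end Groth.Agent.Helper6.ProdMap
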