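import Groth.Agent.Helper6.ProjDim2
import Groth.Agent.Helper6.HilbProj6

/-!
# Dimension theory of projective space: intersections, components, UFD facts
-/

set_option autoImplicit false
universe u

namespace Groth.Agent.Helper6.ProjDim

open MvPolynomial ProjectiveSpectrum TopologicalSpace Groth.Agent.Helper6.HilbProj

variable {k : Type u} [Field k] {n : ℕ}

section Nat

theorem exists_nat_dim (I : Ideal (MvPolynomial (Fin (n + 1)) k)) (hI : I ≠ ⊤) :
    ∃ d : ℕ, ringKrullDim (MvPolynomial (Fin (n + 1)) k ⧸ I) = (d : WithBot ℕ∞) ∧ d ≤ n + 1 := by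
  have hle : ringKrullDim (MvPolynomial (Fin (n + 1)) k ⧸ I) ≤ ((n + 1 : ℕ) : WithBot ℕ∞) := by
    rw [← Groth.Agent.Helper5.DimBC.dim_mvPolynomial k (n + 1)]
    exact ringKrullDim_quotient_le I
  haveI : Nontrivial (MvPolynomial (Fin (n + 1)) k ⧸ I) := Ideal.Quotient.nontrivial_iff.2 hI
  have hpos : (0 : WithBot ℕ∞) ≤ ringKrullDim (MvPolynomial (Fin (n + 1)) k ⧸ I) :=
    ringKrullDim_nonneg_of_nontrivial
  generalize ringKrullDim (MvPolynomial (Fin (n + 1)) k ⧸ I) = x at hle hpos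
  induction x using WithBot.recBotCoe with
  | bot => simp at hpos
  | coe m =>
    have h1 : m ≤ ((n + 1 : ℕ) : ℕ∞) := by exact_mod_cast hle
    obtain ⟨d, rfl⟩ := ENat.ne_top_iff_exists.1 (ne_top_of_le_ne_top (ENat.natCast_ne_top _) h1)
    exact ⟨d, rfl, by exact_mod_cast h1⟩

theorem ne_idealOfVars_of_dim_pos (Q : Ideal (MvPolynomial (Fin (n + 1)) k)) (d : ℕ)
    (hd : ringKrullDim (MvPolynomial (Fin (n + 1)) k ⧸ Q) = (d : WithBot ℕ∞)) (hpos : 1 ≤ d) :
    Q ≠ idealOfVars (Fin (n + 1)) k := by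
  rintro rfl
  rw [dim_quot_idealOfVars] at hd
  have : (0 : ℕ) = d := by exact_mod_cast hd
  omega

end Nat

section Drop

/-- Krull's height theorem and the dimension formula -/
theorem dim_drop_le (P : Ideal (MvPolynomial (Fin (n + 1)) k)) [hP : P.IsPrime]
    (s : Finset (MvPolynomial (Fin (n + 1)) k)) (Q : Ideal (MvPolynomial (Fin (n + 1)) k))
    (hQ : Q ∈ (P ⊔ Ideal.span (s : Set (MvPolynomial (Fin (n + 1)) k))).minimalPrimes) :
    ringKrullDim (MvPolynomial (Fin (n + 1)) k ⧸ P) ≤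
      ringKrullDim (MvPolynomial (Fin (n + 1)) k ⧸ Q) + (s.card : WithBot ℕ∞) := by
  classical
  have hQprime : Q.IsPrime := hQ.1.1
  have hPQ : P ≤ Q := le_sup_left.trans hQ.1.2
  set q : Ideal (MvPolynomial (Fin (n + 1)) k ⧸ P) := Q.map (Ideal.Quotient.mk P) with hq
  haveI hqprime : q.IsPrime := Ideal.isPrime_map_quotientMk_of_isPrime hPQ
  set t : Finset (MvPolynomial (Fin (n + 1)) k ⧸ P) := s.image (Ideal.Quotient.mk P) with ht
  have hJ : (Ideal.span (t : Set (MvPolynomial (Fin (n + 1)) k ⧸ P))).comap (Ideal.Quotient.mk P) =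
      P ⊔ Ideal.span (s : Set (MvPolynomial (Fin (n + 1)) k)) := by
    have : Ideal.span (t : Set (MvPolynomial (Fin (n + 1)) k ⧸ P)) =
        (Ideal.span (s : Set (MvPolynomial (Fin (n + 1)) k))).map (Ideal.Quotient.mk P) := by
      rw [Ideal.map_span, ht, Finset.coe_image]
    rw [this, Ideal.comap_map_of_surjective _ Ideal.Quotient.mk_surjective,
      ← RingHom.ker_eq_comap_bot, Ideal.mk_ker, sup_comm]
  have hqmin : q ∈ (Ideal.span (t : Set (MvPolynomial (Fin (n + 1)) k ⧸ P))).minimalPrimes := by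
    have h1 := Ideal.comap_minimalPrimes_eq_of_surjective (f := Ideal.Quotient.mk P)
      Ideal.Quotient.mk_surjective (Ideal.span (t : Set (MvPolynomial (Fin (n + 1)) k ⧸ P)))
    rw [hJ] at h1
    rw [h1] at hQ
    obtain ⟨q', hq', rfl⟩ := hQ
    rw [hq, Ideal.map_comap_of_surjective _ Ideal.Quotient.mk_surjective]
    exact hq'
  have hle : q.height ≤ (s.card : ℕ∞) := by
    refine (Ideal.height_le_card_of_mem_minimalPrimes_span_finset hqmin).trans ?_
    exact_mod_cast Finset.card_image_le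
  have h2 := Groth.Agent.Helper5.FtDim.height_add_dim_quotient k
    (MvPolynomial (Fin (n + 1)) k ⧸ P) q
  rw [← h2, ← ringKrullDim_eq_of_ringEquiv (DoubleQuot.quotQuotEquivQuotOfLE hPQ), add_comm]
  have h3 : (q.height : WithBot ℕ∞) ≤ ((s.card : ℕ∞) : WithBot ℕ∞) := WithBot.coe_le_coe.2 hle
  change ringKrullDim ((MvPolynomial (Fin (n + 1)) k ⧸ P) ⧸ q) + (q.height : WithBot ℕ∞) ≤ _
  gcongr
  exact h3

end Drop

section Comp

/-- irreducible components of `V_+(J)` -/
theorem exists_minimalPrime_of_mem_irreducibleComponents (J : Ideal (MvPolynomial (Fin (n + 1)) k))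
    (hJ : J.IsHomogeneous (homogeneousSubmodule (Fin (n + 1)) k)) (Z : Set (PS k n))
    (hZ : Z = zeroLocus (CohB1.polyGrading n k) (J : Set (MvPolynomial (Fin (n + 1)) k)))
    (C : Set ↥Z) (hC : C ∈ irreducibleComponents ↥Z) :
    ∃ Q : Ideal (MvPolynomial (Fin (n + 1)) k), Q ∈ J.minimalPrimes ∧
      Q ≠ idealOfVars (Fin (n + 1)) k ∧
      topologicalKrullDim ↥C + 1 = ringKrullDim (MvPolynomial (Fin (n + 1)) k ⧸ Q) := by
  subst hZ
  obtain ⟨y, hyZ, hmin, himg⟩ := exists_point_of_mem_irreducibleComponents _ _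
    (isClosed_zeroLocus _ _) C hC
  have hJy : J ≤ y.asHomogeneousIdeal.toIdeal := hyZ
  obtain ⟨P', hP'min, hP'le⟩ := Ideal.exists_minimalPrimes_le hJy
  haveI hP'prime : P'.IsPrime := hP'min.1.1
  have hP'h := Groth.Agent.Helper6.CINormal.isHomogeneous_of_mem_minimalPrimes k (Fin (n + 1)) _
    hJ P' hP'min
  have hP'ne : P' ≠ idealOfVars (Fin (n + 1)) k := by
    rintro rfl
    exact absurd (lt_of_le_of_lt hP'le (point_lt y)) (lt_irrefl _)
  have hy' : mkPt P' hP'h hP'ne = y := hmin _ hP'min.1.2 hP'le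
  have hQ : y.asHomogeneousIdeal.toIdeal = P' := by
    rw [← hy', mkPt_toIdeal]
  refine ⟨y.asHomogeneousIdeal.toIdeal, hQ ▸ hP'min, point_ne y, ?_⟩
  rw [dim_image, himg]
  exact dim_zeroLocus_add_one _ (point_isHomogeneous y) (point_ne y)

theorem nonempty_zeroLocus (J Q : Ideal (MvPolynomial (Fin (n + 1)) k)) [hQ : Q.IsPrime]
    (hJQ : J ≤ Q) (hQh : Q.IsHomogeneous (homogeneousSubmodule (Fin (n + 1)) k))
    (hne : Q ≠ idealOfVars (Fin (n + 1)) k) :
    (zeroLocus (CohB1.polyGrading n k) (J : Set (MvPolynomial (Fin (n + 1)) k))).Nonempty :=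
  ⟨mkPt Q hQh hne, hJQ⟩

end Comp

end Groth.Agent.Helper6.ProjDim
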