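import Groth.Agent.Helper6.ProjDim3

/-!
# Dimension theory of projective space: chains of points and hyperplane sections
-/

set_option autoImplicit false
universe u

namespace Groth.Agent.Helper6.ProjDim

open MvPolynomial ProjectiveSpectrum TopologicalSpace Groth.Agent.Helper6.HilbProj

variable {k : Type u} [Field k] {n : ℕ}

/-- a strict specialisation forces the cone to have dimension at least two -/
theorem two_le_dim_of_lt {y₀ y₁ : PS k n} (h : y₀ < y₁) :
    (2 : WithBot ℕ∞) ≤
      ringKrullDim (MvPolynomial (Fin (n + 1)) k ⧸ y₀.asHomogeneousIdeal.toIdeal) := by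
  have h1 := dim_zeroLocus_add_one y₀.asHomogeneousIdeal.toIdeal (point_isHomogeneous y₀)
    (point_ne y₀)
  rw [dim_closed _ _ (isClosed_zeroLocus _ _)] at h1
  have h2 : (1 : WithBot ℕ∞) ≤ Order.krullDim {x : PS k n // x ∈ zeroLocus (CohB1.polyGrading n k)
      (y₀.asHomogeneousIdeal.toIdeal : Set (MvPolynomial (Fin (n + 1)) k))} := by
    rw [Order.one_le_krullDim_iff]
    exact ⟨⟨y₀, (mem_zeroLocus_iff _ _).2 le_rfl⟩, ⟨y₁, (mem_zeroLocus_iff _ _).2 h.le⟩, h⟩
  rw [← h1]
  calc (2 : WithBot ℕ∞) = 1 + 1 := by norm_num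
    _ ≤ _ := by gcongr

/-- a hypersurface section of a cone of dimension at least two is nonempty -/
theorem exists_point_sup_span (P : Ideal (MvPolynomial (Fin (n + 1)) k)) [hP : P.IsPrime]
    (hPh : P.IsHomogeneous (homogeneousSubmodule (Fin (n + 1)) k))
    (h2 : (2 : WithBot ℕ∞) ≤ ringKrullDim (MvPolynomial (Fin (n + 1)) k ⧸ P))
    (g : MvPolynomial (Fin (n + 1)) k) (e : ℕ) (he : 1 ≤ e) (hg : g.IsHomogeneous e) :
    ∃ y : PS k n, P ≤ y.asHomogeneousIdeal.toIdeal ∧ g ∈ y.asHomogeneousIdeal.toIdeal := by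
  classical
  have hPm : P ≤ idealOfVars (Fin (n + 1)) k := le_idealOfVars k n P hPh hP.ne_top
  have hJm : P ⊔ Ideal.span {g} ≤ idealOfVars (Fin (n + 1)) k := by
    refine sup_le hPm ?_
    rw [Ideal.span_le, Set.singleton_subset_iff]
    exact mem_idealOfVars_of_isHomogeneous k n he hg
  have hJh := isHomogeneous_sup_span hPh hg
  obtain ⟨Q, hQmin, hQle⟩ := Ideal.exists_minimalPrimes_le hJm
  haveI hQprime : Q.IsPrime := hQmin.1.1
  have hQh := Groth.Agent.Helper6.CINormal.isHomogeneous_of_mem_minimalPrimes k (Fin (n + 1)) _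
    hJh Q hQmin
  have hQne : Q ≠ idealOfVars (Fin (n + 1)) k := by
    rintro rfl
    have h1 := dim_drop_le P {g} _ (by simpa using hQmin)
    rw [dim_quot_idealOfVars, zero_add, Finset.card_singleton] at h1
    have h3 : (2 : WithBot ℕ∞) ≤ ((1 : ℕ) : WithBot ℕ∞) := h2.trans h1
    have h4 : (2 : ℕ) ≤ 1 := by exact_mod_cast h3
    omega
  exact ⟨mkPt Q hQh hQne, le_sup_left.trans hQmin.1.2,
    hQmin.1.2 (Ideal.mem_sup_right (Ideal.mem_span_singleton_self g))⟩

/-- a cone containing all but one coordinate has dimension at most one -/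
theorem dim_le_one_of_X_mem (P : Ideal (MvPolynomial (Fin (n + 1)) k)) [hP : P.IsPrime]
    (hPh : P.IsHomogeneous (homogeneousSubmodule (Fin (n + 1)) k))
    (i₀ : Fin (n + 1)) (hX : ∀ j : Fin (n + 1), j ≠ i₀ → (X j : MvPolynomial (Fin (n + 1)) k) ∈ P) :
    ringKrullDim (MvPolynomial (Fin (n + 1)) k ⧸ P) ≤ 1 := by
  classical
  have hPm : P ≤ idealOfVars (Fin (n + 1)) k := le_idealOfVars k n P hPh hP.ne_top
  have heq : P ⊔ Ideal.span {(X i₀ : MvPolynomial (Fin (n + 1)) k)} = idealOfVars (Fin (n + 1)) k := by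
    apply le_antisymm
    · refine sup_le hPm ?_
      rw [Ideal.span_le, Set.singleton_subset_iff]
      exact Ideal.subset_span ⟨i₀, rfl⟩
    · rw [idealOfVars, Ideal.span_le]
      rintro _ ⟨j, rfl⟩
      by_cases hj : j = i₀
      · subst hj
        exact Ideal.mem_sup_right (Ideal.mem_span_singleton_self _)
      · exact Ideal.mem_sup_left (hX j hj)
  haveI := (idealOfVars_isMaximal' k n).isPrime
  have hmin : idealOfVars (Fin (n + 1)) k ∈
      (P ⊔ Ideal.span (({X i₀} : Finset (MvPolynomial (Fin (n + 1)) k)) :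
        Set (MvPolynomial (Fin (n + 1)) k))).minimalPrimes := by
    rw [Finset.coe_singleton, heq, Ideal.minimalPrimes_eq_subsingleton_self]
    rfl
  have h1 := dim_drop_le P {X i₀} _ hmin
  rw [dim_quot_idealOfVars, zero_add, Finset.card_singleton] at h1
  exact_mod_cast h1

end Groth.Agent.Helper6.ProjDim
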