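import Groth.Agent.Helper6.ProjDim5

/-!
# Codimension one irreducible closed subsets of projective space
-/

set_option autoImplicit false
universe u

namespace Groth.Agent.Helper6.ProjDim

open MvPolynomial ProjectiveSpectrum TopologicalSpace Groth.Agent.Helper6.HilbProj

section General

variable {R A : Type u} [CommRing R] [CommRing A] [Algebra R A] (𝒜 : ℕ → Submodule R A)
  [GradedAlgebra 𝒜]

/-- irreducible closed subsets of `Proj` correspond to points -/
noncomputable def irrEquiv :
    IrreducibleCloseds (ProjectiveSpectrum 𝒜) ≃o (ProjectiveSpectrum 𝒜)ᵒᵈ where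
  toFun V := OrderDual.toDual (pt 𝒜 V)
  invFun x := cl 𝒜 (OrderDual.ofDual x)
  left_inv V := cl_pt 𝒜 V
  right_inv x := by
    change OrderDual.toDual (pt 𝒜 (cl 𝒜 (OrderDual.ofDual x))) = x
    rw [pt_cl]
    rfl
  map_rel_iff' := by
    intro V W
    change pt 𝒜 W ≤ pt 𝒜 V ↔ V ≤ W
    rw [← cl_le_cl_iff, cl_pt, cl_pt]

theorem coheight_eq_height_pt (V : IrreducibleCloseds (ProjectiveSpectrum 𝒜)) :
    Order.coheight V = Order.height (pt 𝒜 V) := by
  rw [← Order.coheight_orderIso (irrEquiv 𝒜) V]
  rfl

end General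

variable {k : Type u} [Field k] {n : ℕ}

theorem bot_ne_idealOfVars :
    (⊥ : Ideal (MvPolynomial (Fin (n + 1)) k)) ≠ idealOfVars (Fin (n + 1)) k := by
  intro h
  have h1 : (X 0 : MvPolynomial (Fin (n + 1)) k) ∈ idealOfVars (Fin (n + 1)) k :=
    Ideal.subset_span ⟨0, rfl⟩
  rw [← h, Ideal.mem_bot] at h1
  exact X_ne_zero _ h1

/-- the generic point of projective space -/
noncomputable def botPt : PS k n :=
  haveI : (⊥ : Ideal (MvPolynomial (Fin (n + 1)) k)).IsPrime := Ideal.isPrime_bot
  mkPt ⊥ (Ideal.IsHomogeneous.bot _) bot_ne_idealOfVars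

theorem botPt_toIdeal : (botPt : PS k n).asHomogeneousIdeal.toIdeal = ⊥ := rfl

theorem height_eq_one_iff (x : PS k n) : Order.height x = 1 ↔
    ∃ q : MvPolynomial (Fin (n + 1)) k, Prime q ∧ q.IsHomogeneous q.totalDegree ∧
      x.asHomogeneousIdeal.toIdeal = Ideal.span {q} := by
  constructor
  · intro h
    have hP0 : x.asHomogeneousIdeal.toIdeal ≠ ⊥ := by
      intro h0
      have hmin : IsMin x := by
        intro y _
        rw [le_iff, h0]
        exact bot_le
      rw [Order.height_eq_zero.2 hmin] at h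
      exact zero_ne_one h
    obtain ⟨q, hqP, hq, hqh⟩ := exists_prime_mem x.asHomogeneousIdeal.toIdeal
      (point_isHomogeneous x) hP0
    refine ⟨q, hq, hqh, ?_⟩
    haveI hprime : (Ideal.span {q}).IsPrime := (Ideal.span_singleton_prime hq.ne_zero).2 hq
    have hle : Ideal.span {q} ≤ x.asHomogeneousIdeal.toIdeal := by
      rw [Ideal.span_le, Set.singleton_subset_iff]
      exact hqP
    have hne : Ideal.span {q} ≠ idealOfVars (Fin (n + 1)) k := by
      intro heq
      rw [heq] at hle
      exact absurd (lt_of_le_of_lt hle (point_lt x)) (lt_irrefl _)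
    set y := mkPt (Ideal.span {q}) (isHomogeneous_span_singleton hqh) hne with hy
    have hyx : y ≤ x := hle
    have hby : (botPt : PS k n) < y := by
      rw [lt_iff, botPt_toIdeal, hy, mkPt_toIdeal, bot_lt_iff_ne_bot]
      intro h0
      rw [Ideal.span_singleton_eq_bot] at h0
      exact hq.ne_zero h0
    by_contra hne'
    have hlt : y < x := by
      refine lt_of_le_of_ne hyx ?_
      intro heq
      apply hne'
      rw [← heq, hy, mkPt_toIdeal]
    have : 1 < Order.height x := Order.one_lt_height_iff.2 ⟨y, botPt, hby, hlt⟩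
    rw [h] at this
    exact lt_irrefl _ this
  · rintro ⟨q, hq, hqh, hx⟩
    have h1 : Order.height x ≠ 0 := by
      rw [Order.height_ne_zero]
      intro hmin
      have hle : x ≤ botPt := hmin (by rw [le_iff, botPt_toIdeal]; exact bot_le)
      rw [le_iff, botPt_toIdeal, hx, le_bot_iff, Ideal.span_singleton_eq_bot] at hle
      exact hq.ne_zero hle
    have h2 : ¬ 1 < Order.height x := by
      rw [Order.one_lt_height_iff]
      rintro ⟨y, z, hzy, hyx⟩
      rw [lt_iff] at hzy hyx
      have hy0 : y.asHomogeneousIdeal.toIdeal ≠ ⊥ := (bot_le.trans_lt hzy).ne'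
      rw [hx] at hyx
      have := eq_span_of_le_span hq y.asHomogeneousIdeal.toIdeal hy0 hyx.le
      rw [this] at hyx
      exact lt_irrefl _ hyx
    exact le_antisymm (not_lt.1 h2) (Order.one_le_iff_ne_zero.2 h1)

end Groth.Agent.Helper6.ProjDim
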