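import Mathlib
import Groth.Prelude.Def_EtBase
import Groth.Prelude.Def_EtCore
import Groth.Prelude.Def_EtShriek2
import Groth.Agent.Helper9.EtDisjGlue
import Groth.Agent.Helper6.GalDescE
import Groth.Agent.Helper6.GalDescI
import Groth.Agent.Helper6.LerayLowC

/-! For an epimorphism `I → Q` of abelian sheaves on `(Spec k)_et` and a quasi-compact étale
`k`-scheme `W`, some positive multiple of every section of `Q` over `W` lifts to `I`. -/

set_option autoImplicit false
set_option linter.style.haveILetI false
set_option linter.unusedSectionVars false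
set_option linter.unusedVariables false
set_option linter.unusedSimpArgs false

universe u

open CategoryTheory CategoryTheory.Limits Opposite AlgebraicGeometry Abelian

namespace Groth.Agent.Helper6.PtTorsA

open Groth.Agent.Helper9 Groth.Agent.Helper6.GalDescD Groth.Agent.Helper6.GalDescE

variable {k : Type u} [Field k]

theorem exists_lift_nsmul_jObj {L : Type u} [Field L]
    (j : Spec (CommRingCat.of L) ⟶ Spec (CommRingCat.of k)) [Etale j]
    {I Q : EtCoh.Ab (Spec (CommRingCat.of k))} (π : I ⟶ Q) [Epi π]
    (q : Q.obj.obj (op (jObj j))) :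
    ∃ (d : ℕ) (_ : 0 < d) (t : I.obj.obj (op (jObj j))),
      (π.hom.app (op (jObj j))).hom t = d • q := by
  haveI : Epi ((EtShriek.restrAlong j).map π) := inferInstance
  exact GalDescI.exists_lift_nsmul L ((EtShriek.restrAlong j).map π) q

set_option backward.isDefEq.respectTransparency.types false in
theorem exists_lift_nsmul_qc {I Q : EtCoh.Ab (Spec (CommRingCat.of k))} (π : I ⟶ Q) [Epi π]
    (W : (Spec (CommRingCat.of k)).Etale) [CompactSpace W.left] (q : Q.obj.obj (op W)) :
    ∃ (d : ℕ) (_ : 0 < d) (t : I.obj.obj (op W)), (π.hom.app (op W)).hom t = d • q := by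
  classical
  choose Lw fLw ιw hιw hw using fun w : W.left => LerayLowC.exists_field_openImmersion k W w
  have hj : ∀ w, Etale (ιw w ≫ W.hom) := fun w => by
    haveI := hιw w
    infer_instance
  let O : W.left → (Spec (CommRingCat.of k)).Etale := fun w => @jObj _ _ (ιw w ≫ W.hom) (hj w)
  let g : ∀ w, O w ⟶ W := fun w => MorphismProperty.Over.homMk (ιw w) (by
    show ιw w ≫ W.hom = 𝟙 _ ≫ ιw w ≫ W.hom
    rw [Category.id_comp])
  have hgl : ∀ w, (g w).left = ιw w := fun w => rfl
  have hpt : ∀ (a : W.left) (za : (O a).left), (g a).left za = a := by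
    intro a za
    obtain ⟨z, hz⟩ := hw a
    have : Subsingleton (PrimeSpectrum (Lw a)) := inferInstance
    have hzz : za = z := Subsingleton.elim (α := PrimeSpectrum (Lw a)) za z
    rw [hgl, hzz]
    exact hz
  have hmono : ∀ a, Mono (g a) := fun a => by
    haveI := hιw a
    have hm : Mono (ιw a) := IsOpenImmersion.mono (ιw a)
    exact EtDisjGlue.mono_of_mono_left (g a) (by rw [hgl]; exact hm)
  have hsurj : ∀ x : W.left, ∃ (a : W.left) (z : (O a).left), (g a).left z = x := by
    intro x
    obtain ⟨z, hz⟩ := hw x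
    exact ⟨x, z, hz⟩
  have hdisj : ∀ a b, a ≠ b → ∀ (za : (O a).left) (zb : (O b).left),
      (g a).left za ≠ (g b).left zb := by
    intro a b hab za zb
    rw [hpt a za, hpt b zb]
    exact hab
  -- finiteness
  have hopen : ∀ w : W.left, IsOpen ({w} : Set W.left) := by
    intro w
    have h1 : Set.range (ιw w) = {w} := by
      ext y
      constructor
      · rintro ⟨z, rfl⟩
        exact hpt w z
      · rintro rfl
        exact hw y
    rw [← h1]
    exact (hιw w).base_open.isOpen_range
  haveI : DiscreteTopology W.left := discreteTopology_iff_isOpen_singleton.2 hopen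
  haveI : Finite W.left := finite_of_compact_of_discrete
  letI : Fintype W.left := Fintype.ofFinite _
  -- local lifts
  have hl : ∀ a : W.left, ∃ (d : ℕ) (_ : 0 < d) (t : I.obj.obj (op (O a))),
      (π.hom.app (op (O a))).hom t = d • (Q.obj.map (g a).op).hom q := fun a =>
    @exists_lift_nsmul_jObj k _ (Lw a) (fLw a) (ιw a ≫ W.hom) (hj a) I Q π _ _
  choose dw hdw t ht using hl
  let d : ℕ := ∏ a, dw a
  have hd : 0 < d := Finset.prod_pos (fun a _ => hdw a)
  let e : W.left → ℕ := fun a => ∏ b ∈ Finset.univ.erase a, dw b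
  have hde : ∀ a, d = e a * dw a := fun a => by
    show ∏ b, dw b = (∏ b ∈ Finset.univ.erase a, dw b) * dw a
    rw [Finset.prod_erase_mul _ _ (Finset.mem_univ a)]
  obtain ⟨T, hT, -⟩ := EtDisjGlue.existsUnique_glue O g hmono hsurj hdisj
    (I.obj ⋙ forget AddCommGrpCat) (GalDescC.isSheaf_forget I) (fun a => e a • t a)
  refine ⟨d, hd, T, ?_⟩
  obtain ⟨T', -, hT'⟩ := EtDisjGlue.existsUnique_glue O g hmono hsurj hdisj
    (Q.obj ⋙ forget AddCommGrpCat) (GalDescC.isSheaf_forget Q)
    (fun a => (Q.obj.map (g a).op).hom (d • q))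
  have h1 : (π.hom.app (op W)).hom T = T' := by
    apply hT'
    intro a
    show (Q.obj.map (g a).op).hom ((π.hom.app (op W)).hom T) = (Q.obj.map (g a).op).hom (d • q)
    have hn := NatTrans.naturality_apply π.hom (g a).op T
    have hTa : (I.obj.map (g a).op).hom T = e a • t a := hT a
    rw [← hn, hTa, map_nsmul, ht a, map_nsmul, hde a, mul_smul]
  have h2 : d • q = T' := hT' (d • q) (fun a => rfl)
  rw [h1, h2]

end Groth.Agent.Helper6.PtTorsA
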