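import Mathlib
import Groth.Prelude.Def_EtBase
import Groth.Prelude.Def_EtCore
import Groth.Agent.Helper6.PtTorsA

/-! Quotients of `v_* Q` killed by `v_* I` are torsion sheaves (`v : Spec k → X`, `I → Q` epi). -/

set_option autoImplicit false
set_option linter.style.haveILetI false
set_option linter.unusedSectionVars false
set_option linter.unusedVariables false
set_option linter.unusedSimpArgs false

universe u

open CategoryTheory CategoryTheory.Limits Opposite AlgebraicGeometry Abelian

namespace Groth.Agent.Helper6.PtTorsB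

open Groth.Agent.Helper9

variable {k : Type u} [Field k] {X : Scheme.{u}} [QuasiSeparatedSpace X]
  (v : Spec (CommRingCat.of k) ⟶ X)

set_option backward.isDefEq.respectTransparency.types false in
theorem isTorsion_of_epi {I Q : EtCoh.Ab (Spec (CommRingCat.of k))} (π : I ⟶ Q) [Epi π]
    {G : EtCoh.Ab X} (ε : (EtCoh.push v).obj Q ⟶ G) [Epi ε]
    (hε : (EtCoh.push v).map π ≫ ε = 0) : EtCoh.IsTorsion G := by
  intro U s p
  have hls : Sheaf.IsLocallySurjective ε := (Sheaf.isLocallySurjective_iff_epi' _ ε).2 inferInstance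
  have hmem := Presheaf.imageSieve_mem X.smallEtaleTopology ε.hom s
  obtain ⟨V, g, p', ⟨t, ht⟩, -, hp'⟩ := (GalDescI.mem_iff _ _).1 hmem p
  obtain ⟨U₀, hU, hxU, -⟩ := TopologicalSpace.Opens.isBasis_iff_nbhd.mp
    V.left.isBasis_affineOpens (U := ⊤) (x := p') trivial
  let U' : V.left.Opens := U₀
  haveI : IsAffine U' := hU
  let V' : X.Etale := Scheme.Etale.mk (U'.ι ≫ V.hom)
  let g' : V' ⟶ V := MorphismProperty.Over.homMk U'.ι rfl
  refine ⟨V', g' ≫ g, ⟨⟨p', hxU⟩, hp'⟩, ?_⟩
  have hqc : QuasiCompact (pullback.fst V'.hom v) :=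
    MorphismProperty.pullback_fst (P := @QuasiCompact) _ _ inferInstance
  have hcs : CompactSpace V'.left := inferInstanceAs (CompactSpace (U' : Scheme.{u}))
  haveI : CompactSpace ((EtCoh.bc v).obj V').left :=
    @QuasiCompact.compactSpace_of_compactSpace _ _ (pullback.fst V'.hom v) hqc hcs
  -- the section `t` restricted to `V'`
  let t' : Q.obj.obj (op ((EtCoh.bc v).obj V')) := (((EtCoh.push v).obj Q).obj.map g'.op).hom t
  obtain ⟨d, hd, T, hT⟩ := PtTorsA.exists_lift_nsmul_qc π ((EtCoh.bc v).obj V') t'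
  refine isOfFinAddOrder_iff_nsmul_eq_zero.2 ⟨d, hd, ?_⟩
  have ht' : (ε.hom.app (op V)).hom t = (G.obj.map g.op).hom s := ht
  have h1 : (G.obj.map (g' ≫ g).op).hom s = (ε.hom.app (op V')).hom t' := by
    have hn := NatTrans.naturality_apply ε.hom g'.op t
    rw [op_comp, G.obj.map_comp]
    refine Eq.trans ?_ hn.symm
    exact congrArg (G.obj.map g'.op).hom ht'.symm
  have h2 : (ε.hom.app (op V')).hom (d • t') = 0 := by
    rw [← hT]
    have := congrArg (fun φ => (φ.hom.app (op V')).hom T) hε
    exact this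
  show d • (G.obj.map (g' ≫ g).op).hom s = 0
  rw [h1, ← map_nsmul]
  exact h2

end Groth.Agent.Helper6.PtTorsB
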