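import Mathlib
import Groth.Prelude.Def_EtBase
import Groth.Prelude.Def_EtCore
import Groth.Agent.Helper1.DeltaFunctor
import Groth.Agent.Helper6.GalDescK
import Groth.Agent.Helper6.PtTorsB

/-! `R^q v_* F` is a torsion sheaf for `q ≥ 1` and `v : Spec k → X` (`X` quasi-separated). -/

set_option autoImplicit false
set_option linter.style.haveILetI false
set_option linter.unusedSectionVars false
set_option linter.unusedVariables false
set_option linter.unusedSimpArgs false

universe u

open CategoryTheory CategoryTheory.Limits Opposite AlgebraicGeometry Abelian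

namespace Groth.Agent.Helper6.PtTorsC

open Groth.Agent.Helper9 Groth.Agent.Helper1.DeltaFun

variable {k : Type u} [Field k] {X : Scheme.{u}} [QuasiSeparatedSpace X]
  (v : Spec (CommRingCat.of k) ⟶ X)

instance : PreservesFiniteLimits (EtCoh.push v) :=
  have : PreservesLimitsOfSize.{0, 0} (EtCoh.push v) :=
    (EtCoh.pullPushAdj v).rightAdjoint_preservesLimits
  PreservesLimitsOfSize.preservesFiniteLimits _

theorem isTorsion_Rpush : ∀ (q : ℕ) (F : EtCoh.Ab (Spec (CommRingCat.of k))),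
    EtCoh.IsTorsion ((EtCoh.Rpush v (q + 1)).obj F)
  | 0, F => by
    let S := E F
    have hS : S.ShortExact := hE F
    have hz : IsZero (((EtCoh.push v).rightDerived 1).obj S.X₂) :=
      rightDerivedDelta_effaceable (EtCoh.push v) S.X₂ 0
    let δ0 : ((EtCoh.push v).rightDerived 0).obj S.X₃ ⟶ ((EtCoh.push v).rightDerived 1).obj S.X₁ :=
      (rightDerivedDelta (EtCoh.push v)).δ S hS 0
    have hw3 : ((EtCoh.push v).rightDerived 0).map S.g ≫ δ0 = 0 :=
      (rightDerivedDelta (EtCoh.push v)).w₃ S hS 0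
    have hw1 : δ0 ≫ ((EtCoh.push v).rightDerived 1).map S.f = 0 :=
      (rightDerivedDelta (EtCoh.push v)).w₁ S hS 0
    have hex1 : (ShortComplex.mk δ0 (((EtCoh.push v).rightDerived 1).map S.f) hw1).Exact :=
      (rightDerivedDelta (EtCoh.push v)).exact₁ S hS 0
    haveI hepi : Epi δ0 := hex1.epi_f (hz.eq_of_tgt _ _)
    let α := (EtCoh.push v).rightDerivedZeroIsoSelf
    let ε : (EtCoh.push v).obj S.X₃ ⟶ (EtCoh.Rpush v 1).obj F := α.inv.app S.X₃ ≫ δ0
    haveI : Epi ε := epi_comp _ _
    haveI : Epi S.g := hS.epi_g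
    have hε : (EtCoh.push v).map S.g ≫ ε = 0 := by
      show (EtCoh.push v).map S.g ≫ α.inv.app S.X₃ ≫ δ0 = 0
      rw [α.inv.naturality_assoc, hw3, comp_zero]
    exact PtTorsB.isTorsion_of_epi v S.g ε hε
  | q + 1, F => by
    let S := E F
    have hS : S.ShortExact := hE F
    have hz1 : IsZero (((EtCoh.push v).rightDerived (q + 1)).obj S.X₂) :=
      rightDerivedDelta_effaceable (EtCoh.push v) S.X₂ q
    have hz2 : IsZero (((EtCoh.push v).rightDerived (q + 1 + 1)).obj S.X₂) :=
      rightDerivedDelta_effaceable (EtCoh.push v) S.X₂ (q + 1)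
    let δ0 : ((EtCoh.push v).rightDerived (q + 1)).obj S.X₃ ⟶
        ((EtCoh.push v).rightDerived (q + 1 + 1)).obj S.X₁ :=
      (rightDerivedDelta (EtCoh.push v)).δ S hS (q + 1)
    have hw3 : ((EtCoh.push v).rightDerived (q + 1)).map S.g ≫ δ0 = 0 :=
      (rightDerivedDelta (EtCoh.push v)).w₃ S hS (q + 1)
    have hw1 : δ0 ≫ ((EtCoh.push v).rightDerived (q + 1 + 1)).map S.f = 0 :=
      (rightDerivedDelta (EtCoh.push v)).w₁ S hS (q + 1)
    have hex1 : (ShortComplex.mk δ0 (((EtCoh.push v).rightDerived (q + 1 + 1)).map S.f) hw1).Exact :=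
      (rightDerivedDelta (EtCoh.push v)).exact₁ S hS (q + 1)
    have hex3 : (ShortComplex.mk (((EtCoh.push v).rightDerived (q + 1)).map S.g) δ0 hw3).Exact :=
      (rightDerivedDelta (EtCoh.push v)).exact₃ S hS (q + 1)
    haveI hepi : Epi δ0 := hex1.epi_f (hz2.eq_of_tgt _ _)
    haveI hmono : Mono δ0 := hex3.mono_g (hz1.eq_of_src _ _)
    haveI : IsIso δ0 := isIso_of_mono_of_epi _
    exact GalDescK.isTorsion_of_iso (asIso δ0) (isTorsion_Rpush q S.X₃)

end Groth.Agent.Helper6.PtTorsC
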