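import Mathlib
import Groth.Prelude.Def_EtBase
import Groth.Prelude.Def_EtCore
import Groth.Prelude.Def_EtLim
import Groth.Agent.Helper4.EtTorsion
import Groth.Agent.Helper6.LerayLowB
import Groth.Agent.Helper6.LerayLowF
import Groth.Agent.Helper6.PtTorsB

/-! `H^q(X, v_* F)` is torsion for `q ≥ 1`, `v : Spec k → X`, `X` qcqs. -/

set_option autoImplicit false
set_option linter.style.haveILetI false
set_option linter.unusedSectionVars false
set_option linter.unusedVariables false
set_option linter.unusedSimpArgs false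

universe u

open CategoryTheory CategoryTheory.Limits Opposite AlgebraicGeometry Abelian

namespace Groth.Agent.Helper6.PtTorsD

open Groth.Agent.Helper9

variable {k : Type u} [Field k] {X : Scheme.{u}} [CompactSpace X] [QuasiSeparatedSpace X]
  (v : Spec (CommRingCat.of k) ⟶ X) [PreservesFiniteLimits (EtCoh.pull v)]

theorem isOfFinAddOrder_H_push : ∀ (q : ℕ) (F : EtCoh.Ab (Spec (CommRingCat.of k)))
    (ξ : EtCoh.H X ((EtCoh.push v).obj F) (q + 1)), IsOfFinAddOrder ξ
  | 0, F, ξ => by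
    have h := GalDescI.isOfFinAddOrder k 0 F (EtLim.HofPush v F 1 ξ)
    obtain ⟨d, hd, h0⟩ := isOfFinAddOrder_iff_nsmul_eq_zero.1 h
    refine isOfFinAddOrder_iff_nsmul_eq_zero.2 ⟨d, hd, ?_⟩
    apply LerayLowB.HofPush_injective_one v F
    rw [map_nsmul, h0, map_zero]
  | q + 1, F, ξ => by
    let R := EtCoh.push v
    haveI : R.Additive := (EtCoh.pullPushAdj v).right_adjoint_additive
    haveI : PreservesLimitsOfSize.{0, 0} R := (EtCoh.pullPushAdj v).rightAdjoint_preservesLimits
    let S := ExtNat.sc F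
    have hS : S.ShortExact := ExtNat.sc_shortExact F
    haveI : Mono S.f := hS.mono_f
    haveI : Epi S.g := hS.epi_g
    haveI : Mono (R.map S.f) := inferInstance
    haveI : Injective S.X₂ := inferInstanceAs (Injective (Injective.under _))
    haveI : Injective (R.obj S.X₂) := Injective.injective_of_adjoint (EtCoh.pullPushAdj v) _
    let T₁ : ShortComplex (EtCoh.Ab X) :=
      ShortComplex.mk (R.map S.f) (cokernel.π (R.map S.f)) (cokernel.condition _)
    have hT₁ : T₁.ShortExact := ⟨ShortComplex.exact_cokernel _⟩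
    let κ : T₁.X₃ ⟶ R.obj S.X₃ :=
      cokernel.desc (R.map S.f) (R.map S.g) (by rw [← R.map_comp, S.zero, R.map_zero])
    have hκ : T₁.g ≫ κ = R.map S.g := cokernel.π_desc _ _ _
    have hRS : (S.map R).Exact :=
      hS.exact.map_of_mono_of_preservesKernel R hS.mono_f inferInstance
    haveI : Mono κ := hRS.mono_cokernelDesc
    let T₂ : ShortComplex (EtCoh.Ab X) :=
      ShortComplex.mk κ (cokernel.π κ) (cokernel.condition _)
    have hT₂ : T₂.ShortExact := ⟨ShortComplex.exact_cokernel _⟩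
    have hC : EtCoh.IsTorsion T₂.X₃ := by
      refine PtTorsB.isTorsion_of_epi v S.g (cokernel.π κ) ?_
      rw [← hκ, Category.assoc, cokernel.condition, comp_zero]
    -- dimension shift
    have h0 : ξ.comp (Ext.mk₀ T₁.f) (add_zero (q + 1 + 1)) = 0 := Ext.eq_zero_of_injective _
    obtain ⟨y, hy⟩ := Ext.covariant_sequence_exact₁ _ hT₁ ξ h0 rfl
    -- image of y in H^{q+1}(X, v_* Q)
    obtain ⟨a, ha, hay⟩ := isOfFinAddOrder_iff_nsmul_eq_zero.1
      (isOfFinAddOrder_H_push q S.X₃ (y.comp (Ext.mk₀ κ) (add_zero (q + 1))))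
    have h1 : (a • y).comp (Ext.mk₀ T₂.f) (add_zero (q + 1)) = 0 := by
      rw [GalDescI.nsmul_comp]
      exact hay
    obtain ⟨z, hz⟩ := Ext.covariant_sequence_exact₁ _ hT₂ (a • y) h1 rfl
    obtain ⟨b, hb, hbz⟩ := isOfFinAddOrder_iff_nsmul_eq_zero.1
      (Groth.Agent.Helper4.EtTorsion.torsion (X := X) T₂.X₃ hC q z)
    refine isOfFinAddOrder_iff_nsmul_eq_zero.2 ⟨b * a, Nat.mul_pos hb ha, ?_⟩
    rw [← hy, ← GalDescI.nsmul_comp, mul_smul, ← hz, ← GalDescI.nsmul_comp, hbz, Ext.zero_comp,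
      Ext.zero_comp]

end Groth.Agent.Helper6.PtTorsD
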