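import Mathlib
import Groth.Prelude.Def_DRing4
import Groth.Agent.Helper6.CanonMod1
import Groth.Agent.Helper6.QG7
import Groth.Agent.Helper6.Caten3
import Groth.Agent.Helper6.MatlisBidual
import Groth.Agent.Helper5.RSD1
import Groth.Agent.Helper2.Caten2
import Groth.Agent.Helper1.SupportDim
import Groth.Agent.S11172
import Groth.Agent.S5170

/-!
# Finite length of the local cohomology below the dimension, equidimensionality and the
Cohen–Macaulay property on the punctured spectrum
-/

set_option autoImplicit false
set_option linter.style.haveILetI false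
set_option linter.unusedSectionVars false

universe u v
open CategoryTheory CategoryTheory.Limits Pretriangulated DerivedCategory TensorProduct
open scoped Pointwise
attribute [local instance] HasDerivedCategory.standard

namespace Groth.Agent.Helper6.PunctCM
open Groth.Agent.Helper3.DRingLib Groth.Agent.Helper6.DK Groth.Agent.Helper6.LocExt
  Groth.Agent.Helper6.LD IsLocalRing

lemma depth_eq_top_of_subsingleton (B : Type u) [CommRing B] [IsLocalRing B] (N : Type v)
    [AddCommGroup N] [Module B N] [Subsingleton N] : LocCoh.depth B N = ⊤ := by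
  haveI : Subsingleton (Submodule B N) := (Submodule.subsingleton_iff B).mpr inferInstance
  unfold LocCoh.depth LocCoh.idealDepth
  exact if_pos (Subsingleton.elim _ _)

variable {A : Type u} [CommRing A] [IsNoetherianRing A] [IsLocalRing A]

section Dual

variable (E : Type u) [AddCommGroup E] [Module A E] (f : ResidueField A →ₗ[A] E)
  (hf : InjHull.IsInjectiveHull f)

include hf in
lemma isFiniteLength_dual (X : Type u) [AddCommGroup X] [Module A X] (hX : IsFiniteLength A X) :
    IsFiniteLength A (X →ₗ[A] E) := by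
  rw [← Module.length_ne_top_iff, Groth.Agent.S5170.result A E f hf X hX,
    Module.length_ne_top_iff]
  exact hX

include hf in
lemma killed_of_dual_finiteLength (X : Type u) [AddCommGroup X] [Module A X]
    (h : IsFiniteLength A (X →ₗ[A] E)) :
    ∃ k : ℕ, ∀ r ∈ maximalIdeal A ^ k, ∀ x : X, r • x = 0 := by
  obtain ⟨k, hk⟩ := Groth.Agent.Helper6.LD.exists_pow_kills (X →ₗ[A] E) h
  refine ⟨k, fun r hr x => ?_⟩
  by_contra hne
  obtain ⟨φ, hφ⟩ := Groth.Agent.Helper6.MatlisBidual.exists_map_ne_zero f hf.injective
    hf.isInjective (r • x) hne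
  apply hφ
  have h1 := LinearMap.congr_fun (hk r hr φ) x
  rw [LinearMap.smul_apply, LinearMap.zero_apply] at h1
  rw [map_smul]
  exact h1

variable (ω : Dual.D A) (hω : Dual.IsDualizing A ω) (hn : Dual.IsNormalized A ω)
  (M : Type u) [AddCommGroup M] [Module A M] [Module.Finite A M]

include hf hω hn in
/-- `H^i_m(M)` has finite length iff `Ext^{-i}(M, ω)` is supported at the closed point -/
theorem finiteLength_H_iff (i : ℕ) :
    IsFiniteLength A (LocCoh.H (maximalIdeal A) i M) ↔
      ∀ p : PrimeSpectrum A, p ≠ closedPoint A →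
        p ∉ Module.support A (Dual.inD A M ⟶ ω⟦(-(i : ℤ))⟧) := by
  obtain ⟨e⟩ := Groth.Agent.S11172.result A ω hω hn E f hf M i
  haveI := finite_ext_dualizing ω hω M (-(i : ℤ))
  haveI : Small.{u} (Dual.inD A M ⟶ ω⟦(-(i : ℤ))⟧) := Module.Finite.small A _
  let s : Shrink.{u} (Dual.inD A M ⟶ ω⟦(-(i : ℤ))⟧) ≃ₗ[A] (Dual.inD A M ⟶ ω⟦(-(i : ℤ))⟧) :=
    Shrink.linearEquiv A _
  let e' : LocCoh.H (maximalIdeal A) i M ≃ₗ[A]
      (Shrink.{u} (Dual.inD A M ⟶ ω⟦(-(i : ℤ))⟧) →ₗ[A] E) :=
    e ≪≫ₗ (LinearEquiv.congrLeft E A s).symm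
  constructor
  · intro h p hp hmem
    have h1 : IsFiniteLength A (Shrink.{u} (Dual.inD A M ⟶ ω⟦(-(i : ℤ))⟧) →ₗ[A] E) :=
      e'.isFiniteLength h
    obtain ⟨k, hk⟩ := killed_of_dual_finiteLength E f hf _ h1
    have hlt : ¬ (maximalIdeal A ≤ p.asIdeal) := by
      intro hle
      apply hp
      apply PrimeSpectrum.ext
      exact le_antisymm (le_maximalIdeal p.2.ne_top) hle
    obtain ⟨a, ha, hap⟩ := SetLike.not_le_iff_exists.mp hlt
    rw [Module.mem_support_iff'] at hmem
    obtain ⟨x, hx⟩ := hmem
    apply hx (a ^ k) (fun h' => hap (p.2.mem_of_pow_mem k h'))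
    have h2 := hk (a ^ k) (Ideal.pow_mem_pow ha k) (s.symm x)
    have h3 : s (a ^ k • s.symm x) = 0 := by rw [h2, map_zero]
    rwa [map_smul, LinearEquiv.apply_symm_apply] at h3
  · intro h
    have hdim : Module.supportDim A (Dual.inD A M ⟶ ω⟦(-(i : ℤ))⟧) ≤ 0 := by
      unfold Module.supportDim
      haveI : Subsingleton (Module.support A (Dual.inD A M ⟶ ω⟦(-(i : ℤ))⟧)) := by
        refine ⟨fun a b => Subtype.ext ?_⟩
        have ha : a.1 = closedPoint A := by
          by_contra hne
          exact h a.1 hne a.2
        have hb : b.1 = closedPoint A := by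
          by_contra hne
          exact h b.1 hne b.2
        rw [ha, hb]
      exact Order.krullDim_nonpos_of_subsingleton
    have h1 : IsFiniteLength A (Dual.inD A M ⟶ ω⟦(-(i : ℤ))⟧) :=
      Groth.Agent.Helper1.SupportDim.isFiniteLength_of_supportDim_le_zero hdim
    have h2 : IsFiniteLength A (Shrink.{u} (Dual.inD A M ⟶ ω⟦(-(i : ℤ))⟧)) :=
      s.symm.isFiniteLength h1
    exact e'.symm.isFiniteLength (isFiniteLength_dual E f hf _ h2)

include hω hn in
theorem forall_lt_notMem_iff (n : ℕ) (p : PrimeSpectrum A) :
    (∀ i : ℕ, i < n → p ∉ Module.support A (Dual.inD A M ⟶ ω⟦(-(i : ℤ))⟧)) ↔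
      (n : ℕ∞) ≤ LocCoh.depth (Localization.AtPrime p.asIdeal)
        (LocalizedModule p.asIdeal.primeCompl M) + Order.coheight p := by
  rcases Nat.eq_zero_or_pos n with rfl | hpos
  · simp
  · obtain ⟨k, rfl⟩ : ∃ k, n = k + 1 := ⟨n - 1, by omega⟩
    have key := support_ext_iff_depth_add_dim ω hω hn M k p
    have key' : (∃ j : ℕ, j ≤ k ∧ p ∈ Module.support A (Dual.inD A M ⟶ ω⟦(-(j : ℤ))⟧)) ↔
        LocCoh.depth (Localization.AtPrime p.asIdeal)
          (LocalizedModule p.asIdeal.primeCompl M) + Order.coheight p ≤ (k : ℕ∞) := by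
      rw [key, ringKrullDim_quotient_eq_coheight p]
      exact_mod_cast Iff.rfl
    constructor
    · intro h
      have h1 : ¬ (∃ j : ℕ, j ≤ k ∧ p ∈ Module.support A (Dual.inD A M ⟶ ω⟦(-(j : ℤ))⟧)) := by
        rintro ⟨j, hj, hmem⟩
        exact h j (by omega) hmem
      rw [key'] at h1
      rw [Nat.cast_add, Nat.cast_one]
      exact (ENat.add_one_le_iff (ENat.natCast_ne_top k)).mpr (not_le.mp h1)
    · intro h i hi hmem
      have h1 : ∃ j : ℕ, j ≤ k ∧ p ∈ Module.support A (Dual.inD A M ⟶ ω⟦(-(j : ℤ))⟧) :=
        ⟨i, by omega, hmem⟩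
      rw [key'] at h1
      have h2 : ((k + 1 : ℕ) : ℕ∞) ≤ ((k : ℕ) : ℕ∞) := h.trans h1
      have h3 : k + 1 ≤ k := by exact_mod_cast h2
      omega

end Dual

section Comb

variable (M : Type u) [AddCommGroup M] [Module A M] [Module.Finite A M]

lemma depth_le_height (p : PrimeSpectrum A) (hp : p ∈ Module.support A M) :
    LocCoh.depth (Localization.AtPrime p.asIdeal) (LocalizedModule p.asIdeal.primeCompl M) ≤
      Order.height (⟨p, hp⟩ : Module.support A M) := by
  haveI : Nontrivial (LocalizedModule p.asIdeal.primeCompl M) := Module.mem_support_iff.mp hp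
  haveI : IsNoetherianRing (Localization.AtPrime p.asIdeal) :=
    IsLocalization.isNoetherianRing p.asIdeal.primeCompl _ inferInstance
  haveI : Module.Finite (Localization.AtPrime p.asIdeal)
      (LocalizedModule p.asIdeal.primeCompl M) :=
    Module.Finite.of_isLocalizedModule p.asIdeal.primeCompl
      (LocalizedModule.mkLinearMap p.asIdeal.primeCompl M)
  have h1 := Groth.Agent.Helper2.DepthCM4.depth_le_supportDim
    (A := Localization.AtPrime p.asIdeal) (LocalizedModule p.asIdeal.primeCompl M)
  rw [Groth.Agent.Helper5.RSD.supportDim_localized_eq_height M p.asIdeal hp] at h1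
  exact_mod_cast h1

lemma height_add_coheight_le (n : ℕ) (hn : Module.supportDim A M = n) (p : PrimeSpectrum A)
    (hp : p ∈ Module.support A M) :
    Order.height (⟨p, hp⟩ : Module.support A M) + Order.coheight p ≤ (n : ℕ∞) := by
  haveI : Nontrivial (LocalizedModule p.asIdeal.primeCompl M) := Module.mem_support_iff.mp hp
  have h1 := Groth.Agent.Helper6.SuppDimLoc.supportDim_localized_add_dim_quot_le A M p.asIdeal
  rw [Groth.Agent.Helper5.RSD.supportDim_localized_eq_height M p.asIdeal hp,
    ringKrullDim_quotient_eq_coheight p, hn] at h1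
  exact_mod_cast h1

lemma coheight_le_coheight_add_height (hcat : CAlg.IsCatenary A) (Q p : PrimeSpectrum A)
    (hQp : Q ≤ p) (hQ : Q ∈ Module.support A M) (hp : p ∈ Module.support A M) :
    Order.coheight Q ≤ Order.coheight p + Order.height (⟨p, hp⟩ : Module.support A M) := by
  have hR := (Groth.Agent.Helper6.Caten.isCatenary_iff_catR A).mp hcat
  obtain ⟨c, hc1, hc2⟩ := Groth.Agent.Helper6.Caten.exists_covSeries hR hQp
  have h1 : Order.coheight Q = Order.coheight p + (c.length : ℕ∞) := by
    have h := Groth.Agent.Helper2.Caten2.coheight_head_eq hcat c.toLT (fun i => c.step i)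
      (Fin.last _)
    rw [Fin.val_last] at h
    rw [← hc1, ← hc2]
    exact h
  rw [h1]
  refine add_le_add le_rfl ?_
  let s : LTSeries (Module.support A M) := LTSeries.mk c.length
    (fun i => ⟨c.toLT i, Module.mem_support_mono
      (le_of_eq_of_le hc1.symm (c.toLT.monotone (Fin.zero_le i))) hQ⟩)
    (fun i j hij => c.toLT.strictMono hij)
  have hs : s.last = ⟨p, hp⟩ := Subtype.ext hc2
  have h2 : (s.length : ℕ∞) ≤ Order.height s.last := Order.length_le_height_last
  rw [hs] at h2
  exact h2

theorem punctured_iff (hcat : CAlg.IsCatenary A) (n : ℕ) (hn : Module.supportDim A M = n) :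
    (∀ p : PrimeSpectrum A, p ≠ closedPoint A →
      (n : ℕ∞) ≤ LocCoh.depth (Localization.AtPrime p.asIdeal)
        (LocalizedModule p.asIdeal.primeCompl M) + Order.coheight p) ↔
    ((∀ p ∈ (Module.annihilator A M).minimalPrimes, ringKrullDim (A ⧸ p) = n) ∧
      ∀ (p : Ideal A) [p.IsPrime], p ≠ maximalIdeal A → Module.annihilator A M ≤ p →
        LocCoh.IsCohenMacaulayModule (Localization.AtPrime p)
          (LocalizedModule p.primeCompl M)) := by
  constructor
  · intro H
    refine ⟨fun p hp => ?_, fun p _ hpm hle => ?_⟩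
    · haveI : p.IsPrime := hp.1.1
      have hmem : (⟨p, hp.1.1⟩ : PrimeSpectrum A) ∈ Module.support A M := by
        rw [Module.mem_support_iff_of_finite]
        exact hp.1.2
      have hmin : ∀ b : PrimeSpectrum A, b ∈ Module.support A M → b.asIdeal ≤ p →
          p ≤ b.asIdeal := by
        intro b hb hbp
        rw [Module.mem_support_iff_of_finite] at hb
        exact hp.2 ⟨b.2, hb⟩ hbp
      by_cases hpm : p = maximalIdeal A
      · have hsub : Subsingleton (Module.support A M) := by
          have hall : ∀ b : Module.support A M, b.1 = closedPoint A := by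
            intro b
            apply PrimeSpectrum.ext
            have h1 : b.1.asIdeal ≤ maximalIdeal A := le_maximalIdeal b.1.2.ne_top
            have h2 : maximalIdeal A ≤ b.1.asIdeal := by
              rw [← hpm]
              exact hmin b.1 b.2 (by rw [hpm]; exact h1)
            exact le_antisymm h1 h2
          exact ⟨fun a b => Subtype.ext ((hall a).trans (hall b).symm)⟩
        have h0 : Module.supportDim A M ≤ 0 := by
          unfold Module.supportDim
          exact Order.krullDim_nonpos_of_subsingleton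
        rw [hn] at h0
        have hn0 : n = 0 := by
          have : (n : WithBot ℕ∞) ≤ ((0 : ℕ) : WithBot ℕ∞) := by simpa using h0
          have h2 : n ≤ 0 := by exact_mod_cast this
          omega
        subst hn0
        rw [hpm]
        have h3 : ringKrullDim (A ⧸ maximalIdeal A) =
            (Order.coheight (closedPoint A) : WithBot ℕ∞) :=
          ringKrullDim_quotient_eq_coheight (closedPoint A)
        have h4 : Order.coheight (closedPoint A) = 0 := by
          rw [Order.coheight_eq_zero]
          exact isMax_top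
        rw [h4] at h3
        simpa using h3
      · have hP : (⟨p, hp.1.1⟩ : PrimeSpectrum A) ≠ closedPoint A := by
          intro h
          exact hpm (congrArg PrimeSpectrum.asIdeal h)
        have h1 := H ⟨p, hp.1.1⟩ hP
        have h2 := depth_le_height M ⟨p, hp.1.1⟩ hmem
        have h3 := height_add_coheight_le M n hn ⟨p, hp.1.1⟩ hmem
        have h4 : Order.height (⟨⟨p, hp.1.1⟩, hmem⟩ : Module.support A M) = 0 := by
          rw [Order.height_eq_zero]
          intro b hb
          have hb' : b.1.asIdeal ≤ p := hb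
          exact hmin b.1 b.2 hb'
        rw [h4, zero_add] at h3
        rw [h4] at h2
        have h5 : LocCoh.depth (Localization.AtPrime p) (LocalizedModule p.primeCompl M) = 0 :=
          le_antisymm h2 (by simp)
        have h6 : (n : ℕ∞) ≤ Order.coheight (⟨p, hp.1.1⟩ : PrimeSpectrum A) := by
          have := h1
          rw [show LocCoh.depth (Localization.AtPrime (⟨p, hp.1.1⟩ : PrimeSpectrum A).asIdeal)
            (LocalizedModule (⟨p, hp.1.1⟩ : PrimeSpectrum A).asIdeal.primeCompl M) = 0 from h5,
            zero_add] at this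
          exact this
        have h7 : Order.coheight (⟨p, hp.1.1⟩ : PrimeSpectrum A) = (n : ℕ∞) :=
          le_antisymm h3 h6
        have h8 := ringKrullDim_quotient_eq_coheight (⟨p, hp.1.1⟩ : PrimeSpectrum A)
        rw [h7] at h8
        exact_mod_cast h8
    · have hmem : (⟨p, inferInstance⟩ : PrimeSpectrum A) ∈ Module.support A M := by
        rw [Module.mem_support_iff_of_finite]
        exact hle
      have hP : (⟨p, inferInstance⟩ : PrimeSpectrum A) ≠ closedPoint A := by
        intro h
        exact hpm (congrArg PrimeSpectrum.asIdeal h)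
      have h1 := H ⟨p, inferInstance⟩ hP
      have h2 := depth_le_height M ⟨p, inferInstance⟩ hmem
      have h3 := height_add_coheight_le M n hn ⟨p, inferInstance⟩ hmem
      unfold LocCoh.IsCohenMacaulayModule
      rw [Groth.Agent.Helper5.RSD.supportDim_localized_eq_height M p hmem]
      have hc : Order.coheight (⟨p, inferInstance⟩ : PrimeSpectrum A) ≤ (n : ℕ∞) :=
        le_trans le_add_self h3
      have hh : Order.height (⟨⟨p, inferInstance⟩, hmem⟩ : Module.support A M) ≤ (n : ℕ∞) :=
        le_trans le_self_add h3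
      obtain ⟨c', hc'⟩ := ENat.ne_top_iff_exists.mp
        (ne_top_of_le_ne_top (ENat.natCast_ne_top n) hc)
      obtain ⟨h', hh'⟩ := ENat.ne_top_iff_exists.mp
        (ne_top_of_le_ne_top (ENat.natCast_ne_top n) hh)
      obtain ⟨d', hd'⟩ := ENat.ne_top_iff_exists.mp
        (ne_top_of_le_ne_top (ENat.natCast_ne_top n) (h2.trans hh))
      have e1 : LocCoh.depth (Localization.AtPrime p) (LocalizedModule p.primeCompl M) =
          (d' : ℕ∞) := hd'.symm
      rw [← hh', e1]
      rw [← hc', ← hh'] at h3
      change (n : ℕ∞) ≤ LocCoh.depth (Localization.AtPrime p)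
        (LocalizedModule p.primeCompl M) + _ at h1
      rw [← hc', e1] at h1
      change LocCoh.depth (Localization.AtPrime p)
        (LocalizedModule p.primeCompl M) ≤ _ at h2
      rw [← hh', e1] at h2
      have a1 : h' + c' ≤ n := by exact_mod_cast h3
      have a2 : n ≤ d' + c' := by exact_mod_cast h1
      have a3 : d' ≤ h' := by exact_mod_cast h2
      have a4 : h' = d' := by omega
      rw [a4]
  · rintro ⟨hE, hCM⟩ p hp
    by_cases hmem : p ∈ Module.support A M
    · have hle : Module.annihilator A M ≤ p.asIdeal := by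
        rw [Module.mem_support_iff_of_finite] at hmem
        exact hmem
      have hpm : p.asIdeal ≠ maximalIdeal A := fun h => hp (PrimeSpectrum.ext h)
      have hcm := hCM p.asIdeal hpm hle
      unfold LocCoh.IsCohenMacaulayModule at hcm
      rw [Groth.Agent.Helper5.RSD.supportDim_localized_eq_height M p.asIdeal hmem] at hcm
      have hcm' : Order.height (⟨p, hmem⟩ : Module.support A M) =
          LocCoh.depth (Localization.AtPrime p.asIdeal)
            (LocalizedModule p.asIdeal.primeCompl M) := by exact_mod_cast hcm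
      obtain ⟨q, hq, hqp⟩ := Ideal.exists_minimalPrimes_le hle
      have hQ : (⟨q, hq.1.1⟩ : PrimeSpectrum A) ∈ Module.support A M := by
        rw [Module.mem_support_iff_of_finite]
        exact hq.1.2
      have hcQ : Order.coheight (⟨q, hq.1.1⟩ : PrimeSpectrum A) = (n : ℕ∞) :=
        coheight_eq_of_ringKrullDim_quotient ⟨q, hq.1.1⟩ n (hE q hq)
      have h1 := coheight_le_coheight_add_height M hcat ⟨q, hq.1.1⟩ p
        ((PrimeSpectrum.asIdeal_le_asIdeal _ _).mp hqp) hQ hmem
      rw [hcQ, hcm', add_comm] at h1
      exact h1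
    · rw [Module.notMem_support_iff] at hmem
      haveI := hmem
      rw [depth_eq_top_of_subsingleton, top_add]
      exact le_top

end Comb

end Groth.Agent.Helper6.PunctCM
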