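import Groth.Agent.Helper8.FEtClopen

set_option autoImplicit false
set_option linter.style.haveILetI false
set_option linter.unusedSectionVars false
set_option linter.unusedVariables false
set_option linter.unusedSimpArgs false

universe u

namespace Groth.Agent.Helper6.PunctHyp

open CategoryTheory CategoryTheory.Limits AlgebraicGeometry Opposite TopologicalSpace

theorem faithful_of_HE {X S : Scheme.{u}} {f : X ⟶ S} (hE : Helper8.FEtClopen.HE f) :
    (FEt.restrict f).Faithful := by
  constructor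
  intro Y Z a b hab
  haveI : IsFinite Y.hom := Y.prop.1
  haveI : Etale Y.hom := Y.prop.2
  haveI : IsFinite Z.hom := Z.prop.1
  haveI : Etale Z.hom := Z.prop.2
  have h1 : pullback.fst Y.hom f ≫ a.left = pullback.fst Y.hom f ≫ b.left := by
    have h2 := congrArg (fun m => m.left ≫ pullback.fst Z.hom f) hab
    have h3 : ((FEt.restrict f).map a).left ≫ pullback.fst Z.hom f =
        pullback.fst Y.hom f ≫ a.left := pullback.lift_fst _ _ _
    have h4 : ((FEt.restrict f).map b).left ≫ pullback.fst Z.hom f =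
        pullback.fst Y.hom f ≫ b.left := pullback.lift_fst _ _ _
    exact h3.symm.trans (h2.trans h4)
  apply MorphismProperty.Over.Hom.ext
  exact Helper8.FEtClopen.eq_of_comp_eq hE Y.hom Z.hom a.left b.left (MorphismProperty.Over.w a)
    (MorphismProperty.Over.w b) h1

/-- Krull: in a noetherian local ring, above a prime `p₀` with `dim A/p₀ ≥ 2` there is a
non-maximal prime containing a given non-unit `f`. -/
theorem exists_prime (A : Type u) [CommRing A] [IsNoetherianRing A] [IsLocalRing A] (f : A)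
    (hf : f ∈ IsLocalRing.maximalIdeal A) (p₀ : Ideal A) [hp₀ : p₀.IsPrime]
    (hdim : (2 : WithBot ℕ∞) ≤ ringKrullDim (A ⧸ p₀)) :
    ∃ q : Ideal A, q.IsPrime ∧ p₀ ≤ q ∧ f ∈ q ∧ q ≠ IsLocalRing.maximalIdeal A := by
  haveI : Nontrivial (A ⧸ p₀) := Ideal.Quotient.nontrivial_iff.mpr hp₀.ne_top
  haveI : IsLocalRing (A ⧸ p₀) :=
    IsLocalRing.of_surjective' (Ideal.Quotient.mk p₀) Ideal.Quotient.mk_surjective
  let I : Ideal (A ⧸ p₀) := Ideal.span {Ideal.Quotient.mk p₀ f}
  have hI : I ≤ IsLocalRing.maximalIdeal (A ⧸ p₀) := by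
    rw [Ideal.span_le, Set.singleton_subset_iff]
    show Ideal.Quotient.mk p₀ f ∈ IsLocalRing.maximalIdeal (A ⧸ p₀)
    rw [IsLocalRing.mem_maximalIdeal, mem_nonunits_iff]
    intro hu
    have : IsUnit f := by
      haveI : IsLocalHom (Ideal.Quotient.mk p₀) :=
        IsLocalHom.of_surjective _ Ideal.Quotient.mk_surjective
      exact isUnit_of_map_unit (Ideal.Quotient.mk p₀) f hu
    exact (IsLocalRing.mem_maximalIdeal f).mp hf this
  obtain ⟨qb, hqb, hqm⟩ := Ideal.exists_minimalPrimes_le hI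
  haveI hqbp : qb.IsPrime := hqb.1.1
  have hht : qb.height ≤ 1 :=
    Ideal.height_le_one_of_isPrincipal_of_mem_minimalPrimes I qb hqb
  have hne : qb ≠ IsLocalRing.maximalIdeal (A ⧸ p₀) := by
    intro h
    rw [h] at hht
    have h2 := IsLocalRing.maximalIdeal_height_eq_ringKrullDim (R := A ⧸ p₀)
    rw [← h2] at hdim
    have h3 : (2 : ℕ∞) ≤ (IsLocalRing.maximalIdeal (A ⧸ p₀)).height := by
      have h4 : ((2 : ℕ∞) : WithBot ℕ∞) ≤ ((IsLocalRing.maximalIdeal (A ⧸ p₀)).height : WithBot ℕ∞) :=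
        hdim
      exact WithBot.coe_le_coe.mp h4
    have : (2 : ℕ∞) ≤ 1 := le_trans h3 hht
    exact absurd this (by decide)
  refine ⟨qb.comap (Ideal.Quotient.mk p₀), inferInstance, ?_, ?_, ?_⟩
  · intro x hx
    rw [Ideal.mem_comap, Ideal.Quotient.eq_zero_iff_mem.mpr hx]
    exact zero_mem _
  · rw [Ideal.mem_comap]
    exact hqb.1.2 (Ideal.subset_span rfl)
  · intro h
    apply hne
    apply le_antisymm hqm
    intro b hb
    obtain ⟨a, rfl⟩ := Ideal.Quotient.mk_surjective b
    have ha : a ∈ IsLocalRing.maximalIdeal A := by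
      rw [IsLocalRing.mem_maximalIdeal, mem_nonunits_iff]
      intro hu
      exact (IsLocalRing.mem_maximalIdeal _).mp hb (hu.map _)
    rw [← h] at ha
    exact ha

end Groth.Agent.Helper6.PunctHyp
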