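import Groth.Agent.Helper6.PunctHyp

set_option autoImplicit false
set_option linter.style.haveILetI false
set_option linter.unusedSectionVars false
set_option linter.unusedVariables false
set_option linter.unusedSimpArgs false

universe u

namespace Groth.Agent.Helper6.PunctHyp

open CategoryTheory CategoryTheory.Limits AlgebraicGeometry Opposite TopologicalSpace

variable (A : Type u) [CommRing A] [IsLocalRing A] (f : A)

theorem exists_point (q : PrimeSpectrum A) (hfq : f ∈ q.asIdeal)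
    (hq : q ≠ IsLocalRing.closedPoint A) :
    ∃ z : ↑(pullback (FEt.puncturedSpec A).ι
        (Spec.map (CommRingCat.ofHom (Ideal.Quotient.mk (Ideal.span {f}))))),
      (pullback.fst (FEt.puncturedSpec A).ι
        (Spec.map (CommRingCat.ofHom (Ideal.Quotient.mk (Ideal.span {f})))) ≫
          (FEt.puncturedSpec A).ι) z = q := by
  have hmem : q ∈ Set.range (PrimeSpectrum.comap (Ideal.Quotient.mk (Ideal.span {f}))) := by
    rw [range_comap_of_surjective _ _ Ideal.Quotient.mk_surjective]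
    rw [Ideal.mk_ker, PrimeSpectrum.mem_zeroLocus]
    intro a ha
    exact (Ideal.span_le.mpr (Set.singleton_subset_iff.mpr hfq)) ha
  obtain ⟨y, hy⟩ := hmem
  let x : ↑((FEt.puncturedSpec A : (Spec (CommRingCat.of A)).Opens) : Scheme.{u}) :=
    ⟨q, hq⟩
  have hxy : (FEt.puncturedSpec A).ι x =
      (Spec.map (CommRingCat.ofHom (Ideal.Quotient.mk (Ideal.span {f})))) y := by
    exact hy.symm
  obtain ⟨z, hz1, hz2⟩ := Scheme.Pullback.exists_preimage_pullback
    (f := (FEt.puncturedSpec A).ι)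
    (g := Spec.map (CommRingCat.ofHom (Ideal.Quotient.mk (Ideal.span {f})))) x y hxy
  refine ⟨z, ?_⟩
  rw [Scheme.Hom.comp_apply, hz1]
  rfl

variable [IsNoetherianRing A]

theorem HE_main (hf : f ∈ IsLocalRing.maximalIdeal A)
    (U' : (Spec (CommRingCat.of A)).Opens) (hU' : U' ≤ FEt.puncturedSpec A)
    (u' : pullback (FEt.puncturedSpec A).ι
      (Spec.map (CommRingCat.ofHom (Ideal.Quotient.mk (Ideal.span {f})))) ⟶ (U' : Scheme.{u}))
    (hu' : u' ≫ U'.ι = (pullback.fst (FEt.puncturedSpec A).ι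
      (Spec.map (CommRingCat.ofHom (Ideal.Quotient.mk (Ideal.span {f})))) ≫
        (FEt.puncturedSpec A).ι))
    (hdim : ∀ p : PrimeSpectrum A, p.asIdeal ∈ minimalPrimes A → p ∈ U' → f ∉ p.asIdeal →
      (2 : WithBot ℕ∞) ≤ ringKrullDim (A ⧸ p.asIdeal)) :
    Helper8.FEtClopen.HE u' := by
  intro Y h _ _ C hC hCX
  by_contra hne
  obtain ⟨y, hy⟩ := Set.nonempty_iff_ne_empty.mpr hne
  let g : Y ⟶ Spec (CommRingCat.of A) := h ≫ U'.ι
  haveI : Flat g := inferInstance
  have hgen : GeneralizingMap g := Flat.generalizingMap g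
  -- a minimal prime below `g y`
  let p : PrimeSpectrum A := g y
  obtain ⟨p₀, hp₀, hp₀le⟩ := Ideal.exists_minimalPrimes_le (bot_le : (⊥ : Ideal A) ≤ p.asIdeal)
  haveI hp₀p : p₀.IsPrime := hp₀.1.1
  let P₀ : PrimeSpectrum A := ⟨p₀, hp₀p⟩
  have hsp : P₀ ⤳ g y := (PrimeSpectrum.le_iff_specializes P₀ p).mp hp₀le
  obtain ⟨y₀, hy₀y, hy₀⟩ := hgen hsp
  have hy₀C : y₀ ∈ C := hC.2.stableUnderGeneralization hy₀y hy
  have hP₀U : P₀ ∈ U' := by
    rw [← hy₀]
    exact (h y₀).2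
  have hP₀ne : P₀ ≠ IsLocalRing.closedPoint A := hU' hP₀U
  -- the prime `q`
  obtain ⟨q, hqle, hfq, hqne⟩ : ∃ q : PrimeSpectrum A, P₀ ≤ q ∧ f ∈ q.asIdeal ∧
      q ≠ IsLocalRing.closedPoint A := by
    by_cases hfp : f ∈ p₀
    · exact ⟨P₀, le_refl _, hfp, hP₀ne⟩
    · obtain ⟨q, hqp, hq1, hq2, hq3⟩ := exists_prime A f hf p₀ (hdim P₀ hp₀ hP₀U hfp)
      refine ⟨⟨q, hqp⟩, hq1, hq2, ?_⟩
      intro hh
      apply hq3
      exact congrArg PrimeSpectrum.asIdeal hh
  obtain ⟨z₀, hz₀⟩ := exists_point A f q hfq hqne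
  have hz₀' : U'.ι (u' z₀) = q := by
    rw [← Scheme.Hom.comp_apply, hu']
    exact hz₀
  have hspU : h y₀ ⤳ u' z₀ := by
    rw [← U'.ι.isEmbedding.isInducing.specializes_iff]
    rw [hz₀']
    have : U'.ι (h y₀) = P₀ := hy₀
    rw [this]
    exact (PrimeSpectrum.le_iff_specializes P₀ q).mp hqle
  have hspec : SpecializingMap h := (h.isClosedMap).specializingMap
  obtain ⟨y₁, hy₀y₁, hy₁⟩ := hspec hspU
  have hy₁C : y₁ ∈ C := hC.1.stableUnderSpecialization hy₀y₁ hy₀C
  obtain ⟨w, hw1, hw2⟩ := Scheme.Pullback.exists_preimage_pullback (f := h) (g := u') y₁ z₀ hy₁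
  have : w ∈ (pullback.fst h u') ⁻¹' C := by
    show pullback.fst h u' w ∈ C
    rw [hw1]
    exact hy₁C
  rw [hCX] at this
  exact this

end Groth.Agent.Helper6.PunctHyp
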