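import Mathlib
import Groth.Prelude.Def_FEt
import Groth.Agent.Helper6.PurE
import Groth.Agent.Helper6.PurF
import Groth.Agent.Lead.FEtFF

/-!
# Purity assembly, part G: finiteness of sections over a normal base, and the extension criterion
(S1185)
-/

set_option autoImplicit false
set_option linter.style.haveILetI false
set_option linter.unusedSectionVars false
set_option linter.unusedVariables false
set_option linter.unusedSimpArgs false

universe u

open AlgebraicGeometry CategoryTheory CategoryTheory.Limits TopologicalSpace Opposite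
open IsLocalRing

namespace Groth.Agent.Helper6.PurG

open Groth.Agent.Helper5 Groth.Agent.Helper7.ZNPur

/-- finiteness over a normal base -/
theorem finite_of_etAway (A C : Type u) [CommRing A] [IsDomain A] [IsNoetherianRing A]
    [IsLocalRing A] [IsIntegrallyClosed A]
    (hA : (2 : WithBot ℕ∞) ≤ ringKrullDim A) [CommRing C] [IsDomain C]
    [Algebra A C] (hinj : Function.Injective (algebraMap A C))
    (hint : ∀ b : C, ∀ f ∈ maximalIdeal A, ∃ n : ℕ, IsIntegral A (f ^ n • b))
    (het : EtAway A C) : Module.Finite A C := by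
  have hint' : ∀ b : C, IsIntegral A b := fun b =>
    PurA.isIntegral_of_forall_pow_smul A hA C hinj b (hint b)
  obtain ⟨f₀, hf₀, hf₀0⟩ : ∃ f ∈ maximalIdeal A, f ≠ 0 := by
    by_contra hcon
    push Not at hcon
    have hbot : maximalIdeal A = ⊥ := by
      rw [eq_bot_iff]
      intro x hx
      exact hcon x hx
    have hf : IsField A := IsLocalRing.isField_iff_maximalIdeal_eq.mpr hbot
    have := ringKrullDim_eq_zero_of_isField hf
    rw [this] at hA
    exact absurd hA (by decide)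
  have hc : algebraMap A C f₀ ≠ 0 := by
    intro h0
    exact hf₀0 (hinj (h0.trans (map_zero _).symm))
  haveI := het f₀ hf₀
  exact PurA.finite_of_integral A C hinj hint' _ hc

/-- the integral case -/
theorem finite_of_integral {X U Y : Scheme.{u}} [IsAffine X] (j : U ⟶ X) [IsOpenImmersion j]
    (π : Y ⟶ U) [IsFinite π] [Etale π] [IsIntegral X] [IsIntegral Y] [IsLocalRing Γ(X, ⊤)]
    [IsNoetherianRing Γ(X, ⊤)] [IsIntegrallyClosed Γ(X, ⊤)]
    (hdim : (2 : WithBot ℕ∞) ≤ ringKrullDim Γ(X, ⊤)) [CompactSpace Y] [QuasiSeparatedSpace Y]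
    (hm : ∀ f ∈ maximalIdeal Γ(X, ⊤), X.basicOpen f ≤ j.opensRange) :
    (π ≫ j).appTop.hom.Finite := by
  letI : Algebra Γ(X, ⊤) Γ(Y, ⊤) := (π ≫ j).appTop.hom.toAlgebra
  exact finite_of_etAway Γ(X, ⊤) Γ(Y, ⊤) hdim (PurD.appTop_injective j π)
    (fun b f hf => PurD.exists_pow_smul_isIntegral j π hm b f hf) (PurD.etAway j π hm)

set_option backward.isDefEq.respectTransparency.types false in
/-- finite étale covers of the punctured spectrum of a normal local domain have finite global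
sections -/
theorem finite_sections {X U Y : Scheme.{u}} [IsAffine X] [IsIntegral X] (j : U ⟶ X)
    [IsOpenImmersion j] (π : Y ⟶ U) [IsFinite π] [Etale π] [IsLocallyNoetherian Y]
    [CompactSpace Y] [IsLocalRing Γ(X, ⊤)]
    [IsNoetherianRing Γ(X, ⊤)] [IsIntegrallyClosed Γ(X, ⊤)]
    (hdim : (2 : WithBot ℕ∞) ≤ ringKrullDim Γ(X, ⊤))
    (hm : ∀ f ∈ maximalIdeal Γ(X, ⊤), X.basicOpen f ≤ j.opensRange)
    (hX : ∀ x : X, IsDomain (X.presheaf.stalk x) ∧ IsIntegrallyClosed (X.presheaf.stalk x)) :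
    (π ≫ j).appTop.hom.Finite := by
  haveI : IsNoetherian Y := {}
  have hN : ∀ y : Y, IsDomain (Y.presheaf.stalk y) ∧ IsIntegrallyClosed (Y.presheaf.stalk y) :=
    fun y => SmNorm.stalk_normal_of_smooth (π ≫ j) y (hX _)
  let μ : Type u := {W : Y.Opens // IsClosed (W : Set Y) ∧ IsIrreducible (W : Set Y)}
  haveI : Finite μ := PurE.finite_clopen_irreducible Y
  have hpiece : ∀ W : μ, ((W.1.ι ≫ π) ≫ j).appTop.hom.Finite := by
    intro W
    have hn : ∀ y : (W.1 : Scheme.{u}), IsDomain ((W.1 : Scheme.{u}).presheaf.stalk y) ∧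
        IsIntegrallyClosed ((W.1 : Scheme.{u}).presheaf.stalk y) := fun y =>
      SmNorm.stalk_normal_of_smooth W.1.ι y (hN _)
    haveI : IsReduced (W.1 : Scheme.{u}) := by
      haveI : ∀ y : (W.1 : Scheme.{u}), _root_.IsReduced ((W.1 : Scheme.{u}).presheaf.stalk y) :=
        fun y => by
          haveI := (hn y).1; infer_instance
      exact isReduced_of_isReduced_stalk _
    haveI : IrreducibleSpace ↥(W.1 : Scheme.{u}) := Subtype.irreducibleSpace W.2.2
    haveI : IsIntegral (W.1 : Scheme.{u}) := isIntegral_of_irreducibleSpace_of_isReduced _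
    haveI : CompactSpace ↥(W.1 : Scheme.{u}) := isCompact_iff_compactSpace.1 W.2.1.isCompact
    haveI : IsClosedImmersion W.1.ι := by
      apply IsClosedImmersion.of_isPreimmersion
      rw [Scheme.Opens.range_ι]
      exact W.2.1
    haveI : IsFinite (W.1.ι ≫ π) := inferInstance
    haveI : Etale (W.1.ι ≫ π) := inferInstance
    exact finite_of_integral j (W.1.ι ≫ π) hdim hm
  let O : μ → Y.Opens := fun W => W.1.ι ''ᵁ ⊤
  have hO : ∀ W : μ, O W = W.1 := fun W => Scheme.Opens.ι_image_top W.1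
  have hbij := PurB.bijective_pi_of_disjoint O
    (by
      intro a b hab
      rw [hO, hO]
      by_contra hne
      apply hab
      have h1 : ((a.1 : Set Y) ∩ (b.1 : Set Y)).Nonempty := by
        by_contra h0
        apply hne
        ext1
        rw [Set.not_nonempty_iff_eq_empty] at h0
        exact h0
      have h2 := RatCohB.eq_of_clopen_irreducible ⟨a.2.1, a.1.2⟩ ⟨b.2.1, b.1.2⟩ a.2.2 b.2.2 h1
      exact Subtype.ext (Opens.ext h2))
    (by
      intro y
      obtain ⟨W, hy, hcl, hirr⟩ := RatCohB.exists_clopen_irreducible Y (fun x => (hN x).1) y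
      refine ⟨⟨W, hcl, hirr⟩, ?_⟩
      rw [hO]
      exact hy)
  letI : Algebra Γ(X, ⊤) Γ(Y, ⊤) := (π ≫ j).appTop.hom.toAlgebra
  letI : ∀ W : μ, Algebra Γ(X, ⊤) Γ((W.1 : Scheme.{u}), ⊤) := fun W =>
    ((W.1.ι ≫ π) ≫ j).appTop.hom.toAlgebra
  haveI : ∀ W : μ, Module.Finite Γ(X, ⊤) Γ((W.1 : Scheme.{u}), ⊤) := fun W => hpiece W
  let ρ : Γ(Y, ⊤) →+* (∀ W : μ, Γ((W.1 : Scheme.{u}), ⊤)) :=
    RingHom.pi (fun W => W.1.ι.appTop.hom)
  have hρ : Function.Bijective ρ := by
    have : (ρ : Γ(Y, ⊤) → (∀ W : μ, Γ((W.1 : Scheme.{u}), ⊤))) = fun (b : Γ(Y, ⊤)) (W : μ) =>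
        (Y.presheaf.map (homOfLE (le_top : O W ≤ ⊤)).op).hom b := by
      funext b W
      change W.1.ι.appTop.hom b = _
      rw [Scheme.Opens.ι_appTop]
      rfl
    rw [this]
    exact hbij
  let E : Γ(Y, ⊤) ≃ₐ[Γ(X, ⊤)] (∀ W : μ, Γ((W.1 : Scheme.{u}), ⊤)) :=
    AlgEquiv.ofRingEquiv (f := RingEquiv.ofBijective ρ hρ) (by
      intro r
      funext W
      change W.1.ι.appTop.hom ((π ≫ j).appTop.hom r) = ((W.1.ι ≫ π) ≫ j).appTop.hom r
      rw [Category.assoc, Scheme.Hom.comp_appTop (W.1.ι) (π ≫ j)]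
      rfl)
  exact Module.Finite.equiv E.symm.toLinearEquiv

set_option backward.isDefEq.respectTransparency.types false in
/-- **S1185** -/
theorem main (A : Type u) [CommRing A] [IsDomain A] [IsNoetherianRing A]
    [IsLocalRing A] [IsIntegrallyClosed A] (hdim : (2 : WithBot ℕ∞) ≤ ringKrullDim A)
    (V : FEt.Cat (FEt.puncturedSpec A : Scheme.{u})) :
    (((V.hom ≫ (FEt.puncturedSpec A).ι).appTop).hom.comp
      (Scheme.ΓSpecIso (CommRingCat.of A)).inv.hom).Finite ∧
    ((∃ Y : FEt.Cat (Spec (CommRingCat.of A)),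
        Nonempty ((FEt.restrict (FEt.puncturedSpec A).ι).obj Y ≅ V)) ↔
      (((V.hom ≫ (FEt.puncturedSpec A).ι).appTop).hom.comp
        (Scheme.ΓSpecIso (CommRingCat.of A)).inv.hom).Etale) := by
  let X : Scheme.{u} := Spec (CommRingCat.of A)
  let U : X.Opens := FEt.puncturedSpec A
  let e : A ≃+* Γ(X, ⊤) := (Scheme.ΓSpecIso (CommRingCat.of A)).symm.commRingCatIsoToRingEquiv
  haveI : IsLocalRing Γ(X, ⊤) := e.isLocalRing
  haveI : IsNoetherianRing Γ(X, ⊤) := isNoetherianRing_of_ringEquiv A e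
  haveI : IsIntegrallyClosed Γ(X, ⊤) := IsIntegrallyClosed.of_equiv e
  have hdim' : (2 : WithBot ℕ∞) ≤ ringKrullDim Γ(X, ⊤) := by
    rw [← ringKrullDim_eq_of_ringEquiv e]
    exact hdim
  have hmax : ∀ f : Γ(X, ⊤), f ∈ maximalIdeal Γ(X, ⊤) ↔ e.symm f ∈ maximalIdeal A := by
    intro f
    rw [mem_maximalIdeal, mem_maximalIdeal, mem_nonunits_iff, mem_nonunits_iff,
      MulEquiv.isUnit_map]
  have hm : ∀ f ∈ maximalIdeal Γ(X, ⊤), X.basicOpen f ≤ U.ι.opensRange := by
    intro f hf
    rw [Scheme.Opens.opensRange_ι, basicOpen_eq_of_affine']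
    intro x hx
    have hx' : (Scheme.ΓSpecIso (CommRingCat.of A)).hom f ∉ x.asIdeal := hx
    change x ∈ ({closedPoint A}ᶜ : Set (PrimeSpectrum A))
    intro hxc
    rw [Set.mem_singleton_iff] at hxc
    subst hxc
    exact hx' ((hmax f).mp hf)
  have hdepth : (2 : ℕ∞) ≤ LocCoh.depth A A :=
    Groth.Agent.Helper7.ZNPur.two_le_depth_of_normal A hdim
  have hbij := Groth.Agent.Lead.FEtFF.hartogs_punctured A hdepth ⊤
  haveI : IsIso U.ι.appTop := by
    rw [Scheme.Opens.ι_appTop]
    apply (ConcreteCategory.isIso_iff_bijective _).mpr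
    refine (PurF.bij_of_eq ?_ _ _).mp hbij
    rw [Scheme.Opens.ι_image_top]
    exact top_inf_eq _
  haveI : IsNoetherian X := inferInstance
  haveI : CompactSpace ↥(U : Scheme.{u}) :=
    isCompact_iff_compactSpace.1 (TopologicalSpace.NoetherianSpace.isCompact (U : Set X))
  let Y : Scheme.{u} := V.left
  let π : Y ⟶ (U : Scheme.{u}) := V.hom
  haveI : IsFinite π := V.prop.1
  haveI : Etale π := V.prop.2
  haveI : IsLocallyNoetherian (U : Scheme.{u}) := inferInstance
  haveI : IsLocallyNoetherian Y := LocallyOfFiniteType.isLocallyNoetherian π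
  haveI : CompactSpace Y := QuasiCompact.compactSpace_of_compactSpace π
  have hfin : (π ≫ U.ι).appTop.hom.Finite :=
    finite_sections U.ι π hdim' hm (PurF.stalk_normal_Spec A)
  have hinvbij : Function.Bijective (Scheme.ΓSpecIso (CommRingCat.of A)).inv.hom :=
    (ConcreteCategory.isIso_iff_bijective _).mp inferInstance
  have hhombij : Function.Bijective (Scheme.ΓSpecIso (CommRingCat.of A)).hom.hom :=
    (ConcreteCategory.isIso_iff_bijective _).mp inferInstance
  have hcomp : ((π ≫ U.ι).appTop.hom.comp (Scheme.ΓSpecIso (CommRingCat.of A)).inv.hom).comp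
      (Scheme.ΓSpecIso (CommRingCat.of A)).hom.hom = (π ≫ U.ι).appTop.hom := by
    ext a
    change (π ≫ U.ι).appTop.hom ((Scheme.ΓSpecIso (CommRingCat.of A)).inv.hom
      ((Scheme.ΓSpecIso (CommRingCat.of A)).hom.hom a)) = _
    congr 1
    exact (Scheme.ΓSpecIso (CommRingCat.of A)).hom_inv_id_apply a
  refine ⟨hfin.comp (RingHom.Finite.of_surjective _ hinvbij.2), ?_, ?_⟩
  · intro hV
    exact (Groth.Agent.Lead.FEtFF.main_sections A hdepth V hV).2
  · intro het
    have het' : (π ≫ U.ι).appTop.hom.Etale := by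
      rw [← hcomp]
      exact RingHom.Etale.stableUnderComposition _ _ (RingHom.Etale.of_bijective hhombij) het
    obtain ⟨G, γ, i, hγf, hγe, sq⟩ := PurB.exists_extension_of_sections U.ι π hfin het'
    exact ⟨MorphismProperty.Over.mk ⊤ γ ⟨hγf, hγe⟩,
      ⟨MorphismProperty.Over.isoMk sq.isoPullback.symm sq.isoPullback_inv_snd⟩⟩

end Groth.Agent.Helper6.PurG
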