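import Mathlib

/-!
# Exactness after tensoring: reduction to finitely presented modules
-/

set_option autoImplicit false
universe u
open TensorProduct

namespace Groth.Agent.Helper6.PureAcyc

variable {R : Type u} [CommRing R] {A B C : Type u} [AddCommGroup A] [Module R A]
  [AddCommGroup B] [Module R B] [AddCommGroup C] [Module R C]
  (d₁ : A →ₗ[R] B) (d₂ : B →ₗ[R] C)

/-- exactness of `M ⊗ A → M ⊗ B → M ⊗ C` at the middle -/
def E (M : Type u) [AddCommGroup M] [Module R M] : Prop :=
  ∀ z : M ⊗[R] B, d₂.lTensor M z = 0 → ∃ w : M ⊗[R] A, d₁.lTensor M w = z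

variable {d₁ d₂}

lemma E_of_approx (M : Type u) [AddCommGroup M] [Module R M]
    (h : ∀ z : M ⊗[R] B, d₂.lTensor M z = 0 →
      ∃ (M' : Type u) (_ : AddCommGroup M') (_ : Module R M') (ρ : M' →ₗ[R] M)
        (z' : M' ⊗[R] B), E d₁ d₂ M' ∧ ρ.rTensor B z' = z ∧ d₂.lTensor M' z' = 0) :
    E d₁ d₂ M := by
  intro z hz
  obtain ⟨M', _, _, ρ, z', hE, rfl, hz'⟩ := h z hz
  obtain ⟨w', rfl⟩ := hE z' hz'
  refine ⟨ρ.rTensor A w', ?_⟩
  rw [← LinearMap.comp_apply, ← LinearMap.comp_apply, LinearMap.lTensor_comp_rTensor,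
    LinearMap.rTensor_comp_lTensor]

lemma E_of_fg (M : Type u) [AddCommGroup M] [Module R M]
    (h : ∀ P : Submodule R M, P.FG → E d₁ d₂ P) : E d₁ d₂ M := by
  apply E_of_approx
  intro z hz
  obtain ⟨P, hP, z₀, rfl⟩ := TensorProduct.exists_of_fg z
  have h1 : LinearMap.rTensor C P.subtype (d₂.lTensor P z₀) = 0 := by
    rw [← LinearMap.comp_apply, LinearMap.rTensor_comp_lTensor, ← LinearMap.lTensor_comp_rTensor,
      LinearMap.comp_apply]
    exact hz
  obtain ⟨Q, hPQ, hQ, h2⟩ := TensorProduct.eq_zero_of_fg_of_subtype_eq_zero hP h1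
  refine ⟨Q, inferInstance, inferInstance, Q.subtype,
    LinearMap.rTensor B (Submodule.inclusion hPQ) z₀, h Q hQ, ?_, ?_⟩
  · rw [← LinearMap.comp_apply, ← LinearMap.rTensor_comp, Submodule.subtype_comp_inclusion]
  · rw [← LinearMap.comp_apply, LinearMap.lTensor_comp_rTensor, ← LinearMap.rTensor_comp_lTensor,
      LinearMap.comp_apply]
    exact h2

lemma E_of_fp (hfp : ∀ (M' : Type u) [AddCommGroup M'] [Module R M'],
      Module.FinitePresentation R M' → E d₁ d₂ M')
    (M : Type u) [AddCommGroup M] [Module R M] [Module.Finite R M] : E d₁ d₂ M := by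
  apply E_of_approx
  obtain ⟨n, π, hπ⟩ := Module.Finite.exists_fin' R M
  intro z hz
  obtain ⟨z', rfl⟩ := LinearMap.rTensor_surjective B hπ z
  have h1 : π.rTensor C (d₂.lTensor (Fin n → R) z') = 0 := by
    rw [← LinearMap.comp_apply, LinearMap.rTensor_comp_lTensor, ← LinearMap.lTensor_comp_rTensor,
      LinearMap.comp_apply]
    exact hz
  have hex : Function.Exact ((LinearMap.ker π).subtype.rTensor C) (π.rTensor C) :=
    rTensor_exact C (LinearMap.exact_subtype_ker_map π) hπ
  obtain ⟨y, hy⟩ := (hex _).mp h1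
  obtain ⟨N', hN', y', rfl⟩ := TensorProduct.exists_of_fg y
  set N'' : Submodule R (Fin n → R) := N'.map (LinearMap.ker π).subtype with hN''
  have hfg : N''.FG := hN'.map _
  have hle : N'' ≤ LinearMap.ker π := by
    rintro x ⟨x', -, rfl⟩
    exact x'.2
  haveI : Module.FinitePresentation R ((Fin n → R) ⧸ N'') :=
    Module.finitePresentation_of_free_of_surjective N''.mkQ N''.mkQ_surjective
      (by rw [Submodule.ker_mkQ]; exact hfg)
  refine ⟨(Fin n → R) ⧸ N'', inferInstance, inferInstance, N''.liftQ π hle,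
    N''.mkQ.rTensor B z', hfp _ inferInstance, ?_, ?_⟩
  · rw [← LinearMap.comp_apply, ← LinearMap.rTensor_comp, Submodule.liftQ_mkQ]
  · rw [← LinearMap.comp_apply, LinearMap.lTensor_comp_rTensor, ← LinearMap.rTensor_comp_lTensor,
      LinearMap.comp_apply, ← hy, ← LinearMap.comp_apply, ← LinearMap.comp_apply,
      ← LinearMap.rTensor_comp, ← LinearMap.rTensor_comp]
    have h0 : (N''.mkQ ∘ₗ (LinearMap.ker π).subtype) ∘ₗ N'.subtype = 0 := by
      ext x : 1
      simp only [LinearMap.comp_apply, LinearMap.zero_apply]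
      exact (Submodule.Quotient.mk_eq_zero N'').mpr ⟨x.1, x.2, rfl⟩
    rw [h0, LinearMap.rTensor_zero, LinearMap.zero_apply]

theorem E_all (hfp : ∀ (M' : Type u) [AddCommGroup M'] [Module R M'],
      Module.FinitePresentation R M' → E d₁ d₂ M')
    (M : Type u) [AddCommGroup M] [Module R M] : E d₁ d₂ M :=
  E_of_fg M (fun P hP => by
    haveI : Module.Finite R P := Module.Finite.iff_fg.mpr hP
    exact E_of_fp hfp P)

/-- right-handed version -/
theorem exact_rTensor_all
    (hfp : ∀ (M' : Type u) [AddCommGroup M'] [Module R M'], Module.FinitePresentation R M' →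
      ∀ z : B ⊗[R] M', d₂.rTensor M' z = 0 → ∃ w : A ⊗[R] M', d₁.rTensor M' w = z)
    (M : Type u) [AddCommGroup M] [Module R M] (z : B ⊗[R] M) (hz : d₂.rTensor M z = 0) :
    ∃ w : A ⊗[R] M, d₁.rTensor M w = z := by
  have hc : ∀ {X Y : Type u} [AddCommGroup X] [Module R X] [AddCommGroup Y] [Module R Y]
      (f : X →ₗ[R] Y) (N : Type u) [AddCommGroup N] [Module R N] (t : N ⊗[R] X),
      TensorProduct.comm R N Y (f.lTensor N t) = f.rTensor N (TensorProduct.comm R N X t) := by
    intro X Y _ _ _ _ f N _ _ t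
    induction t using TensorProduct.induction_on with
    | zero => simp
    | tmul a b => simp
    | add a b ha hb => simp only [map_add, ha, hb]
  have hE : E d₁ d₂ M := by
    apply E_all
    intro M' _ _ hM' z' hz'
    obtain ⟨w, hw⟩ := hfp M' hM' (TensorProduct.comm R M' B z') (by
      rw [← hc, hz', map_zero])
    refine ⟨(TensorProduct.comm R M' A).symm w, ?_⟩
    apply (TensorProduct.comm R M' B).injective
    rw [hc, LinearEquiv.apply_symm_apply, hw]
  obtain ⟨w, hw⟩ := hE ((TensorProduct.comm R M B).symm z) (by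
    apply (TensorProduct.comm R M C).injective
    rw [hc, LinearEquiv.apply_symm_apply, hz, map_zero])
  refine ⟨TensorProduct.comm R M A w, ?_⟩
  rw [← hc, hw, LinearEquiv.apply_symm_apply]

end Groth.Agent.Helper6.PureAcyc
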