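import Mathlib
import Groth.Prelude
import Groth.Agent.Helper2.Ass
import Groth.Agent.Helper9.DepthKer

set_option autoImplicit false
universe u

namespace Groth.Agent.Helper6.PureQuot

open IsLocalRing

variable {A : Type u} [CommRing A]

/-- the submodule of elements supported in `T` -/
def tors (T : Set (PrimeSpectrum A)) (M : Type u) [AddCommGroup M] [Module A M] :
    Submodule A M where
  carrier := {m | ∀ q : PrimeSpectrum A, q ∉ T → ∃ v : A, v ∉ q.asIdeal ∧ v • m = 0}
  add_mem' := by
    intro a b ha hb q hq
    obtain ⟨v, hv, hva⟩ := ha q hq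
    obtain ⟨w, hw, hwb⟩ := hb q hq
    refine ⟨v * w, q.2.mul_notMem hv hw, ?_⟩
    rw [smul_add, mul_smul v w b, hwb, smul_zero, add_zero, mul_comm, mul_smul, hva, smul_zero]
  zero_mem' := fun q _ => ⟨1, fun h => q.2.ne_top ((Ideal.eq_top_iff_one _).mpr h), smul_zero _⟩
  smul_mem' := by
    intro c a ha q hq
    obtain ⟨v, hv, hva⟩ := ha q hq
    exact ⟨v, hv, by rw [smul_comm, hva, smul_zero]⟩

theorem main [IsNoetherianRing A] (T : Set (PrimeSpectrum A)) (hT : StableUnderSpecialization T)
    (M : Type u) [AddCommGroup M] [Module A M] [Module.Finite A M] :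
    Function.Surjective (tors T M).mkQ ∧
      (∀ p : PrimeSpectrum A, p ∉ T →
        Function.Bijective (LocalizedModule.map p.asIdeal.primeCompl (tors T M).mkQ)) ∧
      ∀ p : PrimeSpectrum A, p ∈ T →
        1 ≤ LocCoh.depth (Localization.AtPrime p.asIdeal)
          (LocalizedModule p.asIdeal.primeCompl (M ⧸ tors T M)) := by
  refine ⟨Submodule.mkQ_surjective _, ?_, ?_⟩
  · intro p hp
    refine ⟨?_, LocalizedModule.map_surjective _ _ (Submodule.mkQ_surjective _)⟩
    rw [injective_iff_map_eq_zero]
    intro y hy
    induction y using LocalizedModule.induction_on with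
    | h m s =>
      rw [LocalizedModule.map_mk, ← LocalizedModule.zero_mk s, LocalizedModule.mk_eq] at hy
      obtain ⟨t, ht⟩ := hy
      rw [smul_zero, smul_zero] at ht
      have h1 : (t : A) • (s : A) • m ∈ tors T M := by
        rw [← Submodule.Quotient.mk_eq_zero, Submodule.Quotient.mk_smul,
          Submodule.Quotient.mk_smul]
        exact ht
      obtain ⟨v, hv, hv0⟩ := h1 p hp
      rw [← LocalizedModule.zero_mk s, LocalizedModule.mk_eq]
      refine ⟨⟨v, hv⟩ * t, ?_⟩
      rw [smul_zero, smul_zero, mul_smul]
      exact hv0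
  · intro p hp
    by_cases hnt : Nontrivial (LocalizedModule p.asIdeal.primeCompl (M ⧸ tors T M))
    swap
    · rw [not_nontrivial_iff_subsingleton] at hnt
      unfold LocCoh.depth
      rw [Groth.Agent.Helper9.DepthKer.idealDepth_eq_top _ _ (Subsingleton.elim _ _)]
      exact le_top
    · have hex : ∃ x ∈ maximalIdeal (Localization.AtPrime p.asIdeal),
          IsSMulRegular (LocalizedModule p.asIdeal.primeCompl (M ⧸ tors T M)) x := by
        by_contra hcon
        push Not at hcon
        have hass := Groth.Agent.Helper2.Ass.maximalIdeal_mem_ass_of_forall_not_regular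
          (Localization.AtPrime p.asIdeal) (LocalizedModule p.asIdeal.primeCompl (M ⧸ tors T M))
          hcon
        rw [← Module.associatedPrimes.preimage_comap_associatedPrimes_eq_associatedPrimes_of_isLocalizedModule
          p.asIdeal.primeCompl (Localization.AtPrime p.asIdeal)
          (LocalizedModule.mkLinearMap p.asIdeal.primeCompl (M ⧸ tors T M)), Set.mem_preimage] at hass
        have h3 : Ideal.comap (algebraMap A (Localization.AtPrime p.asIdeal))
            (maximalIdeal (Localization.AtPrime p.asIdeal)) = p.asIdeal :=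
          IsLocalization.AtPrime.under_maximalIdeal (Localization.AtPrime p.asIdeal) p.asIdeal
        rw [h3] at hass
        obtain ⟨hprime, y, hy⟩ := (Submodule.isAssociatedPrime_iff).mp hass
        obtain ⟨m, rfl⟩ := Submodule.Quotient.mk_surjective _ y
        have hm : m ∈ tors T M := by
          intro q hq
          have hpq : ¬ p.asIdeal ≤ q.asIdeal := by
            intro hle
            exact hq (hT ((PrimeSpectrum.le_iff_specializes p q).mp hle) hp)
          obtain ⟨s, hsp, hsq⟩ := SetLike.not_le_iff_exists.mp hpq
          rw [hy, Submodule.mem_colon_singleton, Submodule.mem_bot,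
            ← Submodule.Quotient.mk_smul, Submodule.Quotient.mk_eq_zero] at hsp
          obtain ⟨v, hv, hv0⟩ := hsp q hq
          refine ⟨v * s, q.2.mul_notMem hv hsq, ?_⟩
          rw [mul_smul]
          exact hv0
        have h1 : (1 : A) ∈ p.asIdeal := by
          rw [hy, Submodule.mem_colon_singleton, one_smul, Submodule.mem_bot,
            Submodule.Quotient.mk_eq_zero]
          exact hm
        exact hprime.ne_top ((Ideal.eq_top_iff_one _).mpr h1)
      obtain ⟨x, hxm, hxreg⟩ := hex
      have := Groth.Agent.Helper9.DepthKer.le_idealDepth_of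
        (maximalIdeal (Localization.AtPrime p.asIdeal))
        (M := LocalizedModule p.asIdeal.primeCompl (M ⧸ tors T M)) [x]
        ((RingTheory.Sequence.isWeaklyRegular_singleton_iff _ _).mpr hxreg) (by simpa using hxm)
      unfold LocCoh.depth
      simpa using this

end Groth.Agent.Helper6.PureQuot
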