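import Mathlib
import Groth.Prelude.Def_DRing4
import Groth.Prelude.Def_CAlg
import Groth.Prelude.Def_EGA4b
import Groth.Agent.Helper6.QG2
import Groth.Agent.Helper5.RSD1

/-!
# Finiteness of the set of points of depth `k` and dimension `> k` under `(S_k)`
-/

set_option autoImplicit false
set_option linter.style.haveILetI false
set_option linter.unusedSectionVars false

universe u v
open CategoryTheory CategoryTheory.Limits Pretriangulated DerivedCategory TensorProduct
attribute [local instance] HasDerivedCategory.standard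

namespace Groth.Agent.Helper6.QG
open Groth.Agent.Helper3.DRingLib Groth.Agent.Helper6.DK Groth.Agent.Helper6.LocExt IsLocalRing
open Groth.Agent.Helper6.LD

variable {A : Type u} [CommRing A] [IsNoetherianRing A]

/-- `dim M_q < dim M_p` for `q < p` in the support of `M` -/
lemma supportDim_localized_lt (M : Type u) [AddCommGroup M] [Module A M] [Module.Finite A M]
    (q p : PrimeSpectrum A) (hq : q ∈ Module.support A M) (hqp : q < p) (e' e : ℕ)
    (he' : Module.supportDim (Localization.AtPrime q.asIdeal)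
      (LocalizedModule q.asIdeal.primeCompl M) = e')
    (he : Module.supportDim (Localization.AtPrime p.asIdeal)
      (LocalizedModule p.asIdeal.primeCompl M) = e) :
    e' + 1 ≤ e := by
  have hp : p ∈ Module.support A M := Module.mem_support_mono hqp.le hq
  rw [Groth.Agent.Helper5.RSD.supportDim_localized_eq_height M q.asIdeal hq] at he'
  rw [Groth.Agent.Helper5.RSD.supportDim_localized_eq_height M p.asIdeal hp] at he
  have hlt : (⟨q, hq⟩ : Module.support A M) < ⟨p, hp⟩ := hqp
  have h1 := Order.height_add_one_le hlt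
  have he'' : Order.height (⟨q, hq⟩ : Module.support A M) = (e' : ℕ∞) := by exact_mod_cast he'
  have he2 : Order.height (⟨p, hp⟩ : Module.support A M) = (e : ℕ∞) := by exact_mod_cast he
  rw [he'', he2] at h1
  exact_mod_cast h1

/-- **Under `(S_k)`, only finitely many points have depth `k` and dimension `> k`.** -/
theorem finite_setOf_depth_eq (ω : Dual.D A) (hω : Dual.IsDualizing A ω)
    (M : Type u) [AddCommGroup M] [Module A M] [Module.Finite A M] (k : ℕ)
    (hM : LocCoh.HasSk k A M) :
    Set.Finite {p : PrimeSpectrum A |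
      LocCoh.depth (Localization.AtPrime p.asIdeal)
        (LocalizedModule p.asIdeal.primeCompl M) = k ∧
      (k : WithBot ℕ∞) < Module.supportDim (Localization.AtPrime p.asIdeal)
        (LocalizedModule p.asIdeal.primeCompl M)} := by
  obtain ⟨a, b, hab⟩ := hω.finite_injective_dimension
  let I : ℤ → Ideal A := fun i => Module.annihilator A (Dual.inD A M ⟶ ω⟦i⟧)
  have hfinW : ∀ i j : ℤ,
      Set.Finite {p : PrimeSpectrum A | p.asIdeal ∈ (I i ⊔ I j).minimalPrimes} := by
    intro i j
    have h1 : ((I i ⊔ I j).minimalPrimes).Finite :=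
      Ideal.finite_minimalPrimes_of_isNoetherianRing A _
    exact Set.Finite.preimage (fun x _ y _ hxy => PrimeSpectrum.ext hxy) h1
  refine Set.Finite.subset ((Set.finite_Icc a b).biUnion (fun i _ =>
    (Set.finite_Icc a b).biUnion (fun j _ => hfinW i j))) ?_
  intro p hp
  obtain ⟨hdep, hdim⟩ := hp
  have hpM : p ∈ Module.support A M := by
    rw [Module.mem_support_iff]
    by_contra hcon
    rw [not_nontrivial_iff_subsingleton] at hcon
    haveI := hcon
    rw [Module.supportDim_eq_bot_of_subsingleton] at hdim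
    exact not_lt_bot hdim
  obtain ⟨s, e, t, he, ht, hte, hA, hB, hC⟩ := loc_range' ω hω M p hpM
  have htk : t = k := by
    rw [ht] at hdep
    exact_mod_cast hdep
  subst htk
  have hke : t < e := by
    rw [he] at hdim
    exact_mod_cast hdim
  have hEi : Nontrivial (Dual.inD A M ⟶ ω⟦s - (t : ℤ)⟧) := nontrivial_of_mem_support hC
  have hEj : Nontrivial (Dual.inD A M ⟶ ω⟦s - (e : ℤ)⟧) := nontrivial_of_mem_support hB
  have hrange : ∀ i : ℤ, Nontrivial (Dual.inD A M ⟶ ω⟦i⟧) → i ∈ Set.Icc a b := by
    intro i hi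
    constructor
    · by_contra hcon
      haveI := hab M i (Or.inl (by omega))
      exact absurd hi (not_nontrivial _)
    · by_contra hcon
      haveI := hab M i (Or.inr (by omega))
      exact absurd hi (not_nontrivial _)
  refine Set.mem_iUnion₂.mpr ⟨s - (t : ℤ), hrange _ hEi,
    Set.mem_iUnion₂.mpr ⟨s - (e : ℤ), hrange _ hEj, ?_⟩⟩
  show p.asIdeal ∈ (I (s - (t : ℤ)) ⊔ I (s - (e : ℤ))).minimalPrimes
  refine ⟨⟨p.isPrime, sup_le (Module.annihilator_le_of_mem_support hC)
    (Module.annihilator_le_of_mem_support hB)⟩, ?_⟩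
  rintro q ⟨hqprime, hqI⟩ hqp
  obtain ⟨Q, rfl⟩ : ∃ Q : PrimeSpectrum A, Q.asIdeal = q := ⟨⟨q, hqprime⟩, rfl⟩
  by_contra hnle
  have hQp : Q < p :=
    lt_of_le_of_ne ((PrimeSpectrum.asIdeal_le_asIdeal Q p).mp hqp) (fun h => hnle (by rw [h]))
  haveI := finite_ext_dualizing ω hω M (s - (t : ℤ))
  haveI := finite_ext_dualizing ω hω M (s - (e : ℤ))
  have hQi : Q ∈ Module.support A (Dual.inD A M ⟶ ω⟦s - (t : ℤ)⟧) :=
    Module.mem_support_iff_of_finite.mpr (le_sup_left.trans hqI)
  have hQj : Q ∈ Module.support A (Dual.inD A M ⟶ ω⟦s - (e : ℤ)⟧) :=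
    Module.mem_support_iff_of_finite.mpr (le_sup_right.trans hqI)
  have hQM := mem_support_of_mem_support_ext' ω hω M _ Q hQi
  obtain ⟨s', e', t', he', ht', hte', hA', _, _⟩ := loc_range' ω hω M Q hQM
  obtain ⟨h1, h2⟩ := hA' _ hQi
  obtain ⟨h3, h4⟩ := hA' _ hQj
  have hlt := supportDim_localized_lt M Q p hQM hQp e' e he' he
  have hS := hM Q.asIdeal
  rw [he', ht'] at hS
  rcases min_le_iff.mp hS with h | h
  · have hkt : t ≤ t' := by exact_mod_cast h
    omega
  · have het : e' ≤ t' := by exact_mod_cast h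
    omega

end Groth.Agent.Helper6.QG
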