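import Mathlib
import Groth.Prelude.Def_AlgSt5
import Groth.Prelude.Def_ChGrp
import Groth.Agent.Helper9.QuotStk

/-!
# Helper6: basics on the quotient stack `[X/G]`: sections and trivialisations, every morphism is
strongly cartesian
-/

set_option autoImplicit false
set_option linter.style.haveILetI false
set_option linter.unusedVariables false
set_option linter.unusedSimpArgs false
universe u

namespace Groth.Agent.Helper6.QuotS1
open CategoryTheory CategoryTheory.Limits MonoidalCategory CartesianMonoidalCategory MonObj GrpObj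
  AlgebraicGeometry AlgSt

variable {S : Scheme.{u}} (K : Precoverage Scheme.{u}) (G : Over S) [GrpObj G]
  {X : Over S} (aX : AlgGrp.Action G X)

section Cart

variable {K G aX}

/-- every morphism of `[X/G]` is strongly cartesian over its base morphism -/
instance isStronglyCartesian_base {A B : QuotObj K G aX} (h : B ⟶ A) :
    (QuotObj.forget K G aX).IsStronglyCartesian h.base h where
  toIsHomLift := inferInstanceAs ((QuotObj.forget K G aX).IsHomLift ((QuotObj.forget K G aX).map h) h)
  universal_property' := by
    intro B' (g : B'.base ⟶ B.base) φ' hφ'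
    change (QuotObj.forget K G aX).IsHomLift (g ≫ h.base) φ' at hφ'
    have hbase : φ'.base = g ≫ h.base := (IsHomLift.fac (QuotObj.forget K G aX) (g ≫ h.base) φ').symm
    have hw : φ'.top ≫ A.π = (B'.π ≫ g) ≫ h.base := by
      rw [φ'.cart.w, hbase, Category.assoc]
    let top : B'.P ⟶ B.P := h.cart.lift φ'.top (B'.π ≫ g) hw
    have ht1 : top ≫ h.top = φ'.top := h.cart.lift_fst _ _ _
    have ht2 : top ≫ B.π = B'.π ≫ g := h.cart.lift_snd _ _ _
    let χ : B' ⟶ B :=
      { base := g
        top := top
        eqv := by
          apply h.cart.hom_ext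
          · rw [Category.assoc, ht1, φ'.eqv, Category.assoc, h.eqv,
              ← MonoidalCategory.whiskerLeft_comp_assoc, ht1]
          · rw [Category.assoc, ht2, Category.assoc, B.cart.w, ← Category.assoc, B'.cart.w,
              whiskerLeft_snd_assoc, ht2, Category.assoc]
        cart := by
          refine IsPullback.of_right ?_ ht2 h.cart
          rw [ht1, ← hbase]
          exact φ'.cart
        wφ := by rw [← h.wφ, ← Category.assoc, ht1, φ'.wφ] }
    refine ⟨χ, ⟨?_, ?_⟩, ?_⟩
    · exact inferInstanceAs ((QuotObj.forget K G aX).IsHomLift ((QuotObj.forget K G aX).map χ) χ)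
    · exact QuotObj.hom_ext hbase.symm ht1
    · rintro χ' ⟨h1, h2⟩
      have h1' : (QuotObj.forget K G aX).IsHomLift g χ' := h1
      have hb : χ'.base = g := (IsHomLift.fac (QuotObj.forget K G aX) g χ').symm
      refine QuotObj.hom_ext hb ?_
      apply h.cart.hom_ext
      · rw [ht1]
        exact congrArg QuotObj.Hom.top h2
      · rw [ht2, χ'.cart.w, hb]

/-- every morphism of `[X/G]` is strongly cartesian over any morphism it lifts -/
theorem isStronglyCartesian {R T : Over S} (f : R ⟶ T) {A B : QuotObj K G aX} (h : B ⟶ A)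
    [(QuotObj.forget K G aX).IsHomLift f h] :
    (QuotObj.forget K G aX).IsStronglyCartesian f h := by
  subst_hom_lift (QuotObj.forget K G aX) f h
  exact isStronglyCartesian_base h

end Cart


section Triv

variable [K.HasIsos]

/-- the trivial object attached to a point of `X` -/
noncomputable abbrev triv {T : Over S} (x : T ⟶ X) : QuotObj K G aX :=
  (quotMap K G aX).obj ((ofOverCat X).obj (Over.mk x))

/-- the morphism from a trivial object defined by a section of the torsor -/
noncomputable def homOfSection (A : QuotObj K G aX) {T : Over S} (s : T ⟶ A.P) :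
    triv K G aX (s ≫ A.φ) ⟶ A :=
  (Groth.Agent.Helper9.QuotStk.exists_hom_of_section K G aX A s).choose

theorem homOfSection_base (A : QuotObj K G aX) {T : Over S} (s : T ⟶ A.P) :
    (homOfSection K G aX A s).base = s ≫ A.π :=
  (Groth.Agent.Helper9.QuotStk.exists_hom_of_section K G aX A s).choose_spec.1

theorem homOfSection_top (A : QuotObj K G aX) {T : Over S} (s : T ⟶ A.P) :
    (homOfSection K G aX A s).top = (G ◁ s) ≫ A.act.act :=
  (Groth.Agent.Helper9.QuotStk.exists_hom_of_section K G aX A s).choose_spec.2

variable {K G aX}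

/-- the unit section of the trivial torsor -/
noncomputable abbrev unitSec (T : Over S) : T ⟶ G ⊗ T := lift (1 : T ⟶ G) (𝟙 T)

theorem whiskerLeft_unitSec_leftMul (T : Over S) :
    (G ◁ unitSec (G := G) T) ≫ (leftMul G T).act = 𝟙 (G ⊗ T) := by
  apply AlgGrp.Action.hom_ext_lift₂
  intro T' g t
  rw [Category.comp_id, lift_whiskerLeft_assoc, comp_lift, MonObj.comp_one, Category.comp_id,
    Groth.Agent.Helper9.QuotStk.leftMul_pt, _root_.mul_one]

/-- the top morphism of a morphism out of a trivial object, with its source written `G ⊗ T` -/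
noncomputable def topT {T : Over S} {x : T ⟶ X} {A : QuotObj K G aX}
    (h : triv K G aX x ⟶ A) : G ⊗ T ⟶ A.P := h.top

/-- the base morphism of a morphism out of a trivial object, with its source written `T` -/
noncomputable def baseT {T : Over S} {x : T ⟶ X} {A : QuotObj K G aX}
    (h : triv K G aX x ⟶ A) : T ⟶ A.base := h.base

/-- the section defined by a morphism out of a trivial object -/
noncomputable def sectionOfHom {T : Over S} {x : T ⟶ X} {A : QuotObj K G aX}
    (h : triv K G aX x ⟶ A) : T ⟶ A.P := unitSec T ≫ topT h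

theorem topT_eq_of_sectionOfHom {T : Over S} {x : T ⟶ X} {A : QuotObj K G aX}
    (h : triv K G aX x ⟶ A) : topT h = (G ◁ sectionOfHom h) ≫ A.act.act := by
  have h1 : (leftMul G T).act ≫ topT h = (G ◁ topT h) ≫ A.act.act := h.eqv
  calc topT h = ((G ◁ unitSec (G := G) T) ≫ (leftMul G T).act) ≫ topT h := by
        rw [whiskerLeft_unitSec_leftMul, Category.id_comp]
    _ = (G ◁ unitSec (G := G) T) ≫ (G ◁ topT h) ≫ A.act.act := by rw [Category.assoc, h1]
    _ = (G ◁ sectionOfHom h) ≫ A.act.act := by
        rw [← MonoidalCategory.whiskerLeft_comp_assoc]; rfl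

theorem sectionOfHom_φ {T : Over S} {x : T ⟶ X} {A : QuotObj K G aX}
    (h : triv K G aX x ⟶ A) : sectionOfHom h ≫ A.φ = x := by
  have h1 : topT h ≫ A.φ = (G ◁ x) ≫ aX.act := h.wφ
  rw [sectionOfHom, Category.assoc, h1, lift_whiskerLeft_assoc, Category.id_comp,
    AlgGrp.Action.lift_one_act]

theorem sectionOfHom_π {T : Over S} {x : T ⟶ X} {A : QuotObj K G aX}
    (h : triv K G aX x ⟶ A) : sectionOfHom h ≫ A.π = baseT h := by
  have h1 : topT h ≫ A.π = snd G T ≫ baseT h := h.cart.w
  rw [sectionOfHom, Category.assoc, h1, lift_snd_assoc, Category.id_comp]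

theorem baseT_homOfSection (A : QuotObj K G aX) {T : Over S} (s : T ⟶ A.P) :
    baseT (homOfSection K G aX A s) = s ≫ A.π := homOfSection_base K G aX A s

theorem topT_homOfSection (A : QuotObj K G aX) {T : Over S} (s : T ⟶ A.P) :
    topT (homOfSection K G aX A s) = (G ◁ s) ≫ A.act.act := homOfSection_top K G aX A s

theorem sectionOfHom_homOfSection (A : QuotObj K G aX) {T : Over S} (s : T ⟶ A.P) :
    sectionOfHom (homOfSection K G aX A s) = s := by
  rw [sectionOfHom, topT_homOfSection, lift_whiskerLeft_assoc, Category.id_comp,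
    AlgGrp.Action.lift_one_act]

/-- morphisms out of a trivial object are determined by their base and their section -/
theorem hom_ext_triv {T : Over S} {x : T ⟶ X} {A : QuotObj K G aX}
    (h h' : triv K G aX x ⟶ A) (hb : h.base = h'.base) (hs : sectionOfHom h = sectionOfHom h') :
    h = h' := by
  refine QuotObj.hom_ext hb ?_
  change topT h = topT h'
  rw [topT_eq_of_sectionOfHom h, topT_eq_of_sectionOfHom h', hs]

end Triv

end Groth.Agent.Helper6.QuotS1
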