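import Mathlib
import Groth.Agent.Helper6.QuotS1
import Groth.Agent.Helper6.FpPaste
import Groth.Agent.Helper6.FpTools
import Groth.Agent.Helper6.AlgStPsh

/-!
# Helper6: the fibre product of `X ⟶ [X/G]` with a torsor is the total space of the torsor
-/

set_option autoImplicit false
set_option linter.style.haveILetI false
set_option linter.unusedVariables false
set_option linter.unusedSimpArgs false
universe u

namespace Groth.Agent.Helper6.QuotS2
open CategoryTheory CategoryTheory.Limits MonoidalCategory CartesianMonoidalCategory MonObj GrpObj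
  AlgebraicGeometry AlgSt FibCat Functor Opposite
open Groth.Agent.Helper6.QuotS1 Groth.Agent.Helper6.FpTools

variable {S : Scheme.{u}} {K : Precoverage Scheme.{u}} [K.HasIsos] {G : Over S} [GrpObj G]
  {X : Over S} {aX : AlgGrp.Action G X} {U : Over S} (y : overCat U ⥤ᵇ QuotSt K G aX)

/-- the terminal object of the slice -/
def termO (U : Over S) : (overCat U).obj := (Over.mk (𝟙 U) : Over U)

/-- the structure morphism of an object of the slice -/
def strO (t : (overCat U).obj) : (overCat U).p.obj t ⟶ U := (show Over U from t).hom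

/-- the morphism to the terminal object of the slice -/
def toι (t : (overCat U).obj) : t ⟶ termO U :=
  (Over.homMk (show Over U from t).hom : (show Over U from t) ⟶ Over.mk (𝟙 U))

instance toι_lift (t : (overCat U).obj) : (overCat U).p.IsHomLift (strO t) (toι t) :=
  IsHomLift.map (overCat U).p (toι t)

theorem comp_toι {t t' : (overCat U).obj} (m : t' ⟶ t) : m ≫ toι t = toι t' := by
  apply Over.OverMorphism.ext
  exact Over.w m

/-- the torsor classified by `y` -/
noncomputable abbrev tors : QuotObj K G aX := y.obj (termO U)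

theorem tors_base : (tors y).base = U := y.w_obj (termO U)

/-- the structure morphism of the torsor, as a morphism to `U` -/
noncomputable def pr : (tors y).P ⟶ U := (tors y).π ≫ eqToHom (tors_base y)

/-- the canonical cartesian morphism from a pull back of the torsor -/
noncomputable def cHom (t : (overCat U).obj) : y.obj t ⟶ tors y := y.map (toι t)

instance cHom_isHomLift (t : (overCat U).obj) :
    (QuotSt K G aX).p.IsHomLift (strO t) (cHom y t) := by
  unfold cHom
  exact BasedFunctor.preserves_isHomLift y (strO t) (toι t)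

theorem map_comp_cHom {t t' : (overCat U).obj} (m : t' ⟶ t) : y.map m ≫ cHom y t = cHom y t' := by
  unfold cHom
  rw [← y.toFunctor.map_comp, comp_toι]

/-- the trivialisation defined by a point of the torsor -/
noncomputable def dHom {T : Over S} (s : T ⟶ (tors y).P) :
    triv K G aX (s ≫ (tors y).φ) ⟶ tors y := homOfSection K G aX (tors y) s

instance dHom_isHomLift {T : Over S} (s : T ⟶ (tors y).P) :
    (QuotSt K G aX).p.IsHomLift (s ≫ pr y) (dHom y s) := by
  apply IsHomLift.of_fac (QuotSt K G aX).p (s ≫ pr y) (dHom y s) rfl (tors_base y)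
  have h2 : (QuotSt K G aX).p.map (dHom y s) = s ≫ (tors y).π :=
    homOfSection_base K G aX (tors y) s
  rw [h2]
  change s ≫ pr y = 𝟙 T ≫ (s ≫ (tors y).π) ≫ eqToHom (tors_base y)
  rw [Category.id_comp, pr, Category.assoc]

/-- the section of an object of the category of the total space -/
def sOf (w : (ofSch (tors y).P).obj) : w.base ⟶ (tors y).P := w.sec.down

/-- first component of the comparison functor -/
noncomputable def fa : ofSch (tors y).P ⥤ᵇ overCat U :=
  BasedFunctor.comp (ofSpMap ((AlgSp.yon S).map (pr y))) (toOverCat U)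

/-- second component of the comparison functor -/
noncomputable def fb : ofSch (tors y).P ⥤ᵇ ofSch X := ofSpMap ((AlgSp.yon S).map (tors y).φ)

theorem strO_fa (w : (ofSch (tors y).P).obj) : strO ((fa y).obj w) = sOf y w ≫ pr y := rfl

theorem fb_obj (w : (ofSch (tors y).P).obj) :
    (quotMap K G aX).obj ((fb y).obj w) = triv K G aX (sOf y w ≫ (tors y).φ) := rfl


/-- the morphism of trivial objects induced by a morphism of base schemes -/
noncomputable def trivMap {T T' : Over S} (g : T' ⟶ T) (x : T ⟶ X) (x' : T' ⟶ X) (h : g ≫ x = x') :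
    triv K G aX x' ⟶ triv K G aX x :=
  (quotMap K G aX).map
    (⟨g, congrArg ULift.up h⟩ : (ofOverCat X).obj (Over.mk x') ⟶ (ofOverCat X).obj (Over.mk x))

/-- compatibility of the trivialisations with pull back of the section -/
theorem trivMap_comp_homOfSection (A : QuotObj K G aX) {T T' : Over S} (s : T ⟶ A.P)
    (s' : T' ⟶ A.P) (g : T' ⟶ T) (hs : g ≫ s = s') (h : g ≫ s ≫ A.φ = s' ≫ A.φ) :
    trivMap g (s ≫ A.φ) (s' ≫ A.φ) h ≫ homOfSection K G aX A s = homOfSection K G aX A s' := by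
  subst hs
  apply hom_ext_triv
  · change g ≫ baseT (homOfSection K G aX A s) = baseT (homOfSection K G aX A (g ≫ s))
    rw [baseT_homOfSection, baseT_homOfSection, Category.assoc]
  · rw [sectionOfHom_homOfSection]
    change unitSec T' ≫ (G ◁ g) ≫ topT (homOfSection K G aX A s) = _
    rw [topT_homOfSection, ← MonoidalCategory.whiskerLeft_comp_assoc, lift_whiskerLeft_assoc,
      Category.id_comp, AlgGrp.Action.lift_one_act]

instance cHom_fa_lift (w : (ofSch (tors y).P).obj) :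
    (QuotSt K G aX).p.IsHomLift (sOf y w ≫ pr y) (cHom y ((fa y).obj w)) :=
  cHom_isHomLift y ((fa y).obj w)

instance cHom_fa_cart (w : (ofSch (tors y).P).obj) :
    (QuotSt K G aX).p.IsStronglyCartesian (sOf y w ≫ pr y) (cHom y ((fa y).obj w)) :=
  isStronglyCartesian _ _

instance dHom_cart {T : Over S} (s : T ⟶ (tors y).P) :
    (QuotSt K G aX).p.IsStronglyCartesian (s ≫ pr y) (dHom y s) :=
  isStronglyCartesian _ _

/-- the components of the 2-isomorphism -/
noncomputable def εc (w : (ofSch (tors y).P).obj) :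
    y.obj ((fa y).obj w) ≅ triv K G aX (sOf y w ≫ (tors y).φ) :=
  IsCartesian.domainUniqueUpToIso (QuotSt K G aX).p (sOf y w ≫ pr y) (dHom y (sOf y w))
    (cHom y ((fa y).obj w))

theorem εc_hom_dHom (w : (ofSch (tors y).P).obj) :
    (εc y w).hom ≫ dHom y (sOf y w) = cHom y ((fa y).obj w) :=
  IsCartesian.fac (QuotSt K G aX).p (sOf y w ≫ pr y) (dHom y (sOf y w)) (cHom y ((fa y).obj w))

instance εc_lift (w : (ofSch (tors y).P).obj) :
    (QuotSt K G aX).p.IsHomLift (𝟙 w.base) (εc y w).hom :=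
  IsCartesian.domainUniqueUpToIso_inv_isHomLift (QuotSt K G aX).p (sOf y w ≫ pr y)
    (dHom y (sOf y w)) (cHom y ((fa y).obj w))

theorem sOf_comp {w w' : (ofSch (tors y).P).obj} (m : w' ⟶ w) : m.hom ≫ sOf y w = sOf y w' :=
  congrArg ULift.down m.map_sec

theorem sOf_comp_φ {w w' : (ofSch (tors y).P).obj} (m : w' ⟶ w) :
    m.hom ≫ sOf y w ≫ (tors y).φ = sOf y w' ≫ (tors y).φ := by
  rw [← Category.assoc, sOf_comp]

instance trivMap_lift {T T' : Over S} (g : T' ⟶ T) (x : T ⟶ X) (x' : T' ⟶ X) (h : g ≫ x = x') :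
    (QuotSt K G aX).p.IsHomLift g (trivMap (K := K) (aX := aX) g x x' h) :=
  IsHomLift.map (QuotSt K G aX).p (trivMap (K := K) (aX := aX) g x x' h)

theorem ε_nat {w w' : (ofSch (tors y).P).obj} (m : w' ⟶ w) :
    y.map ((fa y).map m) ≫ (εc y w).hom =
      (εc y w').hom ≫ trivMap m.hom _ _ (sOf_comp_φ y m) := by
  have hm : (ofSch (tors y).P).p.IsHomLift m.hom m := IsHomLift.map (ofSch (tors y).P).p m
  have h1 : (overCat U).p.IsHomLift m.hom ((fa y).map m) :=
    BasedFunctor.preserves_isHomLift (fa y) m.hom m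
  have h2 : (QuotSt K G aX).p.IsHomLift m.hom (y.map ((fa y).map m)) :=
    BasedFunctor.preserves_isHomLift y m.hom _
  have h5 : (QuotSt K G aX).p.IsHomLift m.hom (y.map ((fa y).map m) ≫ (εc y w).hom) :=
    IsHomLift.comp_lift_id_right (QuotSt K G aX).p m.hom (y.map ((fa y).map m)) (εc y w).hom
  have h6 : (QuotSt K G aX).p.IsHomLift m.hom
      ((εc y w').hom ≫ trivMap m.hom _ _ (sOf_comp_φ y m)) :=
    IsHomLift.comp_lift_id_left (QuotSt K G aX).p m.hom (trivMap m.hom _ _ (sOf_comp_φ y m))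
      (εc y w').hom
  apply IsStronglyCartesian.ext (QuotSt K G aX).p (sOf y w ≫ pr y) (dHom y (sOf y w)) m.hom
  rw [Category.assoc, εc_hom_dHom, map_comp_cHom, Category.assoc]
  erw [trivMap_comp_homOfSection (tors y) (sOf y w) (sOf y w') m.hom (sOf_comp y m)]
  exact (εc_hom_dHom y w').symm

/-- the 2-isomorphism of the comparison square -/
noncomputable def ε : BasedFunctor.comp (fa y) y ≅ BasedFunctor.comp (fb y) (quotMap K G aX) :=
  BasedNatIso.mkNatIso (NatIso.ofComponents (fun w => εc y w) (fun m => ε_nat y m))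
    (fun w => εc_lift y w)

/-- the comparison functor from the total space of the torsor to the 2-fibre product -/
noncomputable def cmp : ofSch (tors y).P ⥤ᵇ fp y (quotMap K G aX) := fpLift (fa y) (fb y) (ε y)

theorem cmp_comp_fpFst : BasedFunctor.comp (cmp y) (fpFst y (quotMap K G aX)) = fa y := rfl


theorem sectionOfHom_trivMap_comp {T T' : Over S} (g : T' ⟶ T) (x : T ⟶ X) (x' : T' ⟶ X)
    (h : g ≫ x = x') {A : QuotObj K G aX} (H : triv K G aX x ⟶ A) :
    sectionOfHom (trivMap g x x' h ≫ H) = g ≫ sectionOfHom H := by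
  change unitSec T' ≫ (G ◁ g) ≫ topT H = g ≫ unitSec T ≫ topT H
  rw [lift_whiskerLeft_assoc, Category.id_comp, ← Category.assoc g, comp_lift, MonObj.comp_one,
    Category.comp_id]

theorem eq_of_two_lifts {𝒳 𝒮 : Type*} [Category 𝒳] [Category 𝒮] (p : 𝒳 ⥤ 𝒮) {R S' : 𝒮}
    (f f' : R ⟶ S') {a b : 𝒳} (φ : a ⟶ b) [p.IsHomLift f φ] [p.IsHomLift f' φ] : f = f' :=
  (IsHomLift.fac p f φ).trans (IsHomLift.fac p f' φ).symm

theorem cmp_faithful : (cmp y).toFunctor.Faithful := by
  refine ⟨fun {w' w} m m' h => ?_⟩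
  apply Stk.EltObj.Hom.ext
  exact congrArg (fun t => t.hom.snd.hom) h

theorem cmp_full : (cmp y).toFunctor.Full := by
  refine ⟨fun {w' w} Θ => ?_⟩
  let k : (fb y).obj w' ⟶ (fb y).obj w := Θ.hom.snd
  let g : w'.base ⟶ w.base := k.hom
  let l : (fa y).obj w' ⟶ (fa y).obj w := Θ.hom.fst
  let g₁ : w'.base ⟶ w.base := (overCat U).p.map l
  have hkφ : g ≫ sOf y w ≫ (tors y).φ = sOf y w' ≫ (tors y).φ := congrArg ULift.down k.map_sec
  have hw : y.map l ≫ (εc y w).hom = (εc y w').hom ≫ trivMap g _ _ hkφ := Θ.hom.w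
  have h1 : trivMap g _ _ hkφ ≫ dHom y (sOf y w) = dHom y (sOf y w') := by
    rw [← cancel_epi (εc y w').hom, ← Category.assoc, ← hw, Category.assoc, εc_hom_dHom,
      map_comp_cHom, εc_hom_dHom]
  have h2 : g ≫ sOf y w = sOf y w' := by
    have := congrArg sectionOfHom h1
    rw [sectionOfHom_trivMap_comp] at this
    unfold dHom at this
    rw [sectionOfHom_homOfSection, sectionOfHom_homOfSection] at this
    exact this
  have a1 : (QuotSt K G aX).p.IsHomLift g₁ (y.map l) :=
    BasedFunctor.preserves_isHomLift y ((overCat U).p.map l) l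
  have a2 : (QuotSt K G aX).p.IsHomLift g₁ (y.map l ≫ (εc y w).hom) :=
    IsHomLift.comp_lift_id_right (QuotSt K G aX).p g₁ (y.map l) (εc y w).hom
  have a3 : (QuotSt K G aX).p.IsHomLift g ((εc y w').hom ≫ trivMap g _ _ hkφ) :=
    IsHomLift.comp_lift_id_left (QuotSt K G aX).p g (trivMap g _ _ hkφ) (εc y w').hom
  rw [← hw] at a3
  have h3 : g₁ = g := eq_of_two_lifts (QuotSt K G aX).p g₁ g (y.map l ≫ (εc y w).hom)
  refine ⟨⟨g, congrArg ULift.up h2⟩, ?_⟩
  apply fp_hom_ext
  · apply Over.OverMorphism.ext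
    exact h3.symm
  · rfl


/-- a morphism out of a trivial object is the trivialisation defined by its section -/
theorem homOfSection_sectionOfHom {T : Over S} {x : T ⟶ X} {A : QuotObj K G aX}
    (h : triv K G aX x ⟶ A) (hx : 𝟙 T ≫ x = sectionOfHom h ≫ A.φ) :
    trivMap (𝟙 T) x (sectionOfHom h ≫ A.φ) hx ≫ h = homOfSection K G aX A (sectionOfHom h) := by
  apply hom_ext_triv
  · change 𝟙 T ≫ baseT h = baseT (homOfSection K G aX A (sectionOfHom h))
    rw [Category.id_comp, baseT_homOfSection, sectionOfHom_π]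
  · rw [sectionOfHom_trivMap_comp, Category.id_comp, sectionOfHom_homOfSection]

/-- objects of the slice -/
def ovO {L : Over S} (f : L ⟶ U) : (overCat U).obj := (Over.mk f : Over U)

theorem essSurj_aux (L : Over S) (f : L ⟶ U) (x : L ⟶ X)
    (θ : y.obj (ovO f) ≅ triv K G aX x) (hθ : (QuotSt K G aX).p.IsHomLift (𝟙 L) θ.hom) :
    ∃ (w : (ofSch (tors y).P).obj) (e₁ : (fa y).obj w ≅ ovO f)
      (e₂ : (fb y).obj w ≅ (ofOverCat X).obj (Over.mk x)),
      y.map e₁.hom ≫ θ.hom = (εc y w).hom ≫ (quotMap K G aX).map e₂.hom ∧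
        (overCat U).p.IsHomLift (𝟙 L) e₁.hom := by
  have hθi : (QuotSt K G aX).p.IsHomLift (𝟙 L) θ.inv := IsHomLift.lift_id_inv _ L θ
  have hc : (QuotSt K G aX).p.IsHomLift f (cHom y (ovO f)) := cHom_isHomLift y (ovO f)
  let h : triv K G aX x ⟶ tors y := θ.inv ≫ cHom y (ovO f)
  have hh : (QuotSt K G aX).p.IsHomLift f h :=
    IsHomLift.comp_lift_id_left (QuotSt K G aX).p f (cHom y (ovO f)) θ.inv
  have hcart : (QuotSt K G aX).p.IsStronglyCartesian f h := isStronglyCartesian f h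
  let s : L ⟶ (tors y).P := sectionOfHom h
  have hsφ : s ≫ (tors y).φ = x := sectionOfHom_φ h
  have hsπ : s ≫ pr y = f := by
    have h1 := IsHomLift.fac (QuotSt K G aX).p f h
    change f = 𝟙 L ≫ baseT h ≫ eqToHom (tors_base y) at h1
    rw [Category.id_comp] at h1
    rw [pr, ← Category.assoc, sectionOfHom_π, ← h1]
  let w : (ofSch (tors y).P).obj := ⟨L, ⟨s⟩⟩
  let e₁ : (fa y).obj w ≅ ovO f :=
    (Over.isoMk (Iso.refl L) (by
      change 𝟙 L ≫ f = s ≫ pr y
      rw [Category.id_comp, hsπ]) : (Over.mk (s ≫ pr y) : Over U) ≅ Over.mk f)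
  have hx : 𝟙 L ≫ x = sectionOfHom h ≫ (tors y).φ := by rw [Category.id_comp, hsφ]
  have hx' : 𝟙 L ≫ s ≫ (tors y).φ = x := by rw [Category.id_comp, hsφ]
  let e₂ : (fb y).obj w ≅ (ofOverCat X).obj (Over.mk x) :=
    { hom := ⟨𝟙 L, congrArg ULift.up hx⟩
      inv := ⟨𝟙 L, congrArg ULift.up hx'⟩
      hom_inv_id := Stk.EltObj.Hom.ext (Category.id_comp _)
      inv_hom_id := Stk.EltObj.Hom.ext (Category.id_comp _) }
  have he₁ : (overCat U).p.IsHomLift (𝟙 L) e₁.hom := IsHomLift.map (overCat U).p e₁.hom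
  refine ⟨w, e₁, e₂, ?_, he₁⟩
  have b1 : (QuotSt K G aX).p.IsHomLift (𝟙 L) (y.map e₁.hom) :=
    BasedFunctor.preserves_isHomLift y (𝟙 L) e₁.hom
  have b2 : (QuotSt K G aX).p.IsHomLift (𝟙 L) (y.map e₁.hom ≫ θ.hom) :=
    IsHomLift.comp_of_lift_id (QuotSt K G aX).p L _ _
  have b3 : (QuotSt K G aX).p.IsHomLift (𝟙 L)
      (trivMap (K := K) (aX := aX) (𝟙 L) x (sectionOfHom h ≫ (tors y).φ) hx) :=
    trivMap_lift _ _ _ _
  have b0 : (QuotSt K G aX).p.IsHomLift (𝟙 L) (εc y w).hom := εc_lift y w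
  let R : y.obj ((fa y).obj w) ⟶ triv K G aX x :=
    (εc y w).hom ≫ trivMap (𝟙 L) x (sectionOfHom h ≫ (tors y).φ) hx
  have b4 : (QuotSt K G aX).p.IsHomLift (𝟙 L) R :=
    @IsHomLift.comp_of_lift_id _ _ _ _ (QuotSt K G aX).p L _ _ _ (εc y w).hom
      (trivMap (𝟙 L) x (sectionOfHom h ≫ (tors y).φ) hx) b0 b3
  have hR : R ≫ h = cHom y ((fa y).obj w) := by
    refine (Category.assoc _ _ _).trans ?_
    refine (congrArg (fun t => (εc y w).hom ≫ t) (homOfSection_sectionOfHom h hx)).trans ?_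
    exact εc_hom_dHom y w
  change y.map e₁.hom ≫ θ.hom = R
  apply IsStronglyCartesian.ext (QuotSt K G aX).p f h (𝟙 L)
  rw [hR, Category.assoc]
  have c1 : θ.hom ≫ h = cHom y (ovO f) := by rw [Iso.hom_inv_id_assoc]
  rw [c1, map_comp_cHom]


theorem cmp_essSurj (z : (fp y (quotMap K G aX)).obj) :
    ∃ (w : (ofSch (tors y).P).obj) (e : (cmp y).obj w ≅ z),
      (fp y (quotMap K G aX)).p.IsHomLift (𝟙 ((fp y (quotMap K G aX)).p.obj z)) e.hom := by
  obtain ⟨⟨t, c, θ⟩, hz⟩ := z
  obtain ⟨T, ⟨x⟩⟩ := c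
  obtain ⟨L, ⟨⟨⟩⟩, f⟩ := t
  have hz' : (QuotSt K G aX).p.IsHomLift (𝟙 L) θ.hom := hz
  have hTL : T = L := IsHomLift.codomain_eq (QuotSt K G aX).p (𝟙 L) θ.hom
  subst hTL
  obtain ⟨w, e₁, e₂, hcompat, he₁⟩ := essSurj_aux y T f x θ hz'
  refine ⟨w, fpMkIso (F := y) (G := quotMap K G aX) (x := (cmp y).obj w)
    (z := ⟨⟨ovO f, (ofOverCat X).obj (Over.mk x), θ⟩, hz⟩) e₁ e₂ hcompat, ?_⟩
  exact fpMkIso_lift (F := y) (G := quotMap K G aX) (x := (cmp y).obj w)
    (z := ⟨⟨ovO f, (ofOverCat X).obj (Over.mk x), θ⟩, hz⟩) e₁ e₂ hcompat (S := T) he₁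

/-- the total space of the torsor is the 2-fibre product -/
theorem isEquivOver_cmp : IsEquivOver (cmp y) :=
  (isEquivOver_iff (cmp y)).2 ⟨cmp_full y, cmp_faithful y, cmp_essSurj y⟩

theorem spMapOfOver_cmp :
    AlgSt.spMapOfOver (BasedFunctor.comp (cmp y) (fpFst y (quotMap K G aX))) =
      (AlgSp.yon S).map (pr y) :=
  Groth.Agent.Helper6.AlgStPsh.spMapOfOver_ofSpMap_toOverCat _

end Groth.Agent.Helper6.QuotS2
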