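import Mathlib
import Groth.Agent.Helper6.QuotS2
import Groth.Agent.Helper9.FppfLocal
import Groth.Agent.Helper4.AlgSpLocP
import Groth.Agent.Helper4.AlgSpPts
import Groth.Agent.Helper6.AlgStInv
import Groth.Agent.Helper6.SpAtlas

/-!
# Helper6: properties of the atlas `X ⟶ [X/G]`
-/

set_option autoImplicit false
set_option linter.style.haveILetI false
set_option linter.unusedVariables false
set_option linter.unusedSimpArgs false
universe u

namespace Groth.Agent.Helper6.QuotS3
open CategoryTheory CategoryTheory.Limits MonoidalCategory CartesianMonoidalCategory MonObj GrpObj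
  AlgebraicGeometry AlgSt FibCat Functor Opposite MorphismProperty
open Groth.Agent.Helper6.QuotS1 Groth.Agent.Helper6.QuotS2 Groth.Agent.Helper6.FpTools

variable {S : Scheme.{u}} {G : Over S} [GrpObj G] {X : Over S} {aX : AlgGrp.Action G X}

theorem flat_codescends : RingHom.CodescendsAlong RingHom.Flat RingHom.FaithfullyFlat := by
  refine .mk _ RingHom.Flat.respectsIso fun R S T _ _ _ _ _ h h' ↦ ?_
  rw [RingHom.flat_algebraMap_iff] at h' ⊢
  rw [RingHom.faithfullyFlat_algebraMap_iff] at h
  exact Module.Flat.of_flat_tensorProduct R T S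

theorem flat_descends :
    MorphismProperty.DescendsAlong @Flat (@Surjective ⊓ @Flat ⊓ @QuasiCompact) :=
  HasRingHomProperty.descendsAlong_flat flat_codescends

theorem toUnit_left (Y : Over S) : (toUnit Y).left = Y.hom := by
  have h := Over.w (toUnit Y)
  rw [← h]
  exact (Category.comp_id _).symm

/-- the projection `G ×_S T ⟶ T` is a base change of `G ⟶ S` -/
theorem prop_snd (Pr : MorphismProperty Scheme.{u}) [Pr.IsStableUnderBaseChange] (hG : Pr G.hom)
    (T : Over S) : Pr (snd G T).left := by
  have sq := (isPullback_fst_snd G T).map (Over.forget S)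
  have h1 : Pr ((Over.forget S).map (toUnit G)) := by
    change Pr (toUnit G).left
    rw [toUnit_left]
    exact hG
  exact Pr.of_isPullback sq h1

/-- the structure morphism of a torsor under `G` has every fppf local property of `G ⟶ S` -/
theorem prop_π (Pr : MorphismProperty Scheme.{u}) [IsZariskiLocalAtTarget Pr]
    [Pr.IsStableUnderBaseChange]
    [Pr.DescendsAlong (@Surjective ⊓ @Flat ⊓ @LocallyOfFinitePresentation)] (hG : Pr G.hom)
    (A : QuotObj Scheme.fppfPrecoverage G aX) : Pr A.π.left := by
  obtain ⟨R, hR, hsec⟩ := A.loc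
  apply Groth.Agent.Helper9.FppfLocal.of_fppf_cover Pr A.π.left R hR
  intro U' k hk
  obtain ⟨s, hs⟩ := hsec k hk
  have hs' : s ≫ A.π.left = k := hs
  let T : Over S := Over.mk (k ≫ A.base.hom)
  let sO : T ⟶ A.P := CategoryTheory.Over.homMk s (by
    change s ≫ A.P.hom = k ≫ A.base.hom
    rw [← hs', Category.assoc, Over.w A.π])
  have hc := (homOfSection Scheme.fppfPrecoverage G aX A sO).cart
  have hb : (homOfSection Scheme.fppfPrecoverage G aX A sO).base = CategoryTheory.Over.homMk k rfl := by
    rw [homOfSection_base]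
    apply Over.OverMorphism.ext
    exact hs'
  rw [hb] at hc
  have hc' : IsPullback (homOfSection Scheme.fppfPrecoverage G aX A sO).top.left (snd G T).left
      A.π.left k := hc.map (Over.forget S)
  rw [← Pr.cancel_left_of_respectsIso hc'.isoPullback.hom, hc'.isoPullback_hom_snd]
  exact prop_snd Pr hG T


variable {U : Over S}

theorem prop_pr (Pr : MorphismProperty Scheme.{u}) [Pr.RespectsIso]
    (y : overCat U ⥤ᵇ QuotSt Scheme.fppfPrecoverage G aX) (h : Pr (tors y).π.left) :
    Pr (pr y).left := by
  have h1 : (pr y).left = (tors y).π.left ≫ (eqToHom (tors_base y)).left := rfl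
  have h2 : IsIso (eqToHom (tors_base y)).left :=
    inferInstanceAs (IsIso ((Over.forget S).map (eqToHom (tors_base y))))
  rw [h1, Pr.cancel_right_of_respectsIso]
  exact h

/-- the atlas `X ⟶ [X/G]` has every fppf local property of `G ⟶ S` that contains the etale
morphisms and is stable under composition -/
theorem repByAlgSpWith_locP (Pr : MorphismProperty Scheme.{u}) [IsZariskiLocalAtTarget Pr]
    [Pr.IsStableUnderBaseChange] [Pr.IsStableUnderComposition]
    [Pr.DescendsAlong (@Surjective ⊓ @Flat ⊓ @LocallyOfFinitePresentation)]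
    (hE : ∀ {A B : Scheme.{u}} (g : A ⟶ B), Etale g → Pr g) (hG : Pr G.hom) :
    AlgSt.RepByAlgSpWith (AlgSp.LocP Pr) (quotMap Scheme.fppfPrecoverage G aX) := by
  intro U y
  refine ⟨⟨(AlgSp.yon S).obj (tors y).P, AlgSp.IsAlgSpace.yon_obj _⟩, cmp y, isEquivOver_cmp y, ?_⟩
  rw [spMapOfOver_cmp]
  apply Groth.Agent.Helper4.AlgSpLocP.locP_of_repWith Pr Pr (fun g hg => hg) (fun g hg => hE g hg)
  exact (AlgSp.repWith_yon_map_iff Pr (pr y)).2 (prop_pr Pr y (prop_π Pr hG (tors y)))

theorem surjective_hom (G : Over S) [GrpObj G] : Surjective G.hom := by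
  refine ⟨fun x => ⟨(η[G]).left x, ?_⟩⟩
  have h : (η[G]).left ≫ G.hom = 𝟙 S := Over.w η[G]
  rw [← Scheme.Hom.comp_apply, h]
  rfl

set_option backward.isDefEq.respectTransparency.types false in
theorem repByAlgSpWith_surj :
    AlgSt.RepByAlgSpWith AlgSp.IsSurjectiveMor (quotMap Scheme.fppfPrecoverage G aX) := by
  intro U y
  refine ⟨⟨(AlgSp.yon S).obj (tors y).P, AlgSp.IsAlgSpace.yon_obj _⟩, cmp y, isEquivOver_cmp y, ?_⟩
  rw [spMapOfOver_cmp]
  apply Groth.Agent.Helper4.AlgSpPts.isSurjectiveMor_of_repWith
  exact (AlgSp.repWith_yon_map_iff @Surjective (pr y)).2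
    (prop_pr @Surjective y (prop_π @Surjective (surjective_hom G) (tors y)))

/-- transfer to the form of the atlas used in the statements -/
theorem repByAlgSpWith_ofOverCat (Q : MorphismProperty (AlgSp.Sp S))
    (h : AlgSt.RepByAlgSpWith Q (quotMap Scheme.fppfPrecoverage G aX)) :
    AlgSt.RepByAlgSpWith Q
      (BasedFunctor.comp (AlgSt.ofOverCat X) (quotMap Scheme.fppfPrecoverage G aX)) :=
  (Groth.Agent.Helper6.AlgStInv.repByAlgSpWith_iff_of_square Q
    (quotMap Scheme.fppfPrecoverage G aX)
    (BasedFunctor.comp (AlgSt.ofOverCat X) (quotMap Scheme.fppfPrecoverage G aX))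
    (AlgSt.ofOverCat X) (BasedFunctor.id _)
    (Groth.Agent.Helper6.SpAtlas.isEquivOver_ofOverCat X) (isEquivOver_id _) (Iso.refl _)).1 h


set_option backward.isDefEq.respectTransparency.types false in
theorem repByAlgSpWith_flat [Flat G.hom] :
    AlgSt.RepByAlgSpWith (AlgSp.LocP @Flat) (quotMap Scheme.fppfPrecoverage G aX) := by
  haveI := flat_descends
  exact repByAlgSpWith_locP @Flat (fun g hg => inferInstance) inferInstance

set_option backward.isDefEq.respectTransparency.types false in
theorem repByAlgSpWith_lfp [LocallyOfFinitePresentation G.hom] :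
    AlgSt.RepByAlgSpWith (AlgSp.LocP @LocallyOfFinitePresentation)
      (quotMap Scheme.fppfPrecoverage G aX) :=
  repByAlgSpWith_locP @LocallyOfFinitePresentation (fun g hg => inferInstance) inferInstance

set_option backward.isDefEq.respectTransparency.types false in
theorem repByAlgSpWith_smooth [Smooth G.hom] :
    AlgSt.RepByAlgSpWith (AlgSp.LocP @Smooth) (quotMap Scheme.fppfPrecoverage G aX) :=
  repByAlgSpWith_locP @Smooth (fun g hg => inferInstance) inferInstance

end Groth.Agent.Helper6.QuotS3
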