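import Mathlib
import Groth.Agent.Helper6.QuotS2
import Groth.Agent.Helper6.FpRep
import Groth.Agent.Helper6.FpSwap
import Groth.Agent.Helper6.FpCospan
import Groth.Agent.Helper6.SpAtlas

/-!
# Helper6: the square `G × X ⇉ X ⟶ [X/G]` is 2-cartesian
-/

set_option autoImplicit false
set_option linter.style.haveILetI false
set_option linter.unusedVariables false
set_option linter.unusedSimpArgs false
universe v₅ u₅ v₄ u₄ v₃ u₃ v₂ u₂ v₁ u₁ u

namespace Groth.Agent.Helper6.QuotS4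
open CategoryTheory CategoryTheory.Limits MonoidalCategory CartesianMonoidalCategory MonObj GrpObj
  AlgebraicGeometry AlgSt FibCat Functor Opposite
open Groth.Agent.Helper6.QuotS1 Groth.Agent.Helper6.QuotS2 Groth.Agent.Helper6.FpTools

section General

variable {C : Type u₁} [Category.{v₁} C]
variable {𝒲 : BasedCategory.{v₂, u₂} C} {𝒳 : BasedCategory.{v₃, u₃} C} {𝒴 : BasedCategory.{v₄, u₄} C}
  {𝒮 : BasedCategory.{v₅, u₅} C}

theorem fpLift_eta (F : 𝒳 ⥤ᵇ 𝒮) (G : 𝒴 ⥤ᵇ 𝒮) (Φ : 𝒲 ⥤ᵇ fp F G) :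
    fpLift (BasedFunctor.comp Φ (fpFst F G)) (BasedFunctor.comp Φ (fpSnd F G))
      (whiskerLeftIso' Φ (fpIso F G)) = Φ := rfl

theorem exists_isTwoCartOver_of_equiv (F : 𝒳 ⥤ᵇ 𝒮) (G : 𝒴 ⥤ᵇ 𝒮) (Φ : 𝒲 ⥤ᵇ fp F G)
    (hΦ : IsEquivOver Φ) (a : 𝒲 ⥤ᵇ 𝒳) (b : 𝒲 ⥤ᵇ 𝒴)
    (ha : BasedFunctor.comp Φ (fpFst F G) = a) (hb : BasedFunctor.comp Φ (fpSnd F G) = b) :
    ∃ e : BasedFunctor.comp a F ≅ BasedFunctor.comp b G, IsTwoCartOver a b e := by
  subst ha hb
  refine ⟨whiskerLeftIso' Φ (fpIso F G), ?_⟩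
  unfold IsTwoCartOver
  rw [fpLift_eta]
  exact hΦ

end General


section Quot

variable {S : Scheme.{u}} (K : Precoverage Scheme.{u}) [K.HasIsos] (G : Over S) [GrpObj G]
  {X : Over S} (aX : AlgGrp.Action G X)

/-- the atlas, as a functor from the slice -/
noncomputable abbrev yX : overCat X ⥤ᵇ QuotSt K G aX :=
  BasedFunctor.comp (AlgSt.ofOverCat X) (quotMap K G aX)

/-- the comparison of 2-fibre products -/
noncomputable def Cf : fp (yX K G aX) (quotMap K G aX) ⥤ᵇ fp (quotMap K G aX) (quotMap K G aX) :=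
  cospanFunctor (quotMap K G aX) (quotMap K G aX) (yX K G aX) (quotMap K G aX)
    (AlgSt.ofOverCat X) (BasedFunctor.id _) (BasedFunctor.id _) (Iso.refl _) (Iso.refl _)

theorem isEquivOver_Cf : IsEquivOver (Cf K G aX) :=
  isEquivOver_cospanFunctor _ _ _ _ _ _ _ _ _ (Groth.Agent.Helper6.SpAtlas.isEquivOver_ofOverCat X)
    (isEquivOver_id _) (isEquivOver_id _)

/-- the equivalence `G × X ≃ X ×_{[X/G]} X` -/
noncomputable def Φ : ofSch (G ⊗ X) ⥤ᵇ fp (quotMap K G aX) (quotMap K G aX) :=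
  BasedFunctor.comp (BasedFunctor.comp (cmp (yX K G aX)) (Cf K G aX))
    (fpSwap (quotMap K G aX) (quotMap K G aX))

theorem isEquivOver_Φ : IsEquivOver (Φ K G aX) :=
  isEquivOver_comp (isEquivOver_comp (isEquivOver_cmp (yX K G aX)) (isEquivOver_Cf K G aX))
    (isEquivOver_fpSwap _ _)

theorem Φ_fst : BasedFunctor.comp (Φ K G aX) (fpFst (quotMap K G aX) (quotMap K G aX)) =
    AlgSt.ofSpMap ((AlgSp.yon S).map aX.act) := by
  have h1 : ((G ◁ 𝟙 X) ≫ aX.act : G ⊗ X ⟶ X) = aX.act := by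
    rw [MonoidalCategory.whiskerLeft_id, Category.id_comp]
  exact congrArg (fun t : G ⊗ X ⟶ X => AlgSt.ofSpMap ((AlgSp.yon S).map t)) h1

theorem Φ_snd : BasedFunctor.comp (Φ K G aX) (fpSnd (quotMap K G aX) (quotMap K G aX)) =
    AlgSt.ofSpMap ((AlgSp.yon S).map (snd G X)) := by
  have h1 : (snd G X ≫ eqToHom (tors_base (yX K G aX)) : G ⊗ X ⟶ X) = snd G X :=
    Category.comp_id (snd G X)
  exact congrArg (fun t : G ⊗ X ⟶ X => AlgSt.ofSpMap ((AlgSp.yon S).map t)) h1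

theorem main : ∃ e : BasedFunctor.comp (AlgSt.ofSpMap ((AlgSp.yon S).map aX.act)) (quotMap K G aX) ≅
      BasedFunctor.comp (AlgSt.ofSpMap ((AlgSp.yon S).map (snd G X))) (quotMap K G aX),
    IsTwoCartOver (AlgSt.ofSpMap ((AlgSp.yon S).map aX.act))
      (AlgSt.ofSpMap ((AlgSp.yon S).map (snd G X))) e :=
  exists_isTwoCartOver_of_equiv _ _ (Φ K G aX) (isEquivOver_Φ K G aX) _ _ (Φ_fst K G aX)
    (Φ_snd K G aX)

end Quot

end Groth.Agent.Helper6.QuotS4
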