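import Mathlib
import Groth.Agent.Helper6.QuotS3
import Groth.Agent.Helper4.AlgSpBasic

/-!
# Helper6: `[X/G]` is the categorical quotient in algebraic spaces: invariant maps `X ⟶ M` factor
uniquely through `X ⟶ [X/G]`
-/

set_option autoImplicit false
set_option linter.style.haveILetI false
set_option linter.unusedVariables false
set_option linter.unusedSimpArgs false
universe w v₂ u₂ u

namespace Groth.Agent.Helper6.QuotS5
open CategoryTheory CategoryTheory.Limits MonoidalCategory CartesianMonoidalCategory MonObj GrpObj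
  AlgebraicGeometry AlgSt FibCat Functor Opposite MorphismProperty
open Groth.Agent.Helper6.QuotS1 Groth.Agent.Helper6.QuotS2 Groth.Agent.Helper6.QuotS3

variable {S : Scheme.{u}}

section General

/-- descent of sections of an fppf sheaf along a single fppf covering -/
theorem existsUnique_descend (F : AlgSp.Sp S) {P B : Over S} (π : P ⟶ B) [Flat π.left]
    [LocallyOfFinitePresentation π.left] [Surjective π.left] (x : F.obj.obj (op P))
    (hx : ∀ {Z : Over S} (p₁ p₂ : Z ⟶ P), p₁ ≫ π = p₂ ≫ π →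
      F.obj.map p₁.op x = F.obj.map p₂.op x) :
    ∃! m : F.obj.obj (op B), F.obj.map π.op m = x := by
  have h1 := ((isSheaf_iff_isSheaf_of_type _ _).1 F.property).isSheafFor _
    (Groth.Agent.Helper4.AlgSpBasic.generate_singleton_mem_J π)
  exact Presieve.isSheafFor_singleton.1 h1 x hx

theorem eltObj_eqToHom_hom {Pp : (Over S)ᵒᵖ ⥤ Type w} {a b : (Stk.ofPsh Pp).obj} (h : a = b) :
    (eqToHom h).hom = eqToHom (congrArg Stk.EltObj.base h) := by
  subst h
  rfl

/-- functors over the base into a category fibred in sets are determined by their values on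
objects -/
theorem basedFunctor_ext_ofPsh {𝒳 : BasedCategory.{v₂, u₂} (Over S)} {Pp : (Over S)ᵒᵖ ⥤ Type w}
    (F F' : 𝒳 ⥤ᵇ Stk.ofPsh Pp) (h : ∀ a, F.obj a = F'.obj a) : F = F' := by
  have key : F.toFunctor = F'.toFunctor := by
    refine CategoryTheory.Functor.ext h (fun a b g => ?_)
    apply Stk.EltObj.hom_ext
    have h1 : (F.map g).hom = eqToHom _ ≫ 𝒳.p.map g ≫ eqToHom _ := Functor.congr_hom F.w g
    have h2 : (F'.map g).hom = eqToHom _ ≫ 𝒳.p.map g ≫ eqToHom _ := Functor.congr_hom F'.w g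
    rw [Stk.EltObj.comp_hom, Stk.EltObj.comp_hom, eltObj_eqToHom_hom, eltObj_eqToHom_hom, h1, h2]
    simp only [Category.assoc]
    erw [eqToHom_trans, eqToHom_trans_assoc]
  cases F
  cases F'
  cases key
  rfl

/-- an object receiving a morphism from a known object along a known morphism of the base -/
theorem sec_eq_of_hom {Pp : (Over S)ᵒᵖ ⥤ Type w} (E E' : (Stk.ofPsh Pp).obj) (k : E' ⟶ E)
    {B P₀ : Over S} (π : P₀ ⟶ B) (x₀ : Pp.obj (op P₀)) (hE : E.base = B) (hE' : E' = ⟨P₀, x₀⟩)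
    (hk : k.hom = eqToHom (by rw [hE']) ≫ π ≫ eqToHom hE.symm) :
    ∃ m' : Pp.obj (op B), E = ⟨B, m'⟩ ∧ Pp.map π.op m' = x₀ := by
  obtain ⟨b, m'⟩ := E
  obtain rfl : b = B := hE
  subst hE'
  refine ⟨m', rfl, ?_⟩
  have h1 := k.map_sec
  rw [hk] at h1
  simpa using h1

end General


section Quot

variable {G : Over S} [GrpObj G] {X : Over S} {aX : AlgGrp.Action G X} (M : AlgSp.Sp S)
  (f : (AlgSp.yon S).obj X ⟶ M)

/-- the value of `f` on a point -/
def fE {T : Over S} (x : T ⟶ X) : M.obj.obj (op T) := f.hom.app (op T) ⟨x⟩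

theorem fE_comp {T T' : Over S} (g : T' ⟶ T) (x : T ⟶ X) :
    M.obj.map g.op (fE M f x) = fE M f (g ≫ x) :=
  (NatTrans.naturality_apply f.hom g.op ⟨x⟩).symm

variable (hf : (AlgSp.yon S).map aX.act ≫ f = (AlgSp.yon S).map (snd G X) ≫ f)

include hf in
theorem fE_act {T : Over S} (c : T ⟶ G ⊗ X) : fE M f (c ≫ aX.act) = fE M f (c ≫ snd G X) :=
  congrArg (fun t : (AlgSp.yon S).obj (G ⊗ X) ⟶ M => t.hom.app (op T) ⟨c⟩) hf

include hf in
theorem compat (A : QuotObj Scheme.fppfPrecoverage G aX) {Z : Over S} (p₁ p₂ : Z ⟶ A.P)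
    (h : p₁ ≫ A.π = p₂ ≫ A.π) :
    M.obj.map p₁.op (fE M f A.φ) = M.obj.map p₂.op (fE M f A.φ) := by
  obtain ⟨c, h1, h2⟩ : ∃ c : Z ⟶ G ⊗ A.P, c ≫ A.act.act = p₁ ∧ c ≫ snd G A.P = p₂ :=
    ⟨A.cart.lift p₁ p₂ h, A.cart.lift_fst _ _ _, A.cart.lift_snd _ _ _⟩
  rw [fE_comp, fE_comp]
  calc fE M f (p₁ ≫ A.φ) = fE M f ((c ≫ (G ◁ A.φ)) ≫ aX.act) := by
        rw [← h1, Category.assoc, A.eqv, Category.assoc]
    _ = fE M f ((c ≫ (G ◁ A.φ)) ≫ snd G X) := fE_act M f hf _
    _ = fE M f (p₂ ≫ A.φ) := by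
        rw [← h2, Category.assoc, Category.assoc, whiskerLeft_snd]

variable [Flat G.hom] [LocallyOfFinitePresentation G.hom]

set_option backward.isDefEq.respectTransparency.types false in
include hf in
theorem existsUnique_m (A : QuotObj Scheme.fppfPrecoverage G aX) :
    ∃! m : M.obj.obj (op A.base), M.obj.map A.π.op m = fE M f A.φ := by
  haveI := flat_descends
  haveI : Flat A.π.left := prop_π @Flat inferInstance A
  haveI : LocallyOfFinitePresentation A.π.left :=
    prop_π @LocallyOfFinitePresentation inferInstance A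
  haveI : Surjective A.π.left := prop_π @Surjective (surjective_hom G) A
  exact existsUnique_descend M A.π _ (fun p₁ p₂ h => compat M f hf A p₁ p₂ h)

/-- the section over the base of a torsor defined by the invariant map -/
noncomputable def mOf (A : QuotObj Scheme.fppfPrecoverage G aX) : M.obj.obj (op A.base) :=
  (existsUnique_m M f hf A).exists.choose

theorem mOf_spec (A : QuotObj Scheme.fppfPrecoverage G aX) :
    M.obj.map A.π.op (mOf M f hf A) = fE M f A.φ :=
  (existsUnique_m M f hf A).exists.choose_spec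

theorem mOf_unique (A : QuotObj Scheme.fppfPrecoverage G aX) (m : M.obj.obj (op A.base))
    (hm : M.obj.map A.π.op m = fE M f A.φ) : m = mOf M f hf A :=
  (existsUnique_m M f hf A).unique hm (mOf_spec M f hf A)

theorem map_mOf {A B : QuotObj Scheme.fppfPrecoverage G aX} (h : B ⟶ A) :
    M.obj.map h.base.op (mOf M f hf A) = mOf M f hf B := by
  apply mOf_unique
  rw [← Functor.map_comp_apply, ← op_comp, ← h.cart.w, op_comp, Functor.map_comp_apply, mOf_spec,
    fE_comp, h.wφ]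

/-- the induced functor `[X/G] ⟶ M` -/
noncomputable def desc : QuotSt Scheme.fppfPrecoverage G aX ⥤ᵇ ofSp M where
  toFunctor :=
    { obj := fun A => ⟨A.base, mOf M f hf A⟩
      map := fun {B A} h => ⟨h.base, map_mOf M f hf h⟩
      map_id := fun A => Stk.EltObj.hom_ext rfl
      map_comp := fun h k => Stk.EltObj.hom_ext rfl }
  w := rfl


theorem mOf_triv {T : Over S} (x : T ⟶ X) :
    mOf M f hf (triv Scheme.fppfPrecoverage G aX x) = fE M f x := by
  refine (mOf_unique M f hf (triv Scheme.fppfPrecoverage G aX x) (fE M f x) ?_).symm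
  change M.obj.map (snd G T).op (fE M f x) = fE M f ((G ◁ x) ≫ aX.act)
  rw [fE_comp, fE_act M f hf, whiskerLeft_snd]

theorem quotMap_desc :
    BasedFunctor.comp (quotMap Scheme.fppfPrecoverage G aX) (desc M f hf) = ofSpMap f := by
  apply basedFunctor_ext_ofPsh
  intro a
  change (⟨a.base, mOf M f hf (triv Scheme.fppfPrecoverage G aX a.sec.down)⟩ : Stk.EltObj _) =
    ⟨a.base, fE M f a.sec.down⟩
  rw [mOf_triv]

theorem desc_unique (φ' : QuotSt Scheme.fppfPrecoverage G aX ⥤ᵇ ofSp M)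
    (h : BasedFunctor.comp (quotMap Scheme.fppfPrecoverage G aX) φ' = ofSpMap f) :
    φ' = desc M f hf := by
  apply basedFunctor_ext_ofPsh
  intro A
  let t : triv Scheme.fppfPrecoverage G aX (𝟙 A.P ≫ A.φ) ⟶ A :=
    homOfSection Scheme.fppfPrecoverage G aX A (𝟙 A.P)
  have hE' : φ'.obj (triv Scheme.fppfPrecoverage G aX (𝟙 A.P ≫ A.φ)) =
      ⟨A.P, fE M f (𝟙 A.P ≫ A.φ)⟩ :=
    congrArg (fun F : ofSch X ⥤ᵇ ofSp M => F.obj ⟨A.P, ⟨𝟙 A.P ≫ A.φ⟩⟩) h
  have h0 : (QuotSt Scheme.fppfPrecoverage G aX).p.IsHomLift (baseT t) t :=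
    IsHomLift.map (QuotSt Scheme.fppfPrecoverage G aX).p t
  rw [baseT_homOfSection] at h0
  have hlift : (ofSp M).p.IsHomLift (𝟙 A.P ≫ A.π) (φ'.map t) :=
    BasedFunctor.preserves_isHomLift φ' (𝟙 A.P ≫ A.π) t
  have hk := IsHomLift.fac' (ofSp M).p (𝟙 A.P ≫ A.π) (φ'.map t)
  obtain ⟨m', hm1, hm2⟩ := sec_eq_of_hom (φ'.obj A)
    (φ'.obj (triv Scheme.fppfPrecoverage G aX (𝟙 A.P ≫ A.φ))) (φ'.map t) (𝟙 A.P ≫ A.π)
    (fE M f (𝟙 A.P ≫ A.φ)) (φ'.w_obj A) hE' hk
  rw [hm1]
  change _ = (⟨A.base, mOf M f hf A⟩ : Stk.EltObj _)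
  congr 1
  apply mOf_unique
  rw [Category.id_comp, Category.id_comp] at hm2
  exact hm2

end Quot

end Groth.Agent.Helper6.QuotS5
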