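import Mathlib
import Groth.Prelude.Def_StCoarse
import Groth.Prelude.Def_W4bk4git07Quot
import Groth.Agent.Helper6.QuotS4
import Groth.Agent.Helper6.QuotS5
import Groth.Agent.Helper6.OfPsh
import Groth.Agent.Helper6.OfPshHom

/-!
# Helper6: functors out of `[X/G]` into sheaves are invariant maps; categorical moduli schemes of
`[X/G]` are categorical quotients
-/

set_option autoImplicit false
set_option linter.style.haveILetI false
set_option linter.unusedVariables false
set_option linter.unusedSimpArgs false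
universe w v₂ u₂ v u

namespace Groth.Agent.Helper6.QuotS6
open CategoryTheory CategoryTheory.Limits MonoidalCategory CartesianMonoidalCategory MonObj GrpObj
  AlgebraicGeometry AlgSt FibCat Functor Opposite MorphismProperty
open Groth.Agent.Helper6.QuotS1 Groth.Agent.Helper6.QuotS2 Groth.Agent.Helper6.QuotS3
  Groth.Agent.Helper6.QuotS5 Groth.Agent.Helper6.OfPsh Groth.Agent.Helper6.OfPshHom
  Groth.Agent.Helper6.FpTools

variable {S : Scheme.{u}}

section General

theorem eltObj_ext_tr {Pp : (Over S)ᵒᵖ ⥤ Type w} {x y : Stk.EltObj Pp} {V : Over S}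
    (hx : x.base = V) (hy : y.base = V) (h : tr Pp x hx = tr Pp y hy) : x = y := by
  obtain ⟨b, m⟩ := x
  obtain ⟨b', m'⟩ := y
  dsimp only at hx hy
  subst hx
  subst hy
  rw [tr_rfl, tr_rfl] at h
  dsimp only at h
  rw [h]

/-- 2-isomorphic functors over the base into a category fibred in sets are equal -/
theorem eq_of_iso {𝒳 : BasedCategory.{v₂, u₂} (Over S)} {Pp : (Over S)ᵒᵖ ⥤ Type w}
    {F F' : 𝒳 ⥤ᵇ Stk.ofPsh Pp} (e : F ≅ F') : F = F' :=
  basedFunctor_ext_ofPsh F F' (fun a =>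
    eltObj_ext_tr (F.w_obj a) (F'.w_obj a) (sec_eq_of_natTrans Pp e.hom a))

theorem ofSpMap_injective {F N : AlgSp.Sp S} {a b : F ⟶ N} (h : ofSpMap a = ofSpMap b) : a = b := by
  apply ObjectProperty.hom_ext
  have h1 : homOf (ofSpMap a) = homOf (ofSpMap b) := by rw [h]
  rwa [homOf_ofPshMap, homOf_ofPshMap] at h1

theorem ofSpMap_comp {F N N' : AlgSp.Sp S} (a : F ⟶ N) (b : N ⟶ N') :
    BasedFunctor.comp (ofSpMap a) (ofSpMap b) = ofSpMap (a ≫ b) := rfl

/-- every functor over the base between categories of sheaves comes from a map of sheaves -/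
theorem exists_ofSpMap_eq {F N : AlgSp.Sp S} (Φ : ofSp F ⥤ᵇ ofSp N) :
    ∃ ψ : F ⟶ N, Φ = ofSpMap ψ :=
  ⟨ObjectProperty.homMk (homOf Φ), eq_of_iso (isoHomOf Φ)⟩

end General


section Quot

variable {G : Over S} [GrpObj G] {X : Over S} {aX : AlgGrp.Action G X}

/-- a map of sheaves which factors through `X ⟶ [X/G]` is invariant -/
theorem invariant_of_factor {N : AlgSp.Sp S}
    (φ : QuotSt Scheme.fppfPrecoverage G aX ⥤ᵇ ofSp N) (ψ : (AlgSp.yon S).obj X ⟶ N)
    (h : BasedFunctor.comp (quotMap Scheme.fppfPrecoverage G aX) φ = ofSpMap ψ) :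
    (AlgSp.yon S).map aX.act ≫ ψ = (AlgSp.yon S).map (snd G X) ≫ ψ := by
  obtain ⟨e, -⟩ := Groth.Agent.Helper6.QuotS4.main Scheme.fppfPrecoverage G aX
  have e' := whiskerRightIso' e φ
  have h1 : BasedFunctor.comp (BasedFunctor.comp (ofSpMap ((AlgSp.yon S).map aX.act))
      (quotMap Scheme.fppfPrecoverage G aX)) φ = ofSpMap ((AlgSp.yon S).map aX.act ≫ ψ) := by
    change BasedFunctor.comp (ofSpMap ((AlgSp.yon S).map aX.act))
      (BasedFunctor.comp (quotMap Scheme.fppfPrecoverage G aX) φ) = _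
    rw [h]
    rfl
  have h2 : BasedFunctor.comp (BasedFunctor.comp (ofSpMap ((AlgSp.yon S).map (snd G X)))
      (quotMap Scheme.fppfPrecoverage G aX)) φ = ofSpMap ((AlgSp.yon S).map (snd G X) ≫ ψ) := by
    change BasedFunctor.comp (ofSpMap ((AlgSp.yon S).map (snd G X)))
      (BasedFunctor.comp (quotMap Scheme.fppfPrecoverage G aX) φ) = _
    rw [h]
    rfl
  rw [h1, h2] at e'
  exact ofSpMap_injective (eq_of_iso e')

variable [Flat G.hom] [LocallyOfFinitePresentation G.hom]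

/-- functors out of `[X/G]` into sheaves are classified by their restriction to `X` -/
theorem eq_desc {N : AlgSp.Sp S} (φ : QuotSt Scheme.fppfPrecoverage G aX ⥤ᵇ ofSp N)
    (ψ : (AlgSp.yon S).obj X ⟶ N)
    (h : BasedFunctor.comp (quotMap Scheme.fppfPrecoverage G aX) φ = ofSpMap ψ) :
    φ = desc N ψ (invariant_of_factor φ ψ h) :=
  desc_unique N ψ (invariant_of_factor φ ψ h) φ h

theorem eq_of_restrict_eq {N : AlgSp.Sp S} (φ φ' : QuotSt Scheme.fppfPrecoverage G aX ⥤ᵇ ofSp N)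
    (h : BasedFunctor.comp (quotMap Scheme.fppfPrecoverage G aX) φ =
      BasedFunctor.comp (quotMap Scheme.fppfPrecoverage G aX) φ') : φ = φ' := by
  obtain ⟨ψ, hψ⟩ := exists_ofSpMap_eq (BasedFunctor.comp (quotMap Scheme.fppfPrecoverage G aX) φ')
  rw [eq_desc φ' ψ hψ]
  exact desc_unique N ψ _ φ (h.trans hψ)


theorem isRepresentable_yon (Z : Over S) : ((AlgSp.yon S).obj Z).obj.IsRepresentable :=
  ⟨⟨Z, ⟨AlgSp.representableByOfIso (Iso.refl _)⟩⟩⟩

/-- `[X/G] ⟶ Y` is a categorical moduli scheme iff `X ⟶ Y` is a categorical quotient -/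
theorem isCatModuliSch_iff (Y : Over S) (f : X ⟶ Y)
    (π : QuotSt Scheme.fppfPrecoverage G aX ⥤ᵇ ofSch Y)
    (hπ : Nonempty (BasedFunctor.comp (quotMap Scheme.fppfPrecoverage G aX) π ≅
      ofSpMap ((AlgSp.yon S).map f))) :
    AlgSt.IsCatModuliSch π ↔ GIT.IsCatQuot aX f := by
  obtain ⟨eπ⟩ := hπ
  have hπ' : BasedFunctor.comp (quotMap Scheme.fppfPrecoverage G aX) π =
      ofSpMap ((AlgSp.yon S).map f) := eq_of_iso eπ
  have hinv : GIT.IsInvariant aX f := by
    have h1 := invariant_of_factor π ((AlgSp.yon S).map f) hπ'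
    rw [← Functor.map_comp, ← Functor.map_comp] at h1
    exact (AlgSp.yon S).map_injective h1
  constructor
  · rintro ⟨hrep, huniv⟩
    refine ⟨hinv, fun Z ψ₀ hψ₀ => ?_⟩
    have hψ₀' : aX.act ≫ ψ₀ = snd G X ≫ ψ₀ := hψ₀
    have hψ : (AlgSp.yon S).map aX.act ≫ (AlgSp.yon S).map ψ₀ =
        (AlgSp.yon S).map (snd G X) ≫ (AlgSp.yon S).map ψ₀ := by
      rw [← Functor.map_comp, ← Functor.map_comp, hψ₀']
    obtain ⟨g, ⟨hg⟩, huniq⟩ := huniv ((AlgSp.yon S).obj Z) (isRepresentable_yon Z)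
      (desc ((AlgSp.yon S).obj Z) ((AlgSp.yon S).map ψ₀) hψ)
    obtain ⟨χ, rfl⟩ := (AlgSp.yon S).map_surjective g
    have hg' := eq_of_iso hg
    refine ⟨χ, ?_, ?_⟩
    · have h1 : BasedFunctor.comp (quotMap Scheme.fppfPrecoverage G aX)
          (BasedFunctor.comp π (ofSpMap ((AlgSp.yon S).map χ))) =
          ofSpMap ((AlgSp.yon S).map ψ₀) := by
        rw [hg']
        exact quotMap_desc _ _ _
      have h2 : BasedFunctor.comp (quotMap Scheme.fppfPrecoverage G aX)
          (BasedFunctor.comp π (ofSpMap ((AlgSp.yon S).map χ))) =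
          ofSpMap ((AlgSp.yon S).map f ≫ (AlgSp.yon S).map χ) := by
        change BasedFunctor.comp (BasedFunctor.comp (quotMap Scheme.fppfPrecoverage G aX) π)
          (ofSpMap _) = _
        rw [hπ']
        rfl
      have h3 := ofSpMap_injective (h2.symm.trans h1)
      rw [← Functor.map_comp] at h3
      exact (AlgSp.yon S).map_injective h3
    · intro χ' hχ'
      have h1 : BasedFunctor.comp π (ofSpMap ((AlgSp.yon S).map χ')) =
          desc ((AlgSp.yon S).obj Z) ((AlgSp.yon S).map ψ₀) hψ := by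
        apply desc_unique
        change BasedFunctor.comp (BasedFunctor.comp (quotMap Scheme.fppfPrecoverage G aX) π)
          (ofSpMap _) = _
        rw [hπ', ofSpMap_comp, ← Functor.map_comp, hχ']
      exact (AlgSp.yon S).map_injective (huniq ((AlgSp.yon S).map χ') ⟨eqToIso h1⟩)
  · rintro ⟨-, huniv⟩
    refine ⟨isRepresentable_yon Y, fun N hN φ => ?_⟩
    obtain ⟨⟨Z, ⟨r⟩⟩⟩ := hN
    let i : (AlgSp.yon S).obj Z ≅ N := AlgSp.isoOfRepresentableBy r
    obtain ⟨ψ, hψ⟩ := exists_ofSpMap_eq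
      (BasedFunctor.comp (quotMap Scheme.fppfPrecoverage G aX) φ)
    have hψinv := invariant_of_factor φ ψ hψ
    obtain ⟨ψ₀, hψ₀⟩ := (AlgSp.yon S).map_surjective (ψ ≫ i.inv)
    have hinv₀ : GIT.IsInvariant aX ψ₀ := by
      apply (AlgSp.yon S).map_injective
      rw [Functor.map_comp, Functor.map_comp, hψ₀, ← Category.assoc, hψinv, Category.assoc]
    obtain ⟨χ, hχ, huq⟩ := huniv Z ψ₀ hinv₀
    refine ⟨(AlgSp.yon S).map χ ≫ i.hom, ⟨eqToIso ?_⟩, ?_⟩
    · apply eq_of_restrict_eq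
      change BasedFunctor.comp (BasedFunctor.comp (quotMap Scheme.fppfPrecoverage G aX) π)
        (ofSpMap _) = _
      rw [hπ', ofSpMap_comp, hψ, ← Category.assoc, ← Functor.map_comp, hχ, hψ₀, Category.assoc,
        Iso.inv_hom_id, Category.comp_id]
    · rintro g' ⟨hg'⟩
      have h1 := eq_of_iso hg'
      have h2 : (AlgSp.yon S).map f ≫ g' = ψ := by
        apply ofSpMap_injective
        rw [← ofSpMap_comp, ← hπ', ← hψ, ← h1]
        rfl
      obtain ⟨χ', hχ'⟩ := (AlgSp.yon S).map_surjective (g' ≫ i.inv)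
      have h3 : f ≫ χ' = ψ₀ := by
        apply (AlgSp.yon S).map_injective
        rw [Functor.map_comp, hχ', ← Category.assoc, h2, hψ₀]
      have h4 := huq χ' h3
      rw [← h4, hχ', Category.assoc, Iso.inv_hom_id, Category.comp_id]

end Quot

end Groth.Agent.Helper6.QuotS6
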