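import Mathlib
import Groth.Agent.Helper6.QuotS6

/-!
# Helper6: `[X/G] ⟶ Y` is a coarse moduli space when `Y` is a categorical quotient among algebraic
spaces whose geometric points are the orbits
-/

set_option autoImplicit false
set_option linter.style.haveILetI false
set_option linter.unusedVariables false
set_option linter.unusedSimpArgs false
universe w v₂ u₂ v u

namespace Groth.Agent.Helper6.QuotS7
open CategoryTheory CategoryTheory.Limits MonoidalCategory CartesianMonoidalCategory MonObj GrpObj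
  AlgebraicGeometry AlgSt FibCat Functor Opposite MorphismProperty
open Groth.Agent.Helper6.QuotS1 Groth.Agent.Helper6.QuotS2 Groth.Agent.Helper6.QuotS3
  Groth.Agent.Helper6.QuotS5 Groth.Agent.Helper6.QuotS6 Groth.Agent.Helper6.OfPsh
  Groth.Agent.Helper6.OfPshHom Groth.Agent.Helper6.FpTools

variable {S : Scheme.{u}}

section General

theorem tr_eq_of_eq {Pp : (Over S)ᵒᵖ ⥤ Type w} {E : Stk.EltObj Pp} {V : Over S}
    {m : Pp.obj (op V)} (h : E = ⟨V, m⟩) (hE : E.base = V) : tr Pp E hE = m := by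
  subst h
  exact tr_rfl Pp _

/-- a locally of finite type nonempty scheme over an algebraically closed field has a rational
point -/
theorem exists_section_of_isAlgClosed {Ω : Type u} [Field Ω] [IsAlgClosed Ω] {P : Scheme.{u}}
    (p : P ⟶ Spec (CommRingCat.of Ω)) [LocallyOfFiniteType p] [Surjective p] :
    ∃ s : Spec (CommRingCat.of Ω) ⟶ P, s ≫ p = 𝟙 _ := by
  haveI : JacobsonSpace P := LocallyOfFiniteType.jacobsonSpace p
  obtain ⟨z, -⟩ := p.surjective (IsLocalRing.closedPoint Ω)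
  have hne : (closedPoints P).Nonempty := by
    by_contra h
    rw [Set.not_nonempty_iff_eq_empty] at h
    have h2 := closure_closedPoints (X := P)
    rw [h, closure_empty] at h2
    exact (Set.mem_empty_iff_false z).1 (h2 ▸ Set.mem_univ z)
  obtain ⟨x, hx⟩ := hne
  exact ⟨pointOfClosedPoint p x hx, pointOfClosedPoint_comp p x hx⟩

end General


section Quot

variable {G : Over S} [GrpObj G] {X : Over S} {aX : AlgGrp.Action G X}

/-- a morphism of `[X/G]` lying over an identity is an isomorphism -/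
theorem isIso_of_lift_id {T : Over S} {A B : QuotObj Scheme.fppfPrecoverage G aX} (k : B ⟶ A)
    (hk : (QuotSt Scheme.fppfPrecoverage G aX).p.IsHomLift (𝟙 T) k) : IsIso k := by
  haveI := isStronglyCartesian (𝟙 T) k
  exact IsStronglyCartesian.isIso_of_base_isIso (QuotSt Scheme.fppfPrecoverage G aX).p (𝟙 T) k

variable [Flat G.hom] [LocallyOfFinitePresentation G.hom]

set_option backward.isDefEq.respectTransparency.types false in
/-- over an algebraically closed field every object of `[X/G]` is trivial -/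
theorem exists_triv_hom {Ω : Type u} [Field Ω] [IsAlgClosed Ω] (t : Spec (CommRingCat.of Ω) ⟶ S)
    (A : QuotObj Scheme.fppfPrecoverage G aX) (hA : A.base = Over.mk t) :
    ∃ (x₀ : Over.mk t ⟶ X) (k : triv Scheme.fppfPrecoverage G aX x₀ ⟶ A),
      (QuotSt Scheme.fppfPrecoverage G aX).p.IsHomLift (𝟙 (Over.mk t)) k := by
  let πT : A.P ⟶ Over.mk t := A.π ≫ eqToHom hA
  haveI : LocallyOfFinitePresentation A.π.left :=
    prop_π @LocallyOfFinitePresentation inferInstance A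
  haveI : Surjective A.π.left := prop_π @Surjective (surjective_hom G) A
  haveI : IsIso (eqToHom hA).left :=
    inferInstanceAs (IsIso ((Over.forget S).map (eqToHom hA)))
  have hπT : πT.left = A.π.left ≫ (eqToHom hA).left := rfl
  haveI : LocallyOfFiniteType πT.left := by rw [hπT]; infer_instance
  haveI : Surjective πT.left := by rw [hπT]; infer_instance
  obtain ⟨s₀, hs₀⟩ := exists_section_of_isAlgClosed (Ω := Ω) πT.left
  let s : Over.mk t ⟶ A.P := CategoryTheory.Over.homMk s₀ (by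
    have h1 : πT.left ≫ t = A.P.hom := Over.w πT
    change s₀ ≫ A.P.hom = t
    rw [← h1, ← Category.assoc, hs₀, Category.id_comp])
  have hs : s ≫ πT = 𝟙 (Over.mk t) := Over.OverMorphism.ext hs₀
  refine ⟨s ≫ A.φ, homOfSection Scheme.fppfPrecoverage G aX A s, ?_⟩
  apply IsHomLift.of_fac (QuotSt Scheme.fppfPrecoverage G aX).p (𝟙 (Over.mk t))
    (homOfSection Scheme.fppfPrecoverage G aX A s) rfl hA
  have h2 : (QuotSt Scheme.fppfPrecoverage G aX).p.map
      (homOfSection Scheme.fppfPrecoverage G aX A s) = s ≫ A.π :=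
    homOfSection_base Scheme.fppfPrecoverage G aX A s
  rw [h2]
  change 𝟙 (Over.mk t) = 𝟙 (Over.mk t) ≫ (s ≫ A.π) ≫ eqToHom hA
  rw [Category.id_comp, Category.assoc]
  exact hs.symm


theorem nonempty_fiber_iso {T : Over S} (x y : (QuotSt Scheme.fppfPrecoverage G aX).p.Fiber T)
    (k : x.1 ⟶ y.1) (hk : (QuotSt Scheme.fppfPrecoverage G aX).p.IsHomLift (𝟙 T) k) :
    Nonempty (x ≅ y) := by
  haveI := isIso_of_lift_id k hk
  haveI := hk
  have hinv : (QuotSt Scheme.fppfPrecoverage G aX).p.IsHomLift (𝟙 T) (inv k) :=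
    IsHomLift.lift_id_inv_isIso (QuotSt Scheme.fppfPrecoverage G aX).p T k
  exact ⟨{ hom := ⟨k, hk⟩
           inv := ⟨inv k, hinv⟩
           hom_inv_id := Subtype.ext (IsIso.hom_inv_id k)
           inv_hom_id := Subtype.ext (IsIso.inv_hom_id k) }⟩

variable (Y : Over S) (f : X ⟶ Y) (π : QuotSt Scheme.fppfPrecoverage G aX ⥤ᵇ ofSch Y)

theorem fibSec_triv
    (hπ' : BasedFunctor.comp (quotMap Scheme.fppfPrecoverage G aX) π =
      ofSpMap ((AlgSp.yon S).map f)) {T : Over S} (x₀ : T ⟶ X) :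
    AlgSt.fibSec π (⟨triv Scheme.fppfPrecoverage G aX x₀, rfl⟩ :
      (QuotSt Scheme.fppfPrecoverage G aX).p.Fiber T) = ⟨x₀ ≫ f⟩ := by
  have h1 : π.obj (triv Scheme.fppfPrecoverage G aX x₀) = ⟨T, ⟨x₀ ≫ f⟩⟩ :=
    congrArg (fun F : ofSch X ⥤ᵇ ofSch Y => F.obj ⟨T, ⟨x₀⟩⟩) hπ'
  exact tr_eq_of_eq h1 (π.w_obj (triv Scheme.fppfPrecoverage G aX x₀))

theorem fibSec_eq_of_hom {T : Over S} (x y : (QuotSt Scheme.fppfPrecoverage G aX).p.Fiber T)
    (k : x.1 ⟶ y.1) (hk : (QuotSt Scheme.fppfPrecoverage G aX).p.IsHomLift (𝟙 T) k) :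
    AlgSt.fibSec π x = AlgSt.fibSec π y := by
  haveI : (Stk.EltObj.forget ((AlgSp.yon S).obj Y).obj).IsHomLift (𝟙 T) (π.map k) :=
    BasedFunctor.preserves_isHomLift π (𝟙 T) k
  have h1 := tr_of_hom ((AlgSp.yon S).obj Y).obj (π.map k) (𝟙 T) ((π.w_obj x.1).trans x.2)
    ((π.w_obj y.1).trans y.2)
  change tr ((AlgSp.yon S).obj Y).obj (π.obj x.1) ((π.w_obj x.1).trans x.2) =
    tr ((AlgSp.yon S).obj Y).obj (π.obj y.1) ((π.w_obj y.1).trans y.2)
  rw [← h1]
  simp


theorem exists_hom_of_section' (A : QuotObj Scheme.fppfPrecoverage G aX) {T : Over S}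
    (σ : T ⟶ A.P) (x₀ : T ⟶ X) (h : σ ≫ A.φ = x₀) (b : T ⟶ A.base) (hb : σ ≫ A.π = b) :
    ∃ m : triv Scheme.fppfPrecoverage G aX x₀ ⟶ A,
      (QuotSt Scheme.fppfPrecoverage G aX).p.IsHomLift b m := by
  subst h
  subst hb
  refine ⟨homOfSection Scheme.fppfPrecoverage G aX A σ, ?_⟩
  have h0 : (QuotSt Scheme.fppfPrecoverage G aX).p.IsHomLift
      (baseT (homOfSection Scheme.fppfPrecoverage G aX A σ))
      (homOfSection Scheme.fppfPrecoverage G aX A σ) :=
    IsHomLift.map (QuotSt Scheme.fppfPrecoverage G aX).p _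
  rw [baseT_homOfSection] at h0
  exact h0

/-- right multiplication by a point of `G`, as a morphism of trivial objects over the identity -/
theorem exists_hom_triv_of_orbit {T : Over S} (x₀ y₀ : T ⟶ X) (g : T ⟶ G)
    (hg : lift g y₀ ≫ aX.act = x₀) :
    ∃ m : triv Scheme.fppfPrecoverage G aX x₀ ⟶ triv Scheme.fppfPrecoverage G aX y₀,
      (QuotSt Scheme.fppfPrecoverage G aX).p.IsHomLift (𝟙 T) m := by
  have hσφ : lift g (𝟙 T) ≫ (G ◁ y₀) ≫ aX.act = x₀ := by
    rw [lift_whiskerLeft_assoc, Category.id_comp, hg]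
  have h1 : lift g (𝟙 T) ≫ snd G T = 𝟙 T := lift_snd _ _
  exact exists_hom_of_section' (triv Scheme.fppfPrecoverage G aX y₀) (lift g (𝟙 T)) x₀ hσφ
    (𝟙 T) h1

theorem isCoarseModuli (hinv : aX.act ≫ f = snd G X ≫ f)
    (horb : ∀ (Ω : Type u) [Field Ω] [IsAlgClosed Ω] (t : Spec (CommRingCat.of Ω) ⟶ S),
      (∀ y : Over.mk t ⟶ Y, ∃ x : Over.mk t ⟶ X, x ≫ f = y) ∧
      (∀ x x' : Over.mk t ⟶ X, x ≫ f = x' ≫ f → ∃ g : Over.mk t ⟶ G, lift g x' ≫ aX.act = x))
    (hcat : ∀ (N : AlgSp.Space S) (ψ : (AlgSp.yon S).obj X ⟶ N.obj),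
      (AlgSp.yon S).map aX.act ≫ ψ = (AlgSp.yon S).map (snd G X) ≫ ψ →
        ∃! χ : (AlgSp.yon S).obj Y ⟶ N.obj, (AlgSp.yon S).map f ≫ χ = ψ)
    (hπ : Nonempty (BasedFunctor.comp (quotMap Scheme.fppfPrecoverage G aX) π ≅
      ofSpMap ((AlgSp.yon S).map f))) :
    AlgSt.IsCoarseModuli π := by
  obtain ⟨eπ⟩ := hπ
  have hπ' : BasedFunctor.comp (quotMap Scheme.fppfPrecoverage G aX) π =
      ofSpMap ((AlgSp.yon S).map f) := eq_of_iso eπ
  refine ⟨⟨AlgSp.IsAlgSpace.yon_obj Y, fun N hN φ => ?_⟩, ?_⟩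
  · obtain ⟨ψ, hψ⟩ := exists_ofSpMap_eq
      (BasedFunctor.comp (quotMap Scheme.fppfPrecoverage G aX) φ)
    have hψinv := invariant_of_factor φ ψ hψ
    obtain ⟨χ, hχ, huq⟩ := hcat ⟨N, hN⟩ ψ hψinv
    refine ⟨χ, ⟨eqToIso ?_⟩, ?_⟩
    · apply eq_of_restrict_eq
      change BasedFunctor.comp (BasedFunctor.comp (quotMap Scheme.fppfPrecoverage G aX) π)
        (ofSpMap χ) = _
      rw [hπ', ofSpMap_comp, hχ, hψ]
    · rintro g' ⟨hg'⟩
      have h1 := eq_of_iso hg'
      apply huq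
      apply ofSpMap_injective
      rw [← ofSpMap_comp, ← hπ', ← hψ, ← h1]
      rfl
  · intro Ω _ _ t
    constructor
    · intro m
      obtain ⟨x₀, hx₀⟩ := (horb Ω t).1 m.down
      refine ⟨⟨triv Scheme.fppfPrecoverage G aX x₀, rfl⟩, ?_⟩
      rw [fibSec_triv Y f π hπ', hx₀]
      rfl
    · intro x y hxy
      obtain ⟨x₀, kx, hkx⟩ := exists_triv_hom t x.1 x.2
      obtain ⟨y₀, ky, hky⟩ := exists_triv_hom t y.1 y.2
      have e1 : AlgSt.fibSec π x = ⟨x₀ ≫ f⟩ := by
        exact (fibSec_eq_of_hom Y π ⟨triv Scheme.fppfPrecoverage G aX x₀, rfl⟩ x kx hkx).symm.trans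
          (fibSec_triv Y f π hπ' x₀)
      have e2 : AlgSt.fibSec π y = ⟨y₀ ≫ f⟩ := by
        exact (fibSec_eq_of_hom Y π ⟨triv Scheme.fppfPrecoverage G aX y₀, rfl⟩ y ky hky).symm.trans
          (fibSec_triv Y f π hπ' y₀)
      have h3 : x₀ ≫ f = y₀ ≫ f := congrArg ULift.down (e1.symm.trans (hxy.trans e2))
      obtain ⟨g, hg⟩ := (horb Ω t).2 x₀ y₀ h3
      obtain ⟨m, hm⟩ := exists_hom_triv_of_orbit x₀ y₀ g hg
      haveI := isIso_of_lift_id kx hkx
      haveI := hkx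
      haveI := hm
      haveI := hky
      have hkxi : (QuotSt Scheme.fppfPrecoverage G aX).p.IsHomLift (𝟙 (Over.mk t)) (inv kx) :=
        IsHomLift.lift_id_inv_isIso (QuotSt Scheme.fppfPrecoverage G aX).p (Over.mk t) kx
      have h4 : (QuotSt Scheme.fppfPrecoverage G aX).p.IsHomLift (𝟙 (Over.mk t)) (m ≫ ky) :=
        IsHomLift.comp_of_lift_id (QuotSt Scheme.fppfPrecoverage G aX).p (Over.mk t) m ky
      have h5 : (QuotSt Scheme.fppfPrecoverage G aX).p.IsHomLift (𝟙 (Over.mk t))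
          (inv kx ≫ m ≫ ky) :=
        IsHomLift.comp_of_lift_id (QuotSt Scheme.fppfPrecoverage G aX).p (Over.mk t) (inv kx)
          (m ≫ ky)
      exact nonempty_fiber_iso x y (inv kx ≫ m ≫ ky) h5

end Quot

end Groth.Agent.Helper6.QuotS7
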