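import Mathlib
import Groth.Agent.Helper1.FunLES
import Groth.Agent.Helper1.DerLES

set_option autoImplicit false
set_option linter.style.haveILetI false
set_option linter.unusedSectionVars false
set_option linter.unusedVariables false

/-!
# Right derived functors of `lim` on towers `ℕᵒᵖ ⥤ 𝒜`, via `0 → lim → ∏ → ∏`

The sequence of functors `lim ⟶ P ⟶ P` (`P T = ∏ T_n`, second map `1 - shift`) is short exact on
injective towers; hence `Rⁱ lim` vanishes for `i ≥ 2` as soon as the higher derived functors of `P`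
vanish, and `R¹ lim` vanishes if moreover `1 - shift` is an epimorphism.
-/

namespace Groth.Agent.Helper6.RLimAbs

open CategoryTheory Limits Opposite

universe v u

section SubsingletonSigma

variable {𝒜 : Type u} [Category.{v} 𝒜] [Abelian 𝒜]

lemma sigma_codiag_ι {ι : Type*} [Subsingleton ι] (A : 𝒜) [HasCoproduct (fun _ : ι => A)]
    (i₀ : ι) : Sigma.desc (fun _ : ι => 𝟙 A) ≫ Sigma.ι (fun _ : ι => A) i₀ = 𝟙 _ := by
  apply Sigma.hom_ext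
  intro i
  rw [Sigma.ι_desc_assoc, Category.id_comp, Category.comp_id, Subsingleton.elim i i₀]

lemma mono_sigma_desc {ι κ : Type*} [Subsingleton ι] [Subsingleton κ] {A A' : 𝒜} (f : A ⟶ A')
    [Mono f] (u : ι → κ) [HasCoproduct (fun _ : ι => A)] [HasCoproduct (fun _ : κ => A')] :
    Mono (Sigma.desc (fun i : ι => f ≫ Sigma.ι (fun _ : κ => A') (u i))) := by
  rcases isEmpty_or_nonempty ι with hι | ⟨⟨i₀⟩⟩
  · have hz : IsZero (∐ fun _ : ι => A) := by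
      rw [IsZero.iff_id_eq_zero]
      apply Sigma.hom_ext
      intro i
      exact isEmptyElim i
    exact ⟨fun a b _ => hz.eq_of_tgt a b⟩
  · have hcomm : Sigma.desc (fun i : ι => f ≫ Sigma.ι (fun _ : κ => A') (u i)) ≫
        Sigma.desc (fun _ : κ => 𝟙 A') = Sigma.desc (fun _ : ι => 𝟙 A) ≫ f := by
      apply Sigma.hom_ext
      intro i
      rw [Sigma.ι_desc_assoc, Category.assoc, Sigma.ι_desc, Category.comp_id, Sigma.ι_desc_assoc,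
        Category.id_comp]
    haveI : Mono (Sigma.desc (fun _ : ι => 𝟙 A)) := mono_of_mono_fac (sigma_codiag_ι A i₀)
    haveI : Mono (Sigma.desc (fun _ : ι => 𝟙 A) ≫ f) := mono_comp _ _
    haveI : Mono (Sigma.desc (fun i : ι => f ≫ Sigma.ι (fun _ : κ => A') (u i)) ≫
        Sigma.desc (fun _ : κ => 𝟙 A')) := by
      rw [hcomm]
      infer_instance
    exact mono_of_mono _ (Sigma.desc (fun _ : κ => 𝟙 A'))

end SubsingletonSigma

section InjectiveTowers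

variable {𝒜 : Type u} [Category.{v} 𝒜] [Abelian 𝒜]

instance evalLA_preservesMono (c : ℕᵒᵖ) :
    (evaluationLeftAdjoint 𝒜 c).PreservesMonomorphisms where
  preserves {A A'} f _ := by
    haveI : ∀ t, Mono (((evaluationLeftAdjoint 𝒜 c).map f).app t) := fun t => by
      rw [evaluationLeftAdjoint_map_app]
      exact mono_sigma_desc f id
    exact NatTrans.mono_of_mono_app _

/-- the terms of an injective tower are injective -/
lemma injective_obj (I : ℕᵒᵖ ⥤ 𝒜) [Injective I] (c : ℕᵒᵖ) : Injective (I.obj c) :=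
  Injective.injective_of_adjoint (evaluationAdjunctionRight 𝒜 c) I

/-- the inclusions into `t ↦ ∐_{c ⟶ t} A` -/
noncomputable def ιLA (c : ℕᵒᵖ) (A : 𝒜) {t : ℕᵒᵖ} (g : c ⟶ t) :
    A ⟶ ((evaluationLeftAdjoint 𝒜 c).obj A).obj t :=
  Sigma.ι (fun _ : c ⟶ t => A) g

@[reassoc]
lemma ιLA_map (c : ℕᵒᵖ) (A : 𝒜) {t t' : ℕᵒᵖ} (g : c ⟶ t) (k : t ⟶ t') :
    ιLA c A g ≫ ((evaluationLeftAdjoint 𝒜 c).obj A).map k = ιLA c A (g ≫ k) :=
  Sigma.ι_desc (fun g : c ⟶ t => Sigma.ι (fun _ : c ⟶ t' => A) (g ≫ k)) g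

lemma LA_hom_ext (c : ℕᵒᵖ) (A : 𝒜) {t : ℕᵒᵖ} {Z : 𝒜}
    {a b : ((evaluationLeftAdjoint 𝒜 c).obj A).obj t ⟶ Z}
    (h : ∀ g : c ⟶ t, ιLA c A g ≫ a = ιLA c A g ≫ b) : a = b :=
  Sigma.hom_ext _ _ h

/-- maps out of `∐_{c ⟶ t} A` -/
noncomputable def descLA (c : ℕᵒᵖ) (A : 𝒜) {t : ℕᵒᵖ} {Z : 𝒜} (p : (c ⟶ t) → (A ⟶ Z)) :
    ((evaluationLeftAdjoint 𝒜 c).obj A).obj t ⟶ Z :=
  Sigma.desc p

@[reassoc]
lemma ι_descLA (c : ℕᵒᵖ) (A : 𝒜) {t : ℕᵒᵖ} {Z : 𝒜} (p : (c ⟶ t) → (A ⟶ Z)) (g : c ⟶ t) :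
    ιLA c A g ≫ descLA c A p = p g :=
  Sigma.ι_desc p g

/-- the comparison of the left adjoints of two evaluations -/
noncomputable def mLA {c c' : ℕᵒᵖ} (w : c' ⟶ c) (A : 𝒜) :
    (evaluationLeftAdjoint 𝒜 c).obj A ⟶ (evaluationLeftAdjoint 𝒜 c').obj A where
  app t := descLA c A (fun g : c ⟶ t => 𝟙 A ≫ ιLA c' A (w ≫ g))
  naturality t t' k := by
    apply LA_hom_ext
    intro g
    rw [ιLA_map_assoc, ι_descLA, ι_descLA_assoc, Category.id_comp, Category.id_comp, ιLA_map,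
      Category.assoc]

@[reassoc]
lemma ι_mLA {c c' : ℕᵒᵖ} (w : c' ⟶ c) (A : 𝒜) (t : ℕᵒᵖ) (g : c ⟶ t) :
    ιLA c A g ≫ (mLA w A).app t = ιLA c' A (w ≫ g) :=
  (ι_descLA c A _ g).trans (Category.id_comp _)

instance mono_mLA {c c' : ℕᵒᵖ} (w : c' ⟶ c) (A : 𝒜) : Mono (mLA w A) := by
  haveI : ∀ t, Mono ((mLA w A).app t) := fun t => mono_sigma_desc (𝟙 A) (fun g => w ≫ g)
  exact NatTrans.mono_of_mono_app _

/-- the map out of the left adjoint of evaluation attached to `A ⟶ I_c` -/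
noncomputable def φLA (I : ℕᵒᵖ ⥤ 𝒜) {c : ℕᵒᵖ} {A : 𝒜} (f : A ⟶ I.obj c) :
    (evaluationLeftAdjoint 𝒜 c).obj A ⟶ I where
  app t := descLA c A (fun h : c ⟶ t => f ≫ I.map h)
  naturality t t' k := by
    apply LA_hom_ext
    intro g
    rw [ιLA_map_assoc, ι_descLA, ι_descLA_assoc, Category.assoc, ← I.map_comp]

lemma ι_φLA (I : ℕᵒᵖ ⥤ 𝒜) {c : ℕᵒᵖ} {A : 𝒜} (f : A ⟶ I.obj c) :
    ιLA c A (𝟙 c) ≫ (φLA I f).app c = f :=
  (ι_descLA c A _ (𝟙 c)).trans (by rw [I.map_id, Category.comp_id])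

/-- maps into an injective tower lift along the transition maps -/
lemma exists_lift_of_injective (I : ℕᵒᵖ ⥤ 𝒜) [Injective I] {c c' : ℕᵒᵖ} (w : c' ⟶ c) {A : 𝒜}
    (f : A ⟶ I.obj c) : ∃ f' : A ⟶ I.obj c', f' ≫ I.map w = f := by
  have hψ : mLA w A ≫ Injective.factorThru (φLA I f) (mLA w A) = φLA I f :=
    Injective.comp_factorThru _ _
  refine ⟨ιLA c' A (𝟙 c') ≫ (Injective.factorThru (φLA I f) (mLA w A)).app c', ?_⟩
  have h1 := (Injective.factorThru (φLA I f) (mLA w A)).naturality w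
  have h2 : ιLA c A (𝟙 c) ≫ (mLA w A).app c ≫
      (Injective.factorThru (φLA I f) (mLA w A)).app c = f := by
    rw [← NatTrans.comp_app, hψ, ι_φLA]
  rw [ι_mLA_assoc] at h2
  rw [Category.assoc, ← h1, ιLA_map_assoc, Category.id_comp]
  rw [Category.comp_id] at h2
  exact h2

end InjectiveTowers

section Tower

variable {𝒜 : Type u} [Category.{v} 𝒜] [Abelian 𝒜] [HasProductsOfShape ℕ 𝒜]
  [HasLimitsOfShape ℕᵒᵖ 𝒜]

/-- the terms of a tower -/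
abbrev Fo (T : ℕᵒᵖ ⥤ 𝒜) (n : ℕ) : 𝒜 := T.obj (op n)

/-- the transition maps -/
abbrev tr (T : ℕᵒᵖ ⥤ 𝒜) (n : ℕ) : Fo T (n + 1) ⟶ Fo T n := T.map (homOfLE (Nat.le_succ n)).op

variable (𝒜) in
/-- the product of the terms of a tower -/
noncomputable def P : (ℕᵒᵖ ⥤ 𝒜) ⥤ 𝒜 where
  obj T := ∏ᶜ (Fo T)
  map φ := Limits.Pi.map (fun n => φ.app (op n))
  map_id T := by
    apply Pi.hom_ext
    intro n
    simp
  map_comp φ ψ := by
    apply Pi.hom_ext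
    intro n
    simp

/-- the projections -/
noncomputable def πP (T : ℕᵒᵖ ⥤ 𝒜) (n : ℕ) : (P 𝒜).obj T ⟶ Fo T n := Pi.π (Fo T) n

/-- maps into the product -/
noncomputable def liftP (T : ℕᵒᵖ ⥤ 𝒜) {A : 𝒜} (x : ∀ n, A ⟶ Fo T n) : A ⟶ (P 𝒜).obj T :=
  Pi.lift x

@[reassoc]
lemma liftP_π (T : ℕᵒᵖ ⥤ 𝒜) {A : 𝒜} (x : ∀ n, A ⟶ Fo T n) (n : ℕ) :
    liftP T x ≫ πP T n = x n :=
  Pi.lift_π x n

lemma P_hom_ext (T : ℕᵒᵖ ⥤ 𝒜) {A : 𝒜} {a b : A ⟶ (P 𝒜).obj T}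
    (h : ∀ n, a ≫ πP T n = b ≫ πP T n) : a = b :=
  Pi.hom_ext _ _ h

@[reassoc]
lemma P_map_π {T T' : ℕᵒᵖ ⥤ 𝒜} (φ : T ⟶ T') (n : ℕ) :
    (P 𝒜).map φ ≫ πP T' n = πP T n ≫ φ.app (op n) :=
  Pi.map_π (fun n => φ.app (op n)) n

instance : (P 𝒜).Additive where
  map_add {T T'} {φ ψ} := by
    apply P_hom_ext
    intro n
    rw [P_map_π, Preadditive.add_comp, P_map_π, P_map_π, NatTrans.app_add, Preadditive.comp_add]

lemma P_exact_aux (S : ShortComplex (ℕᵒᵖ ⥤ 𝒜)) (hS : S.ShortExact) {A : 𝒜}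
    (x : A ⟶ (P 𝒜).obj S.X₂) (hx : x ≫ (P 𝒜).map S.g = 0) :
    ∃ y : A ⟶ (P 𝒜).obj S.X₁, x = y ≫ (P 𝒜).map S.f := by
  have hSn : ∀ n : ℕ, (S.map ((evaluation ℕᵒᵖ 𝒜).obj (op n))).ShortExact :=
    fun n => hS.map_of_exact _
  have hk : ∀ n, (x ≫ πP S.X₂ n) ≫ (S.map ((evaluation ℕᵒᵖ 𝒜).obj (op n))).g = 0 := by
    intro n
    have h1 : (x ≫ (P 𝒜).map S.g) ≫ πP S.X₃ n = 0 := by rw [hx, zero_comp]
    rw [Category.assoc, P_map_π, ← Category.assoc] at h1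
    exact h1
  have := fun n => (hSn n).mono_f
  refine ⟨liftP S.X₁ (fun n => (hSn n).exact.lift (x ≫ πP S.X₂ n) (hk n)), ?_⟩
  apply P_hom_ext
  intro n
  rw [Category.assoc, P_map_π, liftP_π_assoc]
  exact ((hSn n).exact.lift_f _ (hk n)).symm

lemma P_mono_aux {T T' : ℕᵒᵖ ⥤ 𝒜} (φ : T ⟶ T') [Mono φ] : Mono ((P 𝒜).map φ) := by
  constructor
  intro A a b hab
  apply P_hom_ext
  intro n
  haveI : Mono (φ.app (op n)) := (NatTrans.mono_iff_mono_app φ).1 inferInstance (op n)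
  rw [← cancel_mono (φ.app (op n)), Category.assoc, Category.assoc, ← P_map_π, ← Category.assoc,
    ← Category.assoc, hab]

instance : PreservesFiniteLimits (P 𝒜) := by
  rw [Functor.preservesFiniteLimits_iff_forall_exact_map_and_mono]
  intro S hS
  have := hS.mono_f
  constructor
  · rw [ShortComplex.exact_iff_exact_up_to_refinements]
    intro A x₂ hx₂
    obtain ⟨y, hy⟩ := P_exact_aux S hS x₂ hx₂
    exact ⟨A, 𝟙 A, inferInstance, y, by rw [Category.id_comp]; exact hy⟩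
  · exact P_mono_aux S.f

variable (𝒜) in
/-- the shift -/
noncomputable def shn : P 𝒜 ⟶ P 𝒜 where
  app T := liftP T (fun n => πP T (n + 1) ≫ tr T n)
  naturality T T' φ := by
    apply P_hom_ext
    intro n
    have hφ : φ.app (op (n + 1)) ≫ tr T' n = tr T n ≫ φ.app (op n) := (φ.naturality _).symm
    rw [Category.assoc, liftP_π, P_map_π_assoc, Category.assoc, P_map_π, liftP_π_assoc, hφ,
      Category.assoc]

lemma shn_π (T : ℕᵒᵖ ⥤ 𝒜) (n : ℕ) : (shn 𝒜).app T ≫ πP T n = πP T (n + 1) ≫ tr T n :=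
  liftP_π T _ n

variable (𝒜) in
/-- `1 - shift` -/
noncomputable def Dn : P 𝒜 ⟶ P 𝒜 := 𝟙 (P 𝒜) - shn 𝒜

lemma Dn_π (T : ℕᵒᵖ ⥤ 𝒜) (n : ℕ) :
    (Dn 𝒜).app T ≫ πP T n = πP T n - πP T (n + 1) ≫ tr T n := by
  have h : (Dn 𝒜).app T = 𝟙 ((P 𝒜).obj T) - (shn 𝒜).app T := rfl
  rw [h, Preadditive.sub_comp, Category.id_comp, shn_π]

variable (𝒜) in
/-- the inclusion of the limit in the product -/
noncomputable def ιn : (lim : (ℕᵒᵖ ⥤ 𝒜) ⥤ 𝒜) ⟶ P 𝒜 where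
  app T := liftP T (fun n => limit.π T (op n))
  naturality T T' φ := by
    apply P_hom_ext
    intro n
    rw [Category.assoc, liftP_π, Category.assoc, P_map_π, liftP_π_assoc]
    exact limMap_π φ (op n)

lemma ιn_π (T : ℕᵒᵖ ⥤ 𝒜) (n : ℕ) : (ιn 𝒜).app T ≫ πP T n = limit.π T (op n) :=
  liftP_π T _ n

lemma ιn_Dn_app (T : ℕᵒᵖ ⥤ 𝒜) : (ιn 𝒜).app T ≫ (Dn 𝒜).app T = 0 := by
  apply P_hom_ext
  intro n
  have hw : limit.π T (op (n + 1)) ≫ tr T n = limit.π T (op n) := limit.w T _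
  rw [zero_comp, Category.assoc, Dn_π, Preadditive.comp_sub, ιn_π,
    ← Category.assoc, ιn_π, hw, sub_self]

lemma ιn_Dn : ιn 𝒜 ≫ Dn 𝒜 = 0 := by
  ext T
  exact ιn_Dn_app T

lemma hom_eq {m n : ℕ} (f : (op m : ℕᵒᵖ) ⟶ op n) (h : n ≤ m) : f = (homOfLE h).op :=
  Subsingleton.elim _ _

lemma compat (F : ℕᵒᵖ ⥤ 𝒜) {A : 𝒜} (x : ∀ n, A ⟶ Fo F n)
    (hx : ∀ n, x (n + 1) ≫ tr F n = x n) (m : ℕ) :
    ∀ (k : ℕ), x (m + k) ≫ F.map (homOfLE (Nat.le_add_right m k)).op = x m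
  | 0 => by
    have h1 : F.map (homOfLE (Nat.le_add_right m 0)).op = 𝟙 (F.obj (op m)) := by
      have : (homOfLE (Nat.le_add_right m 0)).op = 𝟙 (op m : ℕᵒᵖ) := Subsingleton.elim _ _
      rw [this]
      exact F.map_id _
    rw [h1]
    exact Category.comp_id _
  | k + 1 => by
    have : (homOfLE (Nat.le_add_right m (k + 1))).op =
        (homOfLE (Nat.le_succ (m + k))).op ≫ (homOfLE (Nat.le_add_right m k)).op :=
      Subsingleton.elim _ _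
    rw [this, F.map_comp, ← Category.assoc]
    have h := hx (m + k)
    rw [show x (m + (k + 1)) ≫ F.map (homOfLE (Nat.le_succ (m + k))).op = x (m + k) from h]
    exact compat F x hx m k

/-- the cone attached to a compatible family -/
noncomputable def coneOf (F : ℕᵒᵖ ⥤ 𝒜) {A : 𝒜} (x : ∀ n, A ⟶ Fo F n)
    (hx : ∀ n, x (n + 1) ≫ tr F n = x n) : Cone F where
  pt := A
  π :=
    { app := fun j => x j.unop
      naturality := by
        intro j j' f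
        induction j using Opposite.rec with | _ a => ?_
        induction j' using Opposite.rec with | _ b => ?_
        obtain ⟨k, rfl⟩ := Nat.exists_eq_add_of_le (leOfHom f.unop)
        rw [hom_eq f (Nat.le_add_right b k)]
        dsimp
        rw [Category.id_comp]
        exact (compat F x hx b k).symm }

/-- the lift of a compatible family to the limit -/
noncomputable def liftOf (F : ℕᵒᵖ ⥤ 𝒜) {A : 𝒜} (x : ∀ n, A ⟶ Fo F n)
    (hx : ∀ n, x (n + 1) ≫ tr F n = x n) : A ⟶ limit F :=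
  limit.lift F (coneOf F x hx)

lemma liftOf_π (F : ℕᵒᵖ ⥤ 𝒜) {A : 𝒜} (x : ∀ n, A ⟶ Fo F n)
    (hx : ∀ n, x (n + 1) ≫ tr F n = x n) (n : ℕ) :
    liftOf F x hx ≫ limit.π F (op n) = x n :=
  limit.lift_π (coneOf F x hx) (op n)

lemma sc_exact_aux (T : ℕᵒᵖ ⥤ 𝒜) {A : 𝒜} (x : A ⟶ (P 𝒜).obj T)
    (hx0 : x ≫ (Dn 𝒜).app T = 0) : ∃ y : A ⟶ limit T, x = y ≫ (ιn 𝒜).app T := by
  have hx : ∀ n, (x ≫ πP T (n + 1)) ≫ tr T n = x ≫ πP T n := by
    intro n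
    have h1 : (x ≫ (Dn 𝒜).app T) ≫ πP T n = 0 := by rw [hx0, zero_comp]
    rw [Category.assoc, Dn_π, Preadditive.comp_sub, sub_eq_zero, ← Category.assoc] at h1
    exact h1.symm
  refine ⟨liftOf T (fun n => x ≫ πP T n) hx, ?_⟩
  apply P_hom_ext
  intro n
  rw [Category.assoc, ιn_π, liftOf_π]

open Groth.Agent.Helper1 in
lemma sc_exact (T : ℕᵒᵖ ⥤ 𝒜) : (FunLES.sc (ιn 𝒜) (Dn 𝒜) ιn_Dn T).Exact := by
  rw [ShortComplex.exact_iff_exact_up_to_refinements]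
  intro A x₂ hx₂
  obtain ⟨y, hy⟩ := sc_exact_aux T x₂ hx₂
  exact ⟨A, 𝟙 A, inferInstance, y, by rw [Category.id_comp]; exact hy⟩

lemma mono_ιn (T : ℕᵒᵖ ⥤ 𝒜) : Mono ((ιn 𝒜).app T) := by
  constructor
  intro A a b hab
  have key : ∀ (a' b' : A ⟶ limit T), a' ≫ (ιn 𝒜).app T = b' ≫ (ιn 𝒜).app T → a' = b' := by
    intro a' b' h'
    apply limit.hom_ext
    intro j
    induction j using Opposite.rec with | _ n => ?_
    have h := congrArg (fun q => q ≫ πP T n) h'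
    simp only [Category.assoc, ιn_π] at h
    exact h
  exact key a b hab

lemma epi_Dn_of_injective (I : ℕᵒᵖ ⥤ 𝒜) [Injective I] : Epi ((Dn 𝒜).app I) := by
  choose s hs using fun n : ℕ =>
    exists_lift_of_injective I (homOfLE (Nat.le_succ n)).op (𝟙 (I.obj (op n)))
  let x : ∀ n, (P 𝒜).obj I ⟶ Fo I n := fun n =>
    Nat.rec (motive := fun n => (P 𝒜).obj I ⟶ Fo I n) 0
      (fun n xn => (xn - πP I n) ≫ s n) n
  have hx : ∀ n, x (n + 1) ≫ tr I n = x n - πP I n := by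
    intro n
    show ((x n - πP I n) ≫ s n) ≫ tr I n = _
    rw [Category.assoc, hs n, Category.comp_id]
  have hsplit : liftP I x ≫ (Dn 𝒜).app I = 𝟙 _ := by
    apply P_hom_ext
    intro n
    rw [Category.assoc, Dn_π, Preadditive.comp_sub, ← Category.assoc, liftP_π, liftP_π, hx,
      Category.id_comp]
    abel
  exact epi_of_epi_fac hsplit

open Groth.Agent.Helper1 in
lemma sc_shortExact (I : ℕᵒᵖ ⥤ 𝒜) [Injective I] :
    (FunLES.sc (ιn 𝒜) (Dn 𝒜) ιn_Dn I).ShortExact where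
  exact := sc_exact I
  mono_f := mono_ιn I
  epi_g := epi_Dn_of_injective I

section PreservesProducts

variable {ℬ : Type*} [Category ℬ] (G : 𝒜 ⥤ ℬ)

/-- the product fan -/
noncomputable def fanP (T : ℕᵒᵖ ⥤ 𝒜) : Fan (Fo T) := Fan.mk ((P 𝒜).obj T) (πP T)

/-- the product fan is a limit -/
noncomputable def isLimitFanP (T : ℕᵒᵖ ⥤ 𝒜) : IsLimit (fanP T) := productIsProduct (Fo T)

/-- the image of the product fan under a functor preserving it -/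
noncomputable def isLimitG (T : ℕᵒᵖ ⥤ 𝒜) [PreservesLimit (Discrete.functor (Fo T)) G] :
    IsLimit (G.mapCone (fanP T)) := isLimitOfPreserves G (isLimitFanP T)

/-- cones over the image of the diagram -/
noncomputable def coneG (T : ℕᵒᵖ ⥤ 𝒜) {A : ℬ} (x : ∀ n, A ⟶ G.obj (Fo T n)) :
    Cone (Discrete.functor (Fo T) ⋙ G) where
  pt := A
  π := Discrete.natTrans (fun j => x j.as)

/-- maps into the image of the product -/
noncomputable def liftG (T : ℕᵒᵖ ⥤ 𝒜) [PreservesLimit (Discrete.functor (Fo T)) G] {A : ℬ}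
    (x : ∀ n, A ⟶ G.obj (Fo T n)) : A ⟶ G.obj ((P 𝒜).obj T) :=
  (isLimitG G T).lift (coneG G T x)

@[reassoc]
lemma liftG_π (T : ℕᵒᵖ ⥤ 𝒜) [PreservesLimit (Discrete.functor (Fo T)) G] {A : ℬ}
    (x : ∀ n, A ⟶ G.obj (Fo T n)) (n : ℕ) : liftG G T x ≫ G.map (πP T n) = x n :=
  (isLimitG G T).fac (coneG G T x) ⟨n⟩

lemma hom_extG (T : ℕᵒᵖ ⥤ 𝒜) [PreservesLimit (Discrete.functor (Fo T)) G] {A : ℬ}
    {a b : A ⟶ G.obj ((P 𝒜).obj T)} (h : ∀ n, a ≫ G.map (πP T n) = b ≫ G.map (πP T n)) :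
    a = b :=
  (isLimitG G T).hom_ext (fun j => h j.as)

end PreservesProducts

section Derived

open Groth.Agent.Helper1

variable [HasInjectiveResolutions (ℕᵒᵖ ⥤ 𝒜)] [(lim : (ℕᵒᵖ ⥤ 𝒜) ⥤ 𝒜).Additive]

/-- `Rⁿ⁺² lim` vanishes where `Rⁿ⁺¹ P` and `Rⁿ⁺² P` vanish -/
lemma isZero_rlim_succ_succ (E : ℕᵒᵖ ⥤ 𝒜) (n : ℕ)
    (h0 : IsZero (((P 𝒜).rightDerived (n + 1)).obj E))
    (h1 : IsZero (((P 𝒜).rightDerived (n + 2)).obj E)) :
    IsZero (((lim : (ℕᵒᵖ ⥤ 𝒜) ⥤ 𝒜).rightDerived (n + 2)).obj E) := by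
  obtain ⟨w₁, e₁⟩ := FunLES.les₁ (ιn 𝒜) (Dn 𝒜) ιn_Dn (fun I _ => sc_shortExact I) (n + 1) E
  exact e₁.isZero_of_both_zeros (h0.eq_of_src _ _) (h1.eq_of_tgt _ _)

/-- `R¹ lim` vanishes where `R¹ P` vanishes and `1 - shift` is an epimorphism -/
lemma isZero_rlim_one (E : ℕᵒᵖ ⥤ 𝒜) (h1 : IsZero (((P 𝒜).rightDerived 1).obj E))
    [Epi ((Dn 𝒜).app E)] :
    IsZero (((lim : (ℕᵒᵖ ⥤ 𝒜) ⥤ 𝒜).rightDerived 1).obj E) := by
  obtain ⟨w₁, e₁⟩ := FunLES.les₁ (ιn 𝒜) (Dn 𝒜) ιn_Dn (fun I _ => sc_shortExact I) 0 E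
  haveI hδ : Epi ((FunLES.δ (ιn 𝒜) (Dn 𝒜) ιn_Dn (fun I _ => sc_shortExact I) 0).app E) :=
    e₁.epi_f (h1.eq_of_tgt _ _)
  haveI hγ : Epi ((FunLES.γ (ιn 𝒜) (Dn 𝒜) ιn_Dn (fun I _ => sc_shortExact I)).app E) := by
    show Epi ((P 𝒜).toRightDerivedZero.app E ≫
      (FunLES.δ (ιn 𝒜) (Dn 𝒜) ιn_Dn (fun I _ => sc_shortExact I) 0).app E)
    infer_instance
  have hz : (FunLES.γ (ιn 𝒜) (Dn 𝒜) ιn_Dn (fun I _ => sc_shortExact I)).app E = 0 := by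
    have h := congrArg (fun t => t.app E)
      (FunLES.β_γ (ιn 𝒜) (Dn 𝒜) ιn_Dn (fun I _ => sc_shortExact I))
    rw [← cancel_epi ((Dn 𝒜).app E), comp_zero]
    exact h
  exact IsZero.of_epi_eq_zero _ hz

/-- dimension shifting for the derived functors of `P` -/
lemma isZero_rightDerived_P (𝒞 : (ℕᵒᵖ ⥤ 𝒜) → Prop)
    (h𝒞 : ∀ E, 𝒞 E → ∃ S : ShortComplex (ℕᵒᵖ ⥤ 𝒜), S.ShortExact ∧ S.X₁ = E ∧ Injective S.X₂ ∧
      𝒞 S.X₃ ∧ Epi ((P 𝒜).map S.g)) :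
    ∀ (j : ℕ) (E : ℕᵒᵖ ⥤ 𝒜), 𝒞 E → IsZero (((P 𝒜).rightDerived (j + 1)).obj E) := by
  intro j
  induction j with
  | zero =>
    intro E hE
    obtain ⟨S, hS, rfl, hI, hQ, hepi⟩ := h𝒞 E hE
    haveI := hI
    obtain ⟨δ, w₁, w₂, e₁, e₂⟩ := Horseshoe.hasLES_rightDerived (P 𝒜) S hS 0
    have hR1 : IsZero (((P 𝒜).rightDerived (0 + 1)).obj S.X₂) :=
      Functor.isZero_rightDerived_obj_injective_succ (P 𝒜) 0 S.X₂
    haveI : Epi δ := e₂.epi_f (hR1.eq_of_tgt _ _)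
    have nat := (P 𝒜).rightDerivedZeroIsoSelf.hom.naturality S.g
    have hg : ((P 𝒜).rightDerived 0).map S.g = (P 𝒜).rightDerivedZeroIsoSelf.hom.app S.X₂ ≫
        (P 𝒜).map S.g ≫ (P 𝒜).rightDerivedZeroIsoSelf.inv.app S.X₃ := by
      rw [← Category.assoc, ← nat, Category.assoc, Iso.hom_inv_id_app, Category.comp_id]
    haveI : Epi (((P 𝒜).rightDerived 0).map S.g) := by
      rw [hg]
      infer_instance
    have w₁' : ((P 𝒜).rightDerived 0).map S.g ≫ δ = 0 := w₁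
    have hδ : δ = 0 := by
      rw [← cancel_epi (((P 𝒜).rightDerived 0).map S.g), w₁', comp_zero]
    exact IsZero.of_epi_eq_zero δ hδ
  | succ j ih =>
    intro E hE
    obtain ⟨S, hS, rfl, hI, hQ, hepi⟩ := h𝒞 E hE
    haveI := hI
    exact DerLES.isZero_rightDerived_X₁ (P 𝒜) S hS j (ih S.X₃ hQ)
      (Functor.isZero_rightDerived_obj_injective_succ (P 𝒜) (j + 1) S.X₂)

end Derived

end Tower

end Groth.Agent.Helper6.RLimAbs
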