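import Mathlib
import Groth.Prelude.Def_CohTop
import Groth.Agent.Helper3.SheafModLib
import Groth.Agent.Helper6.FlasqueMod
import Groth.Agent.Helper6.ExtLimTop
import Groth.Agent.Helper6.RLimAbs

set_option autoImplicit false
set_option linter.style.haveILetI false
set_option linter.unusedSectionVars false
set_option linter.unusedVariables false

/-!
# Vanishing of `Rⁱ lim` for towers of sheaves of modules acyclic on a basis
-/

namespace Groth.Agent.Helper6.RLimSh

open CategoryTheory Limits Abelian Opposite TopologicalSpace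
open Groth.Agent.Lead.CohTopB Groth.Agent.Helper6 Groth.Agent.Helper6.RLimAbs

universe u

section General

variable {𝒜 : Type*} [Category 𝒜] [Abelian 𝒜] [HasExt.{u} 𝒜]

lemma lift_of_ext_one {W : 𝒜} {S : ShortComplex 𝒜} (hS : S.ShortExact)
    (h1 : ∀ x : Ext.{u} W S.X₁ (0 + 1), x = 0) (z : W ⟶ S.X₃) : ∃ z' : W ⟶ S.X₂, z' ≫ S.g = z := by
  obtain ⟨y, hy⟩ := ExtProd.exact₃ hS (Ext.mk₀ z) (h1 _)
  refine ⟨Ext.addEquiv₀ y, ?_⟩
  apply (Ext.mk₀_bijective _ _).1
  rw [← Ext.mk₀_comp_mk₀, Ext.mk₀_addEquiv₀_apply]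
  exact hy

end General

variable {X : TopCat.{u}} (R : Sheaf (Opens.grothendieckTopology X) RingCat.{u})

/-- the underlying abelian sheaf -/
noncomputable abbrev toAb : SheafOfModules.{u} R ⥤ CohTop.Ab X := SheafOfModules.toSheaf R

instance : PreservesFiniteColimits (toAb R) := by
  haveI := Groth.Agent.Helper3.SheafModLib.toSheaf_preservesColimits R
  infer_instance

instance (ι : Type) : PreservesLimitsOfShape (Discrete ι) (toAb R) := by
  haveI := Groth.Agent.Helper3.SheafModLib.toSheaf_preservesLimits R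
  haveI : PreservesLimitsOfSize.{0, 0} (toAb R) := preservesSmallestLimits_of_preservesLimits _
  infer_instance

lemma homEquiv_sub (V : Opens X) (G : CohTop.Ab X) (a b : freeU V ⟶ G) :
    homEquiv V G (a - b) = homEquiv V G a - homEquiv V G b :=
  map_sub (Groth.Agent.Helper1.CohTopExt.homAddEquiv V G) a b

/-- acyclicity on the basis -/
def BAcyc (B : Set (Opens X)) (M : SheafOfModules.{u} R) : Prop :=
  ∀ U ∈ B, ∀ (i : ℕ) (x : Ext.{u} (freeU U) ((toAb R).obj M) (i + 1)), x = 0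

lemma bacyc_of_injective (B : Set (Opens X)) (J : SheafOfModules.{u} R) [Injective J] :
    BAcyc R B J := by
  intro U _ i x
  haveI := FlasqueMod.isFlasque_toSheaf_of_injective R J
  exact ext_eq_zero_of_flasque (freeU U) U (homEquiv U) (fun φ g => homEquiv_comp U φ g) i _ x

lemma bacyc_X₃ (B : Set (Opens X)) (S : ShortComplex (SheafOfModules.{u} R)) (hS : S.ShortExact)
    (h₁ : BAcyc R B S.X₁) [Injective S.X₂] : BAcyc R B S.X₃ := by
  intro U hU i x
  have hS' : (S.map (toAb R)).ShortExact := hS.map_of_exact (toAb R)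
  have h1 : ExtProd.dl hS' x = 0 := h₁ U hU (i + 1) _
  obtain ⟨y, hy⟩ := ExtProd.exact₃ hS' x h1
  have hy0 : y = 0 := bacyc_of_injective R B S.X₂ U hU i y
  rw [← hy, hy0, map_zero]
  rfl

lemma epi_P_map (B : Set (Opens X)) (hB : Opens.IsBasis B)
    (S : ShortComplex (ℕᵒᵖ ⥤ SheafOfModules.{u} R)) (hS : S.ShortExact)
    (h₁ : ∀ n : ℕ, BAcyc R B (S.X₁.obj (op n))) :
    Epi ((P (SheafOfModules.{u} R)).map S.g) := by
  haveI : Epi ((toAb R).map ((P (SheafOfModules.{u} R)).map S.g)) := by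
    apply ExtProd.epi_of_sep (ExtLimTop.sep B hB)
    rintro _ ⟨V, hV, rfl⟩ z
    have hSn : ∀ n : ℕ,
        ((S.map ((evaluation ℕᵒᵖ (SheafOfModules.{u} R)).obj (op n))).map (toAb R)).ShortExact :=
      fun n => (hS.map_of_exact _).map_of_exact _
    have h : ∀ n : ℕ, ∃ zn : freeU V ⟶ (toAb R).obj (S.X₂.obj (op n)),
        zn ≫ (toAb R).map (S.g.app (op n)) = z ≫ (toAb R).map (πP S.X₃ n) := fun n =>
      lift_of_ext_one (hSn n) (h₁ n V hV 0) _
    choose zn hzn using h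
    refine ⟨liftG (toAb R) S.X₂ zn, ?_⟩
    apply hom_extG (toAb R) S.X₃
    intro n
    rw [Category.assoc, ← Functor.map_comp, P_map_π, Functor.map_comp, liftG_π_assoc, hzn]
  exact (toAb R).epi_of_epi_map this

lemma h𝒞 (B : Set (Opens X)) (hB : Opens.IsBasis B)
    [HasInjectiveResolutions (ℕᵒᵖ ⥤ SheafOfModules.{u} R)]
    (E : ℕᵒᵖ ⥤ SheafOfModules.{u} R) (hE : ∀ n : ℕ, BAcyc R B (E.obj (op n))) :
    ∃ S : ShortComplex (ℕᵒᵖ ⥤ SheafOfModules.{u} R), S.ShortExact ∧ S.X₁ = E ∧ Injective S.X₂ ∧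
      (∀ n : ℕ, BAcyc R B (S.X₃.obj (op n))) ∧ Epi ((P (SheafOfModules.{u} R)).map S.g) := by
  obtain ⟨J⟩ := (HasInjectiveResolutions.out E).out
  haveI : Injective (J.cocomplex.X 0) := J.injective 0
  let f : E ⟶ J.cocomplex.X 0 := J.ι.f 0
  haveI : Mono f := inferInstanceAs (Mono (J.ι.f 0))
  have hS : (ShortComplex.mk f (cokernel.π f) (cokernel.condition f)).ShortExact :=
    { exact := ShortComplex.exact_cokernel f
      mono_f := inferInstanceAs (Mono f)
      epi_g := inferInstanceAs (Epi (cokernel.π f)) }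
  refine ⟨ShortComplex.mk f (cokernel.π f) (cokernel.condition f), hS, rfl,
    inferInstanceAs (Injective (J.cocomplex.X 0)), ?_, ?_⟩
  · intro n
    haveI : Injective (((ShortComplex.mk f (cokernel.π f) (cokernel.condition f)).map
        ((evaluation ℕᵒᵖ (SheafOfModules.{u} R)).obj (op n))).X₂) :=
      injective_obj (J.cocomplex.X 0) (op n)
    exact bacyc_X₃ R B _ (hS.map_of_exact ((evaluation ℕᵒᵖ (SheafOfModules.{u} R)).obj (op n)))
      (hE n)
  · exact epi_P_map R B hB _ hS hE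

lemma epi_Dn_of_ml (B : Set (Opens X)) (hB : Opens.IsBasis B) (E : ℕᵒᵖ ⥤ SheafOfModules.{u} R)
    (hml : ∀ U ∈ B, (E ⋙ SheafOfModules.toSheaf R ⋙
        (sheafSections (Opens.grothendieckTopology X) AddCommGrpCat.{u}).obj (op U) ⋙
          forget AddCommGrpCat.{u}).IsMittagLeffler) :
    Epi ((Dn (SheafOfModules.{u} R)).app E) := by
  haveI : Epi ((toAb R).map ((Dn (SheafOfModules.{u} R)).app E)) := by
    apply ExtProd.epi_of_sep (ExtLimTop.sep B hB)
    rintro _ ⟨V, hV, rfl⟩ z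
    let F' : ℕᵒᵖ ⥤ AddCommGrpCat.{u} := E ⋙ SheafOfModules.toSheaf R ⋙
      (sheafSections (Opens.grothendieckTopology X) AddCommGrpCat.{u}).obj (op V)
    have hsurj := ExtLimTop.towerDiff_surjective_of_ml F' (hml V hV)
    obtain ⟨t, ht⟩ := hsurj
      (fun n => homEquiv V ((toAb R).obj (E.obj (op n))) (z ≫ (toAb R).map (πP E n)))
    refine ⟨liftG (toAb R) E
      (fun n => (homEquiv V ((toAb R).obj (E.obj (op n)))).symm (t n)), ?_⟩
    apply hom_extG (toAb R) E
    intro n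
    apply (homEquiv V ((toAb R).obj (E.obj (op n)))).injective
    have hn := congrFun ht n
    rw [Category.assoc, ← Functor.map_comp, Dn_π, Functor.map_sub, Functor.map_comp,
      Preadditive.comp_sub, liftG_π, liftG_π_assoc, homEquiv_sub, homEquiv_comp,
      Equiv.apply_symm_apply, Equiv.apply_symm_apply]
    exact hn
  exact (toAb R).epi_of_epi_map this

theorem main (X : TopCat.{u}) (R : Sheaf (Opens.grothendieckTopology X) RingCat.{u})
    [(lim : (ℕᵒᵖ ⥤ SheafOfModules.{u} R) ⥤ SheafOfModules.{u} R).Additive]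
    [HasInjectiveResolutions (ℕᵒᵖ ⥤ SheafOfModules.{u} R)]
    (E : ℕᵒᵖ ⥤ SheafOfModules.{u} R) (B : Set (Opens X)) (hB : Opens.IsBasis B)
    (ha : ∀ U ∈ B, ∀ (n i : ℕ), 1 ≤ i →
      Subsingleton (CohTop.HU ((SheafOfModules.toSheaf R).obj (E.obj (op n))) i U)) :
    (∀ i : ℕ, 2 ≤ i →
      IsZero (((lim : (ℕᵒᵖ ⥤ SheafOfModules.{u} R) ⥤ SheafOfModules.{u} R).rightDerived i).obj E)) ∧
    ((∀ U ∈ B, (E ⋙ SheafOfModules.toSheaf R ⋙
        (sheafSections (Opens.grothendieckTopology X) AddCommGrpCat.{u}).obj (op U) ⋙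
          forget AddCommGrpCat.{u}).IsMittagLeffler) →
      ∀ i : ℕ, 1 ≤ i →
        IsZero (((lim : (ℕᵒᵖ ⥤ SheafOfModules.{u} R) ⥤ SheafOfModules.{u} R).rightDerived i).obj E)) := by
  have hE : ∀ n : ℕ, BAcyc R B (E.obj (op n)) := by
    intro n U hU i x
    haveI : Subsingleton (Ext.{u} (freeU U) ((toAb R).obj (E.obj (op n))) (i + 1)) :=
      ha U hU n (i + 1) (Nat.succ_le_succ (Nat.zero_le i))
    exact Subsingleton.elim _ _
  have hP : ∀ (j : ℕ) (E' : ℕᵒᵖ ⥤ SheafOfModules.{u} R),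
      (∀ n : ℕ, BAcyc R B (E'.obj (op n))) →
        IsZero (((P (SheafOfModules.{u} R)).rightDerived (j + 1)).obj E') :=
    isZero_rightDerived_P (fun E' => ∀ n : ℕ, BAcyc R B (E'.obj (op n)))
      (fun E' hE' => h𝒞 R B hB E' hE')
  have part1 : ∀ i : ℕ, 2 ≤ i → IsZero (((lim : (ℕᵒᵖ ⥤ SheafOfModules.{u} R) ⥤
      SheafOfModules.{u} R).rightDerived i).obj E) := by
    intro i hi
    obtain ⟨k, rfl⟩ := Nat.exists_eq_add_of_le' hi
    exact isZero_rlim_succ_succ E k (hP k E hE) (hP (k + 1) E hE)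
  refine ⟨part1, fun hml i hi => ?_⟩
  rcases Nat.lt_or_ge i 2 with h | h
  · have h1 : i = 1 := by omega
    subst h1
    haveI := epi_Dn_of_ml R B hB E hml
    exact isZero_rlim_one E (hP 0 E hE)
  · exact part1 i h

end Groth.Agent.Helper6.RLimSh
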