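import Mathlib
import Groth.Prelude.Def_SixF1
import Groth.Agent.Helper4.ModPullAR

set_option autoImplicit false
set_option linter.style.haveILetI false
set_option linter.unusedSectionVars false
set_option linter.unusedVariables false

/-!
# The composition morphism `R⁺H ⟶ R⁺F ⋙ R⁺G` is an isomorphism when `F` preserves injectives
-/

namespace Groth.Agent.Helper6.RPlusComp

open CategoryTheory CategoryTheory.Limits

universe v₁ v₂ v₃ u₁ u₂ u₃

variable {A : Type u₁} [Category.{v₁} A] [Abelian A] {B : Type u₂} [Category.{v₂} B] [Abelian B]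
  {C : Type u₃} [Category.{v₃} C] [Abelian C]

lemma isIso_mapHomotopyCategory {F G : A ⥤ B} [F.Additive] [G.Additive] (α : F ⟶ G) [IsIso α] :
    IsIso (NatTrans.mapHomotopyCategory α (ComplexShape.up ℤ)) :=
  ⟨⟨NatTrans.mapHomotopyCategory (inv α) (ComplexShape.up ℤ),
    by rw [← NatTrans.mapHomotopyCategory_comp, IsIso.hom_inv_id, NatTrans.mapHomotopyCategory_id],
    by rw [← NatTrans.mapHomotopyCategory_comp, IsIso.inv_hom_id, NatTrans.mapHomotopyCategory_id]⟩⟩

lemma isIso_plusNatTrans {F G : A ⥤ B} [F.Additive] [G.Additive] (α : F ⟶ G) [IsIso α] :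
    IsIso (EtSix.plusNatTrans α) := by
  haveI := isIso_mapHomotopyCategory α
  let hΦ := (HomotopyCategory.plus B).fullyFaithfulι.whiskeringRight (HomotopyCategory.Plus A)
  haveI : IsIso (((Functor.whiskeringRight (HomotopyCategory.Plus A) _ _).obj
      (HomotopyCategory.plus B).ι).map (EtSix.plusNatTrans α)) := by
    have h : ((Functor.whiskeringRight (HomotopyCategory.Plus A) _ _).obj
      (HomotopyCategory.plus B).ι).map (EtSix.plusNatTrans α) =
        Functor.whiskerLeft (HomotopyCategory.Plus.ι A)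
          (NatTrans.mapHomotopyCategory α (ComplexShape.up ℤ)) := hΦ.map_preimage _
    rw [h]
    exact (inferInstance : IsIso (Functor.isoWhiskerLeft (HomotopyCategory.Plus.ι A)
      (asIso (NatTrans.mapHomotopyCategory α (ComplexShape.up ℤ)))).hom)
  exact hΦ.isIso_of_isIso_map _

variable [HasDerivedCategory A] [HasDerivedCategory B] [HasDerivedCategory C]
  {F : A ⥤ B} {G : B ⥤ C} {H : A ⥤ C} [F.Additive] [G.Additive] [H.Additive]
  [EnoughInjectives A] [EnoughInjectives B]

instance injective_map_obj [F.PreservesInjectiveObjects] (X : HomotopyCategory.Plus A)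
    [∀ n : ℤ, Injective (X.obj.as.X n)] (n : ℤ) :
    Injective ((F.mapHomotopyCategoryPlus.obj X).obj.as.X n) :=
  inferInstanceAs (Injective (F.obj (X.obj.as.X n)))

lemma isIso_rPlusUnit₂_app [F.PreservesInjectiveObjects] (θ : H ⟶ F ⋙ G) [IsIso θ]
    (X : HomotopyCategory.Plus A) [∀ n : ℤ, Injective (X.obj.as.X n)] :
    IsIso ((EtSix.rPlusUnit₂ θ).app X) := by
  haveI := isIso_plusNatTrans θ
  haveI : IsIso (F.rightDerivedFunctorPlusUnit.app X) := inferInstance
  haveI : IsIso (G.rightDerivedFunctorPlusUnit.app (F.mapHomotopyCategoryPlus.obj X)) :=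
    inferInstance
  dsimp only [EtSix.rPlusUnit₂, NatTrans.comp_app, Functor.whiskerRight_app,
    Functor.whiskerLeft_app, Functor.associator_hom_app, Functor.associator_inv_app,
    Functor.comp_obj]
  infer_instance

theorem isIso_rPlusDesc₂ [F.PreservesInjectiveObjects] (θ : H ⟶ F ⋙ G) [IsIso θ] :
    IsIso (EtSix.rPlusDesc₂ θ) := by
  haveI : ∀ K, IsIso ((EtSix.rPlusDesc₂ θ).app K) := by
    intro K
    obtain ⟨Y, ⟨e⟩⟩ := Functor.EssSurj.mem_essImage
      (F := (InjectiveObject.ι A).mapHomotopyCategoryPlus ⋙ DerivedCategory.Plus.Qh) K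
    rw [← NatTrans.isIso_app_iff_of_iso (EtSix.rPlusDesc₂ θ) e]
    let X := (InjectiveObject.ι A).mapHomotopyCategoryPlus.obj Y
    have hfac : H.rightDerivedFunctorPlusUnit.app X ≫
        (EtSix.rPlusDesc₂ θ).app (DerivedCategory.Plus.Qh.obj X) = (EtSix.rPlusUnit₂ θ).app X :=
      Functor.rightDerived_fac_app _ _ _ _ _ _
    haveI : IsIso (H.rightDerivedFunctorPlusUnit.app X) := inferInstance
    haveI : IsIso ((EtSix.rPlusUnit₂ θ).app X) := isIso_rPlusUnit₂_app θ X
    exact IsIso.of_isIso_fac_left hfac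
  exact NatIso.isIso_of_isIso_app _

end Groth.Agent.Helper6.RPlusComp
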