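import Mathlib
import Groth.Prelude.Def_EtBase
import Groth.Prelude.Def_EtCore
import Groth.Agent.Helper9.EtPushInj
import Groth.Agent.Helper6.GalDescI
import Groth.Agent.Helper6.GalDescJ
import Groth.Agent.Helper6.TorsShift
import Groth.Agent.Helper6.PtTorsD
import Groth.Agent.Helper6.ConstUnitD

/-! `H^i(X, ℚ) = 0` for `i > 0` and `X` integral normal qcqs. -/

set_option autoImplicit false
set_option linter.style.haveILetI false
set_option linter.unusedSectionVars false
set_option linter.unusedVariables false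
set_option linter.unusedSimpArgs false

universe u

open CategoryTheory CategoryTheory.Limits Opposite AlgebraicGeometry Abelian

namespace Groth.Agent.Helper6.RatCohA

open Groth.Agent.Helper9

/-- multiplication by a positive integer is an isomorphism on the constant sheaf `ℚ` -/
theorem isIso_nsmul_const_rat (X : Scheme.{u}) {d : ℕ} (hd : 0 < d) :
    IsIso (d • 𝟙 (EtCoh.const X ℚ)) := by
  let N : AddCommGrpCat.{u + 1} := AddCommGrpCat.of (ULift.{u + 1} ℚ)
  let C := constantSheaf X.smallEtaleTopology AddCommGrpCat.{u + 1}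
  have hf : C.map (d • 𝟙 N) = d • 𝟙 (C.obj N) := by
    rw [Functor.map_nsmul, C.map_id]
  haveI : IsIso (d • 𝟙 N) := by
    rw [ConcreteCategory.isIso_iff_bijective]
    have hd' : (d : ℚ) ≠ 0 := by exact_mod_cast hd.ne'
    constructor
    · intro a b hab
      have h1 : d • a = d • b := by simpa using hab
      have h2 : d • a.down = d • b.down := congrArg ULift.down h1
      apply ULift.ext
      rw [nsmul_eq_mul, nsmul_eq_mul] at h2
      exact mul_left_cancel₀ hd' h2
    · intro b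
      refine ⟨⟨b.down / d⟩, ?_⟩
      have : d • (⟨b.down / d⟩ : ULift.{u + 1} ℚ) = b := by
        apply ULift.ext
        show d • (b.down / d) = b.down
        rw [nsmul_eq_mul]
        field_simp
      simpa using this
  show IsIso (d • 𝟙 (C.obj N))
  rw [← hf]
  infer_instance

/-- torsion classes in the cohomology of the constant sheaf `ℚ` vanish -/
theorem eq_zero_of_isOfFinAddOrder (X : Scheme.{u}) (q : ℕ) (ξ : EtCoh.H X (EtCoh.const X ℚ) q)
    (hξ : IsOfFinAddOrder ξ) : ξ = 0 := by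
  obtain ⟨d, hd, h0⟩ := isOfFinAddOrder_iff_nsmul_eq_zero.1 hξ
  haveI := isIso_nsmul_const_rat X hd
  have h1 : ξ.comp (Ext.mk₀ (d • 𝟙 (EtCoh.const X ℚ))) (add_zero _) = 0 := by
    rw [TorsShift.comp_mk₀_nsmul, Ext.comp_mk₀_id, h0]
  have h2 : (ξ.comp (Ext.mk₀ (d • 𝟙 (EtCoh.const X ℚ))) (add_zero _)).comp
      (Ext.mk₀ (inv (d • 𝟙 (EtCoh.const X ℚ)))) (add_zero _) = ξ := by
    rw [Ext.comp_assoc_of_third_deg_zero, Ext.mk₀_comp_mk₀, IsIso.hom_inv_id, Ext.comp_mk₀_id]
  rw [← h2, h1, Ext.zero_comp]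

/-- `H^{q+1}(X, ℚ) = 0` for `X` integral normal qcqs -/
theorem eq_zero_of_integral (X : Scheme.{u}) [IsIntegral X] [CompactSpace X]
    [QuasiSeparatedSpace X] (hN : ∀ x : X, IsIntegrallyClosed (X.presheaf.stalk x)) (q : ℕ)
    (ξ : EtCoh.H X (EtCoh.const X ℚ) (q + 1)) : ξ = 0 := by
  apply eq_zero_of_isOfFinAddOrder
  let j := X.fromSpecStalk (genericPoint X)
  have hiso : IsIso ((EtCoh.pullPushAdj j).unit.app (EtCoh.const X ℚ)) := by
    refine ConstUnitD.isIso_unit_point j (AddCommGrpCat.of (ULift.{u + 1} ℚ)) hN ?_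
    rw [Scheme.range_fromSpecStalk]
    ext y
    simp only [Set.mem_ofPred_eq, Set.mem_singleton_iff]
    constructor
    · intro h
      exact (h.antisymm ((genericPoint_spec X).specializes trivial)).eq
    · rintro rfl
      exact specializes_rfl
  let e : EtCoh.const X ℚ ≅ (EtCoh.push j).obj ((EtCoh.pull j).obj (EtCoh.const X ℚ)) :=
    asIso ((EtCoh.pullPushAdj j).unit.app (EtCoh.const X ℚ))
  have h1 : IsOfFinAddOrder (ξ.comp (Ext.mk₀ e.hom) (add_zero _)) :=
    @PtTorsD.isOfFinAddOrder_H_push (X.functionField) inferInstance X _ _ j inferInstance q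
      ((EtCoh.pull j).obj (EtCoh.const X ℚ)) _
  obtain ⟨d, hd, h0⟩ := isOfFinAddOrder_iff_nsmul_eq_zero.1 h1
  refine isOfFinAddOrder_iff_nsmul_eq_zero.2 ⟨d, hd, ?_⟩
  have h2 : (ξ.comp (Ext.mk₀ e.hom) (add_zero _)).comp (Ext.mk₀ e.inv) (add_zero _) = ξ := by
    rw [Ext.comp_assoc_of_third_deg_zero, Ext.mk₀_comp_mk₀, Iso.hom_inv_id, Ext.comp_mk₀_id]
  rw [← h2, ← GalDescI.nsmul_comp, h0, Ext.zero_comp]

end Groth.Agent.Helper6.RatCohA
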