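import Mathlib
import Groth.Prelude.Def_EtBase
import Groth.Prelude.Def_EtCore
import Groth.Prelude.Def_EtShriek2
import Groth.Agent.Helper5.SmNorm6
import Groth.Agent.Helper9.EtShriekOpen
import Groth.Agent.Helper6.DisjCohA
import Groth.Agent.Helper6.RatCohA
import Groth.Agent.Helper6.RatCohB

/-! `H^i(X, ℚ) = 0` for `i > 0` and `X` normal Noetherian. -/

set_option autoImplicit false
set_option linter.style.haveILetI false
set_option linter.unusedSectionVars false
set_option linter.unusedVariables false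
set_option linter.unusedSimpArgs false

universe u

open CategoryTheory CategoryTheory.Limits Opposite AlgebraicGeometry Abelian TopologicalSpace

namespace Groth.Agent.Helper6.RatCohC

open Groth.Agent.Helper9 Groth.Agent.Helper5

/-- vanishing of a restricted class from vanishing of the cohomology of the piece -/
theorem restr_eq_zero {X U : Scheme.{u}} (j : U ⟶ X) [Etale j] (M : Type) [AddCommGroup M]
    (n : ℕ) (hU : ∀ β : EtCoh.H U (EtCoh.const U M) n, β = 0)
    (α : EtCoh.H X (EtCoh.const X M) n) :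
    (α.mapExactFunctor (EtShriek.restrAlong j) : Ext.{u + 1} _ _ n) = 0 := by
  let a : EtCoh.const U ℤ ≅ (EtShriek.restrAlong j).obj (EtCoh.const X ℤ) :=
    (EtCore.pullConst j ℤ).symm ≪≫ (EtShriekOpen.pullIsoRestr j).app _
  let b : (EtShriek.restrAlong j).obj (EtCoh.const X M) ≅ EtCoh.const U M :=
    ((EtShriekOpen.pullIsoRestr j).app _).symm ≪≫ EtCore.pullConst j M
  set ρα : Ext.{u + 1} ((EtShriek.restrAlong j).obj (EtCoh.const X ℤ))
    ((EtShriek.restrAlong j).obj (EtCoh.const X M)) n := α.mapExactFunctor (EtShriek.restrAlong j)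
  have hβ : ((Ext.mk₀ a.hom).comp ρα (zero_add n)).comp (Ext.mk₀ b.hom) (add_zero n) = 0 := hU _
  have h1 : ρα = (Ext.mk₀ a.inv).comp
      ((((Ext.mk₀ a.hom).comp ρα (zero_add n)).comp (Ext.mk₀ b.hom) (add_zero n)).comp
        (Ext.mk₀ b.inv) (add_zero n)) (zero_add n) := by
    rw [Ext.comp_assoc_of_third_deg_zero, Ext.mk₀_comp_mk₀, Iso.hom_inv_id, Ext.comp_mk₀_id,
      ← Ext.comp_assoc_of_second_deg_zero, Ext.mk₀_comp_mk₀, Iso.inv_hom_id, Ext.mk₀_id_comp]
  rw [h1, hβ, Ext.zero_comp, Ext.comp_zero]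

theorem main (X : Scheme.{u}) [IsLocallyNoetherian X] [CompactSpace X]
    (hN : ∀ x : X, IsDomain (X.presheaf.stalk x) ∧ IsIntegrallyClosed (X.presheaf.stalk x))
    (q : ℕ) (α : EtCoh.H X (EtCoh.const X ℚ) (q + 1)) : α = 0 := by
  let μ : Type u := {W : X.Opens // IsClosed (W : Set X) ∧ IsIrreducible (W : Set X)}
  refine DisjCohA.eq_zero_of_restr_eq_zero (fun W : μ => (W.1 : Scheme.{u})) (fun W => W.1.ι)
    (fun W => inferInstance) ?_ ?_ q _ α ?_
  · intro x
    obtain ⟨W, hx, hcl, hirr⟩ := RatCohB.exists_clopen_irreducible X (fun x => (hN x).1) x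
    exact ⟨⟨W, hcl, hirr⟩, ⟨x, hx⟩, rfl⟩
  · intro a b hab za zb h
    apply hab
    have h1 : ((a.1 : Set X) ∩ (b.1 : Set X)).Nonempty :=
      ⟨a.1.ι za, za.2, by rw [h]; exact zb.2⟩
    have h2 := RatCohB.eq_of_clopen_irreducible ⟨a.2.1, a.1.2⟩ ⟨b.2.1, b.1.2⟩ a.2.2 b.2.2 h1
    exact Subtype.ext (Opens.ext h2)
  · intro W
    apply restr_eq_zero
    have hn : ∀ y : (W.1 : Scheme.{u}), IsDomain ((W.1 : Scheme.{u}).presheaf.stalk y) ∧
        IsIntegrallyClosed ((W.1 : Scheme.{u}).presheaf.stalk y) := fun y =>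
      SmNorm.stalk_normal_of_smooth W.1.ι y (hN _)
    haveI : IsReduced (W.1 : Scheme.{u}) := by
      haveI : ∀ y : (W.1 : Scheme.{u}), _root_.IsReduced ((W.1 : Scheme.{u}).presheaf.stalk y) :=
        fun y => by
          haveI := (hn y).1; infer_instance
      exact isReduced_of_isReduced_stalk _
    haveI : IrreducibleSpace ↥(W.1 : Scheme.{u}) := Subtype.irreducibleSpace W.2.2
    haveI : IsIntegral (W.1 : Scheme.{u}) := isIntegral_of_irreducibleSpace_of_isReduced _
    haveI : CompactSpace ↥(W.1 : Scheme.{u}) := isCompact_iff_compactSpace.1 W.2.1.isCompact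
    haveI : IsLocallyNoetherian (W.1 : Scheme.{u}) := inferInstance
    exact RatCohA.eq_zero_of_integral _ (fun y => (hn y).2) q

end Groth.Agent.Helper6.RatCohC
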