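import Groth.Agent.Helper6.FppfSD3
import Groth.Agent.Helper5.NoethDesc
import Groth.Agent.Helper2.SmoothStalk
import Groth.Agent.Helper2.RegDescent
import Mathlib

/-!
# Helper6: "locally Noetherian with regular local rings" descends along fppf surjections
(schemes and algebraic spaces)
-/

set_option autoImplicit false
universe u
open CategoryTheory CategoryTheory.Limits AlgebraicGeometry Opposite

namespace Groth.Agent.Helper6.RegFppf

/-- locally Noetherian with regular local rings -/
def Preg (U : Scheme.{u}) : Prop :=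
  IsLocallyNoetherian U ∧ ∀ u : ↥U, IsRegularLocalRing ↥(U.presheaf.stalk u)

theorem preg_of_etale {W U : Scheme.{u}} (g : W ⟶ U) [Etale g] (hU : Preg U) : Preg W := by
  obtain ⟨hU₁, hU₂⟩ := hU
  haveI := hU₁
  haveI : IsLocallyNoetherian W := LocallyOfFiniteType.isLocallyNoetherian g
  refine ⟨inferInstance, fun w => ?_⟩
  have hx : ∃ O : W.Opens, w ∈ O ∧ Smooth (O.ι ≫ g) := ⟨⊤, trivial, inferInstance⟩
  exact (Groth.Agent.Helper2.SmoothStalk.s4991 g w hx).2 (hU₂ _)

theorem regular_of_flat_point {A V : Scheme.{u}} (e : A ⟶ V) [Flat e] [IsLocallyNoetherian V]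
    (a : A) (ha : IsRegularLocalRing ↥(A.presheaf.stalk a)) :
    IsRegularLocalRing ↥(V.presheaf.stalk (e a)) := by
  letI : Algebra (V.presheaf.stalk (e a)) (A.presheaf.stalk a) := (e.stalkMap a).hom.toAlgebra
  haveI : IsLocalHom (algebraMap (V.presheaf.stalk (e a)) (A.presheaf.stalk a)) := by
    show IsLocalHom (e.stalkMap a).hom
    infer_instance
  haveI : Module.Flat (V.presheaf.stalk (e a)) (A.presheaf.stalk a) := Flat.stalkMap e a
  exact Groth.Agent.Helper2.RegDescent.isRegularLocalRing_of_flat (V.presheaf.stalk (e a))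
    (A.presheaf.stalk a)

set_option backward.isDefEq.respectTransparency.types false in
theorem preg_of_family {V : Scheme.{u}}
    (H : ∀ v : V, ∃ (A : Scheme.{u}) (e : A ⟶ V) (a : A), Flat e ∧
      LocallyOfFinitePresentation e ∧ e a = v ∧ Preg A) : Preg V := by
  choose A e a he hefp hea hA using H
  haveI : ∀ v, Flat (e v) := he
  haveI : ∀ v, LocallyOfFinitePresentation (e v) := hefp
  haveI : Flat (Sigma.desc e) :=
    IsZariskiLocalAtSource.sigmaDesc (P := @Flat) (fun u => inferInstance)
  haveI : LocallyOfFinitePresentation (Sigma.desc e) :=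
    IsZariskiLocalAtSource.sigmaDesc (P := @LocallyOfFinitePresentation) (fun u => inferInstance)
  haveI : Surjective (Sigma.desc e) := by
    refine ⟨fun u => ⟨(Sigma.ι A u) (a u), ?_⟩⟩
    rw [← Scheme.Hom.comp_apply, Sigma.ι_desc]
    exact hea u
  haveI : IsLocallyNoetherian (∐ A) := by
    rw [isLocallyNoetherian_iff_openCover (sigmaOpenCover A)]
    intro x
    exact (hA x).1
  haveI : IsLocallyNoetherian V :=
    Groth.Agent.Helper5.NoethDesc.isLocallyNoetherian_of_flat_lfp_surjective (Sigma.desc e)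
  refine ⟨inferInstance, fun v => ?_⟩
  have h1 := regular_of_flat_point (e v) (a v) ((hA v).2 (a v))
  rw [hea v] at h1
  exact h1

theorem preg_of_flat_lfp_surjective {W V : Scheme.{u}} (g : W ⟶ V) [Flat g]
    [LocallyOfFinitePresentation g] [Surjective g] (hW : Preg W) : Preg V := by
  apply preg_of_family
  intro v
  obtain ⟨w, rfl⟩ := g.surjective v
  exact ⟨W, g, w, inferInstance, inferInstance, rfl, hW⟩

open AlgSp Groth.Agent.Helper6.FppfSD3

variable {S : Scheme.{u}}

set_option backward.isDefEq.respectTransparency.types false in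
/-- S10563 -/
theorem etaleLocally_regular_of_fppf_surjective {X Y : Sp S} (hX : IsAlgSpace X)
    (hY : IsAlgSpace Y) (f : X ⟶ Y)
    (hfp : LocP @LocallyOfFinitePresentation f) (hfl : LocP @Flat f) (hs : IsSurjectiveMor f)
    (hXr : EtaleLocally (fun U => IsLocallyNoetherian U ∧
      ∀ u : ↥U, IsRegularLocalRing ↥(U.presheaf.stalk u)) X) :
    EtaleLocally (fun U => IsLocallyNoetherian U ∧
      ∀ u : ↥U, IsRegularLocalRing ↥(U.presheaf.stalk u)) Y := by
  obtain ⟨U, p, hpe, hps, hU⟩ := hXr
  obtain ⟨V, b, hbe, hbs⟩ := hY.atlas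
  refine ⟨V, b, hbe, hbs, ?_⟩
  show Preg V.left
  apply preg_of_family
  intro v
  obtain ⟨x, hx⟩ := hs (Points.map b (Points.schemeHomeo V v))
  obtain ⟨A, c, l, a, hcf, hcfp, hca, hl, hle⟩ := exists_fppf_chart hY hX f hfl hfp V b v x hx
  refine ⟨A.left, c.left, a, hcf, hcfp, hca, ?_⟩
  have hlé : RepWith @Etale l := hle hbe
  -- pull back the regular chart of `X` along `l`
  have hr := hpe.rep
  have hpb : IsPullback (hr.fst l) ((yon S).map (hr.snd l)) p l := hr.isPullback l
  obtain ⟨r, hrr⟩ := (yon S).map_surjective (hr.fst l)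
  rw [← hrr] at hpb
  have hee : Etale (hr.snd l).left := hpe.property _ _ _ hpb
  have hes : Surjective (hr.snd l).left := hps.property _ _ _ hpb
  generalize hr.snd l = e at hpb hee hes
  have hre : Etale r.left := hlé.property _ _ _ hpb.flip
  have hE : Preg (hr.pullback l).left := preg_of_etale r.left hU
  exact preg_of_flat_lfp_surjective e.left hE

end Groth.Agent.Helper6.RegFppf
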