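import Mathlib
import Groth.Prelude.Def_Wider
import Groth.Prelude.Def_DRing2
import Groth.Agent.Helper6.RegGap
import Groth.Agent.Helper6.DFinExt

/-!
# A perfect complex over a regular ring splits across a cohomological gap of length `≥ d - 1`
-/

set_option autoImplicit false
universe u

open CategoryTheory Limits Pretriangulated DerivedCategory Abelian
attribute [local instance] HasDerivedCategory.standard

namespace Groth.Agent.Helper6.RegSplit

/-- the canonical t-structure -/
noncomputable abbrev tS (R : Type u) [CommRing R] : Triangulated.TStructure (Dual.D R) :=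
  DerivedCategory.TStructure.t

variable {R : Type u} [CommRing R]

lemma isIso_of_isZero {C : Type*} [Category C] [HasZeroMorphisms C] {X Y : C} (f : X ⟶ Y)
    (hX : IsZero X) (hY : IsZero Y) : IsIso f :=
  ⟨0, hX.eq_of_src _ _, hY.eq_of_src _ _⟩

/-- cohomology of `τ_{≥ a} K` in degrees `≥ a` -/
lemma isIso_HD_π (K : Dual.D R) (a n : ℤ) (hn : a ≤ n) :
    IsIso ((homologyFunctor (ModuleCat.{u} R) n).map (((tS R).truncGEπ a).app K)) := by
  have hT := (tS R).triangleLTGE_distinguished a K
  haveI : (((tS R).triangleLTGE a).obj K).obj₁.IsLE (a - 1) := inferInstance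
  exact Groth.Agent.Helper3.DRingLib.isIso_HD_mor₂ _ hT (a - 1) n (by omega)

lemma isZero_HD_truncGE (K : Dual.D R) (a n : ℤ) (hn : n < a) :
    IsZero ((homologyFunctor (ModuleCat.{u} R) n).obj (((tS R).truncGE a).obj K)) :=
  (((tS R).truncGE a).obj K).isZero_of_isGE a n hn

lemma isZero_HD_truncGE_of_gap (K : Dual.D R) (a n : ℤ)
    (hK : a ≤ n → Subsingleton (Dual.HD R K n)) (hn' : n < a ∨ Subsingleton (Dual.HD R K n)) :
    IsZero ((homologyFunctor (ModuleCat.{u} R) n).obj (((tS R).truncGE a).obj K)) := by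
  by_cases hn : n < a
  · exact isZero_HD_truncGE K a n hn
  · have hiso := isIso_HD_π K a n (by omega)
    have := hK (by omega)
    have hz : IsZero ((homologyFunctor (ModuleCat.{u} R) n).obj K) :=
      ModuleCat.isZero_of_subsingleton _
    exact hz.of_iso (@asIso _ _ _ _ _ hiso).symm

/-- the comparison `τ_{≥ a} K ⟶ τ_{≥ b} K` is an isomorphism if `K` has no cohomology in `[a, b)` -/
lemma isIso_natTransTruncGEOfLE (K : Dual.D R) (a b : ℤ) (h : a ≤ b)
    (hgap : ∀ i : ℤ, a ≤ i → i < b → Subsingleton (Dual.HD R K i)) :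
    IsIso (((tS R).natTransTruncGEOfLE a b h).app K) := by
  rw [DerivedCategory.isIso_iff]
  intro n
  by_cases hn : b ≤ n
  · have h1 := isIso_HD_π K a n (by omega)
    have h2 := isIso_HD_π K b n hn
    have h3 : (homologyFunctor (ModuleCat.{u} R) n).map (((tS R).truncGEπ a).app K) ≫
        (homologyFunctor (ModuleCat.{u} R) n).map (((tS R).natTransTruncGEOfLE a b h).app K) =
        (homologyFunctor (ModuleCat.{u} R) n).map (((tS R).truncGEπ b).app K) := by
      rw [← Functor.map_comp, (tS R).π_natTransTruncGEOfLE_app a b h K]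
    rw [← h3] at h2
    exact @IsIso.of_isIso_comp_left _ _ _ _ _
      ((homologyFunctor (ModuleCat.{u} R) n).map (((tS R).truncGEπ a).app K)) _ h1 h2
  · apply isIso_of_isZero
    · by_cases hna : n < a
      · exact isZero_HD_truncGE K a n hna
      · have hiso := isIso_HD_π K a n (by omega)
        have := hgap n (by omega) (by omega)
        have hz : IsZero ((homologyFunctor (ModuleCat.{u} R) n).obj K) :=
          ModuleCat.isZero_of_subsingleton _
        exact hz.of_iso (@asIso _ _ _ _ _ hiso).symm
    · exact isZero_HD_truncGE K b n (by omega)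


theorem main [IsNoetherianRing R]
    (hreg : ∀ p : PrimeSpectrum R, IsRegularLocalRing (Localization.AtPrime p.asIdeal)) (d : ℕ)
    (hd1 : 1 ≤ d) (hd : ringKrullDim R = d) (K : Dual.D R) (hK : DRing.IsPerfect R K) (k : ℤ)
    (hgap : ∀ i : ℤ, k - d + 2 ≤ i → i ≤ k → Subsingleton (Dual.HD R K i))
    [HasBinaryBiproduct (((tS R).truncLT (k - d + 2)).obj K) (((tS R).truncGE (k + 1)).obj K)] :
    ∃ e : K ≅ ((tS R).truncLT (k - d + 2)).obj K ⊞ ((tS R).truncGE (k + 1)).obj K,
      ((tS R).truncLTι (k - d + 2)).app K ≫ e.hom = biprod.inl ∧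
        e.hom ≫ biprod.snd = ((tS R).truncGEπ (k + 1)).app K := by
  set a : ℤ := k - d + 2 with ha
  set b : ℤ := k + 1 with hb
  have hab : a ≤ b := by omega
  -- boundedness above of `K`
  obtain ⟨E, a', b', hv, -, ⟨eE⟩⟩ := hK
  have hKb : ∀ i : ℤ, b' < i → Subsingleton (Dual.HD R K i) := by
    intro i hi
    have h1 := DFinExt.subsingleton_HD_toD E i (hv i (Or.inr hi))
    have hz : IsZero ((homologyFunctor (ModuleCat.{u} R) i).obj (DRing.toD E)) :=
      ModuleCat.isZero_of_subsingleton _
    exact ModuleCat.subsingleton_of_isZero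
      (hz.of_iso ((homologyFunctor (ModuleCat.{u} R) i).mapIso eE.symm))
  -- the triangle
  have hT := (tS R).triangleLTGE_distinguished a K
  -- the connecting morphism vanishes
  have hδ : (((tS R).triangleLTGE a).obj K).mor₃ = 0 := by
    have hs : Subsingleton (((tS R).truncGE a).obj K ⟶ (((tS R).truncLT a).obj K)⟦(1 : ℤ)⟧) := by
      refine RegGap.main R hreg d hd _ _ ⟨b', ?_⟩ k ?_ ?_
      · intro i hi
        by_cases hia : i < a
        · exact ModuleCat.subsingleton_of_isZero (isZero_HD_truncGE K a i hia)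
        · have hiso := isIso_HD_π K a i (by omega)
          have := hKb i hi
          have hz : IsZero ((homologyFunctor (ModuleCat.{u} R) i).obj K) :=
            ModuleCat.isZero_of_subsingleton _
          exact ModuleCat.subsingleton_of_isZero (hz.of_iso (@asIso _ _ _ _ _ hiso).symm)
      · intro i hi
        by_cases hia : i < a
        · exact ModuleCat.subsingleton_of_isZero (isZero_HD_truncGE K a i hia)
        · have hiso := isIso_HD_π K a i (by omega)
          have := hgap i (by omega) hi
          have hz : IsZero ((homologyFunctor (ModuleCat.{u} R) i).obj K) :=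
            ModuleCat.isZero_of_subsingleton _
          exact ModuleCat.subsingleton_of_isZero (hz.of_iso (@asIso _ _ _ _ _ hiso).symm)
      · intro i hi
        haveI : (((tS R).truncLT a).obj K).IsLE (a - 1) := inferInstance
        haveI : ((((tS R).truncLT a).obj K)⟦(1 : ℤ)⟧).IsLE (a - 2) :=
          (tS R).isLE_shift _ (a - 1) 1 (a - 2) (by omega)
        exact ModuleCat.subsingleton_of_isZero
          (((((tS R).truncLT a).obj K)⟦(1 : ℤ)⟧).isZero_of_isLE (a - 2) i (by omega))
    exact @Subsingleton.elim _ hs _ _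
  obtain ⟨e₁, he₁, he₂⟩ : ∃ (e : K ≅ ((tS R).truncLT a).obj K ⊞ ((tS R).truncGE a).obj K),
      ((tS R).truncLTι a).app K ≫ e.hom = biprod.inl ∧
        ((tS R).truncGEπ a).app K = e.hom ≫ biprod.snd :=
    exists_iso_binaryBiproduct_of_distTriang _ hT hδ
  haveI hψ : IsIso (((tS R).natTransTruncGEOfLE a b hab).app K) :=
    isIso_natTransTruncGEOfLE K a b hab (fun i h1 h2 => hgap i h1 (by omega))
  let ψ : ((tS R).truncGE a).obj K ≅ ((tS R).truncGE b).obj K :=
    asIso (((tS R).natTransTruncGEOfLE a b hab).app K)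
  refine ⟨e₁ ≪≫ biprod.mapIso (Iso.refl _) ψ, ?_, ?_⟩
  · have h1 : ((tS R).truncLTι a).app K ≫ e₁.hom = biprod.inl := he₁
    simp only [Iso.trans_hom, biprod.mapIso_hom, Iso.refl_hom]
    rw [← Category.assoc, h1, biprod.inl_map, Category.id_comp]
  · have h2 : ((tS R).truncGEπ a).app K = e₁.hom ≫ biprod.snd := he₂
    simp only [Iso.trans_hom, biprod.mapIso_hom, Iso.refl_hom, Category.assoc]
    rw [biprod.map_snd, ← Category.assoc, ← h2]
    exact (tS R).π_natTransTruncGEOfLE_app a b hab K

end Groth.Agent.Helper6.RegSplit
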