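import Mathlib
import Groth.Agent.Helper1.FunLES

set_option autoImplicit false
set_option linter.style.haveILetI false
set_option linter.unusedSectionVars false
set_option linter.unusedVariables false

/-!
# Mayer–Vietoris long exact sequence for right derived functors

Given additive functors `F, G₁, G₂, H : A ⥤ B` and natural transformations
`a₁ : F ⟶ G₁`, `a₂ : F ⟶ G₂`, `b₁ : G₁ ⟶ H`, `b₂ : G₂ ⟶ H` with `a₁ ≫ b₁ = a₂ ≫ b₂` such that
`0 → F I → G₁ I ⊞ G₂ I → H I → 0` is short exact for every injective `I`, we get the long exact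
Mayer–Vietoris sequence of right derived functors.
-/

namespace Groth.Agent.Helper6.RelMVA
open CategoryTheory Limits
open Groth.Agent.Helper1

universe v u v' u'
variable {A : Type u} [Category.{v} A] [Abelian A] {B : Type u'} [Category.{v'} B] [Abelian B]

section additivity
variable [HasInjectiveResolutions A]
variable {F G : A ⥤ B} [F.Additive] [G.Additive]

lemma rightDerived_add (a b : F ⟶ G) (n : ℕ) :
    NatTrans.rightDerived (a + b) n = NatTrans.rightDerived a n + NatTrans.rightDerived b n := by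
  ext X
  let I := injectiveResolution X
  rw [NatTrans.app_add, I.rightDerived_app_eq (a + b) n, I.rightDerived_app_eq a n,
    I.rightDerived_app_eq b n]
  have : (NatTrans.mapHomologicalComplex (a + b) (ComplexShape.up ℕ)).app I.cocomplex =
      (NatTrans.mapHomologicalComplex a (ComplexShape.up ℕ)).app I.cocomplex +
      (NatTrans.mapHomologicalComplex b (ComplexShape.up ℕ)).app I.cocomplex := by
    ext i
    rfl
  rw [this, Functor.map_add, Preadditive.add_comp, Preadditive.comp_add]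

lemma rightDerived_zero (n : ℕ) :
    NatTrans.rightDerived (0 : F ⟶ G) n = 0 := by
  have := rightDerived_add (0 : F ⟶ G) 0 n
  rw [add_zero] at this
  exact left_eq_add.mp this |>.symm ▸ rfl

lemma rightDerived_neg (a : F ⟶ G) (n : ℕ) :
    NatTrans.rightDerived (-a) n = - NatTrans.rightDerived a n := by
  rw [eq_neg_iff_add_eq_zero, ← rightDerived_add, neg_add_cancel, rightDerived_zero]

lemma rd_comp {F₁ F₂ F₃ : A ⥤ B} [F₁.Additive] [F₂.Additive] [F₃.Additive] (a : F₁ ⟶ F₂)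
    (b : F₂ ⟶ F₃) (c : F₁ ⟶ F₃) (hc : a ≫ b = c) (n : ℕ) (X : A) :
    (NatTrans.rightDerived a n).app X ≫ (NatTrans.rightDerived b n).app X =
      (NatTrans.rightDerived c n).app X := by
  rw [← NatTrans.comp_app, ← NatTrans.rightDerived_comp, hc]

end additivity

section sum
variable (G₁ G₂ : A ⥤ B)

/-- pointwise direct sum of two functors -/
noncomputable def G : A ⥤ B where
  obj X := G₁.obj X ⊞ G₂.obj X
  map f := biprod.map (G₁.map f) (G₂.map f)
  map_id X := by ext <;> simp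
  map_comp f g := by ext <;> simp

instance [G₁.Additive] [G₂.Additive] : (G G₁ G₂).Additive where
  map_add {X Y f g} := by
    show biprod.map (G₁.map (f + g)) (G₂.map (f + g)) =
      biprod.map (G₁.map f) (G₂.map f) + biprod.map (G₁.map g) (G₂.map g)
    rw [Functor.map_add, Functor.map_add]
    simp only [biprod.map_eq, Preadditive.add_comp, Preadditive.comp_add]
    abel

noncomputable def p₁ : G G₁ G₂ ⟶ G₁ where
  app X := biprod.fst
  naturality X Y f := by simp [G]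

noncomputable def p₂ : G G₁ G₂ ⟶ G₂ where
  app X := biprod.snd
  naturality X Y f := by simp [G]

noncomputable def i₁ : G₁ ⟶ G G₁ G₂ where
  app X := biprod.inl
  naturality X Y f := by simp [G]

noncomputable def i₂ : G₂ ⟶ G G₁ G₂ where
  app X := biprod.inr
  naturality X Y f := by simp [G]

lemma i₁_p₁ : i₁ G₁ G₂ ≫ p₁ G₁ G₂ = 𝟙 _ := by ext X; exact biprod.inl_fst
lemma i₁_p₂ : i₁ G₁ G₂ ≫ p₂ G₁ G₂ = 0 := by ext X; exact biprod.inl_snd
lemma i₂_p₁ : i₂ G₁ G₂ ≫ p₁ G₁ G₂ = 0 := by ext X; exact biprod.inr_fst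
lemma i₂_p₂ : i₂ G₁ G₂ ≫ p₂ G₁ G₂ = 𝟙 _ := by ext X; exact biprod.inr_snd
lemma p_i : p₁ G₁ G₂ ≫ i₁ G₁ G₂ + p₂ G₁ G₂ ≫ i₂ G₁ G₂ = 𝟙 _ := by
  ext X
  exact biprod.total

variable {G₁ G₂}
variable {F H : A ⥤ B} (a₁ : F ⟶ G₁) (a₂ : F ⟶ G₂) (b₁ : G₁ ⟶ H) (b₂ : G₂ ⟶ H)

noncomputable def α : F ⟶ G G₁ G₂ where
  app X := biprod.lift (a₁.app X) (a₂.app X)
  naturality X Y f := by
    dsimp [G]
    ext <;> simp

noncomputable def β : G G₁ G₂ ⟶ H where
  app X := biprod.desc (b₁.app X) (-(b₂.app X))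
  naturality X Y f := by
    dsimp [G]
    ext <;> simp

lemma α_p₁ : α a₁ a₂ ≫ p₁ G₁ G₂ = a₁ := by ext X; exact biprod.lift_fst _ _
lemma α_p₂ : α a₁ a₂ ≫ p₂ G₁ G₂ = a₂ := by ext X; exact biprod.lift_snd _ _
lemma i₁_β : i₁ G₁ G₂ ≫ β b₁ b₂ = b₁ := by ext X; exact biprod.inl_desc _ _
lemma i₂_β : i₂ G₁ G₂ ≫ β b₁ b₂ = -b₂ := by ext X; exact biprod.inr_desc _ _

lemma α_β (comm : a₁ ≫ b₁ = a₂ ≫ b₂) : α a₁ a₂ ≫ β b₁ b₂ = 0 := by
  ext X
  have := NatTrans.congr_app comm X
  simp only [NatTrans.comp_app] at this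
  show biprod.lift (a₁.app X) (a₂.app X) ≫ biprod.desc (b₁.app X) (-(b₂.app X)) = 0
  rw [biprod.lift_desc, Preadditive.comp_neg, this, add_neg_cancel]

variable [HasInjectiveResolutions A] [F.Additive] [G₁.Additive] [G₂.Additive] [H.Additive]

variable (G₁ G₂) in
/-- `Rⁿ(G₁ ⊞ G₂) ≅ RⁿG₁ ⊞ RⁿG₂` -/
noncomputable def eIso (X : A) (n : ℕ) :
    ((G G₁ G₂).rightDerived n).obj X ≅ (G₁.rightDerived n).obj X ⊞ (G₂.rightDerived n).obj X where
  hom := biprod.lift ((NatTrans.rightDerived (p₁ G₁ G₂) n).app X)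
    ((NatTrans.rightDerived (p₂ G₁ G₂) n).app X)
  inv := biprod.desc ((NatTrans.rightDerived (i₁ G₁ G₂) n).app X)
    ((NatTrans.rightDerived (i₂ G₁ G₂) n).app X)
  hom_inv_id := by
    rw [biprod.lift_desc, rd_comp _ _ _ rfl, rd_comp _ _ _ rfl, ← NatTrans.app_add,
      ← rightDerived_add, p_i, NatTrans.rightDerived_id]
    rfl
  inv_hom_id := by
    refine biprod.hom_ext' _ _ ?_ ?_
    · rw [biprod.inl_desc_assoc, Category.comp_id]
      refine biprod.hom_ext _ _ ?_ ?_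
      · rw [Category.assoc, biprod.lift_fst, biprod.inl_fst, rd_comp _ _ _ (i₁_p₁ G₁ G₂),
          NatTrans.rightDerived_id]
        rfl
      · rw [Category.assoc, biprod.lift_snd, biprod.inl_snd, rd_comp _ _ _ (i₁_p₂ G₁ G₂),
          rightDerived_zero]
        rfl
    · rw [biprod.inr_desc_assoc, Category.comp_id]
      refine biprod.hom_ext _ _ ?_ ?_
      · rw [Category.assoc, biprod.lift_fst, biprod.inr_fst, rd_comp _ _ _ (i₂_p₁ G₁ G₂),
          rightDerived_zero]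
        rfl
      · rw [Category.assoc, biprod.lift_snd, biprod.inr_snd, rd_comp _ _ _ (i₂_p₂ G₁ G₂),
          NatTrans.rightDerived_id]
        rfl

lemma eIso_hom (X : A) (n : ℕ) : (eIso G₁ G₂ X n).hom =
    biprod.lift ((NatTrans.rightDerived (p₁ G₁ G₂) n).app X)
      ((NatTrans.rightDerived (p₂ G₁ G₂) n).app X) := rfl

lemma eIso_inv (X : A) (n : ℕ) : (eIso G₁ G₂ X n).inv =
    biprod.desc ((NatTrans.rightDerived (i₁ G₁ G₂) n).app X)
      ((NatTrans.rightDerived (i₂ G₁ G₂) n).app X) := rfl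

lemma α_eIso (X : A) (n : ℕ) :
    (NatTrans.rightDerived (α a₁ a₂) n).app X ≫ (eIso G₁ G₂ X n).hom =
      biprod.lift ((NatTrans.rightDerived a₁ n).app X) ((NatTrans.rightDerived a₂ n).app X) := by
  refine biprod.hom_ext _ _ ?_ ?_
  · rw [eIso_hom, Category.assoc, biprod.lift_fst, biprod.lift_fst, rd_comp _ _ _ (α_p₁ a₁ a₂)]
  · rw [eIso_hom, Category.assoc, biprod.lift_snd, biprod.lift_snd, rd_comp _ _ _ (α_p₂ a₁ a₂)]

lemma eIso_β (X : A) (n : ℕ) :
    (eIso G₁ G₂ X n).inv ≫ (NatTrans.rightDerived (β b₁ b₂) n).app X =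
      biprod.desc ((NatTrans.rightDerived b₁ n).app X) (-((NatTrans.rightDerived b₂ n).app X)) := by
  refine biprod.hom_ext' _ _ ?_ ?_
  · rw [eIso_inv, biprod.inl_desc_assoc, biprod.inl_desc, rd_comp _ _ _ (i₁_β b₁ b₂)]
  · rw [eIso_inv, biprod.inr_desc_assoc, biprod.inr_desc, rd_comp _ _ _ (i₂_β b₁ b₂),
      rightDerived_neg]
    rfl

/-- **Mayer–Vietoris for right derived functors.** -/
theorem mv (comm : a₁ ≫ b₁ = a₂ ≫ b₂)
    (h : ∀ (I : A) [Injective I],
      (FunLES.sc (α a₁ a₂) (β b₁ b₂) (α_β a₁ a₂ b₁ b₂ comm) I).ShortExact)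
    (X : A) :
    ∃ δ : ∀ n : ℕ, (H.rightDerived n).obj X ⟶ (F.rightDerived (n + 1)).obj X,
      Mono (biprod.lift ((NatTrans.rightDerived a₁ 0).app X)
        ((NatTrans.rightDerived a₂ 0).app X)) ∧
      ∀ n : ℕ,
        (ComposableArrows.mk₂
          (biprod.lift ((NatTrans.rightDerived a₁ n).app X) ((NatTrans.rightDerived a₂ n).app X))
          (biprod.desc ((NatTrans.rightDerived b₁ n).app X)
            (-((NatTrans.rightDerived b₂ n).app X)))).Exact ∧
        (ComposableArrows.mk₂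
          (biprod.desc ((NatTrans.rightDerived b₁ n).app X)
            (-((NatTrans.rightDerived b₂ n).app X)))
          (δ n)).Exact ∧
        (ComposableArrows.mk₂ (δ n)
          (biprod.lift ((NatTrans.rightDerived a₁ (n + 1)).app X)
            ((NatTrans.rightDerived a₂ (n + 1)).app X))).Exact := by
  have w := α_β a₁ a₂ b₁ b₂ comm
  refine ⟨fun n => (FunLES.δ (α a₁ a₂) (β b₁ b₂) w h n).app X, ?_, fun n => ⟨?_, ?_, ?_⟩⟩
  · haveI := FunLES.mono₀ (α a₁ a₂) (β b₁ b₂) w h X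
    rw [← α_eIso a₁ a₂ X 0]
    exact mono_comp _ _
  · obtain ⟨w', hex⟩ := FunLES.les₂ (α a₁ a₂) (β b₁ b₂) w h n X
    obtain ⟨w'', hex'⟩ := FunLES.exact_of_conj (Iso.refl _) (eIso G₁ G₂ X n).symm (Iso.refl _)
      (biprod.lift ((NatTrans.rightDerived a₁ n).app X) ((NatTrans.rightDerived a₂ n).app X))
      (biprod.desc ((NatTrans.rightDerived b₁ n).app X)
        (-((NatTrans.rightDerived b₂ n).app X))) _ _
      (by rw [Iso.refl_hom, Category.id_comp, Iso.symm_inv, α_eIso])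
      (by rw [Iso.symm_hom, Iso.refl_inv, Category.comp_id, eIso_β]) w' hex
    exact hex'.exact_toComposableArrows
  · obtain ⟨w', hex⟩ := FunLES.les₃ (α a₁ a₂) (β b₁ b₂) w h n X
    obtain ⟨w'', hex'⟩ := FunLES.exact_of_conj (eIso G₁ G₂ X n).symm (Iso.refl _) (Iso.refl _)
      (biprod.desc ((NatTrans.rightDerived b₁ n).app X)
        (-((NatTrans.rightDerived b₂ n).app X)))
      ((FunLES.δ (α a₁ a₂) (β b₁ b₂) w h n).app X) _ _
      (by rw [Iso.symm_hom, Iso.refl_inv, Category.comp_id, eIso_β])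
      (by rw [Iso.refl_hom, Category.id_comp, Iso.refl_inv, Category.comp_id]) w' hex
    exact hex'.exact_toComposableArrows
  · obtain ⟨w', hex⟩ := FunLES.les₁ (α a₁ a₂) (β b₁ b₂) w h n X
    obtain ⟨w'', hex'⟩ := FunLES.exact_of_conj (Iso.refl _) (Iso.refl _) (eIso G₁ G₂ X (n + 1)).symm
      ((FunLES.δ (α a₁ a₂) (β b₁ b₂) w h n).app X)
      (biprod.lift ((NatTrans.rightDerived a₁ (n + 1)).app X)
        ((NatTrans.rightDerived a₂ (n + 1)).app X)) _ _
      (by rw [Iso.refl_hom, Category.id_comp, Iso.refl_inv, Category.comp_id])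
      (by rw [Iso.refl_hom, Category.id_comp, Iso.symm_inv, α_eIso]) w' hex
    exact hex'.exact_toComposableArrows

end sum

end Groth.Agent.Helper6.RelMVA
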