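import Mathlib
import Groth.Prelude.Def_CohTop
import Groth.Prelude.Def_CohCx
import Groth.Agent.Lead.CohTopB
import Groth.Agent.Helper6.RelMVA

set_option autoImplicit false
set_option linter.style.haveILetI false
set_option linter.unusedSectionVars false
set_option linter.unusedVariables false

/-!
# Relative Mayer–Vietoris for higher direct images
-/

namespace Groth.Agent.Helper6.RelMVB
open CategoryTheory Limits Opposite TopologicalSpace
open Groth.Agent.Helper1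

universe u w

section general

/-- a short complex of abelian sheaves which is short exact as a complex of presheaves is short
exact -/
lemma shortExact_of_presheaf {C : Type u} [Category.{u} C] (J : GrothendieckTopology C)
    (S : ShortComplex (Sheaf J AddCommGrpCat.{u}))
    (h : (S.map (sheafToPresheaf J AddCommGrpCat.{u})).ShortExact) : S.ShortExact := by
  have h2 := h.map_of_exact (presheafToSheaf J AddCommGrpCat.{u})
  have e : S.map (𝟭 _) ≅
      S.map (sheafToPresheaf J AddCommGrpCat.{u} ⋙ presheafToSheaf J AddCommGrpCat.{u}) :=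
    S.mapNatIso (sheafificationNatIso J AddCommGrpCat.{u})
  exact ShortComplex.shortExact_of_iso e.symm h2

lemma shortExact_of_eval {K : Type*} [Category K] (T : ShortComplex (K ⥤ AddCommGrpCat.{w}))
    (h : ∀ q, (T.map ((evaluation K AddCommGrpCat.{w}).obj q)).ShortExact) : T.ShortExact := by
  haveI : Mono T.f := by
    haveI : ∀ q, Mono (T.f.app q) := fun q => (h q).mono_f
    exact NatTrans.mono_of_mono_app T.f
  haveI : Epi T.g := by
    haveI : ∀ q, Epi (T.g.app q) := fun q => (h q).epi_g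
    exact NatTrans.epi_of_epi_app T.g
  exact ShortComplex.ShortExact.mk (FunLES.exact_of_evaluation T (fun q => (h q).exact))

variable {ℬ : Type*} [Category ℬ] [Abelian ℬ] (𝒢 : ℬ ⥤ AddCommGrpCat.{w}) [𝒢.Additive]

lemma map_map_apply {X Y Z : ℬ} (f : X ⟶ Y) (g : Y ⟶ Z) (h : X ⟶ Z) (hfg : f ≫ g = h)
    (x : 𝒢.obj X) : (𝒢.map g).hom ((𝒢.map f).hom x) = (𝒢.map h).hom x := by
  subst hfg
  rw [𝒢.map_comp]
  rfl

lemma total_apply {A₀ B₀ : ℬ} (y : 𝒢.obj (A₀ ⊞ B₀)) :
    y = (𝒢.map biprod.inl).hom ((𝒢.map biprod.fst).hom y) +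
      (𝒢.map biprod.inr).hom ((𝒢.map biprod.snd).hom y) := by
  have h := congrArg (fun φ => (𝒢.map φ).hom y) (biprod.total (X := A₀) (Y := B₀))
  have h' : (𝒢.map (𝟙 (A₀ ⊞ B₀))).hom y = y := by
    rw [𝒢.map_id]
    rfl
  simp only [Functor.map_add, Functor.map_comp, AddCommGrpCat.hom_add,
    AddCommGrpCat.hom_comp, AddMonoidHom.add_apply,
    AddMonoidHom.coe_comp, Function.comp_apply] at h
  rw [h'] at h
  exact h.symm

lemma shortExact_map_of_elementwise {F₀ A₀ B₀ H₀ : ℬ} (a₁ : F₀ ⟶ A₀) (a₂ : F₀ ⟶ B₀)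
    (b₁ : A₀ ⟶ H₀) (b₂ : B₀ ⟶ H₀)
    (w' : 𝒢.map (biprod.lift a₁ a₂) ≫ 𝒢.map (biprod.desc b₁ (-b₂)) = 0)
    (h1 : ∀ x : 𝒢.obj F₀, (𝒢.map a₁).hom x = 0 → (𝒢.map a₂).hom x = 0 → x = 0)
    (h2 : ∀ (a : 𝒢.obj A₀) (b : 𝒢.obj B₀), (𝒢.map b₁).hom a = (𝒢.map b₂).hom b →
      ∃ x, (𝒢.map a₁).hom x = a ∧ (𝒢.map a₂).hom x = b)
    (h3 : ∀ t : 𝒢.obj H₀, ∃ a, (𝒢.map b₁).hom a = t) :
    (ShortComplex.mk (𝒢.map (biprod.lift a₁ a₂)) (𝒢.map (biprod.desc b₁ (-b₂))) w').ShortExact := by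
  have hf1 : ∀ x, (𝒢.map biprod.fst).hom ((𝒢.map (biprod.lift a₁ a₂)).hom x) = (𝒢.map a₁).hom x :=
    fun x => map_map_apply 𝒢 _ _ _ (biprod.lift_fst _ _) x
  have hf2 : ∀ x, (𝒢.map biprod.snd).hom ((𝒢.map (biprod.lift a₁ a₂)).hom x) = (𝒢.map a₂).hom x :=
    fun x => map_map_apply 𝒢 _ _ _ (biprod.lift_snd _ _) x
  have hg1 : ∀ a, (𝒢.map (biprod.desc b₁ (-b₂))).hom ((𝒢.map biprod.inl).hom a) =
      (𝒢.map b₁).hom a := fun a => map_map_apply 𝒢 _ _ _ (biprod.inl_desc _ _) a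
  have hg2 : ∀ b, (𝒢.map (biprod.desc b₁ (-b₂))).hom ((𝒢.map biprod.inr).hom b) =
      -(𝒢.map b₂).hom b := by
    intro b
    rw [map_map_apply 𝒢 _ _ _ (biprod.inr_desc _ _) b, Functor.map_neg, AddCommGrpCat.hom_neg]
    rfl
  haveI : Mono (𝒢.map (biprod.lift a₁ a₂)) := by
    rw [AddCommGrpCat.mono_iff_injective]
    refine (injective_iff_map_eq_zero (𝒢.map (biprod.lift a₁ a₂)).hom).2 ?_
    intro x hx
    refine h1 x ?_ ?_
    · rw [← hf1, hx, map_zero]
    · rw [← hf2, hx, map_zero]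
  haveI : Epi (𝒢.map (biprod.desc b₁ (-b₂))) := by
    rw [AddCommGrpCat.epi_iff_surjective]
    intro t
    obtain ⟨a, ha⟩ := h3 t
    exact ⟨(𝒢.map biprod.inl).hom a, (hg1 a).trans ha⟩
  refine ShortComplex.ShortExact.mk ?_
  rw [ShortComplex.ab_exact_iff]
  intro y hy
  have hy' : (𝒢.map (biprod.desc b₁ (-b₂))).hom y = 0 := hy
  rw [total_apply 𝒢 y, map_add, hg1, hg2] at hy'
  obtain ⟨x, hx1, hx2⟩ := h2 _ _ (by
    have := hy'
    rw [← sub_eq_add_neg, sub_eq_zero] at this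
    exact this)
  refine ⟨x, ?_⟩
  show (𝒢.map (biprod.lift a₁ a₂)).hom x = y
  rw [total_apply 𝒢 ((𝒢.map (biprod.lift a₁ a₂)).hom x), hf1, hf2, hx1, hx2]
  exact (total_apply 𝒢 y).symm

end general

section space

variable {X : TopCat.{u}} (F : TopCat.Sheaf AddCommGrpCat.{u} X)

lemma sec_eq_zero {U₁ U₂ V : Opens X} (i₁ : U₁ ⟶ V) (i₂ : U₂ ⟶ V) (hcover : V ≤ U₁ ⊔ U₂)
    (s : F.obj.obj (op V)) (h₁ : (F.obj.map i₁.op).hom s = 0) (h₂ : (F.obj.map i₂.op).hom s = 0) :
    s = 0 := by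
  refine TopCat.Sheaf.eq_of_locally_eq₂ F i₁ i₂ hcover s 0 ?_ ?_
  · exact h₁.trans (map_zero (F.obj.map i₁.op).hom).symm
  · exact h₂.trans (map_zero (F.obj.map i₂.op).hom).symm

lemma glue₂ {U₁ U₂ V W : Opens X} (i₁ : U₁ ⟶ V) (i₂ : U₂ ⟶ V) (hcover : V ≤ U₁ ⊔ U₂)
    (j₁ : W ⟶ U₁) (j₂ : W ⟶ U₂) (hW : U₁ ⊓ U₂ ≤ W)
    (a : F.obj.obj (op U₁)) (b : F.obj.obj (op U₂))
    (hab : (F.obj.map j₁.op).hom a = (F.obj.map j₂.op).hom b) :
    ∃ s : F.obj.obj (op V), (F.obj.map i₁.op).hom s = a ∧ (F.obj.map i₂.op).hom s = b := by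
  let 𝒰 : Bool → Opens X := fun t => cond t U₁ U₂
  let sf : ∀ t : Bool, ToType (F.1.obj (op (𝒰 t))) := fun t =>
    match t with
    | true => a
    | false => b
  have hres : ∀ {A B C : Opens X} (p : A ⟶ B) (q : B ⟶ C) (r : A ⟶ C) (x : F.obj.obj (op C)),
      (F.obj.map p.op).hom ((F.obj.map q.op).hom x) = (F.obj.map r.op).hom x := by
    intro A B C p q r x
    have : r = p ≫ q := Subsingleton.elim _ _
    subst this
    rw [op_comp, F.obj.map_comp]
    rfl
  have hcompat : TopCat.Presheaf.IsCompatible F.1 𝒰 sf := by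
    intro s t
    match s, t with
    | true, true => rfl
    | false, false => rfl
    | true, false =>
      show (F.obj.map (Opens.infLELeft U₁ U₂).op).hom a = (F.obj.map (Opens.infLERight U₁ U₂).op).hom b
      rw [← hres (homOfLE hW) j₁ (Opens.infLELeft U₁ U₂) a,
        ← hres (homOfLE hW) j₂ (Opens.infLERight U₁ U₂) b, hab]
    | false, true =>
      show (F.obj.map (Opens.infLELeft U₂ U₁).op).hom b = (F.obj.map (Opens.infLERight U₂ U₁).op).hom a
      rw [← hres (homOfLE (inf_comm U₂ U₁ ▸ hW)) j₁ (Opens.infLERight U₂ U₁) a,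
        ← hres (homOfLE (inf_comm U₂ U₁ ▸ hW)) j₂ (Opens.infLELeft U₂ U₁) b, hab]
  have hcover' : V ≤ iSup 𝒰 := by
    refine le_trans hcover (sup_le ?_ ?_)
    · exact le_iSup 𝒰 true
    · exact le_iSup 𝒰 false
  obtain ⟨s, hs, -⟩ := TopCat.Sheaf.existsUnique_gluing' F 𝒰 V
    (fun t => match t with
      | true => i₁
      | false => i₂) hcover' sf hcompat
  exact ⟨s, hs true, hs false⟩

end space

section final

variable {X Y : TopCat.{u}} (f : X ⟶ Y) (U V : Opens X)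

/-- the open `f⁻¹ W` -/
abbrev pre (W : Opens Y) : Opens X := (Opens.map f).obj W

/-- the open `U ∩ f⁻¹ W` of `X`, in the form used by `restrFunctor U ⋙ push (incl U ≫ f)` -/
abbrev img (W : Opens Y) : Opens X :=
  (U.isOpenEmbedding.isOpenMap.functor).obj ((Opens.map (CohCx.incl U ≫ f)).obj W)

lemma mem_img {W : Opens Y} {x : X} : x ∈ img f U W ↔ x ∈ U ∧ f x ∈ W := by
  constructor
  · rintro ⟨z, hz, rfl⟩
    exact ⟨z.2, hz⟩
  · rintro ⟨hx, hfx⟩
    exact ⟨⟨x, hx⟩, hfx, rfl⟩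

lemma img_le_pre (W : Opens Y) : img f U W ≤ pre f W :=
  fun x hx => ((mem_img f U).1 hx).2

lemma img_le_img {U V : Opens X} (h : V ≤ U) (W : Opens Y) : img f V W ≤ img f U W :=
  fun x hx => (mem_img f U).2 ⟨h ((mem_img f V).1 hx).1, ((mem_img f V).1 hx).2⟩

lemma pre_le_sup (hUV : U ⊔ V = ⊤) (W : Opens Y) : pre f W ≤ img f U W ⊔ img f V W := by
  intro x hx
  have hx' : x ∈ U ⊔ V := by
    rw [hUV]
    trivial
  rcases (Opens.mem_sup.1 hx') with h | h
  · exact Opens.mem_sup.2 (Or.inl ((mem_img f U).2 ⟨h, hx⟩))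
  · exact Opens.mem_sup.2 (Or.inr ((mem_img f V).2 ⟨h, hx⟩))

lemma inf_img_le (W : Opens Y) : img f U W ⊓ img f V W ≤ img f (U ⊓ V) W := by
  rintro x ⟨h1, h2⟩
  exact (mem_img f (U ⊓ V)).2 ⟨⟨((mem_img f U).1 h1).1, ((mem_img f V).1 h2).1⟩,
    ((mem_img f U).1 h1).2⟩

lemma comm_sq :
    CohCx.pushToRestrPush f U ≫ CohCx.restrPushToRestrPush f (inf_le_left : U ⊓ V ≤ U) =
    CohCx.pushToRestrPush f V ≫ CohCx.restrPushToRestrPush f (inf_le_right : U ⊓ V ≤ V) := by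
  refine NatTrans.ext (funext fun I => ?_)
  refine Sheaf.hom_ext ?_
  refine NatTrans.ext (funext fun W => ?_)
  show I.obj.map _ ≫ I.obj.map _ = I.obj.map _ ≫ I.obj.map _
  rw [← I.obj.map_comp, ← I.obj.map_comp]
  rfl

lemma shortExact_inj (hUV : U ⊔ V = ⊤) (I : CohTop.Ab X) [Injective I] :
    (FunLES.sc (RelMVA.α (CohCx.pushToRestrPush f U) (CohCx.pushToRestrPush f V))
      (RelMVA.β (CohCx.restrPushToRestrPush f (inf_le_left : U ⊓ V ≤ U))
        (CohCx.restrPushToRestrPush f (inf_le_right : U ⊓ V ≤ V)))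
      (RelMVA.α_β _ _ _ _ (comm_sq f U V)) I).ShortExact := by
  apply shortExact_of_presheaf
  apply shortExact_of_eval
  intro Wop
  obtain ⟨W⟩ := Wop
  haveI := Groth.Agent.Lead.CohTopB.isFlasque_of_injective I
  refine shortExact_map_of_elementwise
    (sheafToPresheaf _ AddCommGrpCat.{u} ⋙ (evaluation _ _).obj (op W))
    ((CohCx.pushToRestrPush f U).app I) ((CohCx.pushToRestrPush f V).app I)
    ((CohCx.restrPushToRestrPush f (inf_le_left : U ⊓ V ≤ U)).app I)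
    ((CohCx.restrPushToRestrPush f (inf_le_right : U ⊓ V ≤ V)).app I) _ ?_ ?_ ?_
  · intro x hx1 hx2
    exact sec_eq_zero I (homOfLE (img_le_pre f U W)) (homOfLE (img_le_pre f V W))
      (pre_le_sup f U V hUV W) x hx1 hx2
  · intro a b hab
    exact glue₂ I (homOfLE (img_le_pre f U W)) (homOfLE (img_le_pre f V W))
      (pre_le_sup f U V hUV W) (homOfLE (img_le_img f inf_le_left W))
      (homOfLE (img_le_img f inf_le_right W)) (inf_img_le f U V W) a b hab
  · intro t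
    exact (AddCommGrpCat.epi_iff_surjective _).1
      (TopCat.Presheaf.IsFlasque.epi (F := I.obj) (homOfLE (img_le_img f inf_le_left W)).op) t

theorem relative_mv (hUV : U ⊔ V = ⊤) (F : CohTop.Ab X) :
    ∃ δ : ∀ n : ℕ, (CohCx.RpushOn f (U ⊓ V) n).obj F ⟶ (CohTop.Rpush f (n + 1)).obj F,
      Mono (biprod.lift ((NatTrans.rightDerived (CohCx.pushToRestrPush f U) 0).app F)
        ((NatTrans.rightDerived (CohCx.pushToRestrPush f V) 0).app F)) ∧
      ∀ n : ℕ,
        (ComposableArrows.mk₂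
          (biprod.lift ((NatTrans.rightDerived (CohCx.pushToRestrPush f U) n).app F)
            ((NatTrans.rightDerived (CohCx.pushToRestrPush f V) n).app F))
          (biprod.desc
            ((NatTrans.rightDerived (CohCx.restrPushToRestrPush f (inf_le_left : U ⊓ V ≤ U)) n).app F)
            (-((NatTrans.rightDerived (CohCx.restrPushToRestrPush f (inf_le_right : U ⊓ V ≤ V)) n).app F)))).Exact ∧
        (ComposableArrows.mk₂
          (biprod.desc
            ((NatTrans.rightDerived (CohCx.restrPushToRestrPush f (inf_le_left : U ⊓ V ≤ U)) n).app F)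
            (-((NatTrans.rightDerived (CohCx.restrPushToRestrPush f (inf_le_right : U ⊓ V ≤ V)) n).app F)))
          (δ n)).Exact ∧
        (ComposableArrows.mk₂ (δ n)
          (biprod.lift ((NatTrans.rightDerived (CohCx.pushToRestrPush f U) (n + 1)).app F)
            ((NatTrans.rightDerived (CohCx.pushToRestrPush f V) (n + 1)).app F))).Exact :=
  RelMVA.mv (CohCx.pushToRestrPush f U) (CohCx.pushToRestrPush f V)
    (CohCx.restrPushToRestrPush f (inf_le_left : U ⊓ V ≤ U))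
    (CohCx.restrPushToRestrPush f (inf_le_right : U ⊓ V ≤ V)) (comm_sq f U V)
    (fun I _ => shortExact_inj f U V hUV I) F

end final

end Groth.Agent.Helper6.RelMVB
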