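import Mathlib
import Groth.Prelude.Def_DRing4
import Groth.Prelude.Def_DualSh
import Groth.Agent.Helper6.RelPerfBC

/-!
# Relative perfectness and base change: main theorems
-/

set_option autoImplicit false
set_option linter.style.haveILetI false
set_option linter.unusedSectionVars false

universe u
open CategoryTheory CategoryTheory.Limits Pretriangulated DerivedCategory TensorProduct
attribute [local instance] HasDerivedCategory.standard

namespace Groth.Agent.Helper6.RelPerfBC
open Groth.Agent.Helper3.DRingLib Groth.Agent.Helper6.LBCCompute Groth.Agent.Helper6.LBCPC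

section BC

attribute [local instance] Algebra.TensorProduct.rightAlgebra

variable {R A R' : Type u} [CommRing R] [CommRing A] [CommRing R'] [Algebra R A] [Algebra R R']

variable [Module.Flat R A]

/-- the common set-up: a projective representative and its restrictions -/
lemma setup [DRing.HasLBaseChange (algebraMap A (R' ⊗[R] A))] (K : Dual.D A) (c : ℤ)
    [K.IsLE c] (a b : ℤ) :
    ∃ P : DRing.Cx A,
      (DRing.HasTorAmplitudeIn R a b ((DRing.restrictD (algebraMap R A)).obj K) ↔
        ∀ (N : ModuleCat.{u} R) (i : ℤ), (i < a ∨ b < i) →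
          (DRing.tensorCx ((rCx (algebraMap R A)).obj P) N).ExactAt i) ∧
      (DRing.TermwiseFlat ((rCx (algebraMap R A)).obj P)) ∧
      (DRing.HasTorAmplitudeIn R' a b ((DRing.restrictD (algebraMap R' (R' ⊗[R] A))).obj
          ((DRing.LBaseChange (algebraMap A (R' ⊗[R] A))).obj K)) ↔
        ∀ (N' : ModuleCat.{u} R') (i : ℤ), (i < a ∨ b < i) →
          (DRing.tensorCx ((rCx (algebraMap R' (R' ⊗[R] A))).obj
            ((bcCxF (algebraMap A (R' ⊗[R] A))).obj P)) N').ExactAt i) := by
  obtain ⟨P, hPv, hPp, ⟨e⟩⟩ := exists_projective_rep K c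
  haveI : P.IsKProjective := isKProjective_of_vanishesAbove P c hPv hPp
  have fP : DRing.TermwiseFlat P := fun j => by
    haveI := hPp j
    infer_instance
  have hGv : DRing.VanishesAbove ((rCx (algebraMap R A)).obj P) c := fun i hi =>
    (rF (algebraMap R A)).map_isZero (hPv i hi)
  have fG : DRing.TermwiseFlat ((rCx (algebraMap R A)).obj P) := fun i => by
    haveI : Module.Flat A (P.X i) := fP i
    exact Groth.Agent.Helper6.TorAmpHens.flat_rF (P.X i)
  let eG : DRing.toD ((rCx (algebraMap R A)).obj P) ≅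
      (DRing.restrictD (algebraMap R A)).obj K :=
    (rDToD (algebraMap R A) P).symm ≪≫ (DRing.restrictD (algebraMap R A)).mapIso e
  have hPA'v : DRing.VanishesAbove ((bcCxF (algebraMap A (R' ⊗[R] A))).obj P) c := fun i hi =>
    Functor.map_isZero (ModuleCat.extendScalars.{u, u, u} (algebraMap A (R' ⊗[R] A))) (hPv i hi)
  have fPA' : DRing.TermwiseFlat ((bcCxF (algebraMap A (R' ⊗[R] A))).obj P) :=
    bcCx_termwiseFlat (R' ⊗[R] A) P fP
  have hG'v : DRing.VanishesAbove ((rCx (algebraMap R' (R' ⊗[R] A))).obj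
      ((bcCxF (algebraMap A (R' ⊗[R] A))).obj P)) c := fun i hi =>
    (rF (algebraMap R' (R' ⊗[R] A))).map_isZero (hPA'v i hi)
  have fG' : DRing.TermwiseFlat ((rCx (algebraMap R' (R' ⊗[R] A))).obj
      ((bcCxF (algebraMap A (R' ⊗[R] A))).obj P)) := fun i => by
    haveI : Module.Flat (R' ⊗[R] A) (((bcCxF (algebraMap A (R' ⊗[R] A))).obj P).X i) := fPA' i
    exact Groth.Agent.Helper6.TorAmpHens.flat_rF
      (((bcCxF (algebraMap A (R' ⊗[R] A))).obj P).X i)
  let eG' : DRing.toD ((rCx (algebraMap R' (R' ⊗[R] A))).obj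
      ((bcCxF (algebraMap A (R' ⊗[R] A))).obj P)) ≅
      (DRing.restrictD (algebraMap R' (R' ⊗[R] A))).obj
        ((DRing.LBaseChange (algebraMap A (R' ⊗[R] A))).obj K) :=
    (rDToD (algebraMap R' (R' ⊗[R] A)) _).symm ≪≫
      (DRing.restrictD (algebraMap R' (R' ⊗[R] A))).mapIso
        ((lbcIso (algebraMap A (R' ⊗[R] A)) P).symm ≪≫
          (DRing.LBaseChange (algebraMap A (R' ⊗[R] A))).mapIso e)
  exact ⟨P, hasTorAmplitudeIn_iff_of_flat _ c hGv fG eG a b, fG,
    hasTorAmplitudeIn_iff_of_flat _ c hG'v fG' eG' a b⟩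

/-- relative perfectness is preserved by base change -/
theorem isRelPerfect_bc [DRing.HasLBaseChange (algebraMap A (R' ⊗[R] A))] (K : Dual.D A)
    (hK : Dual2.IsRelPerfect R A K) :
    Dual2.IsRelPerfect R' (R' ⊗[R] A)
      ((DRing.LBaseChange (algebraMap A (R' ⊗[R] A))).obj K) := by
  obtain ⟨hpc, a, b, hta⟩ := hK
  refine ⟨?_, a, b, ?_⟩
  · rw [isPseudoCoherent'_iff_forall] at hpc ⊢
    intro m
    exact isPseudoCoherent_LBaseChange (algebraMap A (R' ⊗[R] A)) K m (hpc m)
  · obtain ⟨E, c, hv, -, ⟨eE⟩⟩ := hpc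
    haveI := isStrictlyLE_of_vanishesAbove E c hv
    haveI : (DRing.toD E).IsLE c := inferInstanceAs ((Q.obj E).IsLE c)
    haveI : K.IsLE c := TStructure.t.isLE_of_iso eE c
    obtain ⟨P, h1, -, h2⟩ := setup (R := R) (R' := R') K c a b
    exact h2.mpr (fun N' i hi => (exactAt_bc_iff P N' i).mpr (h1.mp hta _ i hi))

/-- relative perfectness descends along a nilpotent thickening of the base -/
theorem isRelPerfect_of_bc_nilpotent [DRing.HasLBaseChange (algebraMap A (R' ⊗[R] A))]
    (hs : Function.Surjective (algebraMap R R'))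
    (hn : IsNilpotent (RingHom.ker (algebraMap R R'))) (K : Dual.D A)
    (hK : Dual2.IsRelPerfect R' (R' ⊗[R] A)
      ((DRing.LBaseChange (algebraMap A (R' ⊗[R] A))).obj K)) :
    Dual2.IsRelPerfect R A K := by
  obtain ⟨hpc', a, b, hta'⟩ := hK
  have hψs : Function.Surjective (algebraMap A (R' ⊗[R] A)) := by
    intro x
    obtain ⟨y, hy⟩ := TensorProduct.mk_surjective R A R' hs x
    exact ⟨y, hy⟩
  have hψn : IsNilpotent (RingHom.ker (algebraMap A (R' ⊗[R] A))) := by
    obtain ⟨k, hk⟩ := hn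
    refine ⟨k, ?_⟩
    have hle : RingHom.ker (algebraMap A (R' ⊗[R] A)) ≤
        (RingHom.ker (algebraMap R R')).map (algebraMap R A) := by
      intro x hx
      have h0 : algebraMap A (R' ⊗[R] A) x = 0 := RingHom.mem_ker.mp hx
      have h1 : ((1 : R') ⊗ₜ[R] x : R' ⊗[R] A) = 0 := h0
      have h2 := mem_smul_top_of_one_tmul_eq_zero hs A x h1
      rw [Ideal.smul_top_eq_map] at h2
      exact h2
    rw [Ideal.zero_eq_bot, eq_bot_iff]
    calc RingHom.ker (algebraMap A (R' ⊗[R] A)) ^ k
        ≤ ((RingHom.ker (algebraMap R R')).map (algebraMap R A)) ^ k :=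
          Ideal.pow_right_mono hle k
      _ = (RingHom.ker (algebraMap R R') ^ k).map (algebraMap R A) := (Ideal.map_pow _ _ _).symm
      _ = ⊥ := by rw [hk, Ideal.zero_eq_bot, Ideal.map_bot]
  have hpc : DRing.IsPseudoCoherent' A K :=
    (Groth.Agent.Helper6.PCNilLift.main (algebraMap A (R' ⊗[R] A)) hψs hψn K).mp hpc'
  refine ⟨hpc, a, b, ?_⟩
  obtain ⟨E, c, hv, -, ⟨eE⟩⟩ := hpc
  haveI := isStrictlyLE_of_vanishesAbove E c hv
  haveI : (DRing.toD E).IsLE c := inferInstanceAs ((Q.obj E).IsLE c)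
  haveI : K.IsLE c := TStructure.t.isLE_of_iso eE c
  obtain ⟨P, h1, fG, h2⟩ := setup (R := R) (R' := R') K c a b
  have hex' := h2.mp hta'
  refine h1.mpr (fun N i hi => ?_)
  obtain ⟨k, hk⟩ := hn
  refine Groth.Agent.Helper6.KilledMod.exactAt_tensorCx_of_pow (algebraMap R R') hs _ fG i ?_ k N ?_
  · intro Nb
    exact (exactAt_bc_iff P Nb i).mp (hex' Nb i hi)
  · rw [hk]
    exact Submodule.bot_smul _

end BC

section Wrappers

/-- the statement in the form with `includeRight` -/
theorem isRelPerfect_bc' (R A R' : Type u) [CommRing R] [CommRing A] [Algebra R A] [CommRing R']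
    [Algebra R R'] [Module.Flat R A]
    [h : DRing.HasLBaseChange
      (Algebra.TensorProduct.includeRight.toRingHom : A →+* R' ⊗[R] A)]
    (K : Dual.D A) (hK : Dual2.IsRelPerfect R A K) :
    Dual2.IsRelPerfect R' (R' ⊗[R] A)
      ((DRing.LBaseChange
        (Algebra.TensorProduct.includeRight.toRingHom : A →+* R' ⊗[R] A)).obj K) :=
  letI : Algebra A (R' ⊗[R] A) := Algebra.TensorProduct.rightAlgebra
  @isRelPerfect_bc R A R' _ _ _ _ _ _ h K hK

/-- the statement in the form with `includeRight` -/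
theorem isRelPerfect_of_bc_nilpotent' (R A R' : Type u) [CommRing R] [CommRing A] [Algebra R A]
    [CommRing R'] [Algebra R R'] [Module.Flat R A]
    (hs : Function.Surjective (algebraMap R R'))
    (hn : IsNilpotent (RingHom.ker (algebraMap R R')))
    [h : DRing.HasLBaseChange
      (Algebra.TensorProduct.includeRight.toRingHom : A →+* R' ⊗[R] A)]
    (K : Dual.D A)
    (hK : Dual2.IsRelPerfect R' (R' ⊗[R] A)
      ((DRing.LBaseChange
        (Algebra.TensorProduct.includeRight.toRingHom : A →+* R' ⊗[R] A)).obj K)) :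
    Dual2.IsRelPerfect R A K :=
  letI : Algebra A (R' ⊗[R] A) := Algebra.TensorProduct.rightAlgebra
  @isRelPerfect_of_bc_nilpotent R A R' _ _ _ _ _ _ h hs hn K hK

end Wrappers

end Groth.Agent.Helper6.RelPerfBC
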