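import Mathlib
import Groth.Prelude.Def_W4sga3iivvp2RelPsh

/-!
# Helper6: the relative presheaf over `S` is a sheaf iff the presheaf is (for `h_S` a sheaf)
-/

set_option autoImplicit false
set_option linter.style.haveILetI false
set_option linter.unusedVariables false
universe v₁ u₁

namespace Groth.Agent.Helper6.RelPshSheaf
open CategoryTheory Opposite ShfCat Presieve

variable {C : Type u₁} [Category.{v₁} C] (J : GrothendieckTopology C) {S : C}
  {F : Cᵒᵖ ⥤ Type v₁} (φ : F ⟶ yoneda.obj S)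

theorem fam_congr {P : Cᵒᵖ ⥤ Type v₁} {X : C} {R : Presieve X} (x : FamilyOfElements P R)
    {Y : C} (a b : Y ⟶ X) (h : a = b) (ha : R a) (hb : R b) : x a ha = x b hb := by
  subst h
  rfl

theorem sep_of_sep (hF : IsSeparated J F) : IsSeparated (J.over S) (relPsh φ) := by
  intro T R hR x t₁ t₂ h₁ h₂
  apply Subtype.ext
  have hR' : Sieve.overEquiv T R ∈ J T.left := hR
  refine (hF _ hR').ext ?_
  intro Y f hf
  rw [Sieve.overEquiv_iff] at hf
  have e1 := h₁ _ hf
  have e2 := h₂ _ hf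
  exact congrArg Subtype.val (e1.trans e2.symm)

theorem sep_of_sep_rel (hS : IsSheaf J (yoneda.obj S))
    (hP : IsSeparated (J.over S) (relPsh φ)) : IsSeparated J F := by
  intro T R hR x t₁ t₂ h₁ h₂
  have hφ : φ.app (op T) t₁ = φ.app (op T) t₂ := by
    refine ((hS R hR).isSeparatedFor).ext ?_
    intro Y f hf
    rw [← NatTrans.naturality_apply φ f.op t₁, ← NatTrans.naturality_apply φ f.op t₂,
      h₁ f hf, h₂ f hf]
  let T' : Over S := Over.mk (φ.app (op T) t₁)
  let a₁ : (relPsh φ).obj (op T') := ⟨t₁, rfl⟩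
  let a₂ : (relPsh φ).obj (op T') := ⟨t₂, hφ.symm⟩
  have hR' : (Sieve.overEquiv T').symm R ∈ (J.over S) T' :=
    J.overEquiv_symm_mem_over T' R hR
  have key : a₁ = a₂ := by
    refine (hP _ hR').ext ?_
    intro Y f hf
    apply Subtype.ext
    exact (h₁ f.left hf).trans (h₂ f.left hf).symm
  exact congrArg Subtype.val key

theorem sheaf_of_sheaf (hS : IsSheaf J (yoneda.obj S)) (hF : IsSheaf J F) :
    IsSheaf (J.over S) (relPsh φ) := by
  intro T R hR
  rw [← isSeparatedFor_and_exists_isAmalgamation_iff_isSheafFor]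
  refine ⟨sep_of_sep J φ hF.isSeparated R hR, ?_⟩
  intro x hx
  have hx' := (compatible_iff_sieveCompatible x).1 hx
  have hR' : Sieve.overEquiv T R ∈ J T.left := hR
  let y : FamilyOfElements F (Sieve.overEquiv T R).arrows := fun Y f hf =>
    (x (Over.homMk f : Over.mk (f ≫ T.hom) ⟶ T) ((Sieve.overEquiv_iff _ _).1 hf)).1
  have hy : y.Compatible := by
    rw [compatible_iff_sieveCompatible]
    intro Y Z f g hf
    let f' : Over.mk (f ≫ T.hom) ⟶ T := Over.homMk f
    let g' : Over.mk ((g ≫ f) ≫ T.hom) ⟶ Over.mk (f ≫ T.hom) :=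
      Over.homMk g (by simp)
    have hf' : R f' := (Sieve.overEquiv_iff _ _).1 hf
    have e := hx' f' g' hf'
    have e0 : (Over.homMk (g ≫ f) : Over.mk ((g ≫ f) ≫ T.hom) ⟶ T) = g' ≫ f' := by
      ext
      rfl
    have e1 := fam_congr x _ _ e0
      ((Sieve.overEquiv_iff _ _).1 ((Sieve.overEquiv T R).downward_closed hf g))
      (R.downward_closed hf' g')
    change (x (Over.homMk (g ≫ f) : Over.mk ((g ≫ f) ≫ T.hom) ⟶ T) _).1 =
      F.map g.op (x f' hf').1
    rw [e1, e]
    rfl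
  obtain ⟨s, hs, -⟩ := hF _ hR' y hy
  have hφs : φ.app (op T.left) s = T.hom := by
    refine ((hS _ hR').isSeparatedFor).ext ?_
    intro Y f hf
    rw [← NatTrans.naturality_apply φ f.op s, hs f hf]
    exact (x (Over.homMk f : Over.mk (f ≫ T.hom) ⟶ T) ((Sieve.overEquiv_iff _ _).1 hf)).2
  refine ⟨⟨s, hφs⟩, ?_⟩
  intro Y' g hg
  apply Subtype.ext
  change F.map g.left.op s = (x g hg).1
  have hgl : Sieve.overEquiv T R g.left := by
    rw [Sieve.overEquiv_iff]
    let e : Over.mk (g.left ≫ T.hom) ⟶ Y' := Over.homMk (𝟙 _) (by simp)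
    have e0 : (Over.homMk g.left : Over.mk (g.left ≫ T.hom) ⟶ T) = e ≫ g := by
      ext
      simp [e]
    rw [e0]
    exact R.downward_closed hg e
  rw [hs g.left hgl]
  let e : Over.mk (g.left ≫ T.hom) ⟶ Y' := Over.homMk (𝟙 _) (by simp)
  have e0 : (Over.homMk g.left : Over.mk (g.left ≫ T.hom) ⟶ T) = e ≫ g := by
    ext
    simp [e]
  have e1 := fam_congr x _ _ e0 ((Sieve.overEquiv_iff _ _).1 hgl) (R.downward_closed hg e)
  have e2 := hx' g e hg
  change (x (Over.homMk g.left : Over.mk (g.left ≫ T.hom) ⟶ T) _).1 = (x g hg).1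
  rw [e1, e2]
  change F.map (𝟙 Y'.left).op (x g hg).1 = (x g hg).1
  simp

theorem sheaf_of_sheaf_rel (hS : IsSheaf J (yoneda.obj S))
    (hP : IsSheaf (J.over S) (relPsh φ)) : IsSheaf J F := by
  intro T R hR
  rw [← isSeparatedFor_and_exists_isAmalgamation_iff_isSheafFor]
  refine ⟨sep_of_sep_rel J φ hS hP.isSeparated R hR, ?_⟩
  intro x hx
  have hx' := (compatible_iff_sieveCompatible x).1 hx
  let tf : FamilyOfElements (yoneda.obj S) R.arrows := fun Y f hf => φ.app (op Y) (x f hf)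
  have htf : tf.Compatible := by
    rw [compatible_iff_sieveCompatible]
    intro Y Z f g hf
    change φ.app (op Z) (x (g ≫ f) _) = (yoneda.obj S).map g.op (φ.app (op Y) (x f hf))
    rw [hx' f g hf, NatTrans.naturality_apply φ g.op (x f hf)]
  obtain ⟨t, ht, -⟩ := hS R hR tf htf
  let T' : Over S := Over.mk t
  have hR' : (Sieve.overEquiv T').symm R ∈ (J.over S) T' :=
    J.overEquiv_symm_mem_over T' R hR
  let x' : FamilyOfElements (relPsh φ) ((Sieve.overEquiv T').symm R).arrows := fun Y' g hg =>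
    ⟨x g.left hg, by
      have h1 : (yoneda.obj S).map g.left.op t = φ.app (op Y'.left) (x g.left hg) := ht g.left hg
      rw [← h1]
      exact Over.w g⟩
  have hxc : x'.Compatible := by
    rw [compatible_iff_sieveCompatible]
    intro Y' Z' g k hg
    apply Subtype.ext
    exact hx' g.left k.left hg
  obtain ⟨a, ha, -⟩ := hP _ hR' x' hxc
  refine ⟨a.1, ?_⟩
  intro Y f hf
  let g : Over.mk (f ≫ t) ⟶ T' := Over.homMk f
  have := ha g hf
  exact congrArg Subtype.val this

theorem main (hS : IsSheaf J (yoneda.obj S)) :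
    (IsSeparated (J.over S) (relPsh φ) ↔ IsSeparated J F) ∧
    (IsSheaf (J.over S) (relPsh φ) ↔ IsSheaf J F) :=
  ⟨⟨sep_of_sep_rel J φ hS, sep_of_sep J φ⟩,
    ⟨sheaf_of_sheaf_rel J φ hS, sheaf_of_sheaf J φ hS⟩⟩

end Groth.Agent.Helper6.RelPshSheaf
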