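import Mathlib
import Groth.Prelude
import Groth.Agent.Helper7.VascD
import Groth.Agent.Helper6.Davis

/-!
# Relative quasi-independence and regular sequences generating a free summand of `I/I²`
-/

set_option autoImplicit false
set_option linter.style.haveILetI false
set_option linter.unusedSectionVars false

namespace Groth.Agent.Helper6.RelQI

open CategoryTheory IsLocalRing RingTheory.Sequence
open scoped Pointwise

universe u

/-- `v` is a family in `J` whose classes are a basis of a complement of `K/J²` in `J/J²`. -/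
structure RQI {S : Type u} [CommRing S] {k : ℕ} (J K : Ideal S) (v : Fin k → S) : Prop where
  mem : ∀ i, v i ∈ J
  le : K ≤ J
  sq_le : J ^ 2 ≤ K
  sup : J ≤ Ideal.span (Set.range v) ⊔ K
  indep : ∀ a : Fin k → S, ∑ i, a i * v i ∈ K → ∀ i, a i ∈ J

theorem exists_coef {S : Type u} [CommRing S] {k : ℕ} {J K : Ideal S} {v : Fin k → S}
    (h : RQI J K v) (j : Fin k) :
    ∃ coef : J →ₗ[S] S ⧸ J,
      ∀ (a : Fin k → S) (y : S) (_ : y ∈ K) (hmem : ∑ i, a i * v i + y ∈ J),
        coef ⟨∑ i, a i * v i + y, hmem⟩ = Ideal.Quotient.mk J (a j) := by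
  classical
  have hmem : ∀ a : Fin k → S, ∑ i, a i * v i ∈ J := fun a =>
    Ideal.sum_mem _ fun i _ => Ideal.mul_mem_left _ _ (h.mem i)
  let Φ₁ : (Fin k → S) →ₗ[S] J :=
    { toFun := fun a => ⟨∑ i, a i * v i, hmem a⟩
      map_add' := fun a b => by
        ext
        simp [add_mul, Finset.sum_add_distrib]
      map_smul' := fun c a => by
        ext
        simp [Finset.mul_sum, mul_assoc] }
  let Φ₂ : K →ₗ[S] J := Submodule.inclusion h.le
  let Φ : (Fin k → S) × K →ₗ[S] J := LinearMap.coprod Φ₁ Φ₂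
  have hΦapp : ∀ (a : Fin k → S) (y : K), ((Φ (a, y) : J) : S) = ∑ i, a i * v i + (y : S) :=
    fun a y => rfl
  have hΦ : Function.Surjective Φ := by
    rintro ⟨y, hy⟩
    obtain ⟨y₁, hy₁, y₂, hy₂, hyy⟩ := Submodule.mem_sup.1 (h.sup hy)
    obtain ⟨a, ha⟩ := (Ideal.mem_span_range_iff_exists_fun).1 hy₁
    refine ⟨(a, ⟨y₂, hy₂⟩), Subtype.ext ?_⟩
    rw [hΦapp, ha]
    exact hyy
  let ψ : (Fin k → S) × K →ₗ[S] S ⧸ J :=
    (Submodule.mkQ J) ∘ₗ (LinearMap.proj j) ∘ₗ (LinearMap.fst S (Fin k → S) K)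
  have hker : LinearMap.ker Φ ≤ LinearMap.ker ψ := by
    rintro ⟨a, y⟩ ha
    rw [LinearMap.mem_ker] at ha ⊢
    have h0 : ∑ i, a i * v i + (y : S) = 0 := by
      rw [← hΦapp, ha]
      rfl
    have h1 : ∑ i, a i * v i ∈ K := by
      have h2 : ∑ i, a i * v i = -(y : S) := eq_neg_of_add_eq_zero_left h0
      rw [h2]
      exact K.neg_mem y.2
    exact (Submodule.Quotient.mk_eq_zero _).2 (h.indep a h1 j)
  refine ⟨(LinearMap.ker Φ).liftQ ψ hker ∘ₗ
    (Φ.quotKerEquivOfSurjective hΦ).symm.toLinearMap, ?_⟩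
  intro a y hy hm
  have h3 : (⟨∑ i, a i * v i + y, hm⟩ : J) = Φ (a, ⟨y, hy⟩) := rfl
  rw [h3]
  simp only [LinearMap.coe_comp, LinearEquiv.coe_coe, Function.comp_apply,
    LinearMap.quotKerEquivOfSurjective_symm_apply]
  exact Submodule.liftQ_apply _ _ _

theorem rqi_quot {S : Type u} [CommRing S] {k : ℕ} {J K : Ideal S} {v : Fin (k + 1) → S}
    (h : RQI J K v) (x y : S) (hy : y ∈ J ^ 2) (hx : x = v 0 + y) :
    RQI (J.map (Ideal.Quotient.mk (Ideal.span {x})))
      (K.map (Ideal.Quotient.mk (Ideal.span {x})))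
      (fun i : Fin k => Ideal.Quotient.mk (Ideal.span {x}) (v i.succ)) := by
  set mk := Ideal.Quotient.mk (Ideal.span {x}) with hmk
  have hsurj : Function.Surjective mk := Ideal.Quotient.mk_surjective
  have hyK : y ∈ K := h.sq_le hy
  have hx0 : mk x = 0 := Ideal.Quotient.eq_zero_iff_mem.2 (Ideal.mem_span_singleton_self x)
  have hv0 : mk (v 0) = - mk y := by
    have h1 : mk (v 0) + mk y = 0 := by rw [← map_add, ← hx]; exact hx0
    exact eq_neg_of_add_eq_zero_left h1
  refine ⟨fun i => Ideal.mem_map_of_mem _ (h.mem _), Ideal.map_mono h.le, ?_, ?_, ?_⟩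
  · rw [← Ideal.map_pow]
    exact Ideal.map_mono h.sq_le
  · refine (Ideal.map_mono h.sup).trans ?_
    rw [Ideal.map_sup, Ideal.map_span]
    refine sup_le ?_ le_sup_right
    rw [Ideal.span_le]
    rintro _ ⟨_, ⟨i, rfl⟩, rfl⟩
    obtain rfl | ⟨i', rfl⟩ := Fin.eq_zero_or_eq_succ i
    · refine SetLike.mem_coe.2 (Ideal.mem_sup_right ?_)
      rw [hv0]
      exact neg_mem (Ideal.mem_map_of_mem _ hyK)
    · exact SetLike.mem_coe.2 (Ideal.mem_sup_left (Ideal.subset_span ⟨i', rfl⟩))
  · intro a' ha' l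
    choose a ha using fun i => hsurj (a' i)
    obtain ⟨y₀, hy₀⟩ : ∃ y₀, y₀ = ∑ i : Fin k, a i * v i.succ := ⟨_, rfl⟩
    have hmky₀ : mk y₀ = ∑ i, a' i * mk (v i.succ) := by
      rw [hy₀, map_sum]
      refine Finset.sum_congr rfl fun i _ => ?_
      rw [map_mul, ha]
    have hy₀mem : y₀ ∈ K ⊔ Ideal.span {x} := by
      have h1 : mk y₀ ∈ K.map mk := by
        rw [hmky₀]
        exact ha'
      have h2 : y₀ ∈ (K.map mk).comap mk := h1
      rw [Ideal.comap_map_of_surjective mk hsurj, ← RingHom.ker_eq_comap_bot, hmk,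
        Ideal.mk_ker] at h2
      exact h2
    obtain ⟨y₁, hy₁, z, hz, hyz⟩ := Submodule.mem_sup.1 hy₀mem
    obtain ⟨b, rfl⟩ := Ideal.mem_span_singleton'.1 hz
    have key := h.indep (Fin.cons (-b) a : Fin (k + 1) → S) (by
      have h3 : ∑ i, (Fin.cons (-b) a : Fin (k + 1) → S) i * v i = y₁ + b * y := by
        rw [Fin.sum_univ_succ]
        simp only [Fin.cons_zero, Fin.cons_succ]
        rw [← hy₀, ← hyz, hx]
        ring
      rw [h3]
      exact K.add_mem hy₁ (K.mul_mem_left b hyK))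
    have hal : a l ∈ J := by
      have h4 := key l.succ
      simpa only [Fin.cons_succ] using h4
    rw [← ha l]
    exact Ideal.mem_map_of_mem _ hal

theorem local_rel : ∀ (k : ℕ) (S : Type u) [CommRing S] [IsLocalRing S] [IsNoetherianRing S]
    (J K : Ideal S) (v : Fin k → S), J ≠ ⊤ → RQI J K v →
    (∃ n, HasProjectiveDimensionLT (ModuleCat.of S J) n) →
    ∃ w : Fin k → S, (∀ i, w i - v i ∈ J ^ 2) ∧ IsWeaklyRegular S (List.ofFn w) := by
  intro k
  induction k with
  | zero =>
    intro S _ _ _ J K v _ _ _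
    exact ⟨v, fun i => i.elim0, by rw [List.ofFn_zero]; exact IsWeaklyRegular.nil S S⟩
  | succ k ih =>
    intro S _ _ _ J K v hJtop h hpd
    obtain ⟨n, hpd⟩ := hpd
    classical
    have hJm : J ≤ maximalIdeal S := IsLocalRing.le_maximalIdeal hJtop
    have hpd1 : HasProjectiveDimensionLT (ModuleCat.of S J) (n + 1) :=
      hasProjectiveDimensionLT_of_ge _ n (n + 1) (by omega)
    have hass : ∀ P ∈ associatedPrimes S S, ¬ J ≤ P := by
      intro P hP hJP
      obtain ⟨s, hsP, hs⟩ :=
        Groth.Agent.Helper7.Vasc.ann_of_ass J n hpd1 P hP hJP (v 0) (h.mem 0)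
      have h1 : ∑ i, (Pi.single 0 s : Fin (k + 1) → S) i * v i = 0 := by
        rw [Finset.sum_eq_single 0]
        · rw [Pi.single_eq_same, hs]
        · intro i _ hi
          rw [Pi.single_eq_of_ne hi, zero_mul]
        · intro h'
          exact absurd (Finset.mem_univ _) h'
      have h2 := h.indep (Pi.single 0 s) (by rw [h1]; exact Ideal.zero_mem _) 0
      rw [Pi.single_eq_same] at h2
      exact hsP (hJP h2)
    have hprime : ∀ P ∈ (associatedPrimes.finite S S).toFinset, P.IsPrime := by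
      intro P hP
      rw [Set.Finite.mem_toFinset] at hP
      exact (AssociatedPrimes.mem_iff.mp hP).isPrime
    have hJ2 : ∀ P ∈ (associatedPrimes.finite S S).toFinset, ¬ (J ^ 2) ≤ P := by
      intro P hP hle
      have hPp := hprime P hP
      rw [Set.Finite.mem_toFinset] at hP
      exact hass P hP ((Ideal.IsPrime.pow_le_iff two_ne_zero).mp hle)
    obtain ⟨y, hyJ, hyP⟩ :=
      Groth.Agent.Helper6.Davis.exists_add_notMem (J ^ 2) (v 0) _ hprime hJ2
    obtain ⟨x, hx⟩ : ∃ x, x = v 0 + y := ⟨_, rfl⟩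
    have hyJ1 : y ∈ J := Ideal.pow_le_self two_ne_zero hyJ
    have hxJ : x ∈ J := by rw [hx]; exact J.add_mem (h.mem 0) hyJ1
    have hxreg : IsSMulRegular S x := by
      have h3 : x ∈ nonZeroDivisors S := by
        by_contra hx'
        have h2 : x ∈ ((nonZeroDivisors S : Set S))ᶜ := hx'
        rw [← biUnion_associatedPrimes_eq_compl_nonZeroDivisors] at h2
        obtain ⟨P, hP, hxP'⟩ := Set.mem_iUnion₂.1 h2
        refine hyP P ((Set.Finite.mem_toFinset _).mpr hP) ?_
        rw [← hx]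
        exact hxP'
      exact (isRegular_iff_mem_nonZeroDivisors.2 h3).left.isSMulRegular
    obtain ⟨coef, hcoef⟩ := exists_coef h 0
    have hcoef1 : coef ⟨x, hxJ⟩ = 1 := by
      have hsum : ∑ i, (Pi.single 0 1 : Fin (k + 1) → S) i * v i = v 0 := by
        rw [Finset.sum_eq_single 0]
        · rw [Pi.single_eq_same, one_mul]
        · intro i _ hi
          rw [Pi.single_eq_of_ne hi, zero_mul]
        · intro h'
          exact absurd (Finset.mem_univ _) h'
      have hm : ∑ i, (Pi.single 0 1 : Fin (k + 1) → S) i * v i + y ∈ J := by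
        rw [hsum, ← hx]
        exact hxJ
      have h4 : (⟨x, hxJ⟩ : J) =
          ⟨∑ i, (Pi.single 0 1 : Fin (k + 1) → S) i * v i + y, hm⟩ :=
        Subtype.ext (show x = ∑ i, (Pi.single 0 1 : Fin (k + 1) → S) i * v i + y by rw [hsum, hx])
      rw [h4, hcoef _ y (h.sq_le hyJ) hm, Pi.single_eq_same, map_one]
    have hpd' := Groth.Agent.Helper7.Vasc.pd_quot J x hxJ hxreg coef hcoef1 n hpd1
    have hxmax : x ∈ maximalIdeal S := hJm hxJ
    haveI : Nontrivial (S ⧸ Ideal.span {x}) := Ideal.Quotient.nontrivial_iff.2 (by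
      rw [Ne, Ideal.span_singleton_eq_top]
      exact hxmax)
    haveI : IsLocalRing (S ⧸ Ideal.span {x}) :=
      IsLocalRing.of_surjective' (Ideal.Quotient.mk _) Ideal.Quotient.mk_surjective
    have hJ'top : J.map (Ideal.Quotient.mk (Ideal.span {x})) ≠ ⊤ := by
      intro htop
      have h1 : J.map (Ideal.Quotient.mk (Ideal.span {x})) ≤
          maximalIdeal (S ⧸ Ideal.span {x}) := by
        rw [← IsLocalRing.map_maximalIdeal_of_surjective (Ideal.Quotient.mk (Ideal.span {x}))
          Ideal.Quotient.mk_surjective]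
        exact Ideal.map_mono hJm
      rw [htop] at h1
      exact (IsLocalRing.maximalIdeal.isMaximal _).ne_top (top_le_iff.1 h1)
    obtain ⟨w', hw', hreg'⟩ := ih (S ⧸ Ideal.span {x}) _ _ _ hJ'top
      (rqi_quot h x y hyJ hx) ⟨n + 1, hpd'⟩
    have hlift : ∀ i : Fin k, ∃ t ∈ J ^ 2, Ideal.Quotient.mk (Ideal.span {x}) t =
        w' i - Ideal.Quotient.mk (Ideal.span {x}) (v i.succ) := by
      intro i
      have h5 := hw' i
      rw [← Ideal.map_pow] at h5
      exact (Ideal.mem_map_iff_of_surjective _ Ideal.Quotient.mk_surjective).1 h5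
    choose t htJ ht using hlift
    refine ⟨Fin.cons x (fun i => v i.succ + t i), ?_, ?_⟩
    · intro i
      obtain rfl | ⟨i', rfl⟩ := Fin.eq_zero_or_eq_succ i
      · rw [Fin.cons_zero, hx, add_sub_cancel_left]
        exact hyJ
      · rw [Fin.cons_succ, add_sub_cancel_left]
        exact htJ i'
    · rw [List.ofFn_succ]
      simp only [Fin.cons_zero, Fin.cons_succ]
      rw [isWeaklyRegular_cons_iff]
      refine ⟨hxreg, ?_⟩
      have hmap : List.map (Ideal.Quotient.mk (Ideal.span {x}))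
          (List.ofFn fun i => v i.succ + t i) = List.ofFn w' := by
        rw [List.map_ofFn]
        congr 1
        funext i
        simp only [Function.comp_apply, map_add, ht]
        ring
      have h1 : IsWeaklyRegular (S ⧸ Ideal.span {x}) (List.ofFn fun i => v i.succ + t i) :=
        (isWeaklyRegular_map_algebraMap_iff (S ⧸ Ideal.span {x}) (S ⧸ Ideal.span {x}) _).1 (by
          rw [Ideal.Quotient.algebraMap_eq, hmap]
          exact hreg')
      exact ((Submodule.quotEquivOfEq _ _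
        (Groth.Agent.Helper7.Vasc.smul_top_eq_span x).symm).isWeaklyRegular_congr _).1 h1

end Groth.Agent.Helper6.RelQI
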