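import Mathlib
import Groth.Prelude
import Groth.Agent.Helper6.RelQI

/-!
# Regular sequences generating a free summand of `I/I²` (main statement)
-/

set_option autoImplicit false
set_option linter.style.haveILetI false
set_option linter.unusedSectionVars false

namespace Groth.Agent.Helper6.RelQI

open CategoryTheory IsLocalRing RingTheory.Sequence

universe u

theorem main {R : Type u} [CommRing R] [IsNoetherianRing R] [IsLocalRing R] (I : Ideal R)
    (hI : I ≠ ⊤) (n : ℕ) (hpd : HasProjectiveDimensionLT (ModuleCat.of R I) n)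
    (F G : Submodule (R ⧸ I) I.Cotangent) (hFG : IsCompl F G) (r : ℕ)
    (e : F ≃ₗ[R ⧸ I] (Fin r → R ⧸ I)) :
    ∃ (x : Fin r → R) (hx : ∀ i, x i ∈ I), RingTheory.Sequence.IsRegular R (List.ofFn x) ∧
      Submodule.span (R ⧸ I) (Set.range fun i => I.toCotangent ⟨x i, hx i⟩) = F := by
  classical
  obtain ⟨b, hb⟩ : ∃ b : Fin r → F, b = fun i => e.symm (Pi.single i 1) := ⟨_, rfl⟩
  have hE : ∀ c : Fin r → R ⧸ I, e (∑ i, c i • b i) = c := by
    intro c
    rw [map_sum, hb]
    simp only [map_smul, LinearEquiv.apply_symm_apply]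
    exact (pi_eq_sum_univ' c).symm
  have hb_repr : ∀ f : F, f = ∑ i, (e f i) • b i := by
    intro f
    apply e.injective
    rw [hE]
  choose v hv using fun i => I.toCotangent_surjective ((b i : F) : I.Cotangent)
  have hcoe : ∀ a : Fin r → R, ((∑ i, a i • v i : I) : R) = ∑ i, a i * (v i : R) := by
    intro a
    simp only [Submodule.coe_sum, Submodule.coe_smul, smul_eq_mul]
  have hsum : ∀ a : Fin r → R, I.toCotangent (∑ i, a i • v i) =
      ((∑ i, Ideal.Quotient.mk I (a i) • b i : F) : I.Cotangent) := by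
    intro a
    rw [map_sum, Submodule.coe_sum]
    refine Finset.sum_congr rfl fun i _ => ?_
    rw [map_smul, hv, Submodule.coe_smul, ← Ideal.Quotient.algebraMap_eq, algebraMap_smul]
  obtain ⟨K, hKdef⟩ : ∃ K : Ideal R, K = Submodule.map I.subtype
      (Submodule.comap I.toCotangent (G.restrictScalars R)) := ⟨_, rfl⟩
  have hK : ∀ z : R, z ∈ K ↔ ∃ hz : z ∈ I, I.toCotangent ⟨z, hz⟩ ∈ G := by
    intro z
    rw [hKdef]
    constructor
    · rintro ⟨⟨z', hz'⟩, hz'G, rfl⟩
      exact ⟨hz', hz'G⟩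
    · rintro ⟨hz, hzG⟩
      exact ⟨⟨z, hz⟩, hzG, rfl⟩
  have hRQI : RQI I K (fun i => (v i : R)) := by
    refine ⟨fun i => (v i).2, ?_, ?_, ?_, ?_⟩
    · rw [hKdef]
      exact Submodule.map_subtype_le I _
    · intro z hz
      have hzI : z ∈ I := Ideal.pow_le_self two_ne_zero hz
      refine (hK z).2 ⟨hzI, ?_⟩
      have h0 : I.toCotangent ⟨z, hzI⟩ = 0 := (Ideal.toCotangent_eq_zero I ⟨z, hzI⟩).2 hz
      rw [h0]
      exact G.zero_mem
    · intro z hz
      have hc : I.toCotangent ⟨z, hz⟩ ∈ F ⊔ G := by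
        rw [hFG.sup_eq_top]
        exact Submodule.mem_top
      obtain ⟨f, hf, g, hg, hfg⟩ := Submodule.mem_sup.1 hc
      choose a ha using fun i => Ideal.Quotient.mk_surjective (e ⟨f, hf⟩ i)
      have hf' : f = I.toCotangent (∑ i, a i • v i) := by
        rw [hsum]
        have h1 := hb_repr ⟨f, hf⟩
        simp only [ha]
        exact congrArg (fun t : F => (t : I.Cotangent)) h1
      have hmemI : z - ∑ i, a i * (v i : R) ∈ I :=
        I.sub_mem hz (Ideal.sum_mem _ fun i _ => Ideal.mul_mem_left _ _ (v i).2)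
      have hk : z - ∑ i, a i * (v i : R) ∈ K := by
        refine (hK _).2 ⟨hmemI, ?_⟩
        have h2 : (⟨z - ∑ i, a i * (v i : R), hmemI⟩ : I) = ⟨z, hz⟩ - ∑ i, a i • v i := by
          apply Subtype.ext
          rw [Submodule.coe_sub, hcoe]
        rw [h2, map_sub, ← hf', ← hfg, add_sub_cancel_left]
        exact hg
      refine Submodule.mem_sup.2 ⟨∑ i, a i * (v i : R), ?_, z - ∑ i, a i * (v i : R), hk, by ring⟩
      exact Ideal.sum_mem _ fun i _ => Ideal.mul_mem_left _ _ (Ideal.subset_span ⟨i, rfl⟩)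
    · intro a ha i
      obtain ⟨hz, hG⟩ := (hK _).1 ha
      have h2 : (⟨∑ i, a i * (v i : R), hz⟩ : I) = ∑ i, a i • v i :=
        Subtype.ext (hcoe a).symm
      rw [h2, hsum] at hG
      have h3 : ((∑ i, Ideal.Quotient.mk I (a i) • b i : F) : I.Cotangent) = 0 :=
        Submodule.disjoint_def.1 hFG.disjoint _ (Subtype.mem _) hG
      have h4 : (∑ i, Ideal.Quotient.mk I (a i) • b i : F) = 0 := Subtype.ext h3
      have h5 := hE (fun i => Ideal.Quotient.mk I (a i))
      rw [h4, map_zero] at h5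
      have h6 := congrFun h5 i
      exact Ideal.Quotient.eq_zero_iff_mem.1 h6.symm
  obtain ⟨w, hw, hreg⟩ := local_rel r R I K (fun i => (v i : R)) hI hRQI ⟨n, hpd⟩
  have hwI : ∀ i, w i ∈ I := by
    intro i
    have h1 : w i = (w i - (v i : R)) + (v i : R) := by ring
    rw [h1]
    exact I.add_mem (Ideal.pow_le_self two_ne_zero (hw i)) (v i).2
  have hcls : ∀ i, I.toCotangent ⟨w i, hwI i⟩ = ((b i : F) : I.Cotangent) := by
    intro i
    rw [← hv i, Ideal.toCotangent_eq]
    exact hw i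
  refine ⟨w, hwI, IsRegular.of_isWeaklyRegular_of_mem_maximalIdeal R (fun s hs => ?_) hreg, ?_⟩
  · obtain ⟨i, rfl⟩ := List.mem_ofFn.1 hs
    exact IsLocalRing.le_maximalIdeal hI (hwI i)
  · have hfun : (fun i => I.toCotangent ⟨w i, hwI i⟩) = fun i => ((b i : F) : I.Cotangent) :=
      funext hcls
    rw [hfun]
    apply le_antisymm
    · rw [Submodule.span_le]
      rintro _ ⟨i, rfl⟩
      exact (b i).2
    · intro f hf
      have h1 := congrArg (fun t : F => (t : I.Cotangent)) (hb_repr ⟨f, hf⟩)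
      simp only [Submodule.coe_sum, Submodule.coe_smul] at h1
      rw [h1]
      exact Submodule.sum_mem _ fun i _ =>
        Submodule.smul_mem _ _ (Submodule.subset_span ⟨i, rfl⟩)

end Groth.Agent.Helper6.RelQI
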