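import Mathlib
import Groth.Prelude.Def_SiteCmp
import Groth.Agent.Helper6.RelocA
import Groth.Agent.Helper9.Cmp77
import Groth.Prelude.Def_WeakSerre

set_option autoImplicit false
set_option linter.style.haveILetI false
set_option linter.unusedSectionVars false
set_option linter.unusedVariables false
set_option linter.unusedSimpArgs false

/-!
# Comparing two topologies: if the `K'`-cokernel of `ε(u)` is a `K`-sheaf then `ε` preserves the
cokernel of `u`
-/

namespace Groth.Agent.Helper6.RelocF
open CategoryTheory Limits Opposite Groth.Agent.Helper6.RelocA Groth.Agent.Helper9.Cmp77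

universe u
variable {D : Type u} [SmallCategory D] {K K' : GrothendieckTopology D} (hle : K' ≤ K)

theorem coker_lemma {G G₀ : Sheaf K AddCommGrpCat.{u}} (u : G ⟶ G₀)
    (hQ' : Presheaf.IsSheaf K (cokernel ((SiteCmp.epsSh hle AddCommGrpCat.{u}).map u)).obj) :
    ∃ e : (SiteCmp.epsSh hle AddCommGrpCat.{u}).obj (cokernel u) ≅
        cokernel ((SiteCmp.epsSh hle AddCommGrpCat.{u}).map u),
      (SiteCmp.epsSh hle AddCommGrpCat.{u}).map (cokernel.π u) ≫ e.hom =
        cokernel.π ((SiteCmp.epsSh hle AddCommGrpCat.{u}).map u) := by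
  haveI := SiteCmp.idContinuous hle
  let E := SiteCmp.epsSh hle AddCommGrpCat.{u}
  let Q' := cokernel (E.map u)
  let Q'' : Sheaf K AddCommGrpCat.{u} := up Q' hQ'
  let i : E.obj Q'' ≅ Q' := epsUpIso hle Q' hQ'
  let FF := epsFF (K := K) (K' := K') hle
  let π'' : G₀ ⟶ Q'' := FF.preimage (cokernel.π (E.map u) ≫ i.inv)
  have hπ'' : E.map π'' = cokernel.π (E.map u) ≫ i.inv := FF.map_preimage _
  have w : u ≫ π'' = 0 := by
    apply E.map_injective
    rw [E.map_comp, hπ'', cokernel.condition_assoc, zero_comp, E.map_zero]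
  have hcolim : IsColimit (CokernelCofork.ofπ π'' w) :=
    CokernelCofork.IsColimit.ofπ π'' w
      (fun {T} t ht => FF.preimage (i.hom ≫ cokernel.desc (E.map u) (E.map t)
        (by rw [← E.map_comp, ht, E.map_zero])))
      (fun {T} t ht => by
        apply E.map_injective
        rw [E.map_comp, hπ'', FF.map_preimage, Category.assoc, Iso.inv_hom_id_assoc,
          cokernel.π_desc])
      (fun {T} t ht m hm => by
        apply E.map_injective
        rw [FF.map_preimage, ← Iso.inv_comp_eq]
        apply coequalizer.hom_ext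
        rw [cokernel.π_desc, ← Category.assoc, ← hπ'', ← E.map_comp, hm])
  let e₀ : cokernel u ≅ Q'' :=
    (cokernelIsCokernel u).coconePointUniqueUpToIso hcolim
  have he₀ : cokernel.π u ≫ e₀.hom = π'' :=
    (cokernelIsCokernel u).comp_coconePointUniqueUpToIso_hom hcolim WalkingParallelPair.one
  refine ⟨E.mapIso e₀ ≪≫ i, ?_⟩
  show E.map (cokernel.π u) ≫ E.map e₀.hom ≫ i.hom = _
  rw [← Category.assoc, ← E.map_comp, he₀, hπ'', Category.assoc, Iso.inv_hom_id, Category.comp_id]

/-- consequently `ε(π)` is an epimorphism -/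
theorem epi_eps_coker {G G₀ : Sheaf K AddCommGrpCat.{u}} (u : G ⟶ G₀)
    (hQ' : Presheaf.IsSheaf K (cokernel ((SiteCmp.epsSh hle AddCommGrpCat.{u}).map u)).obj) :
    Epi ((SiteCmp.epsSh hle AddCommGrpCat.{u}).map (cokernel.π u)) := by
  obtain ⟨e, he⟩ := coker_lemma hle u hQ'
  have : (SiteCmp.epsSh hle AddCommGrpCat.{u}).map (cokernel.π u) =
      cokernel.π ((SiteCmp.epsSh hle AddCommGrpCat.{u}).map u) ≫ e.inv := by
    rw [← he, Category.assoc, Iso.hom_inv_id, Category.comp_id]
  rw [this]
  infer_instance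


/-- `ε` of the cokernel sequence of a monomorphism is short exact -/
theorem shortExact_eps_coker {G G₀ : Sheaf K AddCommGrpCat.{u}} (u : G ⟶ G₀) [Mono u]
    (hQ' : Presheaf.IsSheaf K (cokernel ((SiteCmp.epsSh hle AddCommGrpCat.{u}).map u)).obj) :
    ((ShortComplex.mk u (cokernel.π u) (cokernel.condition u)).map
      (SiteCmp.epsSh hle AddCommGrpCat.{u})).ShortExact := by
  haveI := SiteCmp.idContinuous hle
  have hS : (ShortComplex.mk u (cokernel.π u) (cokernel.condition u)).ShortExact :=
    { exact := ShortComplex.exact_cokernel u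
      mono_f := inferInstanceAs (Mono u)
      epi_g := inferInstanceAs (Epi (cokernel.π u)) }
  exact
    { exact := hS.exact.map_of_mono_of_preservesKernel _ hS.mono_f inferInstance
      mono_f := by
        show Mono ((SiteCmp.epsSh hle AddCommGrpCat.{u}).map u)
        infer_instance
      epi_g := epi_eps_coker hle u hQ' }

section Concrete

variable {C : Type u} [SmallCategory C] {J J' : GrothendieckTopology C} (h : J' ≤ J)
  (A' : ∀ X : C, ObjectProperty (Sheaf (J'.over X) AddCommGrpCat.{u}))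
  [∀ X : C, WSerre.IsWeakSerre (A' X)]
  (h3 : ∀ (X : C) (F' : Sheaf (J'.over X) AddCommGrpCat.{u}), A' X F' →
      Presheaf.IsSheaf (J.over X) F'.obj)

include h3 in
/-- the class `A_Y` is closed under cokernels, and `ε` preserves these cokernels -/
theorem A'_coker {Y : C} {G G₀ : Sheaf (J.over Y) AddCommGrpCat.{u}} (u : G ⟶ G₀)
    (hG : A' Y ((SiteCmp.epsSh (SiteCmp.over_le h Y) AddCommGrpCat.{u}).obj G))
    (hG₀ : A' Y ((SiteCmp.epsSh (SiteCmp.over_le h Y) AddCommGrpCat.{u}).obj G₀)) :
    A' Y ((SiteCmp.epsSh (SiteCmp.over_le h Y) AddCommGrpCat.{u}).obj (cokernel u)) ∧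
      Presheaf.IsSheaf (J.over Y)
        (cokernel ((SiteCmp.epsSh (SiteCmp.over_le h Y) AddCommGrpCat.{u}).map u)).obj ∧
      Epi ((SiteCmp.epsSh (SiteCmp.over_le h Y) AddCommGrpCat.{u}).map (cokernel.π u)) := by
  have hQ' := (A' Y).prop_cokernel
    ((SiteCmp.epsSh (SiteCmp.over_le h Y) AddCommGrpCat.{u}).map u) hG hG₀
  have hsh := h3 Y _ hQ'
  obtain ⟨e, he⟩ := coker_lemma (SiteCmp.over_le h Y) u hsh
  exact ⟨(A' Y).prop_of_iso e.symm hQ', hsh, epi_eps_coker _ u hsh⟩

end Concrete

end Groth.Agent.Helper6.RelocF
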