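import Mathlib
import Groth.Agent.Helper6.RepCancel

/-!
# Helper6: cancelling on the left of `RepByAlgSpWith P`
-/

set_option autoImplicit false
set_option linter.style.haveILetI false
set_option linter.unusedVariables false
universe u

namespace Groth.Agent.Helper6.RepCancel2
open CategoryTheory Functor FibCat Limits AlgebraicGeometry Opposite
open Groth.Agent.Helper3 Stk Groth.Agent.Helper6.OfPsh Groth.Agent.Helper6.OfPshHom
open Groth.Agent.Helper6.FpTools Groth.Agent.Helper6.OfPshFp Groth.Agent.Helper6.AlgStRep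
open Groth.Agent.Helper6.AlgStEquiv Groth.Agent.Helper6.AlgStInv Groth.Agent.Helper6.AlgStPsh
open Groth.Agent.Helper6.DiagRed Groth.Agent.Helper6.RepDiag Groth.Agent.Helper6.RepComp
open Groth.Agent.Helper6.DiagRep Groth.Agent.Helper6.AlgStPts Groth.Agent.Helper6.StPts
open Groth.Agent.Helper6.SmLoc Groth.Agent.Helper6.ChartOver Groth.Agent.Helper6.StTop
open Groth.Agent.Helper6.QcMor2 Groth.Agent.Helper6.SpAtlas Groth.Agent.Helper4.SDClasses
open Groth.Agent.Helper6.Descent1 Groth.Agent.Helper6.Descent2 Groth.Agent.Helper6.LocQ0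
open Groth.Agent.Helper6.LocQ1 Groth.Agent.Helper6.LocQ2 Groth.Agent.Helper6.AlgStBC
open Groth.Agent.Helper6.OverRep Groth.Agent.Helper6.LocQ3 Groth.Agent.Helper6.LocQ4
open Groth.Agent.Helper6.FlatST Groth.Agent.Helper6.DiagLft Groth.Agent.Helper6.ToSpace
open Groth.Agent.Helper6.RepCancel AlgSp



variable {S : Scheme.{u}} {𝒳 𝒴 𝒵 : AlgSt.Cat S}

set_option backward.isDefEq.respectTransparency.types false in
/-- left cancellation: if `α ≫ β` and `β` have `P` and `P` has the cancellation property for maps of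
algebraic spaces, then `α` has `P` -/
theorem rep_left_cancel (P : MorphismProperty (Sp S))
    (hPb : ∀ ⦃X₁ Y₁ X₂ Y₂ : Sp S⦄, IsAlgSpace X₁ → IsAlgSpace Y₁ → IsAlgSpace X₂ →
      IsAlgSpace Y₂ → ∀ (a : X₁ ⟶ Y₁) (b : Y₂ ⟶ Y₁) (a' : X₂ ⟶ Y₂) (b' : X₂ ⟶ X₁),
      IsPullback b' a' a b → P a → P a')
    (hcancel : ∀ ⦃X Y Z : Sp S⦄, IsAlgSpace X → IsAlgSpace Y → IsAlgSpace Z →
      ∀ (a : X ⟶ Y) (b : Y ⟶ Z), P b → P (a ≫ b) → P a)
    (α : 𝒳 ⥤ᵇ 𝒴) (β : 𝒴 ⥤ᵇ 𝒵) (hβ : AlgSt.RepByAlgSpWith P β)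
    (hαβ : AlgSt.RepByAlgSpWith P (BasedFunctor.comp α β)) : AlgSt.RepByAlgSpWith P α := by
  intro U t
  let t' : overCat U ⥤ᵇ 𝒵 := BasedFunctor.comp t β
  obtain ⟨G, eG, heG, hPG⟩ := hβ U t'
  obtain ⟨F, eF, heF, hPF⟩ := hαβ U t'
  obtain ⟨K, hK, -, ⟨ε⟩⟩ := EquivOver.symm (isEquivOver_compFunctor t' β α eG heG)
  let w : AlgSt.ofSp G.obj ⥤ᵇ 𝒴 := BasedFunctor.comp eG (fpSnd t' β)
  let e' : AlgSt.ofSp F.obj ⥤ᵇ fp w α := BasedFunctor.comp eF K
  have he' : IsEquivOver e' := isEquivOver_comp heF hK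
  let c : F.obj ⟶ G.obj := ObjectProperty.homMk (homOf (BasedFunctor.comp e' (fpFst w α)))
  have i : BasedFunctor.comp e' (fpFst w α) ≅ AlgSt.ofSpMap c :=
    isoHomOf (BasedFunctor.comp e' (fpFst w α))
  -- `P (c ≫ b)`
  have hcb : P (c ≫ AlgSt.spMapOfOver (BasedFunctor.comp eG (fpFst t' β))) := by
    rw [← spMapOfOver_ofSpMap_comp]
    have j1 : BasedFunctor.comp (AlgSt.ofSpMap c) (BasedFunctor.comp eG (fpFst t' β)) ≅
        BasedFunctor.comp (BasedFunctor.comp e' (fpFst w α)) (BasedFunctor.comp eG (fpFst t' β)) :=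
      whiskerRightIso' i.symm _
    have j2 : BasedFunctor.comp (BasedFunctor.comp e' (fpFst w α))
        (BasedFunctor.comp eG (fpFst t' β)) ≅
        BasedFunctor.comp (BasedFunctor.comp eF (BasedFunctor.comp K (compFunctor t' β α eG)))
          (fpFst t' (BasedFunctor.comp α β)) := Iso.refl _
    have j3 : BasedFunctor.comp (BasedFunctor.comp eF (BasedFunctor.comp K (compFunctor t' β α eG)))
          (fpFst t' (BasedFunctor.comp α β)) ≅
        BasedFunctor.comp (BasedFunctor.comp eF (BasedFunctor.id _))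
          (fpFst t' (BasedFunctor.comp α β)) :=
      whiskerRightIso' (whiskerLeftIso' eF ε) _
    have j4 : BasedFunctor.comp (BasedFunctor.comp eF (BasedFunctor.id _))
          (fpFst t' (BasedFunctor.comp α β)) ≅
        BasedFunctor.comp eF (fpFst t' (BasedFunctor.comp α β)) := Iso.refl _
    rw [spMapOfOver_congr (j1 ≪≫ j2 ≪≫ j3 ≪≫ j4)]
    exact hPF
  have hc : P c := hcancel F.property G.property (IsAlgSpace.yon_obj U) c _ hPG hcb
  have h1 : AlgSt.RepByAlgSpWith P (AlgSt.ofSpMap c) := rep_ofSpMap P hPb F.property G.property c hc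
  have h2 : AlgSt.RepByAlgSpWith P (fpFst w α) :=
    repByAlgSpWith_of_square' P (fpFst w α) (AlgSt.ofSpMap c) e' (BasedFunctor.id _) he'
      (isEquivOver_id _) i.symm h1
  -- the section
  obtain ⟨KG, hKG, -, ⟨εG⟩⟩ := EquivOver.symm heG
  let σ : overCat U ⥤ᵇ fp t' β := fpLift (BasedFunctor.id _) t (Iso.refl _)
  let s : overCat U ⥤ᵇ AlgSt.ofSp G.obj := BasedFunctor.comp σ KG
  have κ : BasedFunctor.comp s w ≅ t :=
    whiskerRightIso' (whiskerLeftIso' σ εG) (fpSnd t' β)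
  have h3 := rep_transfer' P (pasteLeft s w α) (isEquivOver_pasteLeft s w α)
    (fpFst s (fpFst w α)) (fpFst (BasedFunctor.comp s w) α) (Iso.refl _) (h2 U s)
  have θ : BasedFunctor.comp (BasedFunctor.comp s w) (BasedFunctor.id _) ≅
      BasedFunctor.comp (BasedFunctor.id (overCat U)) t := κ
  have η : BasedFunctor.comp α (BasedFunctor.id _) ≅ BasedFunctor.comp (BasedFunctor.id _) α :=
    Iso.refl _
  exact rep_transfer P
    (cospanFunctor t α (BasedFunctor.comp s w) α (BasedFunctor.id _) (BasedFunctor.id _)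
      (BasedFunctor.id _) θ η)
    (isEquivOver_cospanFunctor _ _ _ _ _ _ _ θ η (isEquivOver_id _) (isEquivOver_id _)
      (isEquivOver_id _))
    (fpFst t α) (fpFst (BasedFunctor.comp s w) α) (Iso.refl _) h3

set_option backward.isDefEq.respectTransparency.types false in
/-- S17272: cancellation for diagonals -/
theorem diag_left_cancel (P : MorphismProperty (Sp S))
    (hPb : ∀ ⦃X₁ Y₁ X₂ Y₂ : Sp S⦄, IsAlgSpace X₁ → IsAlgSpace Y₁ → IsAlgSpace X₂ →
      IsAlgSpace Y₂ → ∀ (a : X₁ ⟶ Y₁) (b : Y₂ ⟶ Y₁) (a' : X₂ ⟶ Y₂) (b' : X₂ ⟶ X₁),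
      IsPullback b' a' a b → P a → P a')
    (hcancel : ∀ ⦃X Y Z : Sp S⦄, IsAlgSpace X → IsAlgSpace Y → IsAlgSpace Z →
      ∀ (a : X ⟶ Y) (b : Y ⟶ Z), P b → P (a ≫ b) → P a)
    (f : 𝒳 ⥤ᵇ 𝒴) (g : 𝒴 ⥤ᵇ 𝒵) (hg : AlgSt.RepByAlgSpWith P (diag g))
    (hfg : AlgSt.RepByAlgSpWith P (diag (BasedFunctor.comp f g))) :
    AlgSt.RepByAlgSpWith P (diag f) := by
  have h1 : AlgSt.RepByAlgSpWith P (Groth.Agent.Helper6.DiagComp.cmpSelf f g) :=
    Groth.Agent.Helper6.AlgStBC.repByAlgSpWith_fpComparison P f f g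
      (Groth.Agent.Helper6.DiagComp.selfIso f g) (Groth.Agent.Helper6.DiagComp.selfIso_app f g) hg
  have h2 : AlgSt.RepByAlgSpWith P
      (BasedFunctor.comp (diag f) (Groth.Agent.Helper6.DiagComp.cmpSelf f g)) :=
    Groth.Agent.Helper6.AlgStSpMap.repByAlgSpWith_of_iso P
      (Groth.Agent.Helper6.DiagComp.diagCompIso f g).symm hfg
  exact rep_left_cancel P hPb hcancel (diag f) (Groth.Agent.Helper6.DiagComp.cmpSelf f g) h1 h2

end Groth.Agent.Helper6.RepCancel2
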