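import Mathlib
import Groth.Agent.Helper6.RepCancel
import Groth.Agent.Helper4.AlgSpSrc

/-!
# Helper6: composition of functors representable by schemes with a property (no locality needed)
-/

set_option autoImplicit false
set_option linter.style.haveILetI false
set_option linter.unusedVariables false
universe u

namespace Groth.Agent.Helper6.RepWithComp
open CategoryTheory Functor FibCat Limits AlgebraicGeometry Opposite
open Groth.Agent.Helper3 Stk Groth.Agent.Helper6.OfPsh Groth.Agent.Helper6.OfPshHom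
open Groth.Agent.Helper6.FpTools Groth.Agent.Helper6.OfPshFp Groth.Agent.Helper6.AlgStRep
open Groth.Agent.Helper6.AlgStEquiv Groth.Agent.Helper6.AlgStInv Groth.Agent.Helper6.AlgStPsh
open Groth.Agent.Helper6.DiagRed Groth.Agent.Helper6.RepDiag Groth.Agent.Helper6.RepComp
open Groth.Agent.Helper6.DiagRep Groth.Agent.Helper6.AlgStPts Groth.Agent.Helper6.StPts
open Groth.Agent.Helper6.SmLoc Groth.Agent.Helper6.ChartOver Groth.Agent.Helper6.StTop
open Groth.Agent.Helper6.QcMor2 Groth.Agent.Helper6.SpAtlas Groth.Agent.Helper4.SDClasses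
open Groth.Agent.Helper6.Descent1 Groth.Agent.Helper6.Descent2 Groth.Agent.Helper6.LocQ0
open Groth.Agent.Helper6.LocQ1 Groth.Agent.Helper6.LocQ2 Groth.Agent.Helper6.AlgStBC
open Groth.Agent.Helper6.OverRep Groth.Agent.Helper6.LocQ3 Groth.Agent.Helper6.LocQ4
open Groth.Agent.Helper6.FlatST Groth.Agent.Helper6.DiagLft Groth.Agent.Helper6.ToSpace
open AlgSp



variable {S : Scheme.{u}} {𝒳 𝒴 𝒵 : AlgSt.Cat S}

set_option backward.isDefEq.respectTransparency.types false in
/-- composition of functors representable (by schemes) with a property `Q` stable under base change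
and composition -/
theorem repWith_comp_stack (Q : MorphismProperty Scheme.{u}) [Q.IsStableUnderBaseChange]
    [Q.IsMultiplicative] (f : 𝒳 ⥤ᵇ 𝒴) (g : 𝒴 ⥤ᵇ 𝒵)
    (hf : AlgSt.RepByAlgSpWith (RepWith Q) f) (hg : AlgSt.RepByAlgSpWith (RepWith Q) g) :
    AlgSt.RepByAlgSpWith (RepWith Q) (BasedFunctor.comp f g) := by
  intro U t
  obtain ⟨G, eG, heG, hQG⟩ := hg U t
  obtain ⟨V, snd, fst, sq⟩ := hQG.1 (𝟙 ((yon S).obj U))
  have hsnd : Q snd.left := hQG.2 (𝟙 _) fst snd sq
  haveI : IsIso fst := sq.isIso_fst_of_isIso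
  let φ : ((yon S).obj V).obj ≅ G.obj.obj := (ObjectProperty.ι _).mapIso (asIso fst)
  have hφ : IsEquivOver (AlgSt.ofSpMap fst) := isEquivOver_ofPshMap_iso φ
  let E_V : overCat V ⥤ᵇ fp t g :=
    BasedFunctor.comp (AlgSt.ofOverCat V) (BasedFunctor.comp (AlgSt.ofSpMap fst) eG)
  have hE_V : IsEquivOver E_V :=
    isEquivOver_comp (isEquivOver_ofOverCat V) (isEquivOver_comp hφ heG)
  obtain ⟨F, eF, heF, hQF⟩ := hf V (BasedFunctor.comp E_V (fpSnd t g))
  refine ⟨F, BasedFunctor.comp eF (compFunctor t g f E_V),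
    isEquivOver_comp heF (isEquivOver_compFunctor t g f E_V hE_V), ?_⟩
  obtain ⟨c', ⟨κ⟩⟩ := exists_ofSpMap_iso
    (BasedFunctor.comp eF (fpFst (BasedFunctor.comp E_V (fpSnd t g)) f))
  have hc' : AlgSt.spMapOfOver
      (BasedFunctor.comp eF (fpFst (BasedFunctor.comp E_V (fpSnd t g)) f)) = c' := by
    rw [spMapOfOver_congr κ, spMapOfOver_ofSpMap_toOverCat]
  have j1 : BasedFunctor.comp (BasedFunctor.comp eF (compFunctor t g f E_V))
      (fpFst t (BasedFunctor.comp f g)) ≅
      BasedFunctor.comp (BasedFunctor.comp eF (fpFst (BasedFunctor.comp E_V (fpSnd t g)) f))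
        (BasedFunctor.comp E_V (fpFst t g)) := Iso.refl _
  have j2 : BasedFunctor.comp (BasedFunctor.comp eF (fpFst (BasedFunctor.comp E_V (fpSnd t g)) f))
        (BasedFunctor.comp E_V (fpFst t g)) ≅
      BasedFunctor.comp (BasedFunctor.comp (AlgSt.ofSpMap c') (AlgSt.toOverCat V))
        (BasedFunctor.comp E_V (fpFst t g)) := whiskerRightIso' κ _
  have j3 : BasedFunctor.comp (BasedFunctor.comp (AlgSt.ofSpMap c') (AlgSt.toOverCat V))
        (BasedFunctor.comp E_V (fpFst t g)) ≅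
      BasedFunctor.comp (AlgSt.ofSpMap c') (BasedFunctor.comp (AlgSt.ofSpMap fst)
        (BasedFunctor.comp eG (fpFst t g))) := Iso.refl _
  have h1 : AlgSt.spMapOfOver (BasedFunctor.comp (BasedFunctor.comp eF (compFunctor t g f E_V))
      (fpFst t (BasedFunctor.comp f g))) = c' ≫ (yon S).map snd := by
    rw [spMapOfOver_congr (j1 ≪≫ j2 ≪≫ j3), spMapOfOver_ofSpMap_comp, spMapOfOver_ofSpMap_comp,
      sq.w, Category.comp_id]
  rw [h1]
  have h2 : RepWith Q ((yon S).map snd) := (repWith_yon_map_iff Q snd).2 hsnd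
  rw [hc'] at hQF
  exact Groth.Agent.Helper4.AlgSpSrc.repWith_comp Q hQF h2

end Groth.Agent.Helper6.RepWithComp
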