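import Mathlib

/-!
# Counting pairs of polynomials over a finite field with non-vanishing resultant
-/

set_option autoImplicit false
set_option linter.style.haveILetI false
set_option linter.unusedSectionVars false

universe u
open Polynomial

namespace Groth.Agent.Helper6.ResCnt

section tools

theorem card_split {α : Type*} [Finite α] (P Q : α → Prop) :
    Nat.card {x // P x} = Nat.card {x // P x ∧ Q x} + Nat.card {x // P x ∧ ¬ Q x} := by
  classical
  haveI := Fintype.ofFinite α
  simp only [Nat.card_eq_fintype_card, Fintype.card_subtype]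
  rw [← Finset.card_filter_add_card_filter_not (s := Finset.univ.filter P) Q, Finset.filter_filter,
    Finset.filter_filter]

theorem card_fst_fiber {A B : Type*} [Fintype A] [Finite B] (Q : A → Prop) [DecidablePred Q]
    (R : A → B → Prop) :
    Nat.card {p : A × B // Q p.1 ∧ R p.1 p.2} = ∑ a : {a // Q a}, Nat.card {b // R a.1 b} := by
  rw [← Nat.card_sigma]
  refine Nat.card_congr ?_
  exact
    { toFun := fun x => ⟨⟨x.1.1, x.2.1⟩, ⟨x.1.2, x.2.2⟩⟩
      invFun := fun y => ⟨(y.1.1, y.2.1), ⟨y.1.2, y.2.2⟩⟩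
      left_inv := fun x => rfl
      right_inv := fun y => rfl }

theorem card_snd_fiber_const {A B : Type*} [Finite A] [Finite B] (R : A → B → Prop) (Q : B → Prop)
    (c : ℕ) (h : ∀ b, Q b → Nat.card {a // R a b} = c) :
    Nat.card {p : A × B // R p.1 p.2 ∧ Q p.2} = Nat.card {b // Q b} * c := by
  classical
  haveI := Fintype.ofFinite B
  have e : {p : A × B // R p.1 p.2 ∧ Q p.2} ≃ Σ b : {b // Q b}, {a // R a b.1} :=
    { toFun := fun x => ⟨⟨x.1.2, x.2.2⟩, ⟨x.1.1, x.2.1⟩⟩
      invFun := fun y => ⟨(y.2.1, y.1.1), ⟨y.2.2, y.1.2⟩⟩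
      left_inv := fun x => rfl
      right_inv := fun y => rfl }
  rw [Nat.card_congr e, Nat.card_sigma, Finset.sum_congr rfl (fun b _ => h b.1 b.2),
    Finset.sum_const, Finset.card_univ, smul_eq_mul, Nat.card_eq_fintype_card]

theorem card_prod_snd {A B : Type*} [Finite A] [Finite B] (P : B → Prop) :
    Nat.card {p : A × B // P p.2} = Nat.card A * Nat.card {b // P b} := by
  have e : {p : A × B // P p.2} ≃ A × {b // P b} :=
    { toFun := fun x => (x.1.1, ⟨x.1.2, x.2⟩)
      invFun := fun y => ⟨(y.1, y.2.1), y.2.2⟩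
      left_inv := fun x => rfl
      right_inv := fun y => rfl }
  rw [Nat.card_congr e, Nat.card_prod]

theorem prod_one_special {ι : Type*} [Fintype ι] [DecidableEq ι] (i : ι) (t q : ℕ) :
    ∏ k : ι, (if k = i then t else q) = t * q ^ (Fintype.card ι - 1) := by
  rw [← Finset.mul_prod_erase Finset.univ _ (Finset.mem_univ i), if_pos rfl]
  congr 1
  rw [Finset.prod_congr rfl (g := fun _ => q)]
  · rw [Finset.prod_const, Finset.card_erase_of_mem (Finset.mem_univ i), Finset.card_univ]
  · intro k hk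
    rw [if_neg (Finset.mem_erase.mp hk).1]

theorem prod_two_special {ι : Type*} [Fintype ι] [DecidableEq ι] (i j : ι) (hij : i ≠ j)
    (t q : ℕ) :
    ∏ k : ι, (if k = i ∨ k = j then t else q) = t * t * q ^ (Fintype.card ι - 2) := by
  have hj : j ∈ Finset.univ.erase i := Finset.mem_erase.mpr ⟨hij.symm, Finset.mem_univ j⟩
  rw [← Finset.mul_prod_erase Finset.univ _ (Finset.mem_univ i),
    ← Finset.mul_prod_erase (Finset.univ.erase i) _ hj, if_pos (Or.inl rfl), if_pos (Or.inr rfl),
    ← mul_assoc]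
  congr 1
  rw [Finset.prod_congr rfl (g := fun _ => q)]
  · rw [Finset.prod_const, Finset.card_erase_of_mem hj,
      Finset.card_erase_of_mem (Finset.mem_univ i), Finset.card_univ]
    rfl
  · intro k hk
    have h1 : k ≠ j := (Finset.mem_erase.mp hk).1
    have h2 : k ≠ i := (Finset.mem_erase.mp (Finset.mem_erase.mp hk).2).1
    rw [if_neg (by rintro (h | h); exact h2 h; exact h1 h)]

end tools

variable {F : Type u} [Field F]

/-- the polynomial with coefficient vector `c` -/
noncomputable def poly (k : ℕ) (c : Fin (k + 1) → F) : F[X] :=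
  ∑ j : Fin (k + 1), C (c j) * X ^ (j : ℕ)

theorem poly_coeff (k : ℕ) (c : Fin (k + 1) → F) (j : ℕ) :
    (poly k c).coeff j = if h : j < k + 1 then c ⟨j, h⟩ else 0 := by
  unfold poly
  rw [finsetSum_coeff]
  simp only [coeff_C_mul, coeff_X_pow]
  split_ifs with h
  · rw [Finset.sum_eq_single ⟨j, h⟩]
    · simp
    · intro i _ hi
      have : j ≠ (i : ℕ) := fun e => hi (Fin.ext e.symm)
      simp [this]
    · intro h'; exact absurd (Finset.mem_univ _) h'
  · refine Finset.sum_eq_zero fun i _ => ?_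
    have : j ≠ (i : ℕ) := fun e => h (e ▸ i.2)
    simp [this]

theorem poly_coeff_fin (k : ℕ) (c : Fin (k + 1) → F) (j : Fin (k + 1)) :
    (poly k c).coeff (j : ℕ) = c j := by
  rw [poly_coeff, dif_pos j.2]

theorem poly_coeff_last (k : ℕ) (c : Fin (k + 1) → F) :
    (poly k c).coeff k = c (Fin.last k) := by
  have := poly_coeff_fin k c (Fin.last k)
  simpa using this

theorem poly_natDegree_le (k : ℕ) (c : Fin (k + 1) → F) : (poly k c).natDegree ≤ k := by
  unfold poly
  refine natDegree_sum_le_of_forall_le _ _ fun j _ => ?_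
  exact (natDegree_C_mul_X_pow_le _ _).trans (Nat.lt_succ_iff.mp j.2)

theorem poly_of_coeff (k : ℕ) (p : F[X]) (hp : p.natDegree ≤ k) :
    poly k (fun j => p.coeff (j : ℕ)) = p := by
  ext j
  rw [poly_coeff]
  split_ifs with h
  · rfl
  · exact (coeff_eq_zero_of_natDegree_lt (by omega)).symm

theorem poly_injective (k : ℕ) : Function.Injective (poly (F := F) k) := by
  intro c c' h
  funext j
  rw [← poly_coeff_fin k c j, ← poly_coeff_fin k c' j, h]

theorem poly_smul (k : ℕ) (u : F) (c : Fin (k + 1) → F) :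
    poly k (fun i => u * c i) = C u * poly k c := by
  unfold poly
  rw [Finset.mul_sum]
  refine Finset.sum_congr rfl fun i _ => ?_
  rw [C_mul, mul_assoc]

theorem poly_eval (k : ℕ) (s : F) (c : Fin (k + 1) → F) :
    eval s (poly k c) = ∑ j : Fin (k + 1), c j * s ^ (j : ℕ) := by
  unfold poly
  rw [eval_finsetSum]
  simp

section counts

variable [Fintype F]

theorem card_pattern {ι : Type*} [Fintype ι] [DecidableEq ι] (S : ι → Finset F) :
    Nat.card {b : ι → F // ∀ k, b k ∈ S k} = ∏ k, (S k).card := by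
  classical
  rw [Nat.card_eq_fintype_card, Fintype.card_subtype, ← Fintype.card_piFinset]
  congr 1
  ext b
  simp [Fintype.mem_piFinset]

theorem card_nz [DecidableEq F] : (Finset.univ.erase (0 : F)).card = Fintype.card F - 1 := by
  rw [Finset.card_erase_of_mem (Finset.mem_univ _), Finset.card_univ]

theorem card_nz1 {ι : Type*} [Fintype ι] [DecidableEq ι] (i : ι) :
    Nat.card {b : ι → F // b i ≠ 0} =
      (Fintype.card F - 1) * Fintype.card F ^ (Fintype.card ι - 1) := by
  classical
  have e : ∀ b : ι → F, b i ≠ 0 ↔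
      ∀ k, b k ∈ (if k = i then Finset.univ.erase (0 : F) else Finset.univ) := by
    intro b
    constructor
    · intro h k
      by_cases hk : k = i
      · rw [if_pos hk, hk]; exact Finset.mem_erase.mpr ⟨h, Finset.mem_univ _⟩
      · rw [if_neg hk]; exact Finset.mem_univ _
    · intro h
      have := h i
      rw [if_pos rfl] at this
      exact (Finset.mem_erase.mp this).1
  rw [Nat.card_congr (Equiv.subtypeEquivRight e), card_pattern,
    ← prod_one_special i (Fintype.card F - 1) (Fintype.card F)]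
  refine Finset.prod_congr rfl fun k _ => ?_
  split_ifs
  · exact card_nz
  · exact Finset.card_univ

theorem card_nz2 {ι : Type*} [Fintype ι] [DecidableEq ι] (i j : ι) (hij : i ≠ j) :
    Nat.card {b : ι → F // b i ≠ 0 ∧ b j ≠ 0} =
      (Fintype.card F - 1) * (Fintype.card F - 1) * Fintype.card F ^ (Fintype.card ι - 2) := by
  classical
  have e : ∀ b : ι → F, (b i ≠ 0 ∧ b j ≠ 0) ↔
      ∀ k, b k ∈ (if k = i ∨ k = j then Finset.univ.erase (0 : F) else Finset.univ) := by
    intro b
    constructor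
    · intro h k
      by_cases hk : k = i ∨ k = j
      · rw [if_pos hk]
        rcases hk with hk | hk
        · rw [hk]; exact Finset.mem_erase.mpr ⟨h.1, Finset.mem_univ _⟩
        · rw [hk]; exact Finset.mem_erase.mpr ⟨h.2, Finset.mem_univ _⟩
      · rw [if_neg hk]; exact Finset.mem_univ _
    · intro h
      have h1 := h i
      have h2 := h j
      rw [if_pos (Or.inl rfl)] at h1
      rw [if_pos (Or.inr rfl)] at h2
      exact ⟨(Finset.mem_erase.mp h1).1, (Finset.mem_erase.mp h2).1⟩
  rw [Nat.card_congr (Equiv.subtypeEquivRight e), card_pattern,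
    ← prod_two_special i j hij (Fintype.card F - 1) (Fintype.card F)]
  refine Finset.prod_congr rfl fun k _ => ?_
  split_ifs
  · exact card_nz
  · exact Finset.card_univ

theorem card_fin2_pat :
    Nat.card {b : Fin 2 → F // b 1 = 0 ∧ b 0 ≠ 0} = Fintype.card F - 1 := by
  classical
  have e : ∀ b : Fin 2 → F, (b 1 = 0 ∧ b 0 ≠ 0) ↔
      ∀ k, b k ∈ (if k = 0 then Finset.univ.erase (0 : F) else {0}) := by
    intro b
    constructor
    · intro h k
      by_cases hk : k = 0
      · rw [if_pos hk, hk]; exact Finset.mem_erase.mpr ⟨h.2, Finset.mem_univ _⟩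
      · rw [if_neg hk]
        have : k = 1 := by omega
        rw [this, h.1]; exact Finset.mem_singleton_self _
    · intro h
      have h0 := h 0
      have h1 := h 1
      rw [if_pos rfl] at h0
      rw [if_neg (by decide)] at h1
      exact ⟨Finset.mem_singleton.mp h1, (Finset.mem_erase.mp h0).1⟩
  rw [Nat.card_congr (Equiv.subtypeEquivRight e), card_pattern, Fin.prod_univ_two, if_pos rfl,
    if_neg (by decide), card_nz, Finset.card_singleton, mul_one]

end counts

/-! ### resultants against polynomials of degree at most one -/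

theorem resultant_poly_one_of_zero (m : ℕ) (f : F[X]) (b : Fin 2 → F) (hb : b 1 = 0) :
    f.resultant (poly 1 b) m 1 = f.coeff m * (b 0) ^ m := by
  have : poly 1 b = C (b 0) := by
    unfold poly; rw [Fin.sum_univ_two]; simp [hb]
  rw [this, resultant_C_right, pow_one]

theorem resultant_poly_one_of_ne (m : ℕ) (f : F[X]) (hf : f.natDegree ≤ m) (b : Fin 2 → F)
    (hb : b 1 ≠ 0) :
    f.resultant (poly 1 b) m 1 = (b 1) ^ m * ((-1) ^ m * eval (-(b 0) / (b 1)) f) := by
  have : poly 1 b = C (b 1) * (X - C (-(b 0) / (b 1))) := by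
    unfold poly; rw [Fin.sum_univ_two]
    simp only [Fin.val_zero, pow_zero, mul_one, Fin.val_one, pow_one]
    rw [mul_sub, ← C_mul, mul_div_cancel₀ _ hb]
    simp [sub_neg_eq_add, add_comm]
  rw [this, resultant_C_mul_right, resultant_X_sub_C_right f m _ hf]

/-! ### the shear replacing the constant coefficient by a value -/

theorem shear_inj (m : ℕ) (s : F) :
    Function.Injective (fun a : Fin (m + 1) → F => Function.update a 0 (eval s (poly m a))) := by
  intro a a' h
  have h1 : ∀ j : Fin (m + 1), j ≠ 0 → a j = a' j := by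
    intro j hj
    have := congrFun h j
    simpa [Function.update_of_ne hj] using this
  have h0 := congrFun h 0
  simp only [Function.update_self] at h0
  rw [poly_eval, poly_eval, Fin.sum_univ_succ, Fin.sum_univ_succ] at h0
  have : ∑ i : Fin m, a i.succ * s ^ (i.succ : ℕ) = ∑ i : Fin m, a' i.succ * s ^ (i.succ : ℕ) :=
    Finset.sum_congr rfl fun i _ => by rw [h1 i.succ (Fin.succ_ne_zero i)]
  rw [this] at h0
  have h00 : a 0 = a' 0 := by simpa using h0
  funext j
  by_cases hj : j = 0
  · rw [hj]; exact h00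
  · exact h1 j hj

section counts2

variable [Fintype F]

/-- the shear as an equivalence -/
noncomputable def shear (m : ℕ) (s : F) : (Fin (m + 1) → F) ≃ (Fin (m + 1) → F) :=
  Equiv.ofBijective _ (Finite.injective_iff_bijective.mp (shear_inj m s))

theorem shear_zero (m : ℕ) (s : F) (a : Fin (m + 1) → F) :
    shear m s a 0 = eval s (poly m a) := by
  unfold shear
  rw [Equiv.ofBijective_apply, Function.update_self]

theorem shear_ne (m : ℕ) (s : F) (a : Fin (m + 1) → F) (j : Fin (m + 1)) (hj : j ≠ 0) :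
    shear m s a j = a j := by
  unfold shear
  rw [Equiv.ofBijective_apply, Function.update_of_ne hj]

/-- number of pairs `(f, g)`, `deg f ≤ m` with nonzero `m`-th coefficient, `deg g ≤ 1`, with nonzero resultant -/
theorem card_D_one (m : ℕ) (hm : 1 ≤ m) :
    Nat.card {p : (Fin (m + 1) → F) × (Fin 2 → F) // p.1 (Fin.last m) ≠ 0 ∧
      (poly m p.1).resultant (poly 1 p.2) m 1 ≠ 0} =
    (Fintype.card F - 1) * (Fintype.card F - 1) * Fintype.card F ^ (m + 1) := by
  classical
  have hm0 : m ≠ 0 := by omega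
  have hlast : (Fin.last m) ≠ 0 := by
    intro h
    have := congrArg Fin.val h
    simp at this
    omega
  rw [card_split _ (fun p => p.2 1 = 0)]
  -- first part
  have e1 : ∀ p : (Fin (m + 1) → F) × (Fin 2 → F),
      ((p.1 (Fin.last m) ≠ 0 ∧ (poly m p.1).resultant (poly 1 p.2) m 1 ≠ 0) ∧ p.2 1 = 0) ↔
      ((fun (a : Fin (m + 1) → F) (_ : Fin 2 → F) => a (Fin.last m) ≠ 0) p.1 p.2 ∧
        (fun b : Fin 2 → F => b 1 = 0 ∧ b 0 ≠ 0) p.2) := by
    intro p
    constructor
    · rintro ⟨⟨h1, h2⟩, h3⟩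
      rw [resultant_poly_one_of_zero m _ _ h3] at h2
      refine ⟨h1, h3, ?_⟩
      intro h0
      apply h2
      rw [h0, zero_pow hm0, mul_zero]
    · rintro ⟨h1, h3, h0⟩
      refine ⟨⟨h1, ?_⟩, h3⟩
      rw [resultant_poly_one_of_zero m _ _ h3, poly_coeff_last]
      exact mul_ne_zero h1 (pow_ne_zero _ h0)
  have P1 := card_snd_fiber_const (A := Fin (m + 1) → F) (B := Fin 2 → F)
    (fun (a : Fin (m + 1) → F) (_ : Fin 2 → F) => a (Fin.last m) ≠ 0)
    (fun b : Fin 2 → F => b 1 = 0 ∧ b 0 ≠ 0)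
    ((Fintype.card F - 1) * Fintype.card F ^ m)
    (fun b _ => by
      have := card_nz1 (F := F) (Fin.last m)
      simpa using this)
  rw [Nat.card_congr (Equiv.subtypeEquivRight e1), P1, card_fin2_pat]
  -- second part
  have P2 := card_snd_fiber_const (A := Fin (m + 1) → F) (B := Fin 2 → F)
    (fun (a : Fin (m + 1) → F) (b : Fin 2 → F) => a (Fin.last m) ≠ 0 ∧
      (poly m a).resultant (poly 1 b) m 1 ≠ 0)
    (fun b : Fin 2 → F => ¬ b 1 = 0)
    ((Fintype.card F - 1) * (Fintype.card F - 1) * Fintype.card F ^ (m - 1))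
    (fun b hb => by
      have hiff : ∀ a : Fin (m + 1) → F,
          (a (Fin.last m) ≠ 0 ∧ (poly m a).resultant (poly 1 b) m 1 ≠ 0) ↔
          (shear m (-(b 0) / (b 1)) a (Fin.last m) ≠ 0 ∧ shear m (-(b 0) / (b 1)) a 0 ≠ 0) := by
        intro a
        rw [shear_ne m _ a _ hlast, shear_zero,
          resultant_poly_one_of_ne m _ (poly_natDegree_le m a) b hb]
        have hb' : (b 1) ^ m ≠ 0 := pow_ne_zero _ hb
        have hs : ((-1 : F)) ^ m ≠ 0 := pow_ne_zero _ (by norm_num)
        constructor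
        · rintro ⟨h1, h2⟩
          refine ⟨h1, fun h0 => h2 ?_⟩
          rw [h0, mul_zero, mul_zero]
        · rintro ⟨h1, h2⟩
          exact ⟨h1, mul_ne_zero hb' (mul_ne_zero hs h2)⟩
      rw [Nat.card_congr (Equiv.subtypeEquiv (q := fun a' : Fin (m + 1) → F => a' (Fin.last m) ≠ 0 ∧ a' 0 ≠ 0)
          (shear m (-(b 0) / (b 1))) hiff),
        card_nz2 (F := F) (Fin.last m) 0 hlast]
      simp)
  have hN4 : Nat.card {b : Fin 2 → F // ¬ b 1 = 0} = (Fintype.card F - 1) * Fintype.card F := by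
    have := card_nz1 (F := F) (1 : Fin 2)
    simpa using this
  rw [P2, hN4]
  obtain ⟨T, hT⟩ : ∃ T, Fintype.card F = T + 1 :=
    Nat.exists_eq_succ_of_ne_zero Fintype.card_ne_zero
  obtain ⟨m', rfl⟩ : ∃ m', m = m' + 1 := Nat.exists_eq_succ_of_ne_zero hm0
  rw [hT]
  simp only [Nat.add_sub_cancel]
  ring

end counts2

/-! ### lowering the degree of the second polynomial -/

section recursion

variable [Fintype F]

/-- coefficients of `g₀ + c X^(n+1-m) f` -/
noncomputable def lift (m n : ℕ) (a : Fin (m + 1) → F) (x : F × (Fin (n + 1) → F)) :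
    Fin (n + 1 + 1) → F :=
  fun j => (poly n x.2 + poly m a * (C x.1 * X ^ (n + 1 - m))).coeff (j : ℕ)

theorem poly_lift (m n : ℕ) (hmn : m ≤ n + 1) (a : Fin (m + 1) → F) (x : F × (Fin (n + 1) → F)) :
    poly (n + 1) (lift m n a x) = poly n x.2 + poly m a * (C x.1 * X ^ (n + 1 - m)) := by
  unfold lift
  apply poly_of_coeff
  refine natDegree_add_le_of_degree_le ((poly_natDegree_le n x.2).trans (Nat.le_succ n)) ?_
  refine natDegree_mul_le.trans ?_
  have h1 := poly_natDegree_le m a
  have h2 := natDegree_C_mul_X_pow_le x.1 (n + 1 - m)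
  omega

theorem resultant_lift (m n : ℕ) (hmn : m ≤ n + 1) (a : Fin (m + 1) → F)
    (x : F × (Fin (n + 1) → F)) :
    (poly m a).resultant (poly (n + 1) (lift m n a x)) m (n + 1) =
      a (Fin.last m) * (poly m a).resultant (poly n x.2) m n := by
  have hp : (C x.1 * X ^ (n + 1 - m)).natDegree + m ≤ n + 1 := by
    have h2 := natDegree_C_mul_X_pow_le x.1 (n + 1 - m)
    omega
  rw [poly_lift m n hmn, resultant_add_mul_right _ _ _ _ _ hp (poly_natDegree_le m a),
    resultant_add_right_deg _ _ _ _ 1 (poly_natDegree_le n x.2), pow_one, poly_coeff_last]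

theorem lift_injective (m n : ℕ) (hmn : m ≤ n + 1) (a : Fin (m + 1) → F)
    (ha : a (Fin.last m) ≠ 0) : Function.Injective (lift m n a) := by
  intro x x' h
  have hp : poly n x.2 + poly m a * (C x.1 * X ^ (n + 1 - m)) =
      poly n x'.2 + poly m a * (C x'.1 * X ^ (n + 1 - m)) := by
    rw [← poly_lift m n hmn, ← poly_lift m n hmn, h]
  have hc : ∀ y : F × (Fin (n + 1) → F),
      (poly n y.2 + poly m a * (C y.1 * X ^ (n + 1 - m))).coeff (n + 1) =
        y.1 * a (Fin.last m) := by
    intro y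
    rw [coeff_add, poly_coeff, dif_neg (lt_irrefl _), zero_add]
    have : poly m a * (C y.1 * X ^ (n + 1 - m)) = C y.1 * (poly m a * X ^ (n + 1 - m)) := by ring
    rw [this, coeff_C_mul, coeff_mul_X_pow', if_pos (Nat.sub_le _ _)]
    have : n + 1 - (n + 1 - m) = m := by omega
    rw [this, poly_coeff_last]
  have h1 : x.1 = x'.1 := by
    have := congrArg (fun p => p.coeff (n + 1)) hp
    simp only [hc] at this
    exact mul_right_cancel₀ ha this
  have h2 : x.2 = x'.2 := by
    rw [h1] at hp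
    exact poly_injective n (add_right_cancel hp)
  exact Prod.ext h1 h2

theorem lift_bijective (m n : ℕ) (hmn : m ≤ n + 1) (a : Fin (m + 1) → F)
    (ha : a (Fin.last m) ≠ 0) : Function.Bijective (lift m n a) := by
  classical
  rw [Fintype.bijective_iff_injective_and_card]
  refine ⟨lift_injective m n hmn a ha, ?_⟩
  simp [Fintype.card_prod, pow_succ, mul_comm]

theorem card_N_succ (m n : ℕ) (hmn : m ≤ n + 1) (a : Fin (m + 1) → F)
    (ha : a (Fin.last m) ≠ 0) :
    Nat.card {b : Fin (n + 1 + 1) → F // (poly m a).resultant (poly (n + 1) b) m (n + 1) ≠ 0} =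
      Fintype.card F *
        Nat.card {b : Fin (n + 1) → F // (poly m a).resultant (poly n b) m n ≠ 0} := by
  have hiff : ∀ x : F × (Fin (n + 1) → F), ((poly m a).resultant (poly n x.2) m n ≠ 0) ↔
      (poly m a).resultant
        (poly (n + 1) (Equiv.ofBijective _ (lift_bijective m n hmn a ha) x)) m (n + 1) ≠ 0 := by
    intro x
    rw [Equiv.ofBijective_apply, resultant_lift m n hmn]
    exact ⟨fun h => mul_ne_zero ha h, fun h h0 => h (by rw [h0, mul_zero])⟩
  rw [← Nat.card_congr (Equiv.subtypeEquiv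
      (p := fun x : F × (Fin (n + 1) → F) => (poly m a).resultant (poly n x.2) m n ≠ 0)
      (q := fun b => (poly m a).resultant (poly (n + 1) b) m (n + 1) ≠ 0)
      (Equiv.ofBijective _ (lift_bijective m n hmn a ha)) hiff),
    card_prod_snd (A := F) (fun b : Fin (n + 1) → F => (poly m a).resultant (poly n b) m n ≠ 0),
    Nat.card_eq_fintype_card]

variable (F) in
/-- pairs with nonzero top coefficient of the first polynomial and nonzero resultant -/
noncomputable def D (m n : ℕ) : ℕ :=
  Nat.card {p : (Fin (m + 1) → F) × (Fin (n + 1) → F) // p.1 (Fin.last m) ≠ 0 ∧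
    (poly m p.1).resultant (poly n p.2) m n ≠ 0}

theorem D_succ (m n : ℕ) (hmn : m ≤ n + 1) : D F m (n + 1) = Fintype.card F * D F m n := by
  classical
  unfold D
  rw [card_fst_fiber (fun a : Fin (m + 1) → F => a (Fin.last m) ≠ 0)
      (fun a (b : Fin (n + 1 + 1) → F) => (poly m a).resultant (poly (n + 1) b) m (n + 1) ≠ 0),
    card_fst_fiber (fun a : Fin (m + 1) → F => a (Fin.last m) ≠ 0)
      (fun a (b : Fin (n + 1) → F) => (poly m a).resultant (poly n b) m n ≠ 0), Finset.mul_sum]
  exact Finset.sum_congr rfl fun a _ => card_N_succ m n hmn a.1 a.2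

theorem D_one (m : ℕ) (hm : 1 ≤ m) :
    D F m 1 = (Fintype.card F - 1) * (Fintype.card F - 1) * Fintype.card F ^ (m + 1) := by
  unfold D
  exact card_D_one m hm

theorem D_two (n : ℕ) : D F 2 (n + 1) = Fintype.card F ^ n * D F 2 1 := by
  induction n with
  | zero => simp
  | succ n ih => rw [D_succ 2 (n + 1) (by omega), ih, pow_succ]; ring

/-! ### vanishing top coefficient of the quadratic -/

theorem poly_two_of_last_zero (a : Fin 3 → F) (h : a (Fin.last 2) = 0) :
    poly 2 a = poly 1 (fun i : Fin 2 => a i.castSucc) := by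
  unfold poly
  rw [Fin.sum_univ_castSucc, h]
  simp

theorem resultant_two_of_le_one (n : ℕ) (f g : F[X]) (hf : f.natDegree ≤ 1) :
    f.resultant g 2 n ≠ 0 ↔ g.coeff n ≠ 0 ∧ g.resultant f n 1 ≠ 0 := by
  have h1 : f.resultant g 2 n = (-1) ^ n * g.coeff n * f.resultant g 1 n :=
    resultant_succ_left_deg f g 1 n hf
  have h2 : f.resultant g 1 n = (-1) ^ (1 * n) * g.resultant f n 1 := resultant_comm f g 1 n
  rw [h1, h2]
  have hs : ((-1 : F)) ^ n ≠ 0 := pow_ne_zero _ (by norm_num)
  have hs' : ((-1 : F)) ^ (1 * n) ≠ 0 := pow_ne_zero _ (by norm_num)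
  constructor
  · intro h
    refine ⟨fun h0 => h ?_, fun h0 => h ?_⟩
    · rw [h0, mul_zero, zero_mul]
    · rw [h0, mul_zero, mul_zero]
  · rintro ⟨h3, h4⟩
    exact mul_ne_zero (mul_ne_zero hs h3) (mul_ne_zero hs' h4)

theorem top_zero_iff (n : ℕ) (a : Fin 3 → F) (ha : a (Fin.last 2) = 0) (b : Fin (n + 1) → F) :
    (poly 2 a).resultant (poly n b) 2 n ≠ 0 ↔
      b (Fin.last n) ≠ 0 ∧
        (poly n b).resultant (poly 1 (fun i : Fin 2 => a i.castSucc)) n 1 ≠ 0 := by
  rw [poly_two_of_last_zero a ha, resultant_two_of_le_one n _ _ (poly_natDegree_le 1 _),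
    poly_coeff_last]

theorem card_top_zero (n : ℕ) :
    Nat.card {p : (Fin 3 → F) × (Fin (n + 1) → F) //
      (poly 2 p.1).resultant (poly n p.2) 2 n ≠ 0 ∧ ¬ p.1 (Fin.last 2) ≠ 0} = D F n 1 := by
  unfold D
  refine Nat.card_congr (Equiv.ofBijective
    (fun x => ⟨(x.1.2, fun i : Fin 2 => x.1.1 i.castSucc),
      (top_zero_iff n x.1.1 (not_not.mp x.2.2) x.1.2).mp x.2.1⟩) ⟨?_, ?_⟩)
  · rintro ⟨⟨a, b⟩, h1, h2⟩ ⟨⟨a', b'⟩, h1', h2'⟩ h
    simp only [Subtype.mk.injEq, Prod.mk.injEq] at h
    obtain ⟨hb, ha⟩ := h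
    have ha2 : a (Fin.last 2) = a' (Fin.last 2) :=
      (not_not.mp h2 : a (Fin.last 2) = 0).trans (not_not.mp h2' : a' (Fin.last 2) = 0).symm
    have haa : a = a' := by
      funext i
      refine Fin.lastCases ?_ (fun j => ?_) i
      · exact ha2
      · exact congrFun ha j
    subst haa
    subst hb
    rfl
  · rintro ⟨⟨b, a'⟩, h⟩
    have hlast : (Fin.snoc (α := fun _ => F) a' (0 : F) : Fin 3 → F) (Fin.last 2) = 0 :=
      Fin.snoc_last (α := fun _ => F) _ _
    have hinit : (fun i : Fin 2 => (Fin.snoc (α := fun _ => F) a' (0 : F) : Fin 3 → F) i.castSucc) = a' := by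
      funext i
      exact Fin.snoc_castSucc (α := fun _ => F) _ _ _
    refine ⟨⟨(Fin.snoc (α := fun _ => F) a' (0 : F), b), ?_, ?_⟩, ?_⟩
    · rw [top_zero_iff n _ hlast, hinit]
      exact h
    · rw [not_not]; exact hlast
    · apply Subtype.ext
      simp only
      rw [hinit]

/-- the number of pairs (quadratic, degree `≤ n`) with nonzero resultant -/
theorem card_res_ne_zero (n : ℕ) (hn : 1 ≤ n) :
    Nat.card {p : (Fin 3 → F) × (Fin (n + 1) → F) //
      (poly 2 p.1).resultant (poly n p.2) 2 n ≠ 0} =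
    (Fintype.card F - 1) * (Fintype.card F - 1) * (Fintype.card F + 1) *
      Fintype.card F ^ (n + 1) := by
  rw [card_split _ (fun p => p.1 (Fin.last 2) ≠ 0), card_top_zero]
  have h1 : Nat.card {p : (Fin 3 → F) × (Fin (n + 1) → F) //
      (poly 2 p.1).resultant (poly n p.2) 2 n ≠ 0 ∧ p.1 (Fin.last 2) ≠ 0} = D F 2 n := by
    unfold D
    exact Nat.card_congr (Equiv.subtypeEquivRight fun p => and_comm)
  rw [h1]
  obtain ⟨n', rfl⟩ : ∃ n', n = n' + 1 := Nat.exists_eq_succ_of_ne_zero (by omega)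
  rw [D_two, D_one 2 (by norm_num), D_one (n' + 1) (by omega)]
  obtain ⟨T, hT⟩ : ∃ T, Fintype.card F = T + 1 :=
    Nat.exists_eq_succ_of_ne_zero Fintype.card_ne_zero
  rw [hT]
  simp only [Nat.add_sub_cancel]
  ring

end recursion

/-! ### all nonzero values of the resultant are taken equally often (odd degree) -/

section fibers

variable [Fintype F]

/-- rescaling both coefficient vectors -/
noncomputable def scaleEquiv (n : ℕ) (u v : F) (hu : u ≠ 0) (hv : v ≠ 0) :
    ((Fin 3 → F) × (Fin (n + 1) → F)) ≃ ((Fin 3 → F) × (Fin (n + 1) → F)) :=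
  Equiv.prodCongr (Equiv.piCongrRight fun _ => Equiv.mulLeft₀ u hu)
    (Equiv.piCongrRight fun _ => Equiv.mulLeft₀ v hv)

theorem resultant_scale (n : ℕ) (u v : F) (hu : u ≠ 0) (hv : v ≠ 0)
    (p : (Fin 3 → F) × (Fin (n + 1) → F)) :
    (poly 2 (scaleEquiv n u v hu hv p).1).resultant (poly n (scaleEquiv n u v hu hv p).2) 2 n =
      u ^ n * v ^ 2 * (poly 2 p.1).resultant (poly n p.2) 2 n := by
  have h1 : (scaleEquiv n u v hu hv p).1 = fun i => u * p.1 i := rfl
  have h2 : (scaleEquiv n u v hu hv p).2 = fun i => v * p.2 i := rfl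
  rw [h1, h2, poly_smul, poly_smul, resultant_C_mul_left, resultant_C_mul_right]
  ring

theorem card_fiber_eq (k : ℕ) (c : Fˣ) :
    Nat.card {p : (Fin 3 → F) × (Fin (2 * k + 1 + 1) → F) //
      (poly 2 p.1).resultant (poly (2 * k + 1) p.2) 2 (2 * k + 1) = (c : F)} =
    Nat.card {p : (Fin 3 → F) × (Fin (2 * k + 1 + 1) → F) //
      (poly 2 p.1).resultant (poly (2 * k + 1) p.2) 2 (2 * k + 1) = 1} := by
  have hc : (c : F) ≠ 0 := c.ne_zero
  have hu : (c : F)⁻¹ ≠ 0 := inv_ne_zero hc
  have hv : (c : F) ^ k ≠ 0 := pow_ne_zero _ hc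
  refine Nat.card_congr (Equiv.subtypeEquiv
    (q := fun p : (Fin 3 → F) × (Fin (2 * k + 1 + 1) → F) =>
      (poly 2 p.1).resultant (poly (2 * k + 1) p.2) 2 (2 * k + 1) = 1)
    (scaleEquiv (2 * k + 1) (c : F)⁻¹ ((c : F) ^ k) hu hv) ?_)
  intro p
  rw [resultant_scale]
  have hcoef : ((c : F)⁻¹) ^ (2 * k + 1) * ((c : F) ^ k) ^ 2 = (c : F)⁻¹ := by
    rw [pow_succ, ← pow_mul, mul_comm k 2, inv_pow, mul_assoc, mul_comm ((c : F)⁻¹) _, ← mul_assoc,
      inv_mul_cancel₀ (pow_ne_zero _ hc), one_mul]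
  rw [hcoef, inv_mul_eq_one₀ hc]
  exact eq_comm

theorem card_ne_zero_eq_mul (k : ℕ) :
    Nat.card {p : (Fin 3 → F) × (Fin (2 * k + 1 + 1) → F) //
      (poly 2 p.1).resultant (poly (2 * k + 1) p.2) 2 (2 * k + 1) ≠ 0} =
    (Fintype.card F - 1) * Nat.card {p : (Fin 3 → F) × (Fin (2 * k + 1 + 1) → F) //
      (poly 2 p.1).resultant (poly (2 * k + 1) p.2) 2 (2 * k + 1) = 1} := by
  classical
  obtain ⟨R, hR⟩ : ∃ R : (Fin 3 → F) × (Fin (2 * k + 1 + 1) → F) → F,
      R = fun p => (poly 2 p.1).resultant (poly (2 * k + 1) p.2) 2 (2 * k + 1) := ⟨_, rfl⟩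
  have key : Nat.card {p // R p ≠ 0} = (Fintype.card F - 1) * Nat.card {p // R p = 1} := by
    have hfib : ∀ c : Fˣ, Nat.card {p // R p = (c : F)} = Nat.card {p // R p = 1} := by
      intro c; rw [hR]; exact card_fiber_eq k c
    let f : {p // R p ≠ 0} → Fˣ := fun x => Units.mk0 (R x.1) x.2
    have e2 : ∀ c : Fˣ, {x : {p // R p ≠ 0} // f x = c} ≃ {p // R p = (c : F)} := by
      intro c
      refine (Equiv.subtypeSubtypeEquivSubtypeExists _ _).trans (Equiv.subtypeEquivRight ?_)
      intro p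
      constructor
      · rintro ⟨h, e⟩
        have := congrArg Units.val e
        simpa [f] using this
      · intro h
        exact ⟨by rw [h]; exact c.ne_zero, Units.ext h⟩
    rw [Nat.card_congr (Equiv.sigmaFiberEquiv f).symm, Nat.card_sigma,
      Finset.sum_congr rfl (fun c _ => (Nat.card_congr (e2 c)).trans (hfib c)), Finset.sum_const,
      Finset.card_univ, smul_eq_mul, Fintype.card_units]
  rw [hR] at key
  exact key

/-- the number of pairs with resultant one, odd degree `2k+1` -/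
theorem card_res_eq_one (k : ℕ) :
    Nat.card {p : (Fin 3 → F) × (Fin (2 * k + 1 + 1) → F) //
      (poly 2 p.1).resultant (poly (2 * k + 1) p.2) 2 (2 * k + 1) = 1} =
    (Fintype.card F - 1) * (Fintype.card F + 1) * Fintype.card F ^ (2 * k + 1 + 1) := by
  have h1 := card_ne_zero_eq_mul (F := F) k
  rw [card_res_ne_zero (2 * k + 1) (by omega)] at h1
  have hq : 0 < Fintype.card F - 1 := by
    have := Fintype.one_lt_card (α := F); omega
  have h2 : (Fintype.card F - 1) * ((Fintype.card F - 1) * (Fintype.card F + 1) *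
      Fintype.card F ^ (2 * k + 1 + 1)) = (Fintype.card F - 1) *
      Nat.card {p : (Fin 3 → F) × (Fin (2 * k + 1 + 1) → F) //
      (poly 2 p.1).resultant (poly (2 * k + 1) p.2) 2 (2 * k + 1) = 1} := by
    rw [← h1]; ring
  exact (Nat.eq_of_mul_eq_mul_left hq h2).symm

end fibers

end Groth.Agent.Helper6.ResCnt
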