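import Mathlib
import Groth.Prelude.Def_SixF2
import Groth.Agent.Helper6.ModSuppB
import Groth.Agent.Helper9.EtJCont

set_option autoImplicit false
set_option linter.style.haveILetI false
set_option linter.unusedSectionVars false
set_option linter.unusedVariables false
set_option linter.unusedSimpArgs false

/-!
# Extensions by zero of constant sheaves are free; complexes of finite sums of them
-/

universe u

open CategoryTheory CategoryTheory.Limits AlgebraicGeometry Opposite

attribute [local instance] HasDerivedCategory.standard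

namespace Groth.Agent.Helper6.ResD

open Groth.Agent.Helper6.ModFA Groth.Agent.Helper6.ModFG Groth.Agent.Helper6.ResC

variable (Λ : Type (u + 1)) [CommRing Λ] {U X : Scheme.{u}}

attribute [local instance] Abelian.hasFiniteBiproducts

/-- the extension by zero of the constant sheaf `Λ` along an étale `j` is the free sheaf on `j` -/
theorem isFreeOn_extZero (j : U ⟶ X) [Etale j] [EtShriek.JCont j] (V : X.Etale)
    (i : V ≅ (EtShriek.compEtale j).obj (EtCoh.top U)) :
    IsFreeOn Λ ((EtSix.extZeroMod Λ j).obj (EtSix.constΛ Λ U)) V (Lam Λ) := by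
  let adj₁ := constantSheafAdj U.smallEtaleTopology (ModuleCat.{u + 1} Λ) (EtCore.topIsTerminal U)
  let adj₂ := EtSix.extZeroModAdj Λ j
  let ρ : EtSix.restrMod Λ j ⋙ (sheafSections U.smallEtaleTopology (ModuleCat.{u + 1} Λ)).obj
      (op (EtCoh.top U)) ≅ evalAt Λ V :=
    NatIso.ofComponents (fun F => F.obj.mapIso i.op) (fun {F G} a => by
      exact (a.hom.naturality i.hom.op).symm)
  exact isFreeOn_of_adj (adj₁.comp adj₂) ρ (Lam Λ)

/-- an étale object is the composite of the terminal object of its source -/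
noncomputable def etaleIso (V : X.Etale) :
    haveI : Etale V.hom := V.prop
    V ≅ (EtShriek.compEtale V.hom).obj (EtCoh.top V.left) :=
  haveI : Etale V.hom := V.prop
  MorphismProperty.Over.isoMk (Iso.refl _) (by
    show 𝟙 V.left ≫ (𝟙 V.left ≫ V.hom) = V.hom
    rw [Category.id_comp, Category.id_comp])

/-- `Λ_V ≅ j_! Λ` for `j` the structure morphism of `V` -/
theorem nonempty_freeΛ_iso (V : X.Etale) [Etale V.hom] [EtShriek.JCont V.hom] :
    Nonempty (freeΛ Λ V ≅ (EtSix.extZeroMod Λ V.hom).obj (EtSix.constΛ Λ V.left)) :=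
  nonempty_iso_of_isFreeOn (isFreeOn_freeΛ Λ V) (isFreeOn_extZero Λ V.hom V (etaleIso V))

/-- finite sums of free sheaves on affine étale objects are finite sums of extensions by zero -/
theorem exists_of_isFinFree {P : EtModW.Mod Λ X} (hP : IsFinFree Λ P) :
    ∃ (m : ℕ) (U : Fin m → Scheme.{u}) (j : ∀ k, U k ⟶ X) (_ : ∀ k, Etale (j k))
      (_ : ∀ k, IsAffine (U k)),
      ∀ [∀ k, EtShriek.JCont (j k)],
        Nonempty (P ≅ ∐ fun k => (EtSix.extZeroMod Λ (j k)).obj (EtSix.constΛ Λ (U k))) := by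
  obtain ⟨n, V, hV, ⟨i⟩⟩ := hP
  refine ⟨n, fun k => (V k).left, fun k => (V k).hom, fun k => (V k).prop, hV, ?_⟩
  intro inst
  have h : ∀ k, Nonempty (freeΛ Λ (V k) ≅
      (EtSix.extZeroMod Λ (V k).hom).obj (EtSix.constΛ Λ (V k).left)) := fun k =>
    @nonempty_freeΛ_iso Λ _ X (V k) (V k).prop (inst k)
  let e := fun k => (h k).some
  exact ⟨i ≪≫ biproduct.mapIso e ≪≫ biproduct.isoCoproduct _⟩

/-- conversely -/
theorem isFinFree_of_coprod {P : EtModW.Mod Λ X} (m : ℕ) (U : Fin m → Scheme.{u})
    (j : ∀ k, U k ⟶ X) (hE : ∀ k, Etale (j k)) (hA : ∀ k, IsAffine (U k))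
    (h : ∀ [∀ k, EtShriek.JCont (j k)],
      Nonempty (P ≅ ∐ fun k => (EtSix.extZeroMod Λ (j k)).obj (EtSix.constΛ Λ (U k)))) :
    IsFinFree Λ P := by
  haveI : ∀ k, EtShriek.JCont (j k) := fun k => Groth.Agent.Helper9.EtJCont.jCont_of_etale (j k)
  obtain ⟨i⟩ := h
  let V : Fin m → X.Etale := fun k => (EtShriek.compEtale (j k)).obj (EtCoh.top (U k))
  have he : ∀ k, Nonempty ((EtSix.extZeroMod Λ (j k)).obj (EtSix.constΛ Λ (U k)) ≅
      freeΛ Λ (V k)) := fun k =>
    nonempty_iso_of_isFreeOn (isFreeOn_extZero Λ (j k) (V k) (Iso.refl _)) (isFreeOn_freeΛ Λ (V k))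
  let e := fun k => (he k).some
  refine ⟨m, V, fun k => (show IsAffine (U k) from hA k), ⟨?_⟩⟩
  exact i ≪≫ (biproduct.isoCoproduct _).symm ≪≫ biproduct.mapIso e

variable [IsNoetherianRing Λ]

/-- the cohomology of a complex with constructible terms is constructible -/
theorem isConstructible_homology (C : CochainComplex (EtModW.Mod Λ X) ℤ)
    (hC : ∀ i, EtModW.IsConstructible Λ (C.X i)) (i : ℤ) :
    EtModW.IsConstructible Λ (C.homology i) := by
  let S := C.sc i
  have h1 : EtModW.IsConstructible Λ (kernel S.g) :=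
    Groth.Agent.Helper6.ModFF.isConstructible_kernel Λ S.g (hC _) (hC _)
  have h2 : EtModW.IsConstructible Λ (cokernel (kernel.lift S.g S.f S.zero)) :=
    Groth.Agent.Helper6.ModFF.isConstructible_cokernel Λ _ (hC _) h1
  exact Groth.Agent.Helper4.ModStrata.isConstructible_of_iso Λ S.homologyIsoCokernelLift.symm h2

variable [CompactSpace X] [QuasiSeparatedSpace X]

/-- **resolutions in the derived category**: a bounded above object of `D(X_et, Λ)` has
constructible cohomology iff it is represented by a bounded above complex of finite sums of free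
sheaves on affine étale objects -/
theorem constructible_iff (K : EtModD.D Λ X) (n : ℤ) [K.IsLE n] :
    (∀ i : ℤ, EtModW.IsConstructible Λ (EtModD.HD K i)) ↔
      ∃ (C : CochainComplex (EtModW.Mod Λ X) ℤ) (c : ℤ),
        (∀ i : ℤ, c < i → IsZero (C.X i)) ∧ (∀ i : ℤ, IsFinFree Λ (C.X i)) ∧
        Nonempty (DerivedCategory.Q.obj C ≅ K) := by
  constructor
  · intro hK
    obtain ⟨K₀, hK₀, ⟨e⟩⟩ := DerivedCategory.exists_iso_Q_obj_of_isLE K n
    have hK₀' : ∀ i, EtModW.IsConstructible Λ (K₀.homology i) := by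
      intro i
      let i1 : EtModD.HD K i ≅ (DerivedCategory.homologyFunctor (EtModW.Mod Λ X) i).obj
          (DerivedCategory.Q.obj K₀) :=
        (DerivedCategory.homologyFunctor (EtModW.Mod Λ X) i).mapIso e
      let i2 : (DerivedCategory.homologyFunctor (EtModW.Mod Λ X) i).obj
          (DerivedCategory.Q.obj K₀) ≅ K₀.homology i :=
        (DerivedCategory.homologyFunctorFactors (EtModW.Mod Λ X) i).app K₀
      exact Groth.Agent.Helper4.ModStrata.isConstructible_of_iso Λ (i1 ≪≫ i2) (hK i)
    obtain ⟨C, φ, hφ, hC0, hC⟩ := exists_resolution Λ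
      (fun v hv hB => Groth.Agent.Helper6.ModSuppB.star_qcqs v hv hB) K₀ n hK₀'
    refine ⟨C, n, hC0, hC, ⟨?_⟩⟩
    haveI : IsIso (DerivedCategory.Q.map φ) := by
      rw [DerivedCategory.isIso_Q_map_iff_quasiIso]
      exact hφ
    exact asIso (DerivedCategory.Q.map φ) ≪≫ e.symm
  · rintro ⟨C, c, hC0, hC, ⟨e⟩⟩ i
    have h1 : EtModW.IsConstructible Λ (C.homology i) :=
      isConstructible_homology Λ C (fun i => isConstructible_of_isFinFree Λ (hC i)) i
    let i1 : EtModD.HD K i ≅ (DerivedCategory.homologyFunctor (EtModW.Mod Λ X) i).obj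
        (DerivedCategory.Q.obj C) :=
      (DerivedCategory.homologyFunctor (EtModW.Mod Λ X) i).mapIso e.symm
    let i2 : (DerivedCategory.homologyFunctor (EtModW.Mod Λ X) i).obj
        (DerivedCategory.Q.obj C) ≅ C.homology i :=
      (DerivedCategory.homologyFunctorFactors (EtModW.Mod Λ X) i).app C
    exact Groth.Agent.Helper4.ModStrata.isConstructible_of_iso Λ (i1 ≪≫ i2).symm h1

end Groth.Agent.Helper6.ResD
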