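import Mathlib
import Groth.Agent.Helper6.ResD

set_option autoImplicit false
set_option linter.style.haveILetI false
set_option linter.unusedSectionVars false
set_option linter.unusedVariables false
set_option linter.unusedSimpArgs false

/-!
# Maps from single complexes which are epimorphic on a cohomology object
-/

universe v u' u

open CategoryTheory CategoryTheory.Limits AlgebraicGeometry Opposite

attribute [local instance] HasDerivedCategory.standard

namespace Groth.Agent.Helper6.ResE

section Abstract

variable {C : Type u'} [Category.{v} C] [Abelian C]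

/-- a map to the cycles which is epimorphic on homology gives a map from a single complex which
is epimorphic on homology -/
theorem exists_single_hom (K₀ : CochainComplex C ℤ) (b : ℤ) (P : C) (w : P ⟶ K₀.cycles b)
    (hw : Epi (w ≫ K₀.homologyπ b)) :
    ∃ f : (HomologicalComplex.single C (ComplexShape.up ℤ) b).obj P ⟶ K₀,
      Epi (HomologicalComplex.homologyMap f b) := by
  let f : (HomologicalComplex.single C (ComplexShape.up ℤ) b).obj P ⟶ K₀ :=
    HomologicalComplex.mkHomFromSingle (w ≫ K₀.iCycles b) (fun k _ => by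
      rw [Category.assoc, HomologicalComplex.iCycles_d, comp_zero])
  refine ⟨f, ?_⟩
  have hprev : (ComplexShape.up ℤ).prev b = b - 1 := CochainComplex.prev ℤ b
  rw [HomologicalComplex.epi_homologyMap_iff_up_to_refinements f (b - 1) b
    ((ComplexShape.up ℤ).next b) hprev rfl]
  intro A y hy
  let yc : A ⟶ K₀.cycles b := K₀.liftCycles y _ rfl hy
  obtain ⟨A₁, π₁, hπ₁, a, ha⟩ :=
    surjective_up_to_refinements_of_epi (w ≫ K₀.homologyπ b) (yc ≫ K₀.homologyπ b)
  have ha' : (π₁ ≫ yc) ≫ K₀.homologyπ b = (a ≫ w) ≫ K₀.homologyπ b := by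
    rw [Category.assoc, Category.assoc]
    exact ha
  obtain ⟨A₂, π₂, hπ₂, x₁, hx₁⟩ :=
    (K₀.comp_homologyπ_eq_iff_up_to_refinements (b - 1) b hprev (π₁ ≫ yc) (a ≫ w)).1 ha'
  refine ⟨A₂, π₂ ≫ π₁, epi_comp _ _,
    π₂ ≫ a ≫ (HomologicalComplex.singleObjXSelf (ComplexShape.up ℤ) b P).inv, ?_, x₁, ?_⟩
  · simp only [Category.assoc, HomologicalComplex.single_obj_d, comp_zero]
  · have h := congrArg (fun t => t ≫ K₀.iCycles b) hx₁
    simp only [Category.assoc, Preadditive.add_comp, HomologicalComplex.toCycles_i] at h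
    have hyc : yc ≫ K₀.iCycles b = y := K₀.liftCycles_i y _ rfl hy
    rw [hyc] at h
    rw [Category.assoc, h]
    congr 1
    simp only [Category.assoc, f, HomologicalComplex.mkHomFromSingle_f, Iso.inv_hom_id_assoc]

variable [HasDerivedCategory C]

/-- the derived category version -/
theorem exists_single_hom_derived (K : DerivedCategory C) (K₀ : CochainComplex C ℤ)
    (e : K ≅ DerivedCategory.Q.obj K₀) (b : ℤ) (P : C)
    (f : (HomologicalComplex.single C (ComplexShape.up ℤ) b).obj P ⟶ K₀)
    (hf : Epi (HomologicalComplex.homologyMap f b)) :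
    ∃ φ : (DerivedCategory.singleFunctor C b).obj P ⟶ K,
      Epi ((DerivedCategory.homologyFunctor C b).map φ) := by
  refine ⟨(DerivedCategory.singleFunctorIsoCompQ C b).hom.app P ≫ DerivedCategory.Q.map f ≫ e.inv,
    ?_⟩
  rw [Functor.map_comp, Functor.map_comp]
  have h1 : Epi ((DerivedCategory.homologyFunctor C b).map (DerivedCategory.Q.map f)) := by
    have hn := DerivedCategory.homologyFunctorFactors_hom_naturality f b
    have h2 : Epi ((DerivedCategory.homologyFunctorFactors C b).hom.app
        ((HomologicalComplex.single C (ComplexShape.up ℤ) b).obj P) ≫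
        HomologicalComplex.homologyMap f b) := @epi_comp _ _ _ _ _ _ inferInstance _ hf
    have h3 : Epi ((DerivedCategory.homologyFunctor C b).map (DerivedCategory.Q.map f) ≫
        (DerivedCategory.homologyFunctorFactors C b).hom.app K₀) := by
      rw [hn]
      exact h2
    have h4 : (DerivedCategory.homologyFunctor C b).map (DerivedCategory.Q.map f) =
        ((DerivedCategory.homologyFunctor C b).map (DerivedCategory.Q.map f) ≫
          (DerivedCategory.homologyFunctorFactors C b).hom.app K₀) ≫
          (DerivedCategory.homologyFunctorFactors C b).inv.app K₀ := by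
      rw [Category.assoc, Iso.hom_inv_id_app]
      exact (Category.comp_id _).symm
    rw [h4]
    exact @epi_comp _ _ _ _ _ _ h3 _ inferInstance
  have h5 : Epi ((DerivedCategory.homologyFunctor C b).map (DerivedCategory.Q.map f) ≫
      (DerivedCategory.homologyFunctor C b).map e.inv) := @epi_comp _ _ _ _ _ _ h1 _ inferInstance
  exact @epi_comp _ _ _ _ _ _ inferInstance _ h5

end Abstract

variable (Λ : Type (u + 1)) [CommRing Λ] [IsNoetherianRing Λ] (X : Scheme.{u})
  [CompactSpace X] [QuasiSeparatedSpace X]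

open Groth.Agent.Helper6.ResC Groth.Agent.Helper6.ResD

/-- a constructible cohomology sheaf of an object of `D(X_et, Λ)` is covered by a finite sum of
sheaves `j_! Λ`, at the level of the derived category -/
theorem exists_sum_extZero_epi (K : EtModD.D Λ X) (b : ℤ)
    (hK : EtModW.IsConstructible Λ (EtModD.HD K b)) :
    ∃ (m : ℕ) (U : Fin m → Scheme.{u}) (j : ∀ k, U k ⟶ X) (_ : ∀ k, Etale (j k))
      (_ : ∀ k, IsAffine (U k)),
      ∀ [∀ k, EtShriek.JCont (j k)],
        ∃ φ : (DerivedCategory.singleFunctor (EtModW.Mod Λ X) b).obj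
              (∐ fun k => (EtSix.extZeroMod Λ (j k)).obj (EtSix.constΛ Λ (U k))) ⟶ K,
          Epi ((DerivedCategory.homologyFunctor (EtModW.Mod Λ X) b).map φ) := by
  let K₀ : CochainComplex (EtModW.Mod Λ X) ℤ := DerivedCategory.Q.objPreimage K
  let e : K ≅ DerivedCategory.Q.obj K₀ := (DerivedCategory.Q.objObjPreimageIso K).symm
  have hK₀ : EtModW.IsConstructible Λ (K₀.homology b) := by
    let i1 : EtModD.HD K b ≅ (DerivedCategory.homologyFunctor (EtModW.Mod Λ X) b).obj
        (DerivedCategory.Q.obj K₀) :=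
      (DerivedCategory.homologyFunctor (EtModW.Mod Λ X) b).mapIso e
    let i2 : (DerivedCategory.homologyFunctor (EtModW.Mod Λ X) b).obj
        (DerivedCategory.Q.obj K₀) ≅ K₀.homology b :=
      (DerivedCategory.homologyFunctorFactors (EtModW.Mod Λ X) b).app K₀
    exact Groth.Agent.Helper4.ModStrata.isConstructible_of_iso Λ (i1 ≪≫ i2) hK
  obtain ⟨P₀, w₀, hP₀, hw₀⟩ := Groth.Agent.Helper6.ModSuppB.star_qcqs (K₀.homologyπ b)
    inferInstance hK₀
  obtain ⟨m, U, j, hE, hA, h⟩ := exists_of_isFinFree Λ hP₀
  refine ⟨m, U, j, hE, hA, ?_⟩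
  intro inst
  obtain ⟨i⟩ := h
  have hw : Epi ((i.inv ≫ w₀) ≫ K₀.homologyπ b) := by
    rw [Category.assoc]
    infer_instance
  obtain ⟨f, hf⟩ := exists_single_hom K₀ b _ (i.inv ≫ w₀) hw
  exact exists_single_hom_derived K K₀ e b _ f hf

end Groth.Agent.Helper6.ResE
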