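import Mathlib
import Groth.Prelude.Def_LocRes

set_option autoImplicit false

namespace Groth.Agent.Helper6.ResPow

open PowerSeries

theorem coeff_X_mul_derivative {R : Type*} [CommRing R] (p : PowerSeries R) (k : ℕ) :
    coeff k (X * derivative R p) = (k : R) * coeff k p := by
  cases k with
  | zero => simp
  | succ k =>
    rw [coeff_succ_X_mul, coeff_derivative]
    push_cast
    ring

theorem derivative_map {R S : Type*} [CommRing R] [CommRing S] (f : R →+* S) (p : PowerSeries R) :
    derivative S (PowerSeries.map f p) = PowerSeries.map f (derivative R p) := by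
  ext n
  rw [coeff_derivative, coeff_map, coeff_map, coeff_derivative, map_mul, map_add, map_natCast,
    map_one]

/-- The identity multiplied by `n`. -/
theorem key_mul {R : Type*} [CommRing R] (u : PowerSeries R) (n M : ℕ) :
    (n : R) * (coeff (M * n) (X * (u ^ (n - 1) * derivative R u)) - (M : R) * coeff (M * n) (u ^ n))
      = 0 := by
  have h1 : (n : PowerSeries R) * (X * (u ^ (n - 1) * derivative R u)) =
      X * derivative R (u ^ n) := by
    rw [derivative_pow]
    ring
  have h2 : (n : R) * coeff (M * n) (X * (u ^ (n - 1) * derivative R u)) =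
      coeff (M * n) (X * derivative R (u ^ n)) := by
    rw [← h1]
    have : (n : PowerSeries R) = C (n : R) := by simp
    rw [this, coeff_C_mul]
  rw [mul_sub, h2, coeff_X_mul_derivative]
  push_cast
  ring

theorem key_univ (u : PowerSeries (MvPolynomial ℕ ℤ)) (n M : ℕ) (hn : 0 < n) :
    coeff (M * n) (X * (u ^ (n - 1) * derivative _ u)) = (M : MvPolynomial ℕ ℤ) * coeff (M * n) (u ^ n) := by
  have h := key_mul u n M
  rcases mul_eq_zero.1 h with h0 | h0
  · exact absurd h0 (by exact_mod_cast hn.ne')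
  · exact sub_eq_zero.1 h0

theorem key {R : Type*} [CommRing R] (u : PowerSeries R) (n M : ℕ) (hn : 0 < n) :
    coeff (M * n) (X * (u ^ (n - 1) * derivative R u)) = (M : R) * coeff (M * n) (u ^ n) := by
  let ev : MvPolynomial ℕ ℤ →+* R := MvPolynomial.eval₂Hom (Int.castRingHom R) (fun i => coeff i u)
  let U : PowerSeries (MvPolynomial ℕ ℤ) := PowerSeries.mk (fun i => MvPolynomial.X i)
  have hU : PowerSeries.map ev U = u := by
    ext i
    simp [U, ev]
  have h := congrArg ev (key_univ U n M hn)
  have e1 : ev (coeff (M * n) (X * (U ^ (n - 1) * derivative _ U))) =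
      coeff (M * n) (X * (u ^ (n - 1) * derivative R u)) := by
    have hm : PowerSeries.map ev (X * (U ^ (n - 1) * derivative _ U)) =
        X * (u ^ (n - 1) * derivative R u) := by
      rw [RingHom.map_mul, RingHom.map_mul, RingHom.map_pow, ← derivative_map, hU, PowerSeries.map_X]
    rw [← coeff_map, hm]
  have e2 : ev ((M : MvPolynomial ℕ ℤ) * coeff (M * n) (U ^ n)) = (M : R) * coeff (M * n) (u ^ n) := by
    have hm : PowerSeries.map ev (U ^ n) = u ^ n := by
      rw [RingHom.map_pow, hU]
    rw [RingHom.map_mul, map_natCast, ← coeff_map, hm]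
  rw [e1, e2] at h
  exact h


open HahnSeries in
/-- Residue of `g^(n-1) dg` vanishes for `n ≥ 1`, `g = X^m u`. -/
theorem res_pow_mul_D {F : Type*} [Field F] (m : ℤ) (u : PowerSeries F) (n : ℕ) (hn : 0 < n) :
    LocRes.res F ((single m (1 : F) * (u : LaurentSeries F)) ^ (n - 1) *
      LocRes.D F (single m (1 : F) * (u : LaurentSeries F))) = 0 := by
  have hD : LocRes.D F (single m (1 : F) * (u : LaurentSeries F)) = single m (1 : F) *
        ((PowerSeries.derivative F u : PowerSeries F) : LaurentSeries F) +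
      single (m - 1) (m • (1 : F)) * (u : LaurentSeries F) := by
    rw [LocRes.D_apply, LocRes.derivative_single_mul, LocRes.derivative_coe]
  have hpow : (single m (1 : F) * (u : LaurentSeries F)) ^ (n - 1) =
      single ((n - 1) • m) (1 : F) * ((u ^ (n - 1) : PowerSeries F) : LaurentSeries F) := by
    rw [mul_pow, single_pow, one_pow, PowerSeries.coe_pow]
  have hun : u ^ (n - 1) * u = u ^ n := by
    rw [← pow_succ, Nat.sub_add_cancel hn]
  have hprod : (single m (1 : F) * (u : LaurentSeries F)) ^ (n - 1) *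
      LocRes.D F (single m (1 : F) * (u : LaurentSeries F)) =
      single (n * m) (1 : F) *
        ((u ^ (n - 1) * PowerSeries.derivative F u : PowerSeries F) : LaurentSeries F) +
      single (n * m - 1) (m • (1 : F)) * ((u ^ n : PowerSeries F) : LaurentSeries F) := by
    rw [hpow, hD, ← hun, PowerSeries.coe_mul, PowerSeries.coe_mul]
    have e1 : single ((n - 1) • m) (1 : F) * ((u ^ (n - 1) : PowerSeries F) : LaurentSeries F) *
        (single m (1 : F) * ((PowerSeries.derivative F u : PowerSeries F) : LaurentSeries F) +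
          single (m - 1) (m • (1 : F)) * (u : LaurentSeries F)) =
        (single ((n - 1) • m) (1 : F) * single m (1 : F)) *
          (((u ^ (n - 1) : PowerSeries F) : LaurentSeries F) *
            ((PowerSeries.derivative F u : PowerSeries F) : LaurentSeries F)) +
        (single ((n - 1) • m) (1 : F) * single (m - 1) (m • (1 : F))) *
          (((u ^ (n - 1) : PowerSeries F) : LaurentSeries F) * (u : LaurentSeries F)) := by ring
    rw [e1, single_mul_single, single_mul_single, one_mul, one_mul]
    have a1 : (n - 1) • m + m = n * m := by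
      obtain ⟨j, rfl⟩ : ∃ j, n = j + 1 := ⟨n - 1, (Nat.sub_add_cancel hn).symm⟩
      simp only [Nat.add_sub_cancel, nsmul_eq_mul]
      push_cast
      ring
    have a2 : (n - 1) • m + (m - 1) = n * m - 1 := by
      rw [← a1]; ring
    rw [a1, a2]
  rw [hprod, map_add, LocRes.res_apply, LocRes.res_apply, coeff_single_mul, coeff_single_mul,
    PowerSeries.coeff_coe, PowerSeries.coeff_coe, one_mul]
  rcases lt_or_ge 0 m with hm | hm
  · have hnm : 0 < (n : ℤ) * m := mul_pos (by exact_mod_cast hn) hm
    rw [if_pos (by omega), if_pos (by omega), mul_zero, add_zero]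
  · obtain ⟨M, rfl⟩ : ∃ M : ℕ, m = -(M : ℤ) := ⟨(-m).toNat, by omega⟩
    rcases Nat.eq_zero_or_pos M with rfl | hM
    · simp
    · have hMn : 0 < M * n := Nat.mul_pos hM hn
      have i1 : (-1 : ℤ) - (n : ℤ) * (-(M : ℤ)) = ((M * n - 1 : ℕ) : ℤ) := by
        rw [Nat.cast_sub hMn]; push_cast; ring
      have i2 : (-1 : ℤ) - ((n : ℤ) * (-(M : ℤ)) - 1) = ((M * n : ℕ) : ℤ) := by
        push_cast; ring
      rw [i1, i2, if_neg (by omega), if_neg (by omega), Int.natAbs_natCast, Int.natAbs_natCast]
      have hk := key u n M hn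
      obtain ⟨j, hj⟩ : ∃ j, M * n = j + 1 := ⟨M * n - 1, (Nat.sub_add_cancel hMn).symm⟩
      rw [hj] at hk ⊢
      rw [PowerSeries.coeff_succ_X_mul] at hk
      rw [Nat.add_sub_cancel, hk]
      simp


theorem res_pow_mul_D' {F : Type*} [Field F] (g : LaurentSeries F) (n : ℕ) (hn : 0 < n) :
    LocRes.res F (g ^ (n - 1) * LocRes.D F g) = 0 := by
  have hg := (LaurentSeries.single_order_mul_powerSeriesPart g).symm
  rw [hg]
  exact res_pow_mul_D _ _ n hn

theorem res_zpow_mul_D {F : Type*} [Field F] (g : LaurentSeries F) (n : ℤ) (hn : n ≠ 0) :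
    LocRes.res F (g ^ (n - 1) * LocRes.D F g) = 0 := by
  rcases eq_or_ne g 0 with rfl | hg
  · rw [map_zero, mul_zero, map_zero]
  rcases lt_or_gt_of_ne hn with hneg | hpos
  · obtain ⟨j, rfl⟩ : ∃ j : ℕ, n = -(j : ℤ) := ⟨(-n).toNat, by omega⟩
    have hj : 0 < j := by omega
    have hginv : g⁻¹ ≠ 0 := inv_ne_zero hg
    have h1 := res_pow_mul_D' g⁻¹ j hj
    have h2 : LocRes.D F g = -(g⁻¹)⁻¹ ^ 2 • LocRes.D F g⁻¹ := by
      have := (LocRes.D F).leibniz_inv g⁻¹
      rw [inv_inv] at this
      rw [this, inv_inv]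
    have h3 : g ^ (-(j : ℤ) - 1) * LocRes.D F g = -(g⁻¹ ^ (j - 1) * LocRes.D F g⁻¹) := by
      rw [h2, inv_inv, smul_eq_mul]
      have e : g ^ (-(j : ℤ) - 1) * g ^ 2 = g⁻¹ ^ (j - 1) := by
        rw [← zpow_natCast g 2, ← zpow_add₀ hg, inv_pow, ← zpow_natCast g (j - 1), ← zpow_neg]
        congr 1
        rw [Nat.cast_sub hj]
        push_cast
        ring
      rw [← e]
      ring
    rw [h3, map_neg, h1, neg_zero]
  · obtain ⟨j, rfl⟩ : ∃ j : ℕ, n = (j : ℤ) := ⟨n.toNat, by omega⟩
    have hj : 0 < j := by omega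
    have e : g ^ ((j : ℤ) - 1) = g ^ (j - 1) := by
      rw [← zpow_natCast g (j - 1), Nat.cast_sub hj]
      simp
    rw [e]
    exact res_pow_mul_D' g j hj

end Groth.Agent.Helper6.ResPow
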