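import Mathlib
import Groth.Prelude.Def_Wider
import Groth.Prelude.Def_DRing2
import Groth.Prelude.Def_DDual2
import Groth.Agent.Helper3.DRingRestr
import Groth.Agent.Helper3.DRingRestrComp

/-!
# Restriction of scalars along the identity, and pseudo-coherence along `X ↦ 0`
-/

set_option autoImplicit false
universe u

open CategoryTheory Limits DerivedCategory
attribute [local instance] HasDerivedCategory.standard

namespace Groth.Agent.Helper6.RestrId

open Groth.Agent.Helper3.DRingLib

variable (R : Type u) [CommRing R]

/-- termwise restriction along the identity is the identity -/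
noncomputable def rCxId (E : DRing.Cx R) : (rCx (RingHom.id R)).obj E ≅ E :=
  HomologicalComplex.Hom.isoOfComponents
    (fun i => (ModuleCat.restrictScalarsId R).app (E.X i))
    (fun i j _ => by
      ext x
      rfl)

/-- restriction of scalars along the identity is the identity on `D(R)` -/
noncomputable def rDId (K : Dual.D R) : (DRing.restrictD (RingHom.id R)).obj K ≅ K :=
  let E : DRing.Cx R := DerivedCategory.Q.objPreimage K
  let e : DRing.toD E ≅ K := DerivedCategory.Q.objObjPreimageIso K
  (DRing.restrictD (RingHom.id R)).mapIso e.symm ≪≫ rDToD (RingHom.id R) E ≪≫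
    DerivedCategory.Q.mapIso (rCxId R E) ≪≫ e

theorem main (K : Dual.D R) (m : ℤ) :
    DRing.IsPseudoCoherent R m K ↔
      DRing.IsPseudoCoherent (Polynomial R) m
        ((DRing.restrictD (Polynomial.evalRingHom (0 : R))).obj K) := by
  have h := goodHom_evalRingHom (0 : R) R (RingHom.id R) K m
  rw [RingHom.id_comp] at h
  rw [h]
  constructor
  · intro h1
    exact isPseudoCoherent_of_iso (rDId R K).symm h1
  · intro h1
    exact isPseudoCoherent_of_iso (rDId R K) h1

end Groth.Agent.Helper6.RestrId
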