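import Mathlib
import Groth.Prelude.Def_FibCat2
import Groth.Agent.Helper3.FibGrpd
import Groth.Agent.Helper6.RestrTop

/-!
# Helper6: a functor over `C` between categories fibred in groupoids and the inherited topologies
-/

set_option autoImplicit false
universe w v₃ u₃ v₂ u₂ v u

namespace Groth.Agent.Helper6.RestrTopFun
open CategoryTheory Functor FibCat Limits
open Groth.Agent.Helper3
open Groth.Agent.Helper6.RestrTop

variable {C : Type u} [Category.{v} C] {𝒳 : Type u₂} [Category.{v₂} 𝒳]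
  {𝒴 : Type u₃} [Category.{v₃} 𝒴] (G : 𝒳 ⥤ 𝒴) (q : 𝒴 ⥤ C)

theorem isHomLift_of_comp {R T : C} (f : R ⟶ T) {a b : 𝒳} (φ : a ⟶ b)
    [h : (G ⋙ q).IsHomLift f φ] : q.IsHomLift f (G.map φ) := by
  cases h
  exact (inferInstance : q.IsHomLift (q.map (G.map φ)) (G.map φ))

theorem coverPreserving_comp (hp : IsFibGrpd (G ⋙ q)) (hq : IsFibGrpd q)
    (J : GrothendieckTopology C) :
    CoverPreserving ((G ⋙ q).restrictedTopology J) (q.restrictedTopology J) G := by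
  refine ⟨fun {U S} hS => ?_⟩
  rw [mem_restrictedTopology_iff (G ⋙ q) hp J] at hS
  rw [mem_restrictedTopology_iff q hq J, ← Sieve.functorPushforward_comp]
  exact hS

theorem isCocontinuous_comp (hp : IsFibGrpd (G ⋙ q)) (hq : IsFibGrpd q)
    (J : GrothendieckTopology C) :
    G.IsCocontinuous ((G ⋙ q).restrictedTopology J) (q.restrictedTopology J) := by
  refine ⟨fun {U S} hS => ?_⟩
  rw [mem_restrictedTopology_iff q hq J] at hS
  rw [mem_restrictedTopology_iff (G ⋙ q) hp J]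
  refine J.superset_covering ?_ hS
  intro V g hg
  obtain ⟨z, h, k, hSh, hk⟩ := hg
  obtain ⟨y, φ, hφ⟩ := hp.exists_lift (x := U) g
  haveI := hφ
  haveI : q.IsHomLift g (G.map φ) := isHomLift_of_comp G q g φ
  haveI := hq.isStronglyCartesian h
  let χ : G.obj y ⟶ z := IsStronglyCartesian.map q (q.map h) h hk (G.map φ)
  have hχ : χ ≫ h = G.map φ := IsStronglyCartesian.fac q (q.map h) h hk (G.map φ)
  refine ⟨y, φ, eqToHom (IsHomLift.domain_eq (G ⋙ q) g φ).symm, ?_,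
    eq_eqToHom_comp_map (G ⋙ q) g φ⟩
  change S (G.map φ)
  rw [← hχ]
  exact S.downward_closed hSh χ

theorem compatiblePreserving_comp (hp : IsFibGrpd (G ⋙ q)) (hq : IsFibGrpd q)
    (K : GrothendieckTopology 𝒴) : CompatiblePreserving.{w} K G := by
  refine ⟨fun ℱ Z T x hx Y₁ Y₂ X f₁ f₂ g₁ g₂ hg₁ hg₂ e => ?_⟩
  -- lifts of the images of `f₁`, `f₂`
  obtain ⟨W₁, φ₁, hφ₁⟩ := hp.exists_lift (x := Y₁) (q.map f₁)
  obtain ⟨W₂, φ₂, hφ₂⟩ := hp.exists_lift (x := Y₂) (q.map f₂)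
  haveI := hφ₁
  haveI := hφ₂
  haveI l₁ : q.IsHomLift (q.map f₁) (G.map φ₁) := isHomLift_of_comp G q _ φ₁
  haveI l₂ : q.IsHomLift (q.map f₂) (G.map φ₂) := isHomLift_of_comp G q _ φ₂
  haveI := FibGrpd.isStronglyCartesian hq (q.map f₁) (G.map φ₁)
  haveI := FibGrpd.isStronglyCartesian hq (q.map f₂) (G.map φ₂)
  have e₁ : q.map f₁ = 𝟙 _ ≫ q.map f₁ := (Category.id_comp _).symm
  let α₁ : X ⟶ G.obj W₁ := IsStronglyCartesian.map q (q.map f₁) (G.map φ₁) e₁ f₁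
  have hα₁ : α₁ ≫ G.map φ₁ = f₁ := IsStronglyCartesian.fac q (q.map f₁) (G.map φ₁) e₁ f₁
  haveI lα₁ : q.IsHomLift (𝟙 (q.obj X)) α₁ :=
    IsStronglyCartesian.map_isHomLift q (q.map f₁) (G.map φ₁) e₁ f₁
  -- the comparison `β : W₁ ⟶ W₂`
  have eC : q.map f₁ ≫ (G ⋙ q).map g₁ = q.map f₂ ≫ (G ⋙ q).map g₂ := by
    change q.map f₁ ≫ q.map (G.map g₁) = q.map f₂ ≫ q.map (G.map g₂)
    rw [← q.map_comp, ← q.map_comp, e]
  haveI : (G ⋙ q).IsHomLift (q.map f₂ ≫ (G ⋙ q).map g₂) (φ₂ ≫ g₂) := inferInstance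
  haveI : (G ⋙ q).IsHomLift (q.map f₁ ≫ (G ⋙ q).map g₁) (φ₁ ≫ g₁) := inferInstance
  haveI := FibGrpd.isStronglyCartesian hp (q.map f₂ ≫ (G ⋙ q).map g₂) (φ₂ ≫ g₂)
  have e₂ : q.map f₁ ≫ (G ⋙ q).map g₁ = 𝟙 _ ≫ (q.map f₂ ≫ (G ⋙ q).map g₂) := by
    rw [Category.id_comp, eC]
  let β : W₁ ⟶ W₂ :=
    IsStronglyCartesian.map (G ⋙ q) (q.map f₂ ≫ (G ⋙ q).map g₂) (φ₂ ≫ g₂) e₂ (φ₁ ≫ g₁)
  have hβ : β ≫ (φ₂ ≫ g₂) = φ₁ ≫ g₁ :=
    IsStronglyCartesian.fac (G ⋙ q) (q.map f₂ ≫ (G ⋙ q).map g₂) (φ₂ ≫ g₂) e₂ (φ₁ ≫ g₁)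
  haveI lβ : (G ⋙ q).IsHomLift (𝟙 (q.obj X)) β :=
    IsStronglyCartesian.map_isHomLift (G ⋙ q) (q.map f₂ ≫ (G ⋙ q).map g₂) (φ₂ ≫ g₂) e₂ (φ₁ ≫ g₁)
  haveI lGβ : q.IsHomLift (𝟙 (q.obj X)) (G.map β) := isHomLift_of_comp G q _ β
  -- compatibility of the family
  have hc := hx φ₁ (β ≫ φ₂) hg₁ hg₂ (by rw [Category.assoc, hβ])
  change ℱ.obj.map (G.map φ₁).op (x g₁ hg₁) = ℱ.obj.map (G.map (β ≫ φ₂)).op (x g₂ hg₂) at hc
  -- `f₂` in terms of the lifts
  have hf₂ : α₁ ≫ G.map (β ≫ φ₂) = f₂ := by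
    haveI := hq.isStronglyCartesian (G.map g₂)
    have e₃ : q.map (f₂ ≫ G.map g₂) = q.map f₂ ≫ q.map (G.map g₂) := q.map_comp _ _
    haveI : q.IsHomLift (q.map f₂) (α₁ ≫ G.map (β ≫ φ₂)) := by
      rw [G.map_comp]
      haveI : q.IsHomLift (q.map f₂) (G.map β ≫ G.map φ₂) := inferInstance
      infer_instance
    have u1 := IsStronglyCartesian.map_uniq q (q.map (G.map g₂)) (G.map g₂) e₃ (f₂ ≫ G.map g₂)
      (α₁ ≫ G.map (β ≫ φ₂)) (by
        rw [Category.assoc, ← G.map_comp, Category.assoc, hβ, G.map_comp, ← Category.assoc, hα₁, e])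
    have u2 := IsStronglyCartesian.map_uniq q (q.map (G.map g₂)) (G.map g₂) e₃ (f₂ ≫ G.map g₂)
      f₂ rfl
    exact u1.trans u2.symm
  rw [← hf₂, ← hα₁]
  simp only [op_comp, Functor.map_comp, types_comp_apply]
  rw [hc]
  simp only [op_comp, Functor.map_comp, types_comp_apply]

theorem isContinuous_comp (hp : IsFibGrpd (G ⋙ q)) (hq : IsFibGrpd q)
    (J : GrothendieckTopology C) :
    G.IsContinuous ((G ⋙ q).restrictedTopology J) (q.restrictedTopology J) :=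
  Functor.isContinuous_of_coverPreserving (compatiblePreserving_comp G q hp hq _)
    (coverPreserving_comp G q hp hq J)

/-- The three statements for a functor with `G ⋙ q = p`. -/
theorem all_of_eq (p : 𝒳 ⥤ C) (w : G ⋙ q = p) (hp : IsFibGrpd p) (hq : IsFibGrpd q)
    (J : GrothendieckTopology C) :
    CoverPreserving (p.restrictedTopology J) (q.restrictedTopology J) G ∧
      G.IsCocontinuous (p.restrictedTopology J) (q.restrictedTopology J) ∧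
      G.IsContinuous (p.restrictedTopology J) (q.restrictedTopology J) := by
  subst w
  exact ⟨coverPreserving_comp G q hp hq J, isCocontinuous_comp G q hp hq J,
    isContinuous_comp G q hp hq J⟩

end Groth.Agent.Helper6.RestrTopFun
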