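import Mathlib
import Groth.Agent.Helper6.SmRetract
import Groth.Agent.Helper6.FppfSD2
import Groth.Agent.Helper5.SrcFlat

/-!
# Helper6: retract lemmas for flat / locally of finite type / locally of finite presentation
morphisms of schemes, and descent of such properties through local sections
-/

set_option autoImplicit false
universe u
open CategoryTheory CategoryTheory.Limits AlgebraicGeometry Opposite TopologicalSpace

namespace Groth.Agent.Helper6.RetrSch

/-- Generic retract lemma: if `σ ≫ e = 𝟙` and `e ≫ h` has `P` then `h` has `P`, for `P` induced by a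
ring hom property satisfying the corresponding retract property. -/
theorem of_retract (P : MorphismProperty Scheme.{u})
    {Q : ∀ {R S : Type u} [CommRing R] [CommRing S], (R →+* S) → Prop}
    [HasRingHomProperty P Q] [P.RespectsRight @IsOpenImmersion]
    (hQ : ∀ {R S T : Type u} [CommRing R] [CommRing S] [CommRing T] (φ : R →+* S) (ι : S →+* T)
      (π : T →+* S), π.comp ι = RingHom.id S → Q (ι.comp φ) → Q φ)
    {A B C : Scheme.{u}} (σ : B ⟶ A) (e : A ⟶ B) (h : B ⟶ C) (hσ : σ ≫ e = 𝟙 B)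
    (hs : P (e ≫ h)) : P h := by
  rw [IsZariskiLocalAtSource.iff_exists_resLE (P := P)]
  intro b
  have heσ : ∀ x : B, e (σ x) = x := by
    intro x
    have := congrArg (fun f : B ⟶ B => f x) hσ
    simpa using this
  obtain ⟨U, hU, hbU, -⟩ := Opens.isBasis_iff_nbhd.mp C.isBasis_affineOpens
    (Opens.mem_top (h b))
  obtain ⟨V₀, hV₀, hbV₀, hV₀U⟩ := Opens.isBasis_iff_nbhd.mp B.isBasis_affineOpens
    (show b ∈ h ⁻¹ᵁ U from hbU)
  obtain ⟨W₀, hW₀, haW₀, hW₀V₀⟩ := Opens.isBasis_iff_nbhd.mp A.isBasis_affineOpens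
    (show σ b ∈ e ⁻¹ᵁ V₀ from by
      show e (σ b) ∈ V₀
      rw [heσ]; exact hbV₀)
  obtain ⟨s, hsle, hbs⟩ := hV₀.exists_basicOpen_le (V := σ ⁻¹ᵁ W₀) ⟨b, haW₀⟩ hbV₀
  have hVaff : IsAffineOpen (B.basicOpen s) := hV₀.basicOpen s
  have hWaff : IsAffineOpen (A.basicOpen (e.appLE V₀ W₀ hW₀V₀ s)) := hW₀.basicOpen _
  have hWmem : ∀ x, x ∈ A.basicOpen (e.appLE V₀ W₀ hW₀V₀ s) ↔ x ∈ W₀ ∧ e x ∈ B.basicOpen s := by
    intro x
    simp [Scheme.Hom.appLE, ← Scheme.preimage_basicOpen]
  have hVU : B.basicOpen s ≤ h ⁻¹ᵁ U := (B.basicOpen_le s).trans hV₀U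
  have hWV : A.basicOpen (e.appLE V₀ W₀ hW₀V₀ s) ≤ e ⁻¹ᵁ (B.basicOpen s) := fun x hx =>
    ((hWmem x).1 hx).2
  have hVW : B.basicOpen s ≤ σ ⁻¹ᵁ (A.basicOpen (e.appLE V₀ W₀ hW₀V₀ s)) := fun x hx =>
    (hWmem (σ x)).2 ⟨hsle hx, by rw [heσ]; exact hx⟩
  have i1 : IsAffine (B.basicOpen s : Scheme.{u}) := hVaff
  have i2 : IsAffine (A.basicOpen (e.appLE V₀ W₀ hW₀V₀ s) : Scheme.{u}) := hWaff
  have i3 : IsAffine ((U : C.Opens) : Scheme.{u}) := hU
  refine ⟨U, B.basicOpen s, hbs, hVU, ?_⟩
  have hPres : P (e.resLE (B.basicOpen s) (A.basicOpen (e.appLE V₀ W₀ hW₀V₀ s)) hWV ≫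
      h.resLE U (B.basicOpen s) hVU) := by
    rw [Scheme.Hom.resLE_comp_resLE]
    exact IsZariskiLocalAtSource.resLE _ hs
  have hid : σ.resLE (A.basicOpen (e.appLE V₀ W₀ hW₀V₀ s)) (B.basicOpen s) hVW ≫
      e.resLE (B.basicOpen s) (A.basicOpen (e.appLE V₀ W₀ hW₀V₀ s)) hWV = 𝟙 _ := by
    rw [Scheme.Hom.resLE_comp_resLE]
    have key : ∀ (f : B ⟶ B) (hf : f = 𝟙 B) (le : B.basicOpen s ≤ f ⁻¹ᵁ (B.basicOpen s)),
        f.resLE (B.basicOpen s) (B.basicOpen s) le = 𝟙 _ := by
      intro f hf le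
      subst hf
      rw [← cancel_mono (B.basicOpen s).ι, Scheme.Hom.resLE_comp_ι, Category.comp_id,
        Category.id_comp]
    exact key _ hσ _
  rw [HasRingHomProperty.iff_of_isAffine (P := P)] at hPres ⊢
  refine hQ _ (e.resLE (B.basicOpen s) (A.basicOpen (e.appLE V₀ W₀ hW₀V₀ s)) hWV).appTop.hom
    (σ.resLE (A.basicOpen (e.appLE V₀ W₀ hW₀V₀ s)) (B.basicOpen s) hVW).appTop.hom ?_ ?_
  · have h1 := congrArg Scheme.Hom.appTop hid
    rw [Scheme.Hom.comp_appTop, Scheme.Hom.id_appTop] at h1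
    have h2 := congrArg CommRingCat.Hom.hom h1
    rw [CommRingCat.hom_comp, CommRingCat.hom_id] at h2
    exact h2
  · have h2 : (e.resLE (B.basicOpen s) (A.basicOpen (e.appLE V₀ W₀ hW₀V₀ s)) hWV ≫
        h.resLE U (B.basicOpen s) hVU).appTop.hom =
        (e.resLE (B.basicOpen s) (A.basicOpen (e.appLE V₀ W₀ hW₀V₀ s)) hWV).appTop.hom.comp
          (h.resLE U (B.basicOpen s) hVU).appTop.hom := by
      rw [Scheme.Hom.comp_appTop]; rfl
    rw [← h2]
    exact hPres


/-- ring hom version of: a retract of a flat algebra is flat -/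
theorem ringHom_flat_of_retract {R S T : Type u} [CommRing R] [CommRing S] [CommRing T]
    (φ : R →+* S) (ι : S →+* T) (π : T →+* S) (h : π.comp ι = RingHom.id S)
    (hs : (ι.comp φ).Flat) : φ.Flat := by
  letI := φ.toAlgebra
  letI : Algebra R T := (ι.comp φ).toAlgebra
  haveI : Module.Flat R T := hs
  let ι' : S →ₐ[R] T := { ι with commutes' := fun r => rfl }
  let π' : T →ₐ[R] S := { π with commutes' := fun r => DFunLike.congr_fun h (φ r) }
  have h' : π'.toLinearMap.comp ι'.toLinearMap = LinearMap.id := by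
    ext x
    exact DFunLike.congr_fun h x
  exact Module.Flat.of_retract ι'.toLinearMap π'.toLinearMap h'

/-- ring hom version of: a retract of a finite type algebra is of finite type -/
theorem ringHom_finiteType_of_retract {R S T : Type u} [CommRing R] [CommRing S] [CommRing T]
    (φ : R →+* S) (ι : S →+* T) (π : T →+* S) (h : π.comp ι = RingHom.id S)
    (hs : (ι.comp φ).FiniteType) : φ.FiniteType := by
  letI := φ.toAlgebra
  letI : Algebra R T := (ι.comp φ).toAlgebra
  haveI : Algebra.FiniteType R T := hs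
  let π' : T →ₐ[R] S := { π with commutes' := fun r => DFunLike.congr_fun h (φ r) }
  have hsurj : Function.Surjective π' := fun x => ⟨ι x, DFunLike.congr_fun h x⟩
  exact Algebra.FiniteType.of_surjective π' hsurj

/-- ring hom version of: a retract of a finitely presented algebra is finitely presented -/
theorem ringHom_finitePresentation_of_retract {R S T : Type u} [CommRing R] [CommRing S]
    [CommRing T] (φ : R →+* S) (ι : S →+* T) (π : T →+* S) (h : π.comp ι = RingHom.id S)
    (hs : (ι.comp φ).FinitePresentation) : φ.FinitePresentation := by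
  letI := φ.toAlgebra
  letI : Algebra R T := (ι.comp φ).toAlgebra
  haveI : Algebra.FinitePresentation R T := hs
  let ι' : S →ₐ[R] T := { ι with commutes' := fun r => rfl }
  let π' : T →ₐ[R] S := { π with commutes' := fun r => DFunLike.congr_fun h (φ r) }
  have h' : π'.comp ι' = AlgHom.id R S := by
    ext x
    exact DFunLike.congr_fun h x
  have hsurj : Function.Surjective π' := fun x => ⟨ι x, DFunLike.congr_fun h x⟩
  exact Algebra.FinitePresentation.of_surjective hsurj
    (Groth.Agent.Helper6.SmRetract.ker_fg_of_retract R S T ι' π' h')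

theorem flat_of_retract {A B C : Scheme.{u}} (σ : B ⟶ A) (e : A ⟶ B) (h : B ⟶ C)
    (hσ : σ ≫ e = 𝟙 B) (hs : Flat (e ≫ h)) : Flat h := by
  have : MorphismProperty.RespectsRight @Flat @IsOpenImmersion :=
    ⟨fun i hi f hf => by
      have : IsOpenImmersion i := hi
      have : Flat f := hf
      show Flat (f ≫ i)
      infer_instance⟩
  exact of_retract @Flat (fun φ ι π h hs => ringHom_flat_of_retract φ ι π h hs) σ e h hσ hs

theorem lft_of_retract {A B C : Scheme.{u}} (σ : B ⟶ A) (e : A ⟶ B) (h : B ⟶ C)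
    (hσ : σ ≫ e = 𝟙 B) (hs : LocallyOfFiniteType (e ≫ h)) : LocallyOfFiniteType h := by
  have : MorphismProperty.RespectsRight @LocallyOfFiniteType @IsOpenImmersion :=
    ⟨fun i hi f hf => by
      have : IsOpenImmersion i := hi
      have : LocallyOfFiniteType f := hf
      show LocallyOfFiniteType (f ≫ i)
      infer_instance⟩
  exact of_retract @LocallyOfFiniteType
    (fun φ ι π h hs => ringHom_finiteType_of_retract φ ι π h hs) σ e h hσ hs

theorem lfp_of_retract {A B C : Scheme.{u}} (σ : B ⟶ A) (e : A ⟶ B) (h : B ⟶ C)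
    (hσ : σ ≫ e = 𝟙 B) (hs : LocallyOfFinitePresentation (e ≫ h)) :
    LocallyOfFinitePresentation h := by
  have : MorphismProperty.RespectsRight @LocallyOfFinitePresentation @IsOpenImmersion :=
    ⟨fun i hi f hf => by
      have : IsOpenImmersion i := hi
      have : LocallyOfFinitePresentation f := hf
      show LocallyOfFinitePresentation (f ≫ i)
      infer_instance⟩
  exact of_retract @LocallyOfFinitePresentation
    (fun φ ι π h hs => ringHom_finitePresentation_of_retract φ ι π h hs) σ e h hσ hs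

/-- The hypotheses on a property `P` of morphisms of schemes needed for descent through local
sections. -/
structure SecDesc (P : MorphismProperty Scheme.{u}) : Prop where
  comp : ∀ {A B C : Scheme.{u}} (e : A ⟶ B) (m : B ⟶ C), Flat e → LocallyOfFinitePresentation e →
    P m → P (e ≫ m)
  fam : ∀ {U V : Scheme.{u}} (k : U ⟶ V),
    (∀ u : U, ∃ (A : Scheme.{u}) (e : A ⟶ U) (a : A), Flat e ∧ LocallyOfFinitePresentation e ∧
      e a = u ∧ P (e ≫ k)) → P k
  retr : ∀ {A B C : Scheme.{u}} (σ : B ⟶ A) (e : A ⟶ B) (m : B ⟶ C), σ ≫ e = 𝟙 B →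
    P (e ≫ m) → P m

theorem secDesc_flat : SecDesc @Flat where
  comp e m he _ hm := by
    have : Flat e := he
    have : Flat m := hm
    show Flat (e ≫ m)
    infer_instance
  fam k H := Groth.Agent.Helper5.SrcFlat.flat_of_family k (fun u => by
    obtain ⟨A, e, a, he, -, hea, hek⟩ := H u
    exact ⟨A, e, a, he, hea, hek⟩)
  retr σ e m hσ hs := flat_of_retract σ e m hσ hs

theorem secDesc_lft : SecDesc @LocallyOfFiniteType where
  comp e m _ he hm := by
    have : LocallyOfFinitePresentation e := he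
    have : LocallyOfFiniteType m := hm
    show LocallyOfFiniteType (e ≫ m)
    infer_instance
  fam k H := Groth.Agent.Helper6.FppfSD2.lft_of_family k H
  retr σ e m hσ hs := lft_of_retract σ e m hσ hs

theorem secDesc_lfp : SecDesc @LocallyOfFinitePresentation where
  comp e m _ he hm := by
    have : LocallyOfFinitePresentation e := he
    have : LocallyOfFinitePresentation m := hm
    show LocallyOfFinitePresentation (e ≫ m)
    infer_instance
  fam k H := Groth.Agent.Helper6.FppfSD2.lfp_of_family k H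
  retr σ e m hσ hs := lfp_of_retract σ e m hσ hs

/-- Descent through local sections: if `ρ ≫ k` has `P` and, fppf locally on `U`, the morphism `ρ`
has sections, then `k` has `P`. -/
theorem of_local_sections {P : MorphismProperty Scheme.{u}} (hP : SecDesc P)
    {A U V : Scheme.{u}} (ρ : A ⟶ U) (k : U ⟶ V) (hρk : P (ρ ≫ k))
    (H : ∀ u : U, ∃ (E : Scheme.{u}) (w : E ⟶ U) (t : E ⟶ A) (ε : E), Flat w ∧
      LocallyOfFinitePresentation w ∧ w ε = u ∧ t ≫ ρ = w) : P k := by
  apply hP.fam
  intro u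
  obtain ⟨E, w, t, ε, hw, hwfp, hwε, htw⟩ := H u
  refine ⟨E, w, ε, hw, hwfp, hwε, ?_⟩
  haveI := hw
  haveI := hwfp
  let σ : E ⟶ pullback ρ w := pullback.lift t (𝟙 E) (by rw [htw, Category.id_comp])
  have hσ : σ ≫ pullback.snd ρ w = 𝟙 E := pullback.lift_snd _ _ _
  apply hP.retr σ (pullback.snd ρ w) (w ≫ k) hσ
  have h1 : pullback.snd ρ w ≫ w ≫ k = pullback.fst ρ w ≫ ρ ≫ k := by
    rw [← Category.assoc, ← pullback.condition, Category.assoc]
  rw [h1]
  exact hP.comp _ _ inferInstance inferInstance hρk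

end Groth.Agent.Helper6.RetrSch
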