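import Mathlib

/-!
Reynolds (averaging) operator for a linear action of a finite group whose order is invertible.
-/

namespace Groth.Agent.Helper6.Reynolds

variable {R : Type*} [CommRing R] {G : Type*} [Group G] [Fintype G]
  {M : Type*} [AddCommGroup M] [Module R M]

/-- The averaging operator `(1/|G|) ∑ g`. -/
noncomputable def avg (ρ : G →* (M →ₗ[R] M)) : M →ₗ[R] M :=
  Ring.inverse ((Fintype.card G : ℕ) : R) • ∑ g : G, ρ g

theorem avg_apply (ρ : G →* (M →ₗ[R] M)) (x : M) :
    avg ρ x = Ring.inverse ((Fintype.card G : ℕ) : R) • ∑ g : G, ρ g x := by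
  simp [avg, LinearMap.sum_apply]

theorem apply_avg (ρ : G →* (M →ₗ[R] M)) (h : G) (x : M) : ρ h (avg ρ x) = avg ρ x := by
  rw [avg_apply, map_smul, map_sum]
  congr 1
  refine Fintype.sum_bijective (h * ·) (Group.mulLeft_bijective h) _ _ fun g => ?_
  rw [map_mul]
  rfl

theorem avg_of_fixed (hG : IsUnit ((Fintype.card G : ℕ) : R)) (ρ : G →* (M →ₗ[R] M)) (x : M)
    (hx : ∀ g, ρ g x = x) : avg ρ x = x := by
  rw [avg_apply]
  simp only [hx]
  rw [Finset.sum_const, Finset.card_univ, ← Nat.cast_smul_eq_nsmul R, smul_smul,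
    Ring.inverse_mul_cancel _ hG, one_smul]

end Groth.Agent.Helper6.Reynolds
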