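import Mathlib
import Groth.Prelude.Def_W4c1hurwitzcptBd
import Groth.Agent.Helper6.CrimpDisc

universe u

namespace Groth.Agent.Helper6.RootD

open W4c1hurwitzcpt PowerSeries Module

variable {p : ℕ} [NeZero p] {k : Type u} [Field k]

/-- the `x`-adic order on `RootDisk p k` -/
noncomputable def ord (v : RootDisk p k) : ℕ∞ := (RootDisk.val v).order

theorem val_smul (r : PowerSeries k) (v : RootDisk p k) :
    RootDisk.val (r • v) = expand p (NeZero.ne p) r * RootDisk.val v := by
  rw [Algebra.smul_def, map_mul]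
  rfl

theorem ord_smul (r : PowerSeries k) (v : RootDisk p k) :
    ord (r • v) = p • r.order + ord v := by
  unfold ord
  rw [val_smul, order_mul, order_expand]

theorem ord_eq_top_iff (v : RootDisk p k) : ord v = ⊤ ↔ v = 0 := by
  unfold ord
  rw [order_eq_top]
  exact ⟨fun h => RootDisk.val.injective (by rw [h, map_zero]), fun h => by rw [h, map_zero]⟩

theorem smul_eq_zero_iff (r : PowerSeries k) (v : RootDisk p k) : r • v = 0 ↔ r = 0 ∨ v = 0 := by
  rw [← ord_eq_top_iff, ord_smul, ← ord_eq_top_iff (v := v), ← order_eq_top]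
  constructor
  · intro h
    rcases WithTop.add_eq_top.mp h with h | h
    · left
      by_contra hne
      obtain ⟨n, hn⟩ := ENat.ne_top_iff_exists.mp hne
      rw [← hn, nsmul_eq_mul, ← Nat.cast_mul] at h
      exact ENat.coe_ne_top _ h
    · exact Or.inr h
  · rintro (h | h)
    · rw [h]
      have : p • (⊤ : ℕ∞) = ⊤ := by
        rw [nsmul_eq_mul]
        exact ENat.mul_top (by exact_mod_cast NeZero.ne p)
      rw [this, top_add]
    · rw [h, add_top]

/-- the element `x ^ j` -/
noncomputable def xpow (j : ℕ) : RootDisk p k := RootDisk.val.symm (X ^ j)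

theorem val_xpow (j : ℕ) : RootDisk.val (xpow (p := p) (k := k) j) = X ^ j :=
  RootDisk.val.apply_symm_apply _

theorem exists_repr (f : RootDisk p k) :
    ∃ a : Fin p → PowerSeries k, f = ∑ j, a j • xpow (p := p) (j : ℕ) := by
  have hp : 0 < p := Nat.pos_of_ne_zero (NeZero.ne p)
  refine ⟨fun j => PowerSeries.mk fun n => coeff (p * n + j) (RootDisk.val f), ?_⟩
  apply RootDisk.val.injective
  rw [map_sum]
  simp only [val_smul, val_xpow]
  ext m
  rw [map_sum]
  simp only [coeff_mul_X_pow', coeff_expand, coeff_mk]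
  rw [Finset.sum_eq_single (⟨m % p, Nat.mod_lt _ hp⟩ : Fin p)]
  · have h1 : m % p ≤ m := Nat.mod_le _ _
    have h2 : p ∣ m - m % p := Nat.dvd_sub_mod m
    rw [if_pos h1, if_pos h2]
    rw [Nat.mul_div_cancel' h2]
    show _ = coeff (m - m % p + m % p) (RootDisk.val f)
    rw [Nat.sub_add_cancel h1]
  · intro j _ hj
    split_ifs with h1 h2
    · exfalso
      apply hj
      apply Fin.ext
      show (j : ℕ) = m % p
      obtain ⟨q, hq⟩ := h2
      have : m = j + p * q := by omega
      rw [this, Nat.add_mul_mod_self_left, Nat.mod_eq_of_lt j.2]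
    · rfl
    · rfl
  · intro h
    exact absurd (Finset.mem_univ _) h

theorem span_xpow : Submodule.span (PowerSeries k) (Set.range fun j : Fin p => xpow (p := p) (k := k) (j : ℕ)) = ⊤ := by
  rw [eq_top_iff]
  intro f _
  obtain ⟨a, ha⟩ := exists_repr f
  rw [ha]
  exact Submodule.sum_mem _ fun j _ => Submodule.smul_mem _ _ (Submodule.subset_span ⟨j, rfl⟩)

instance : Module.Finite (PowerSeries k) (RootDisk p k) :=
  ⟨Submodule.fg_def.2 ⟨_, Set.finite_range _, span_xpow (p := p) (k := k)⟩⟩

theorem finrank_le : Module.finrank (PowerSeries k) (RootDisk p k) ≤ p := by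
  have := finrank_le_of_span_eq_top (R := PowerSeries k) (span_xpow (p := p) (k := k))
  simpa using this

theorem exists_pow_smul_mem (M : Submodule (PowerSeries k) (RootDisk p k))
    (bM : Basis (Fin p) (PowerSeries k) M) (v : RootDisk p k) :
    ∃ n : ℕ, (X : PowerSeries k) ^ n • v ∈ M := by
  classical
  let w : Fin (p + 1) → RootDisk p k := Fin.cons v (fun i => (bM i : RootDisk p k))
  have hnli : ¬ LinearIndependent (PowerSeries k) w := by
    intro hli
    have h1 := hli.fintype_card_le_finrank
    have h2 := finrank_le (p := p) (k := k)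
    rw [Fintype.card_fin] at h1
    omega
  rw [Fintype.not_linearIndependent_iff] at hnli
  obtain ⟨g, hg, i₀, hi₀⟩ := hnli
  rw [Fin.sum_univ_succ] at hg
  simp only [w, Fin.cons_zero, Fin.cons_succ] at hg
  have hg0 : g 0 ≠ 0 := by
    intro h0
    rw [h0, zero_smul, zero_add] at hg
    have hli : LinearIndependent (PowerSeries k) (fun i => (bM i : RootDisk p k)) :=
      bM.linearIndependent.map' M.subtype (Submodule.ker_subtype M)
    have := Fintype.linearIndependent_iff.mp hli (fun i => g i.succ) hg
    induction i₀ using Fin.cases with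
    | zero => exact hi₀ h0
    | succ i => exact hi₀ (this i)
  obtain ⟨n, u, hu⟩ := IsDiscreteValuationRing.eq_unit_mul_pow_irreducible hg0
    (PowerSeries.X_irreducible (R := k))
  refine ⟨n, ?_⟩
  have h3 : g 0 • v = - ∑ i : Fin p, g i.succ • (bM i : RootDisk p k) := eq_neg_of_add_eq_zero_left hg
  have h4 : (X : PowerSeries k) ^ n • v = (↑u⁻¹ : PowerSeries k) • (g 0 • v) := by
    rw [hu, smul_smul, ← mul_assoc, Units.inv_mul, one_mul]
  rw [h4, h3]
  apply M.smul_mem
  apply M.neg_mem
  exact M.sum_mem fun i _ => M.smul_mem _ (bM i).2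

end Groth.Agent.Helper6.RootD
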