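import Mathlib
import Groth.Agent.Helper6.RootD1

universe u

namespace Groth.Agent.Helper6.RootD

open W4c1hurwitzcpt PowerSeries Module

variable {p : ℕ} [NeZero p] {k : Type u} [Field k]

/-- no-cancellation lemma -/
theorem order_sum_distinct {ι : Type} [Fintype ι] (w : ι → PowerSeries k)
    (hw : ∀ i j, i ≠ j → w i ≠ 0 → w j ≠ 0 → (w i).order ≠ (w j).order) (hne : ∃ i, w i ≠ 0) :
    ∃ i₀, w i₀ ≠ 0 ∧ (∑ i, w i).order = (w i₀).order := by
  classical
  let T := Finset.univ.filter (fun i => w i ≠ 0)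
  have hT : T.Nonempty := by
    obtain ⟨i, hi⟩ := hne
    exact ⟨i, by simp [T, hi]⟩
  obtain ⟨i₀, hi₀T, hmin⟩ := Finset.exists_min_image T (fun i => (w i).order) hT
  have hi₀ : w i₀ ≠ 0 := (Finset.mem_filter.mp hi₀T).2
  refine ⟨i₀, hi₀, ?_⟩
  set n₀ := (w i₀).order.toNat with hn₀def
  have hn₀ : (w i₀).order = n₀ := (ENat.coe_toNat (order_eq_top.not.mpr hi₀)).symm
  rw [hn₀, order_eq_nat]
  have hlt : ∀ j, j ≠ i₀ → ∀ m ≤ n₀, coeff m (w j) = 0 := by
    intro j hj m hm
    by_cases hwj : w j = 0
    · rw [hwj, map_zero]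
    · apply coeff_of_lt_order
      have h1 : (w i₀).order ≤ (w j).order := hmin j (by simp [T, hwj])
      have h2 := hw i₀ j hj.symm hi₀ hwj
      calc (m : ℕ∞) ≤ n₀ := by exact_mod_cast hm
        _ = (w i₀).order := hn₀.symm
        _ < (w j).order := lt_of_le_of_ne h1 h2
  constructor
  · rw [map_sum, Finset.sum_eq_single i₀ (fun j _ hj => hlt j hj n₀ le_rfl)
      (fun h => absurd (Finset.mem_univ _) h)]
    exact coeff_order hi₀
  · intro m hm
    rw [map_sum]
    apply Finset.sum_eq_zero
    intro j _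
    by_cases hj : j = i₀
    · rw [hj]
      exact coeff_of_lt_order_toNat _ hm
    · exact hlt j hj m hm.le

theorem ord_smul_nat (a : PowerSeries k) (ha : a ≠ 0) (f : RootDisk p k) (n : ℕ)
    (hf : ord f = n) : ∃ e : ℕ, ord (a • f) = ((p * e + n : ℕ) : ℕ∞) := by
  obtain ⟨e, he⟩ := ENat.ne_top_iff_exists.mp (order_eq_top.not.mpr ha)
  refine ⟨e, ?_⟩
  rw [ord_smul, hf, ← he, nsmul_eq_mul]
  push_cast
  rfl

theorem ord_xpow (j : ℕ) : ord (xpow (p := p) (k := k) j) = j := by
  unfold ord
  rw [val_xpow, order_X_pow]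

theorem main (M : Submodule (PowerSeries k) (RootDisk p k))
    (bM : Basis (Fin p) (PowerSeries k) M) :
    ∃ g : Basis (Fin p) (PowerSeries k) M,
      ∀ i : Fin p, ∃ n : ℕ, ord ((g i : M) : RootDisk p k) = n ∧ n % p = i := by
  classical
  have hp : 0 < p := Nat.pos_of_ne_zero (NeZero.ne p)
  -- every residue class occurs
  have h3 : ∀ j : Fin p, ∃ n : ℕ, ∃ f ∈ M, ord f = n ∧ n % p = j := by
    intro j
    obtain ⟨n, hn⟩ := exists_pow_smul_mem M bM (xpow (j : ℕ))
    refine ⟨p * n + j, _, hn, ?_, ?_⟩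
    · rw [ord_smul, order_X_pow, ord_xpow, nsmul_eq_mul]
      push_cast
      rfl
    · rw [Nat.mul_add_mod, Nat.mod_eq_of_lt j.2]
  let v : Fin p → ℕ := fun j => Nat.find (h3 j)
  have hvspec : ∀ j, ∃ f ∈ M, ord f = v j ∧ v j % p = j := fun j => Nat.find_spec (h3 j)
  have hvmin : ∀ (j : Fin p) (n : ℕ) (f : RootDisk p k), f ∈ M → ord f = n → n % p = j → v j ≤ n :=
    fun j n f hf h1 h2 => Nat.find_min' (h3 j) ⟨f, hf, h1, h2⟩
  choose g hgM hgord hgmod using hvspec
  have hvne : ∀ i j : Fin p, i ≠ j → ∀ e e' : ℕ, p * e + v i ≠ p * e' + v j := by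
    intro i j hij e e' h
    apply hij
    apply Fin.ext
    have := congrArg (· % p) h
    simp only [Nat.mul_add_mod] at this
    rw [hgmod i, hgmod j] at this
    exact this
  have hgne : ∀ j, g j ≠ 0 := by
    intro j h0
    have := hgord j
    rw [(ord_eq_top_iff _).mpr h0] at this
    exact ENat.coe_ne_top _ this.symm
  let g' : Fin p → M := fun j => ⟨g j, hgM j⟩
  -- a relation with distinct classes is trivial
  have hrel : ∀ a : Fin p → PowerSeries k, (∃ j, a j ≠ 0) →
      ∃ j, a j ≠ 0 ∧ ord (∑ i, a i • g i) = ord (a j • g j) := by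
    intro a hne
    let w : Fin p → PowerSeries k := fun i => RootDisk.val (a i • g i)
    have hw0 : ∀ i, w i ≠ 0 ↔ a i ≠ 0 := by
      intro i
      rw [Ne, Ne, ← not_iff_not, not_not, not_not]
      show RootDisk.val (a i • g i) = 0 ↔ _
      rw [← order_eq_top]
      show ord (a i • g i) = ⊤ ↔ _
      rw [ord_eq_top_iff, smul_eq_zero_iff]
      constructor
      · rintro (h | h)
        · exact h
        · exact absurd h (hgne i)
      · exact Or.inl
    have hw : ∀ i j, i ≠ j → w i ≠ 0 → w j ≠ 0 → (w i).order ≠ (w j).order := by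
      intro i j hij hi hj
      obtain ⟨e, he⟩ := ord_smul_nat (a i) ((hw0 i).mp hi) (g i) (v i) (hgord i)
      obtain ⟨e', he'⟩ := ord_smul_nat (a j) ((hw0 j).mp hj) (g j) (v j) (hgord j)
      show ord (a i • g i) ≠ ord (a j • g j)
      rw [he, he']
      intro h
      exact hvne i j hij e e' (by exact_mod_cast h)
    obtain ⟨j, hj⟩ := hne
    obtain ⟨i₀, hi₀, hord⟩ := order_sum_distinct w hw ⟨j, (hw0 j).mpr hj⟩
    refine ⟨i₀, (hw0 i₀).mp hi₀, ?_⟩
    show (RootDisk.val (∑ i, a i • g i)).order = _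
    rw [map_sum]
    exact hord
  have hli : LinearIndependent (PowerSeries k) g' := by
    rw [Fintype.linearIndependent_iff]
    intro a ha
    by_contra hcon
    rw [not_forall] at hcon
    obtain ⟨j, hj, hord⟩ := hrel a hcon
    have h0 : (∑ i, a i • g i) = 0 := by
      have := congrArg (Subtype.val) ha
      rw [AddSubmonoidClass.coe_finset_sum] at this
      exact this
    rw [h0, (ord_eq_top_iff _).mpr rfl] at hord
    obtain ⟨e, he⟩ := ord_smul_nat (a j) hj (g j) (v j) (hgord j)
    rw [he] at hord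
    exact ENat.coe_ne_top _ hord.symm
  set M'' : Submodule (PowerSeries k) M := Submodule.span (PowerSeries k) (Set.range g') with hM''
  have hfr : Module.finrank (PowerSeries k) M'' = Module.finrank (PowerSeries k) M := by
    rw [hM'', finrank_span_eq_card hli, Module.finrank_eq_card_basis bM]
  obtain ⟨_, _, nn, _, _, hkill⟩ :=
    CrimpDisc.snf_dvr (PowerSeries.X : PowerSeries k) PowerSeries.X_irreducible bM M'' hfr
  -- the key saturation step
  have hkey : ∀ x : M, (PowerSeries.X : PowerSeries k) • x ∈ M'' → x ∈ M'' := by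
    intro x hx
    obtain ⟨a, ha⟩ := (Submodule.mem_span_range_iff_exists_fun (PowerSeries k)).mp hx
    let b : Fin p → PowerSeries k := fun j => PowerSeries.mk fun n => coeff (n + 1) (a j)
    let c : Fin p → k := fun j => constantCoeff (a j)
    have hab : ∀ j, a j = X * b j + C (c j) := fun j => eq_X_mul_shift_add_const (a j)
    set x₂ : M := x - ∑ j, b j • g' j with hx₂
    have hx₂eq : (PowerSeries.X : PowerSeries k) • x₂ = ∑ j, (C (c j) : PowerSeries k) • g' j := by
      rw [hx₂, smul_sub, ← ha, Finset.smul_sum, ← Finset.sum_sub_distrib]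
      apply Finset.sum_congr rfl
      intro j _
      rw [smul_smul, ← sub_smul, hab j]
      congr 1
      ring
    by_cases hc : ∀ j, c j = 0
    · have h0 : (PowerSeries.X : PowerSeries k) • x₂ = 0 := by
        rw [hx₂eq]
        apply Finset.sum_eq_zero
        intro j _
        rw [hc j, map_zero, zero_smul]
      have h1 : ((PowerSeries.X : PowerSeries k) • (x₂ : RootDisk p k)) = 0 := by
        have := congrArg Subtype.val h0
        exact this
      rw [smul_eq_zero_iff] at h1
      have h2 : (x₂ : RootDisk p k) = 0 := h1.resolve_left PowerSeries.X_ne_zero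
      have h3 : x₂ = 0 := Subtype.ext h2
      have h4 : x = ∑ j, b j • g' j := by
        rw [hx₂, sub_eq_zero] at h3
        exact h3
      rw [h4]
      exact Submodule.sum_mem _ fun j _ => Submodule.smul_mem _ _ (Submodule.subset_span ⟨j, rfl⟩)
    · exfalso
      rw [not_forall] at hc
      have hCne : ∃ j, (C (c j) : PowerSeries k) ≠ 0 := by
        obtain ⟨j, hj⟩ := hc
        exact ⟨j, fun h => hj (by simpa using congrArg constantCoeff h)⟩
      obtain ⟨j, hj, hord⟩ := hrel (fun j => C (c j)) hCne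
      have hcj : c j ≠ 0 := fun h => hj (by rw [h, map_zero])
      have hord1 : ord ((C (c j) : PowerSeries k) • g j) = v j := by
        rw [ord_smul, hgord j]
        have : (C (c j) : PowerSeries k).order = 0 := by
          have h := (order_eq_nat (φ := (C (c j) : PowerSeries k)) (n := 0)).mpr
            ⟨by simpa using hcj, fun i hi => absurd hi (Nat.not_lt_zero _)⟩
          exact_mod_cast h
        rw [this, smul_zero, zero_add]
      have hsum : (∑ i, (C (c i) : PowerSeries k) • g i) =
          (PowerSeries.X : PowerSeries k) • (x₂ : RootDisk p k) := by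
        have := congrArg Subtype.val hx₂eq
        rw [AddSubmonoidClass.coe_finset_sum] at this
        exact this.symm
      rw [hsum, hord1, ord_smul, order_X, nsmul_eq_mul, mul_one] at hord
      -- ord x₂ is finite
      have hfin : ord (x₂ : RootDisk p k) ≠ ⊤ := by
        intro h
        rw [h, add_top] at hord
        exact ENat.coe_ne_top _ hord.symm
      obtain ⟨n₂, hn₂⟩ := ENat.ne_top_iff_exists.mp hfin
      rw [← hn₂] at hord
      have hpn : p + n₂ = v j := by exact_mod_cast hord
      have hmod : n₂ % p = j := by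
        rw [← hgmod j, ← hpn, Nat.add_mod_left]
      have := hvmin j n₂ x₂ x₂.2 hn₂.symm hmod
      omega
  have hsat : ∀ (e : ℕ) (x : M), (PowerSeries.X : PowerSeries k) ^ e • x ∈ M'' → x ∈ M'' := by
    intro e
    induction e with
    | zero =>
      intro x hx
      simpa using hx
    | succ e ih =>
      intro x hx
      apply ih
      apply hkey
      rw [smul_smul, ← pow_succ']
      exact hx
  have htop : M'' = ⊤ := by
    rw [eq_top_iff]
    intro x _
    exact hsat _ x (hkill x)
  refine ⟨Basis.mk hli (by rw [← hM'', htop]), ?_⟩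
  intro i
  refine ⟨v i, ?_, hgmod i⟩
  rw [Basis.mk_apply]
  exact hgord i

theorem main' (M : Submodule (PowerSeries k) (RootDisk p k))
    (bM : Basis (Fin p) (PowerSeries k) M) :
    ∃ g : Basis (Fin p) (PowerSeries k) M, ∀ i j : Fin p, i ≠ j →
      ¬ Nat.ModEq p (PowerSeries.order (RootDisk.val ((g i : M) : RootDisk p k))).toNat
        (PowerSeries.order (RootDisk.val ((g j : M) : RootDisk p k))).toNat := by
  obtain ⟨g, hg⟩ := main M bM
  refine ⟨g, ?_⟩
  intro i j hij h
  obtain ⟨n, hn, hnm⟩ := hg i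
  obtain ⟨n', hn', hnm'⟩ := hg j
  unfold ord at hn hn'
  rw [hn, hn'] at h
  simp only [ENat.toNat_coe] at h
  apply hij
  apply Fin.ext
  rw [← hnm, ← hnm']
  exact h

end Groth.Agent.Helper6.RootD
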