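import Mathlib
import Groth.Agent.Helper6.RootD2

universe u

namespace Groth.Agent.Helper6.RootD

open W4c1hurwitzcpt PowerSeries Module

theorem simply_ramified {k : Type u} [Field k]
    (M : Submodule (PowerSeries k) (RootDisk 2 k × PowerSeries k))
    (h1 : (1 : RootDisk 2 k × PowerSeries k) ∈ M)
    (bM : Basis (Fin 3) (PowerSeries k) M) :
    ∃ f₁ f₂ : RootDisk 2 k,
      ¬ Nat.ModEq 2 (PowerSeries.order (RootDisk.val f₁)).toNat
        (PowerSeries.order (RootDisk.val f₂)).toNat ∧
      M = Submodule.span (PowerSeries k)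
        {(1 : RootDisk 2 k × PowerSeries k), (f₁, 0), (f₂, 0)} := by
  classical
  set R := PowerSeries k
  set V := RootDisk 2 k
  haveI : Module.Finite R M := Module.Finite.of_basis bM
  let π : M →ₗ[R] R := (LinearMap.snd R V R) ∘ₗ M.subtype
  have hπs : Function.Surjective π := by
    intro r
    refine ⟨r • ⟨1, h1⟩, ?_⟩
    show (r • (1 : V × R)).2 = r
    simp
  set K : Submodule R M := LinearMap.ker π with hK
  have hfrK : Module.finrank R K = 2 := by
    have h := K.finrank_quotient_add_finrank
    rw [(LinearMap.quotKerEquivOfSurjective π hπs).finrank_eq, Module.finrank_self,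
      Module.finrank_eq_card_basis bM, Fintype.card_fin] at h
    omega
  obtain ⟨n, ⟨bK⟩⟩ := Submodule.nonempty_basis_of_pid bM K
  have hn : n = 2 := by
    rw [← hfrK, Module.finrank_eq_card_basis bK, Fintype.card_fin]
  subst hn
  set M₀ : Submodule R V := M.comap (LinearMap.inl R V R) with hM₀
  have hKmem : ∀ x : K, ((x : M) : V × R).2 = 0 := fun x => LinearMap.mem_ker.mp x.2
  let E : K ≃ₗ[R] M₀ :=
    { toFun := fun x => ⟨((x : M) : V × R).1, by
        show (((x : M) : V × R).1, (0 : R)) ∈ M
        have : (((x : M) : V × R).1, (0 : R)) = ((x : M) : V × R) := Prod.ext rfl (hKmem x).symm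
        rw [this]
        exact (x : M).2⟩
      map_add' := fun x y => rfl
      map_smul' := fun r x => rfl
      invFun := fun f => ⟨⟨((f : V), (0 : R)), f.2⟩, rfl⟩
      left_inv := fun x => by
        apply Subtype.ext
        apply Subtype.ext
        exact Prod.ext rfl (hKmem x).symm
      right_inv := fun f => rfl }
  let bM₀ : Basis (Fin 2) R M₀ := bK.map E
  obtain ⟨g, hg⟩ := main' M₀ bM₀
  refine ⟨(g 0 : V), (g 1 : V), hg 0 1 (by decide), ?_⟩
  apply le_antisymm
  · intro m hm
    obtain ⟨f, r⟩ := m
    have hsub : (f - r • (1 : V), (0 : R)) ∈ M := by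
      have : (f - r • (1 : V), (0 : R)) = (f, r) - r • (1 : V × R) := by
        ext
        · simp
        · simp
      rw [this]
      exact M.sub_mem hm (M.smul_mem _ h1)
    let f' : M₀ := ⟨f - r • (1 : V), hsub⟩
    have hrepr : (f' : V) = g.repr f' 0 • (g 0 : V) + g.repr f' 1 • (g 1 : V) := by
      conv_lhs => rw [← g.sum_repr f', Fin.sum_univ_two]
      rfl
    have hm' : ((f, r) : V × R) = r • (1 : V × R) + g.repr f' 0 • ((g 0 : V), (0 : R)) +
        g.repr f' 1 • ((g 1 : V), (0 : R)) := by
      ext
      · simp only [Prod.fst_add, Prod.smul_fst, Prod.fst_one]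
        rw [add_assoc, ← hrepr]
        show f = r • (1 : V) + (f - r • (1 : V))
        abel
      · simp
    rw [hm']
    refine Submodule.add_mem _ (Submodule.add_mem _ ?_ ?_) ?_
    · exact Submodule.smul_mem _ _ (Submodule.subset_span (by simp))
    · exact Submodule.smul_mem _ _ (Submodule.subset_span (by simp))
    · exact Submodule.smul_mem _ _ (Submodule.subset_span (by simp))
  · rw [Submodule.span_le]
    rintro x (rfl | rfl | hx)
    · exact h1
    · exact (g 0).2
    · obtain rfl : x = ((g 1 : V), (0 : R)) := hx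
      exact (g 1).2

end Groth.Agent.Helper6.RootD
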