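import Mathlib

set_option autoImplicit false
universe u

namespace Groth.Agent.Helper6.SNCond

variable {A B : Type*} [CommRing A] [CommRing B] [Algebra A B]

/-- the conductor of `A` in `B`, as an ideal of `B`. -/
def cond (A B : Type*) [CommRing A] [CommRing B] [Algebra A B] : Ideal B where
  carrier := {b | ∀ c : B, b * c ∈ (algebraMap A B).range}
  add_mem' := by
    intro x y hx hy c
    rw [add_mul]
    exact Subring.add_mem _ (hx c) (hy c)
  zero_mem' := by
    intro c
    rw [zero_mul]
    exact Subring.zero_mem _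
  smul_mem' := by
    intro x b hb c
    rw [smul_eq_mul, mul_comm x b, mul_assoc]
    exact hb (x * c)

lemma mem_cond (b : B) : b ∈ cond A B ↔ ∀ c : B, b * c ∈ (algebraMap A B).range := Iff.rfl

lemma cond_le_range {b : B} (hb : b ∈ cond A B) : b ∈ (algebraMap A B).range := by
  have := hb 1
  rwa [mul_one] at this

variable (h1 : ∀ b : B, b ^ 2 ∈ (algebraMap A B).range → b ^ 3 ∈ (algebraMap A B).range →
    b ∈ (algebraMap A B).range)

include h1 in
lemma cond_K {b : B} (h2 : b ^ 2 ∈ cond A B) (h3 : b ^ 3 ∈ cond A B) : b ∈ cond A B := by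
  intro c
  apply h1
  · rw [mul_pow]; exact h2 _
  · rw [mul_pow]; exact h3 _

include h1 in
lemma cond_isRadical : (cond A B).IsRadical := by
  have key : ∀ n : ℕ, ∀ b : B, b ^ (n + 1) ∈ cond A B → b ∈ cond A B := by
    intro n
    induction n with
    | zero => intro b hb; simpa using hb
    | succ n ih =>
      intro b hb
      apply ih
      apply cond_K h1
      · have : (b ^ (n + 1)) ^ 2 = b ^ (n + 1 + 1) * b ^ n := by ring
        rw [this]
        exact Ideal.mul_mem_right _ _ hb
      · have : (b ^ (n + 1)) ^ 3 = b ^ (n + 1 + 1) * b ^ (2 * n + 1) := by ring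
        rw [this]
        exact Ideal.mul_mem_right _ _ hb
  intro b hb
  obtain ⟨n, hn⟩ := hb
  rcases n with _ | n
  · rw [pow_zero] at hn
    have : cond A B = ⊤ := (Ideal.eq_top_iff_one _).mpr hn
    rw [this]; trivial
  · exact key n b hn

include h1 in
theorem surjective_of_seminormal_subintegral [Module.Finite A B] [IsNoetherianRing B]
    (h2 : Function.Injective (PrimeSpectrum.comap (algebraMap A B)))
    (h3 : ∀ (q : PrimeSpectrum B) (b : B), ∃ s a : A,
      algebraMap A B s ∉ q.asIdeal ∧ algebraMap A B s * b - algebraMap A B a ∈ q.asIdeal) :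
    Function.Surjective (algebraMap A B) := by
  classical
  have hint : Algebra.IsIntegral A B := inferInstance
  by_contra hns
  have hne : cond A B ≠ ⊤ := by
    intro htop
    apply hns
    intro b
    have h1' : (1 : B) ∈ cond A B := by rw [htop]; trivial
    have := h1' b
    rwa [one_mul] at this
  have hfin : (cond A B).minimalPrimes.Finite := Ideal.finite_minimalPrimes_of_isNoetherianRing B _
  obtain ⟨⟨q1, hq1⟩⟩ := Ideal.nonempty_minimalPrimes hne
  have hq1p : q1.IsPrime := hq1.1.1
  have hsInf : sInf (cond A B).minimalPrimes = cond A B := by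
    rw [Ideal.sInf_minimalPrimes, (cond_isRadical h1).radical]
  -- separating elements
  have hsep : ∀ q ∈ (cond A B).minimalPrimes, q ≠ q1 →
      ∃ t : A, algebraMap A B t ∈ q ∧ algebraMap A B t ∉ q1 := by
    intro q hq hne1
    by_contra hcon
    push Not at hcon
    have hqp : q.IsPrime := hq.1.1
    have hle : q.comap (algebraMap A B) ≤ q1.comap (algebraMap A B) := fun t ht => hcon t ht
    obtain ⟨Q, hQge, hQp, hQc⟩ :=
      Ideal.exists_ideal_over_prime_of_isIntegral (q1.comap (algebraMap A B)) q hle
    have : (⟨Q, hQp⟩ : PrimeSpectrum B) = ⟨q1, hq1p⟩ := by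
      apply h2
      apply PrimeSpectrum.ext
      exact hQc
    have hQ1 : Q = q1 := congrArg PrimeSpectrum.asIdeal this
    rw [hQ1] at hQge
    exact hne1 (le_antisymm hQge (hq1.2 hq.1 hQge))
  choose! tf htf1 htf2 using hsep
  let S := hfin.toFinset.erase q1
  let t : A := ∏ q ∈ S, tf q
  have ht1 : algebraMap A B t ∉ q1 := by
    rw [map_prod]
    intro hmem
    obtain ⟨q, hqS, hq⟩ := (hq1p.prod_mem_iff).mp hmem
    rw [Finset.mem_erase, Set.Finite.mem_toFinset] at hqS
    exact htf2 q hqS.2 hqS.1 hq
  have ht2 : ∀ q ∈ (cond A B).minimalPrimes, q ≠ q1 → algebraMap A B t ∈ q := by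
    intro q hq hne1
    rw [map_prod]
    have hqS : q ∈ S := by
      rw [Finset.mem_erase, Set.Finite.mem_toFinset]; exact ⟨hne1, hq⟩
    rw [← Finset.mul_prod_erase S _ hqS]
    exact Ideal.mul_mem_right _ _ (htf1 q hq hne1)
  -- multipliers
  have hmult : ∀ b : B, ∃ u : A, algebraMap A B u ∉ q1 ∧
      algebraMap A B u * b ∈ (algebraMap A B).range := by
    intro b
    obtain ⟨s, a, hs, hsa⟩ := h3 ⟨q1, hq1p⟩ b
    refine ⟨t * s, ?_, ?_⟩
    · rw [map_mul]
      intro hmem
      rcases hq1p.mem_or_mem hmem with h | h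
      · exact ht1 h
      · exact hs h
    · have hmemc : algebraMap A B t * (algebraMap A B s * b - algebraMap A B a) ∈ cond A B := by
        rw [← hsInf, Ideal.mem_sInf]
        intro q hq
        by_cases hqq : q = q1
        · rw [hqq]; exact Ideal.mul_mem_left _ _ hsa
        · exact Ideal.mul_mem_right _ _ (ht2 q hq hqq)
      have hr := cond_le_range hmemc
      have : algebraMap A B (t * s) * b =
          algebraMap A B t * (algebraMap A B s * b - algebraMap A B a) + algebraMap A B (t * a) := by
        rw [map_mul, map_mul]; ring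
      rw [this]
      exact Subring.add_mem _ hr ⟨t * a, rfl⟩
  choose uf huf1 huf2 using hmult
  obtain ⟨G, hG⟩ := (Module.finite_def (R := A) (M := B)).mp inferInstance
  let u : A := ∏ b ∈ G, uf b
  have hu1 : algebraMap A B u ∉ q1 := by
    rw [map_prod]
    intro hmem
    obtain ⟨b, _, hb⟩ := (hq1p.prod_mem_iff).mp hmem
    exact huf1 b hb
  have hu2 : ∀ c : B, algebraMap A B u * c ∈ (algebraMap A B).range := by
    intro c
    have hc : c ∈ Submodule.span A (G : Set B) := by rw [hG]; trivial
    induction hc using Submodule.span_induction with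
    | mem x hx =>
      have hxG : x ∈ G := hx
      have : algebraMap A B u = algebraMap A B (∏ b ∈ G.erase x, uf b) * algebraMap A B (uf x) := by
        rw [← map_mul, Finset.prod_erase_mul G _ hxG]
      rw [this, mul_assoc]
      obtain ⟨r, hr⟩ := huf2 x
      rw [← hr, ← map_mul]
      exact ⟨_, rfl⟩
    | zero => rw [mul_zero]; exact Subring.zero_mem _
    | add x y _ _ hx hy => rw [mul_add]; exact Subring.add_mem _ hx hy
    | smul a x _ hx =>
      rw [Algebra.smul_def, mul_left_comm]
      obtain ⟨r, hr⟩ := hx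
      rw [← hr, ← map_mul]
      exact ⟨_, rfl⟩
  exact hu1 (hq1.1.2 hu2)

end Groth.Agent.Helper6.SNCond
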