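import Mathlib
import Groth.Prelude.Def_W4c6secantcecoversSchSt

set_option autoImplicit false
set_option linter.style.haveILetI false
set_option linter.unusedSectionVars false

/-!
# Self-adjointness of the Scheja–Storch differential in complementary degrees
-/

namespace Groth.Agent.Helper6.SSPair

open TensorProduct W4c6secantcecovers

universe u v

variable (R : Type u) [CommRing R]

section ext

variable {M : Type*} [AddCommGroup M] [Module R M]

/-- Leibniz rule for contraction against a product of vectors -/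
theorem contract_ιMulti_mul (d : Module.Dual R M) :
    ∀ (p : ℕ) (e : Fin p → M) (y : ExteriorAlgebra R M),
      CliffordAlgebra.contractLeft d (ExteriorAlgebra.ιMulti R p e * y) =
        CliffordAlgebra.contractLeft d (ExteriorAlgebra.ιMulti R p e) * y +
          ((-1 : R) ^ p) • (ExteriorAlgebra.ιMulti R p e * CliffordAlgebra.contractLeft d y) := by
  intro p
  induction p with
  | zero =>
    intro e y
    rw [ExteriorAlgebra.ιMulti_zero_apply, one_mul, CliffordAlgebra.contractLeft_one, zero_mul,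
      zero_add, pow_zero, one_smul, one_mul]
  | succ p ih =>
    intro e y
    rw [ExteriorAlgebra.ιMulti_succ_apply, mul_assoc, CliffordAlgebra.contractLeft_ι_mul, ih,
      CliffordAlgebra.contractLeft_ι_mul]
    rw [mul_add, mul_smul_comm, sub_mul, smul_mul_assoc, pow_succ, mul_neg_one, neg_smul,
      mul_assoc, mul_assoc]
    abel

end ext

theorem ιMulti_eq_zero (r : ℕ) : ∀ (n : ℕ), n = r + 1 → ∀ g : Fin n → (Fin r → R),
    ExteriorAlgebra.ιMulti R n g = 0 := by
  intro n hn g
  subst hn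
  have h : (ExteriorAlgebra.ιMulti R (r + 1) :
      (Fin r → R) [⋀^Fin (r + 1)]→ₗ[R] ExteriorAlgebra R (Fin r → R)) = 0 := by
    refine Module.Basis.ext_alternating (Pi.basisFun R (Fin r)) (fun v hv => ?_)
    exfalso
    have := Fintype.card_le_of_injective v hv
    rw [Fintype.card_fin, Fintype.card_fin] at this
    omega
  rw [h]
  rfl

theorem ιMulti_mul_eq_zero (r k : ℕ) (hk : k < r) (e : Fin (k + 1) → (Fin r → R))
    (f : Fin (r - k) → (Fin r → R)) :
    ExteriorAlgebra.ιMulti R (k + 1) e * ExteriorAlgebra.ιMulti R (r - k) f = 0 := by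
  have h := ιMulti_eq_zero R r ((k + 1) + (r - k)) (by omega) (Fin.append e f)
  rw [ExteriorAlgebra.ιMulti_apply] at h
  rw [ExteriorAlgebra.ιMulti_apply, ExteriorAlgebra.ιMulti_apply, ← List.prod_append,
    ← List.ofFn_fin_append]
  rw [← h]
  congr 1
  congr 1
  funext i
  refine Fin.addCases (fun j => ?_) (fun j => ?_) i
  · rw [Fin.append_left, Fin.append_left]
  · rw [Fin.append_right, Fin.append_right]

theorem sign_aux (k : ℕ) : (-1 : R) ^ ((k + 1).choose 2) * (-1) ^ k = (-1) ^ (k.choose 2) := by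
  have h : (k + 1).choose 2 = k + k.choose 2 := by
    rw [Nat.choose_succ_succ' k 1, Nat.choose_one_right]
  rw [h, pow_add, mul_comm ((-1 : R) ^ k), mul_assoc, ← mul_pow]
  norm_num

theorem main (r : ℕ) (N : Type v) [AddCommGroup N] [Module R N]
    (φ : Fin r → (N →ₗ[R] N)) (β : N →ₗ[R] N →ₗ[R] R)
    (hβ : ∀ (j : Fin r) (n m : N), β (φ j n) m = β n (φ j m))
    (k : ℕ) (hk : k < r)
    (e : Fin (k + 1) → (Fin r → R)) (f : Fin (r - k) → (Fin r → R))
    (s t : MvPolynomial (Fin r) R) (n m : N) :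
    ssPair R r N β k
        (ssDelta R r N φ ((ExteriorAlgebra.ιMulti R (k + 1) e ⊗ₜ[R] s) ⊗ₜ[R] n))
        ((ExteriorAlgebra.ιMulti R (r - k) f ⊗ₜ[R] t) ⊗ₜ[R] m) =
      ssPair R r N β (k + 1)
        ((ExteriorAlgebra.ιMulti R (k + 1) e ⊗ₜ[R] s) ⊗ₜ[R] n)
        (ssDelta R r N φ ((ExteriorAlgebra.ιMulti R (r - k) f ⊗ₜ[R] t) ⊗ₜ[R] m)) := by
  have hz := ιMulti_mul_eq_zero R r k hk e f
  have hLeib := fun j : Fin r => contract_ιMulti_mul R
    (LinearMap.proj (R := R) (φ := fun _ : Fin r => R) j) (k + 1) e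
    (ExteriorAlgebra.ιMulti R (r - k) f)
  obtain ⟨ω, hω⟩ : ∃ ω : SSLam R r, ω = ExteriorAlgebra.ιMulti R (k + 1) e := ⟨_, rfl⟩
  obtain ⟨η, hη⟩ : ∃ η : SSLam R r, η = ExteriorAlgebra.ιMulti R (r - k) f := ⟨_, rfl⟩
  rw [← hω, ← hη] at hz ⊢
  have key : ∀ j : Fin r, ω * ssContr R r j η = ((-1 : R) ^ k) • (ssContr R r j ω * η) := by
    intro j
    have h1 := hLeib j
    rw [← hω, ← hη, hz, map_zero] at h1
    have hA : ssContr R r j ω * η = -(((-1 : R) ^ (k + 1)) • (ω * ssContr R r j η)) :=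
      eq_neg_of_add_eq_zero_left h1.symm
    rw [hA, smul_neg, smul_smul, ← pow_add]
    have e1 : k + (k + 1) = 2 * k + 1 := by ring
    rw [e1, pow_succ, pow_mul, neg_one_sq, one_pow, one_mul, neg_smul, one_smul, neg_neg]
  have hpair : ∀ (c : ℕ) (b b' : SSB R r) (n m : N),
      ssPair R r N β c (b ⊗ₜ[R] n) (b' ⊗ₜ[R] m) =
        ((-1 : R) ^ (c.choose 2)) • (β n m • (b * b')) := by
    intro c b b' n m
    simp only [ssPair, ssPairAux, LinearMap.smul_apply, TensorProduct.curry_apply,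
      LinearMap.comp_apply, LinearEquiv.coe_coe, TensorProduct.tensorTensorTensorComm_tmul,
      TensorProduct.map_tmul, LinearMap.mul'_apply, TensorProduct.lift.tmul,
      TensorProduct.rid_tmul]
  have hdelta : ∀ (ω : SSLam R r) (s : MvPolynomial (Fin r) R) (n : N),
      ssDelta R r N φ ((ω ⊗ₜ[R] s) ⊗ₜ[R] n) =
        ∑ j, ((ssContr R r j ω ⊗ₜ[R] (MvPolynomial.X j * s)) ⊗ₜ[R] n +
          (-1 : R) • ((ssContr R r j ω ⊗ₜ[R] s) ⊗ₜ[R] φ j n)) := by
    intro ω s n
    simp only [ssDelta, LinearMap.sum_apply, LinearMap.add_apply, LinearMap.smul_apply,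
      ssDKoszul, ssDAct, TensorProduct.map_tmul, LinearMap.mulLeft_apply, LinearMap.id_apply]
  rw [hdelta, hdelta, map_sum, LinearMap.sum_apply, map_sum]
  refine Finset.sum_congr rfl fun j _ => ?_
  rw [map_add, LinearMap.add_apply, map_smul, LinearMap.smul_apply, map_add, map_smul,
    hpair, hpair, hpair, hpair, Algebra.TensorProduct.tmul_mul_tmul,
    Algebra.TensorProduct.tmul_mul_tmul, Algebra.TensorProduct.tmul_mul_tmul,
    Algebra.TensorProduct.tmul_mul_tmul, key j, hβ j n m, ← sign_aux R k,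
    ← TensorProduct.smul_tmul', ← TensorProduct.smul_tmul']
  have e2 : s * (MvPolynomial.X j * t) = MvPolynomial.X j * s * t := by ring
  rw [e2]
  module

end Groth.Agent.Helper6.SSPair
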