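import Mathlib
import Groth.Agent.Helper6.SamuelBound

/-! The multiplicity of a power of the maximal ideal, and a near-extremal case of Lech's
inequality. -/

set_option autoImplicit false
universe u

namespace Groth.Agent.Helper6.SamuelPow

open Groth.Agent.Helper6 Groth.Agent.Helper6.HSamuel Polynomial Filter Topology
open Groth.Agent.Helper6.HilbSerre Groth.Agent.Helper6.SamuelTop Groth.Agent.Helper6.SamuelDiff
open Groth.Agent.Helper6.SamuelLimit Groth.Agent.Helper6.SamuelBound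
open IsLocalRing

variable {A : Type u} [CommRing A] [IsNoetherianRing A] [IsLocalRing A]

theorem T_self (I : Ideal A) (d : ℕ) (t : ℕ) :
    T I d A t = (d.factorial : ℝ) * ((Module.length A (A ⧸ I ^ t)).toNat : ℝ) / (t : ℝ) ^ d := by
  rw [T_eq_chi, chi_self, Int.cast_natCast]

theorem main_S19208 (r : ℕ) (hr : ringKrullDim A = r) (ε : ℝ) (hε : 0 < ε) :
    ∃ (I : Ideal A) (e : ℝ), I ≤ maximalIdeal A ∧
      (∃ N : ℕ, maximalIdeal A ^ N ≤ I) ∧
      Tendsto (fun n : ℕ => (r.factorial : ℝ) * ((Module.length A (A ⧸ I ^ n)).toNat : ℝ) /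
        (n : ℝ) ^ r) atTop (𝓝 e) ∧
      (1 - ε) * ((r.factorial : ℝ) * ((Module.length A (A ⧸ I)).toNat : ℝ)) ≤ e := by
  set m := maximalIdeal A with hm
  have hI : m ≤ maximalIdeal A ∧ ∃ n : ℕ, maximalIdeal A ^ n ≤ m := ⟨le_rfl, 1, by rw [pow_one]⟩
  have hsd : Module.supportDim A A = r := by
    rw [Module.supportDim_self_eq_ringKrullDim, hr]
  have hT := tendsto_T_mult m hI r A hsd.le
  have h1 := one_le_mult m hI r A hsd
  set e₀ := mult m r A with he₀
  -- choose `k`
  have hk : ∃ k : ℕ, 1 ≤ k ∧ (1 - ε) * T m r A k ≤ e₀ := by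
    have h2 := hT.const_mul (1 - ε)
    have h3 : (1 - ε) * e₀ < e₀ := by nlinarith
    have h4 := (h2.eventually_lt_const h3).and (eventually_ge_atTop 1)
    obtain ⟨k, hk1, hk2⟩ := h4.exists
    exact ⟨k, hk2, hk1.le⟩
  obtain ⟨k, hk1, hk2⟩ := hk
  have hkpos : (0 : ℝ) < (k : ℝ) ^ r := by positivity
  refine ⟨m ^ k, e₀ * (k : ℝ) ^ r, ?_, ⟨k, le_rfl⟩, ?_, ?_⟩
  · calc m ^ k ≤ m ^ 1 := Ideal.pow_le_pow_right hk1
      _ = m := pow_one m
  · have h5 : Tendsto (fun n : ℕ => k * n) atTop atTop :=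
      tendsto_atTop_mono (fun n => Nat.le_mul_of_pos_left n hk1) tendsto_id
    have h6 := (hT.comp h5).mul_const ((k : ℝ) ^ r)
    refine h6.congr' ?_
    filter_upwards [eventually_ge_atTop 1] with n hn
    simp only [Function.comp_apply]
    rw [T_self, ← pow_mul]
    have hn' : (0 : ℝ) < (n : ℝ) ^ r := by positivity
    push_cast
    rw [mul_pow]
    field_simp
  · rw [T_self] at hk2
    have h7 : (1 - ε) * ((r.factorial : ℝ) * ((Module.length A (A ⧸ m ^ k)).toNat : ℝ)) =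
        ((1 - ε) * ((r.factorial : ℝ) * ((Module.length A (A ⧸ m ^ k)).toNat : ℝ) / (k : ℝ) ^ r)) *
          (k : ℝ) ^ r := by
      field_simp
    rw [h7]
    exact mul_le_mul_of_nonneg_right hk2 hkpos.le

end Groth.Agent.Helper6.SamuelPow
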