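import Mathlib
import Groth.Prelude.Def_EtBase
import Groth.Prelude.Def_EtCore
import Groth.Agent.Helper5.SepCl2
import Groth.Agent.Helper9.EtDisjGlue
import Groth.Agent.Helper9.EtStrictHensCover
import Groth.Agent.Helper6.GalDescC
import Groth.Agent.Helper6.GalDescI
import Groth.Agent.Helper6.LerayLowC

/-! Direct image along a morphism from the spectrum of a separably closed field is exact. -/

set_option autoImplicit false
set_option linter.style.haveILetI false
set_option linter.unusedSectionVars false
set_option linter.unusedVariables false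
set_option linter.unusedSimpArgs false

universe u

open CategoryTheory CategoryTheory.Limits Opposite AlgebraicGeometry

namespace Groth.Agent.Helper6.SepPushA

open Groth.Agent.Helper9

variable (K : Type u) [Field K] [IsSepClosed K]

/-- a field étale over a separably closed field is separably closed -/
theorem isSepClosed_of_etale (L : Type u) [Field L]
    (j : Spec (CommRingCat.of L) ⟶ Spec (CommRingCat.of K)) [Etale j] : IsSepClosed L := by
  let φc : CommRingCat.of K ⟶ CommRingCat.of L := Spec.preimage j
  have hφ : Spec.map φc = j := Spec.map_preimage _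
  have hEt : φc.hom.Etale := by
    have : Etale (Spec.map φc) := by rw [hφ]; infer_instance
    exact (HasRingHomProperty.Spec_iff (P := @Etale)).mp this
  letI : Algebra K L := φc.hom.toAlgebra
  have hA : Algebra.Etale K L := RingHom.etale_algebraMap.mp hEt
  haveI : Algebra.IsSeparable K L := (Algebra.FormallyEtale.iff_isSeparable K L).1 inferInstance
  have hb := IsSepClosed.algebraMap_bijective K L
  exact Groth.Agent.Helper5.SepCl.isSepClosed_of_ringEquiv (RingEquiv.ofBijective _ hb)

set_option backward.isDefEq.respectTransparency.types false in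
/-- over a separably closed field, epimorphisms of sheaves are surjective on all sections -/
theorem surjective_sections {F G : EtCoh.Ab (Spec (CommRingCat.of K))} (φ : F ⟶ G) [Epi φ]
    (W : (Spec (CommRingCat.of K)).Etale) (q : G.obj.obj (op W)) :
    ∃ t : F.obj.obj (op W), (φ.hom.app (op W)).hom t = q := by
  classical
  choose Lw fLw ιw hιw hw using fun w : W.left => LerayLowC.exists_field_openImmersion K W w
  have hj : ∀ w, Etale (ιw w ≫ W.hom) := fun w => by
    haveI := hιw w
    infer_instance
  have hsc : ∀ w, IsSepClosed (Lw w) := fun w =>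
    @isSepClosed_of_etale K _ _ (Lw w) (fLw w) (ιw w ≫ W.hom) (hj w)
  have hscr : ∀ w, @IsSepClosed (IsLocalRing.ResidueField (Lw w)) _ := fun w =>
    haveI := hsc w
    Groth.Agent.Helper5.SepCl.isSepClosed_residueField (Lw w)
  let O : W.left → (Spec (CommRingCat.of K)).Etale := fun w =>
    @Scheme.Etale.mk _ _ (ιw w ≫ W.hom) (hj w)
  let g : ∀ w, O w ⟶ W := fun w => MorphismProperty.Over.homMk (ιw w) rfl
  have hgl : ∀ w, (g w).left = ιw w := fun w => rfl
  have hpt : ∀ (a : W.left) (za : (O a).left), (g a).left za = a := by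
    intro a za
    obtain ⟨z, hz⟩ := hw a
    have : Subsingleton (PrimeSpectrum (Lw a)) := inferInstance
    have hzz : za = z := Subsingleton.elim (α := PrimeSpectrum (Lw a)) za z
    rw [hgl, hzz]
    exact hz
  have hmono : ∀ a, Mono (g a) := fun a => by
    haveI := hιw a
    have hm : Mono (ιw a) := IsOpenImmersion.mono (ιw a)
    exact EtDisjGlue.mono_of_mono_left (g a) (by rw [hgl]; exact hm)
  have hsurj : ∀ x : W.left, ∃ (a : W.left) (z : (O a).left), (g a).left z = x := by
    intro x
    obtain ⟨z, hz⟩ := hw x
    exact ⟨x, z, hz⟩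
  have hdisj : ∀ a b, a ≠ b → ∀ (za : (O a).left) (zb : (O b).left),
      (g a).left za ≠ (g b).left zb := by
    intro a b hab za zb
    rw [hpt a za, hpt b zb]
    exact hab
  have hloc : Presheaf.IsLocallySurjective (Spec (CommRingCat.of K)).smallEtaleTopology φ.hom :=
    (Sheaf.isLocallySurjective_iff_epi' AddCommGrpCat.{u + 1} φ).2 inferInstance
  -- local lifts
  have hl : ∀ a : W.left, ∃ t : F.obj.obj (op (O a)),
      (φ.hom.app (op (O a))).hom t = (G.obj.map (g a).op).hom q := fun a => by
    have h1 := @EtStrictHensCover.top_mem_of_mem _ (Lw a) _ _ (hscr a) (ιw a ≫ W.hom) (hj a) _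
      (hloc.imageSieve_mem ((G.obj.map (g a).op).hom q))
    obtain ⟨s, hs⟩ := h1
    refine ⟨s, hs.trans ?_⟩
    rw [op_id, CategoryTheory.Functor.map_id]
    rfl
  choose t ht using hl
  obtain ⟨T, hT, -⟩ := EtDisjGlue.existsUnique_glue O g hmono hsurj hdisj
    (F.obj ⋙ forget AddCommGrpCat) (GalDescC.isSheaf_forget F) t
  refine ⟨T, ?_⟩
  obtain ⟨T', -, hT'⟩ := EtDisjGlue.existsUnique_glue O g hmono hsurj hdisj
    (G.obj ⋙ forget AddCommGrpCat) (GalDescC.isSheaf_forget G)
    (fun a => (G.obj.map (g a).op).hom q)
  have h1 : (φ.hom.app (op W)).hom T = T' := by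
    apply hT'
    intro a
    show (G.obj.map (g a).op).hom ((φ.hom.app (op W)).hom T) = (G.obj.map (g a).op).hom q
    have hn := NatTrans.naturality_apply φ.hom (g a).op T
    rw [← hn, ← ht a]
    congr 1
    exact hT a
  have h2 : q = T' := hT' q (fun a => rfl)
  rw [h1, h2]

variable {Y : Scheme.{u}} (g : Spec (CommRingCat.of K) ⟶ Y)

set_option backward.isDefEq.respectTransparency.types false in
theorem epi_push {F G : EtCoh.Ab (Spec (CommRingCat.of K))} (φ : F ⟶ G) [Epi φ] :
    Epi ((EtCoh.push g).map φ) := by
  rw [← Sheaf.isLocallySurjective_iff_epi']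
  constructor
  intro U s
  obtain ⟨t, ht⟩ := surjective_sections K φ ((EtCoh.bc g).obj U) s
  apply GrothendieckTopology.covering_of_eq_top
  rw [← Sieve.id_mem_iff_eq_top]
  refine ⟨t, ht.trans ?_⟩
  rw [op_id, CategoryTheory.Functor.map_id]
  rfl

instance preservesEpimorphisms_push : (EtCoh.push g).PreservesEpimorphisms :=
  ⟨fun φ _ => epi_push K g φ⟩

/-- direct image from the spectrum of a separably closed field preserves short exact sequences -/
theorem shortExact_push (S : ShortComplex (EtCoh.Ab (Spec (CommRingCat.of K))))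
    (hS : S.ShortExact) : (S.map (EtCoh.push g)).ShortExact := by
  haveI := hS.mono_f
  haveI := hS.epi_g
  haveI : PreservesFiniteLimits (EtCoh.push g) :=
    ⟨fun J _ _ => (EtCoh.pullPushAdj g).rightAdjoint_preservesLimits.1⟩
  haveI : Mono ((EtCoh.push g).map S.f) := inferInstance
  haveI : Epi ((EtCoh.push g).map S.g) := epi_push K g S.g
  exact
    { exact := hS.exact.map_of_mono_of_preservesKernel (EtCoh.push g) inferInstance inferInstance
      mono_f := inferInstanceAs (Mono ((EtCoh.push g).map S.f))
      epi_g := inferInstanceAs (Epi ((EtCoh.push g).map S.g)) }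

end Groth.Agent.Helper6.SepPushA
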