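import Mathlib
import Groth.Prelude.Def_EtBase
import Groth.Prelude.Def_EtCore
import Groth.Agent.Helper1.DeltaFunctor
import Groth.Agent.Helper4.ExtShiftR
import Groth.Agent.Helper9.EtPushInj
import Groth.Agent.Helper6.SepPushA

/-! Sheaves pushed forward from the spectrum of a separably closed field are acyclic for every
direct image functor and for global sections. -/

set_option autoImplicit false
set_option linter.style.haveILetI false
set_option linter.unusedSectionVars false
set_option linter.unusedVariables false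
set_option linter.unusedSimpArgs false

universe u

open CategoryTheory CategoryTheory.Limits Opposite AlgebraicGeometry Abelian

namespace Groth.Agent.Helper6.SepPushB

open Groth.Agent.Helper9 Groth.Agent.Helper1.DeltaFun

section Abstract

universe v₁ u₁ v₂ u₂ v₃ u₃

variable {ℬ : Type u₁} [Category.{v₁} ℬ] [Abelian ℬ] [EnoughInjectives ℬ]
  {𝒜 : Type u₂} [Category.{v₂} 𝒜] [Abelian 𝒜] [EnoughInjectives 𝒜]
  {𝒞 : Type u₃} [Category.{v₃} 𝒞] [Abelian 𝒞]

/-- dimension shifting for right derived functors along an exact functor preserving injectives -/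
theorem isZero_rightDerived_comp (R : ℬ ⥤ 𝒜) [R.Additive] (Φ : 𝒜 ⥤ 𝒞) [Φ.Additive]
    [PreservesFiniteLimits Φ]
    (hR : ∀ S : ShortComplex ℬ, S.ShortExact → (S.map R).ShortExact)
    (hinj : ∀ I : ℬ, Injective I → Injective (R.obj I))
    (hepi : ∀ S : ShortComplex ℬ, S.ShortExact → Epi (Φ.map (R.map S.g))) :
    ∀ (n : ℕ) (G : ℬ), IsZero ((Φ.rightDerived (n + 1)).obj (R.obj G))
  | 0, G => by
    let S := (E G).map R
    have hS : S.ShortExact := hR _ (hE G)
    haveI : Injective S.X₂ := hinj _ inferInstance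
    have hz : IsZero ((Φ.rightDerived 1).obj S.X₂) := rightDerivedDelta_effaceable Φ S.X₂ 0
    let δ0 : (Φ.rightDerived 0).obj S.X₃ ⟶ (Φ.rightDerived 1).obj S.X₁ :=
      (rightDerivedDelta Φ).δ S hS 0
    have hw3 : (Φ.rightDerived 0).map S.g ≫ δ0 = 0 := (rightDerivedDelta Φ).w₃ S hS 0
    have hw1 : δ0 ≫ (Φ.rightDerived 1).map S.f = 0 := (rightDerivedDelta Φ).w₁ S hS 0
    have hex1 : (ShortComplex.mk δ0 ((Φ.rightDerived 1).map S.f) hw1).Exact :=
      (rightDerivedDelta Φ).exact₁ S hS 0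
    haveI hepiδ : Epi δ0 := hex1.epi_f (hz.eq_of_tgt _ _)
    let α := Φ.rightDerivedZeroIsoSelf
    haveI : Epi (Φ.map S.g) := hepi _ (hE G)
    haveI : Epi ((Φ.rightDerived 0).map S.g) := by
      have h1 : (Φ.rightDerived 0).map S.g = α.hom.app S.X₂ ≫ Φ.map S.g ≫ α.inv.app S.X₃ := by
        rw [← α.hom.naturality_assoc, Iso.hom_inv_id_app, Category.comp_id]
      rw [h1]
      infer_instance
    have hδ : δ0 = 0 := by
      rw [← cancel_epi ((Φ.rightDerived 0).map S.g), hw3, comp_zero]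
    exact @IsZero.of_epi_eq_zero _ _ _ _ _ δ0 hepiδ hδ
  | n + 1, G => by
    let S := (E G).map R
    have hS : S.ShortExact := hR _ (hE G)
    haveI : Injective S.X₂ := hinj _ inferInstance
    have hz : IsZero ((Φ.rightDerived (n + 1 + 1)).obj S.X₂) :=
      rightDerivedDelta_effaceable Φ S.X₂ (n + 1)
    let δ0 : (Φ.rightDerived (n + 1)).obj S.X₃ ⟶ (Φ.rightDerived (n + 1 + 1)).obj S.X₁ :=
      (rightDerivedDelta Φ).δ S hS (n + 1)
    have hw1 : δ0 ≫ (Φ.rightDerived (n + 1 + 1)).map S.f = 0 :=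
      (rightDerivedDelta Φ).w₁ S hS (n + 1)
    have hex1 : (ShortComplex.mk δ0 ((Φ.rightDerived (n + 1 + 1)).map S.f) hw1).Exact :=
      (rightDerivedDelta Φ).exact₁ S hS (n + 1)
    haveI hepiδ : Epi δ0 := hex1.epi_f (hz.eq_of_tgt _ _)
    have hsrc : IsZero ((Φ.rightDerived (n + 1)).obj S.X₃) :=
      isZero_rightDerived_comp R Φ hR hinj hepi n (E G).X₃
    exact @IsZero.of_epi _ _ _ _ _ δ0 hepiδ hsrc

end Abstract

section Apply

variable (K : Type u) [Field K] [IsSepClosed K] {X Y : Scheme.{u}}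
  (j : Spec (CommRingCat.of K) ⟶ X) (f : X ⟶ Y)

instance preservesFiniteLimits_push : PreservesFiniteLimits (EtCoh.push f) :=
  ⟨fun J _ _ => (EtCoh.pullPushAdj f).rightAdjoint_preservesLimits.1⟩

/-- higher direct images of sheaves pushed forward from a separably closed point vanish -/
theorem isZero_Rpush_push (n : ℕ) (G : EtCoh.Ab (Spec (CommRingCat.of K))) :
    IsZero ((EtCoh.Rpush f (n + 1)).obj ((EtCoh.push j).obj G)) := by
  refine isZero_rightDerived_comp (EtCoh.push j) (EtCoh.push f) (SepPushA.shortExact_push K j)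
    (fun I hI => EtPushInj.injective_push j I) ?_ n G
  intro S hS
  haveI := hS.epi_g
  haveI : Epi ((EtCoh.push (j ≫ f)).map S.g) := SepPushA.epi_push K (j ≫ f) S.g
  have hnat := (EtCoh.pushComp f j).hom.naturality S.g
  have h1 : (EtCoh.push f).map ((EtCoh.push j).map S.g) =
      (EtCoh.pushComp f j).hom.app S.X₂ ≫ (EtCoh.push (j ≫ f)).map S.g ≫
        (EtCoh.pushComp f j).inv.app S.X₃ := by
    rw [← Category.assoc, ← hnat, Category.assoc, Iso.hom_inv_id_app, Category.comp_id]
    rfl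
  rw [h1]
  infer_instance

/-- cohomology of sheaves pushed forward from a separably closed point vanishes -/
theorem H_push_eq_zero (n : ℕ) (G : EtCoh.Ab (Spec (CommRingCat.of K)))
    (x : EtCoh.H X ((EtCoh.push j).obj G) (n + 1)) : x = 0 := by
  refine Groth.Agent.Helper4.ExtShiftR.main (EtCoh.push j) (SepPushA.shortExact_push K j)
    (fun I hI => EtPushInj.injective_push j I) _ ?_ n G x
  intro S hS y
  haveI := hS.epi_g
  obtain ⟨z', hz'⟩ := SepPushA.surjective_sections K S.g ((EtCoh.bc j).obj (EtCoh.top X))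
    (Sheaf.H.equiv₀ ((EtCoh.push j).obj S.X₃) (EtCore.topIsTerminal X) (Ext.mk₀ y))
  obtain ⟨z, hz⟩ := (Ext.mk₀_bijective _ _).2
    ((Sheaf.H.equiv₀ ((EtCoh.push j).obj S.X₂) (EtCore.topIsTerminal X)).symm z')
  refine ⟨z, ?_⟩
  apply (Ext.mk₀_bijective _ _).1
  apply (Sheaf.H.equiv₀ ((EtCoh.push j).obj S.X₃) (EtCore.topIsTerminal X)).injective
  rw [← hz', ← Ext.mk₀_comp_mk₀, hz]
  have h1 := Sheaf.H.equiv₀_naturality (hT := EtCore.topIsTerminal X) ((EtCoh.push j).map S.g)
    ((Sheaf.H.equiv₀ ((EtCoh.push j).obj S.X₂) (EtCore.topIsTerminal X)).symm z')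
  rw [AddEquiv.apply_symm_apply] at h1
  exact h1.symm

end Apply

end Groth.Agent.Helper6.SepPushB
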