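import Mathlib

/-!
# Basic elements (Eisenbud–Evans), part 1: linear algebra over a field
-/

set_option autoImplicit false

namespace Groth.Agent.Helper6.BasicElt

open Module Submodule

section LinAlg

variable {K V : Type*} [Field K] [AddCommGroup V] [Module K V] {u : ℕ}

/-- the modified family `v_i + c_i v_last` -/
def modFam (v : Fin (u + 1) → V) (c : Fin u → K) : Fin u → V :=
  fun i => v i.castSucc + c i • v (Fin.last u)

theorem span_modFam_le (v : Fin (u + 1) → V) (c : Fin u → K) :
    span K (Set.range (modFam v c)) ≤ span K (Set.range v) := by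
  rw [span_le]
  rintro _ ⟨i, rfl⟩
  exact add_mem (subset_span ⟨_, rfl⟩) (smul_mem _ _ (subset_span ⟨_, rfl⟩))

theorem span_le_modFam_sup (v : Fin (u + 1) → V) (c : Fin u → K) :
    span K (Set.range v) ≤ span K (Set.range (modFam v c)) ⊔ span K {v (Fin.last u)} := by
  rw [span_le]
  rintro _ ⟨i, rfl⟩
  refine Fin.lastCases ?_ (fun j => ?_) i
  · exact mem_sup_right (subset_span rfl)
  · have : v j.castSucc = modFam v c j - c j • v (Fin.last u) := by
      simp [modFam]
    rw [this]
    exact sub_mem (mem_sup_left (subset_span ⟨j, rfl⟩))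
      (mem_sup_right (smul_mem _ _ (subset_span rfl)))

theorem finrank_le_modFam_add_one (v : Fin (u + 1) → V) (c : Fin u → K) :
    Set.finrank K (Set.range v) ≤ Set.finrank K (Set.range (modFam v c)) + 1 := by
  unfold Set.finrank
  haveI : Module.Finite K (span K (Set.range (modFam v c))) :=
    Module.Finite.span_of_finite K (Set.finite_range _)
  haveI : Module.Finite K (span K ({v (Fin.last u)} : Set V)) :=
    Module.Finite.span_of_finite K (Set.finite_singleton _)
  calc finrank K (span K (Set.range v))
      ≤ finrank K ↥(span K (Set.range (modFam v c)) ⊔ span K {v (Fin.last u)}) :=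
        Submodule.finrank_mono (span_le_modFam_sup v c)
    _ ≤ finrank K (span K (Set.range (modFam v c))) +
          finrank K (span K ({v (Fin.last u)} : Set V)) :=
        Submodule.finrank_add_le_finrank_add_finrank _ _
    _ ≤ _ := by
        gcongr
        exact (finrank_span_le_card ({v (Fin.last u)} : Set V)).trans (by simp)

theorem exists_last_mem_span_modFam (v : Fin (u + 1) → V) (hv : ¬ LinearIndependent K v)
    (c : Fin u → K) (r : K) (hr : r ≠ 0) :
    ∃ b : Fin u → K, (b = 0 ∨ ∃ j, b = Pi.single j 1) ∧
      v (Fin.last u) ∈ span K (Set.range (modFam v (c + r • b))) := by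
  classical
  rw [Fintype.not_linearIndependent_iff] at hv
  obtain ⟨g, hg, hne⟩ := hv
  rw [Fin.sum_univ_castSucc] at hg
  set lam : Fin u → K := fun i => g i.castSucc with hlam
  set mu : K := g (Fin.last u) with hmu
  have h1 : ∑ i, lam i • v i.castSucc = - (mu • v (Fin.last u)) := eq_neg_of_add_eq_zero_left hg
  have key : ∀ c' : Fin u → K,
      ∑ i, lam i • modFam v c' i = (∑ i, lam i * c' i - mu) • v (Fin.last u) := by
    intro c'
    simp only [modFam, smul_add, Finset.sum_add_distrib, smul_smul, h1, sub_smul, Finset.sum_smul]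
    abel
  have mem : ∀ c' : Fin u → K, (∑ i, lam i * c' i - mu) ≠ 0 →
      v (Fin.last u) ∈ span K (Set.range (modFam v c')) := by
    intro c' hθ
    have : v (Fin.last u) = (∑ i, lam i * c' i - mu)⁻¹ • ∑ i, lam i • modFam v c' i := by
      rw [key, smul_smul, inv_mul_cancel₀ hθ, one_smul]
    rw [this]
    exact smul_mem _ _ (sum_mem fun i _ => smul_mem _ _ (subset_span ⟨i, rfl⟩))
  by_cases hθ : (∑ i, lam i * c i - mu) = 0
  · have hex : ∃ j, lam j ≠ 0 := by
      by_contra hcon
      push Not at hcon
      have hmu0 : mu = 0 := by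
        have : ∑ i, lam i * c i = 0 := Finset.sum_eq_zero fun i _ => by rw [hcon i, zero_mul]
        rw [this, zero_sub, neg_eq_zero] at hθ
        exact hθ
      have hall : ∀ i, g i = 0 := fun i => Fin.lastCases hmu0 hcon i
      obtain ⟨i, hi⟩ := hne
      exact hi (hall i)
    obtain ⟨j, hj⟩ := hex
    refine ⟨Pi.single j 1, Or.inr ⟨j, rfl⟩, mem _ ?_⟩
    have : ∑ i, lam i * (c + r • (Pi.single j 1 : Fin u → K)) i = ∑ i, lam i * c i + lam j * r := by
      simp only [Pi.add_apply, Pi.smul_apply, smul_eq_mul, mul_add, Finset.sum_add_distrib]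
      congr 1
      rw [Finset.sum_eq_single j]
      · simp
      · intro i _ hij
        simp [Pi.single_eq_of_ne hij]
      · intro h
        exact absurd (Finset.mem_univ j) h
    rw [this, add_sub_right_comm, hθ, zero_add]
    exact mul_ne_zero hj hr
  · exact ⟨0, Or.inl rfl, by simpa using mem c hθ⟩

theorem exists_span_modFam_eq (v : Fin (u + 1) → V) (hv : ¬ LinearIndependent K v)
    (c : Fin u → K) (r : K) (hr : r ≠ 0) :
    ∃ b : Fin u → K, (b = 0 ∨ ∃ j, b = Pi.single j 1) ∧
      span K (Set.range (modFam v (c + r • b))) = span K (Set.range v) := by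
  obtain ⟨b, hb, hmem⟩ := exists_last_mem_span_modFam v hv c r hr
  refine ⟨b, hb, le_antisymm (span_modFam_le v _) ?_⟩
  refine (span_le_modFam_sup v (c + r • b)).trans (sup_le le_rfl ?_)
  rw [span_le]
  simpa using hmem

end LinAlg

section Minor

open Matrix

variable {K : Type*} [Field K] {m n : Type*} [Fintype m] [Fintype n]

theorem exists_cols_linearIndependent (C : Matrix m n K) (t : ℕ) (ht : t ≤ C.rank) :
    ∃ g : Fin t → n, LinearIndependent K (fun i => C.col (g i)) := by
  classical
  rw [Matrix.rank_eq_finrank_span_cols] at ht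
  obtain ⟨b, hbsub, hbspan, hbli⟩ := exists_linearIndependent K (Set.range C.col)
  have hbfin : b.Finite := (Set.finite_range _).subset hbsub
  haveI : Fintype b := hbfin.fintype
  have hcard : finrank K (span K (Set.range C.col)) = Fintype.card b := by
    rw [← hbspan]
    have := finrank_span_eq_card hbli
    rwa [Subtype.range_coe] at this
  have hle : Fintype.card (Fin t) ≤ Fintype.card b := by simpa [hcard] using ht
  obtain ⟨e⟩ := Function.Embedding.nonempty_of_card_le hle
  have hch : ∀ x : b, ∃ j, C.col j = x := fun x => hbsub x.2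
  choose j hj using hch
  refine ⟨fun i => j (e i), ?_⟩
  have := hbli.comp e e.injective
  have h : (fun i => C.col (j (e i))) = Subtype.val ∘ e := funext fun i => hj (e i)
  rw [h]
  exact this

theorem le_rank_iff {N u : ℕ} (B : Matrix (Fin N) (Fin u) K) (t : ℕ) :
    t ≤ B.rank ↔ ∃ (f : Fin t → Fin N) (g : Fin t → Fin u), (B.submatrix f g).det ≠ 0 := by
  constructor
  · intro ht
    obtain ⟨g, hg⟩ := exists_cols_linearIndependent B t ht
    have h1 : (B.submatrix id g).rank = t := by
      rw [Matrix.rank_eq_finrank_span_cols]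
      have : LinearIndependent K (B.submatrix id g).col := hg
      rw [finrank_span_eq_card this]
      simp
    have h2 : t ≤ ((B.submatrix id g)ᵀ).rank := by rw [Matrix.rank_transpose, h1]
    obtain ⟨f, hf⟩ := exists_cols_linearIndependent (B.submatrix id g)ᵀ t h2
    refine ⟨f, g, ?_⟩
    have h3 : LinearIndependent K ((B.submatrix f g)ᵀ).col := hf
    have h4 := Matrix.linearIndependent_cols_iff_isUnit.1 h3
    rw [Matrix.isUnit_iff_isUnit_det, Matrix.det_transpose] at h4
    exact h4.ne_zero
  · rintro ⟨f, g, hdet⟩
    have h1 : (B.submatrix f g).rank = t := by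
      rw [Matrix.rank_of_det_ne_zero hdet]
      simp
    rw [← h1]
    exact Matrix.rank_submatrix_le B f g

end Minor

end Groth.Agent.Helper6.BasicElt
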