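import Mathlib
import Groth.Agent.Helper6.Serre1

/-!
# Basic elements (Eisenbud–Evans), part 2: ranks at primes and the key lemma
-/

set_option autoImplicit false

namespace Groth.Agent.Helper6.BasicElt

open Module Submodule

variable {R : Type*} [CommRing R] {N : ℕ}

/-- reduction of a vector modulo a prime, with values in the residue field -/
noncomputable def red (p : PrimeSpectrum R) :
    (Fin N → R) →ₗ[R] (Fin N → p.asIdeal.ResidueField) :=
  (Algebra.linearMap R p.asIdeal.ResidueField).compLeft (Fin N)

theorem red_apply (p : PrimeSpectrum R) (v : Fin N → R) (i : Fin N) :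
    red p v i = algebraMap R p.asIdeal.ResidueField (v i) := rfl

theorem red_smul (p : PrimeSpectrum R) (a : R) (v : Fin N → R) :
    red p (a • v) = algebraMap R p.asIdeal.ResidueField a • red p v := by
  ext i
  simp [red_apply]

/-- the rank of a family of vectors at a prime -/
noncomputable def rk (p : PrimeSpectrum R) {ι : Type*} (v : ι → Fin N → R) : ℕ :=
  Set.finrank p.asIdeal.ResidueField (Set.range fun i => red p (v i))

theorem rk_eq_rank (p : PrimeSpectrum R) {u : ℕ} (v : Fin u → Fin N → R) :
    rk p v = (Matrix.of fun i j => algebraMap R p.asIdeal.ResidueField (v j i)).rank := by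
  rw [Matrix.rank_eq_finrank_span_cols]
  rfl

theorem isOpen_setOf_le_rk {u : ℕ} (v : Fin u → Fin N → R) (t : ℕ) :
    IsOpen {p : PrimeSpectrum R | t ≤ rk p v} := by
  have : {p : PrimeSpectrum R | t ≤ rk p v} =
      ⋃ (f : Fin t → Fin N) (g : Fin t → Fin u),
        (PrimeSpectrum.basicOpen ((Matrix.of fun i j => v (g j) (f i)).det) :
          Set (PrimeSpectrum R)) := by
    ext p
    simp only [Set.mem_ofPred_eq, Set.mem_iUnion, SetLike.mem_coe, PrimeSpectrum.mem_basicOpen]
    rw [rk_eq_rank, le_rank_iff]
    refine exists_congr fun f => exists_congr fun g => ?_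
    have : ((Matrix.of fun i j => algebraMap R p.asIdeal.ResidueField (v j i)).submatrix f g) =
        (Matrix.of fun i j => v (g j) (f i)).map (algebraMap R p.asIdeal.ResidueField) := by
      ext i j
      rfl
    rw [this, ← RingHom.mapMatrix_apply, ← RingHom.map_det, Ne,
      Ideal.algebraMap_residueField_eq_zero]
  rw [this]
  exact isOpen_iUnion fun f => isOpen_iUnion fun g => (PrimeSpectrum.basicOpen _).isOpen

section Noeth

variable [IsNoetherianRing R]

theorem exists_finset_minimal (Z : Set (PrimeSpectrum R)) (hZ : IsClosed Z) :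
    ∃ E : Finset (PrimeSpectrum R), (↑E ⊆ Z) ∧ ∀ p ∈ Z, ∃ q ∈ E, q ≤ p := by
  classical
  obtain ⟨I, rfl⟩ := (PrimeSpectrum.isClosed_iff_zeroLocus_ideal Z).1 hZ
  have hfin : {q : PrimeSpectrum R | q.asIdeal ∈ I.minimalPrimes}.Finite := by
    refine Set.Finite.preimage ?_ (Ideal.finite_minimalPrimes_of_isNoetherianRing R I)
    intro a _ b _ hab
    exact PrimeSpectrum.ext hab
  refine ⟨hfin.toFinset, ?_, ?_⟩
  · intro q hq
    rw [Set.Finite.coe_toFinset] at hq
    exact hq.1.2
  · intro p hp
    obtain ⟨q, hq, hqp⟩ := Ideal.exists_minimalPrimes_le (J := p.asIdeal) hp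
    refine ⟨⟨q, hq.1.1⟩, ?_, hqp⟩
    rw [Set.Finite.mem_toFinset]
    exact hq

end Noeth

/-- simultaneous choice at finitely many primes -/
theorem exists_forall_of_finset (u : ℕ) (E : Finset (PrimeSpectrum R))
    (P : ∀ q : PrimeSpectrum R, (Fin u → q.asIdeal.ResidueField) → Prop)
    (hP : ∀ q ∈ E, ∀ (c : Fin u → q.asIdeal.ResidueField) (r : R), r ∉ q.asIdeal →
      ∃ b : Fin u → R, P q (c + fun i => algebraMap R _ (r * b i))) :
    ∃ a : Fin u → R, ∀ q ∈ E, P q (fun i => algebraMap R _ (a i)) := by
  classical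
  induction E using Finset.strongInduction with
  | H E ih =>
    by_cases hE : E.Nonempty
    · obtain ⟨q, hq⟩ := E.exists_minimal hE
      have hqE : q ∈ E := hq.1
      obtain ⟨a, ha⟩ := ih (E.erase q) (Finset.erase_ssubset hqE)
        (fun q' hq' => hP q' (Finset.mem_of_mem_erase hq'))
      have hr : ∃ r : R, (∀ q' ∈ E.erase q, r ∈ q'.asIdeal) ∧ r ∉ q.asIdeal := by
        by_contra hcon
        push Not at hcon
        have hle : (E.erase q).inf (fun q' => q'.asIdeal) ≤ q.asIdeal := by
          intro r hr
          refine hcon r fun q' hq' => ?_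
          exact (Finset.inf_le hq' : (E.erase q).inf (fun q' => q'.asIdeal) ≤ q'.asIdeal) hr
        obtain ⟨q', hq', hle'⟩ := (Ideal.IsPrime.inf_le' q.isPrime).1 hle
        have h1 : q' ≤ q := hle'
        have h2 : q ≤ q' := hq.2 (Finset.mem_of_mem_erase hq') h1
        exact (Finset.ne_of_mem_erase hq') (le_antisymm h1 h2)
      obtain ⟨r, hr1, hr2⟩ := hr
      obtain ⟨b, hb⟩ := hP q hqE (fun i => algebraMap R _ (a i)) r hr2
      refine ⟨fun i => a i + r * b i, fun q' hq' => ?_⟩
      by_cases hqq : q' = q
      · subst hqq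
        convert hb using 1
        ext i
        simp
      · have hmem : q' ∈ E.erase q := Finset.mem_erase.2 ⟨hqq, hq'⟩
        convert ha q' hmem using 1
        ext i
        have : algebraMap R q'.asIdeal.ResidueField r = 0 :=
          (Ideal.algebraMap_residueField_eq_zero).2 (hr1 q' hmem)
        simp [this]
    · refine ⟨0, fun q hq => ?_⟩
      exact absurd ⟨q, hq⟩ hE

end Groth.Agent.Helper6.BasicElt
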