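import Mathlib
import Groth.Agent.Helper6.Serre1

/-!
# Basic elements, generalized: linear algebra with arbitrary coordinate sets
-/

set_option autoImplicit false

namespace Groth.Agent.Helper6.BasicElt

open Module Submodule

section LinAlg2

variable {K V : Type*} [Field K] [AddCommGroup V] [Module K V]

theorem finrank_range_sumElim {σ τ : Type*} [Finite σ] [Finite τ] (S : σ → V) (m : τ → V) :
    Set.finrank K (Set.range (Sum.elim S m)) =
      Set.finrank K (Set.range S) +
        Set.finrank K (Set.range fun i => (span K (Set.range S)).mkQ (m i)) := by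
  unfold Set.finrank
  set W := span K (Set.range S) with hW
  set U := span K (Set.range m) with hU
  haveI : Module.Finite K W := Module.Finite.span_of_finite K (Set.finite_range _)
  haveI : Module.Finite K U := Module.Finite.span_of_finite K (Set.finite_range _)
  have h1 : span K (Set.range (Sum.elim S m)) = W ⊔ U := by
    rw [Set.Sum.elim_range, span_union]
  rw [h1]
  set g : ↥(W ⊔ U) →ₗ[K] V ⧸ W := W.mkQ ∘ₗ (W ⊔ U).subtype with hg
  have hrange : LinearMap.range g = span K (Set.range fun i => W.mkQ (m i)) := by
    rw [hg, LinearMap.range_comp, Submodule.range_subtype, Submodule.map_sup,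
      Submodule.mkQ_map_self, bot_sup_eq, hU, Submodule.map_span, ← Set.range_comp]
    rfl
  have hker : finrank K (LinearMap.ker g) = finrank K W := by
    rw [hg, LinearMap.ker_comp, Submodule.ker_mkQ]
    exact (Submodule.comapSubtypeEquivOfLe (le_sup_left : W ≤ W ⊔ U)).finrank_eq
  have := LinearMap.finrank_range_add_finrank_ker g
  rw [hrange, hker] at this
  omega

theorem exists_subfamily_linearIndependent {σ : Type*} [Finite σ] (v : σ → V) (t : ℕ)
    (ht : t ≤ Set.finrank K (Set.range v)) :
    ∃ g : Fin t → σ, LinearIndependent K (v ∘ g) := by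
  classical
  unfold Set.finrank at ht
  obtain ⟨b, hbsub, hbspan, hbli⟩ := exists_linearIndependent K (Set.range v)
  have hbfin : b.Finite := (Set.finite_range _).subset hbsub
  haveI : Fintype b := hbfin.fintype
  have hcard : finrank K (span K (Set.range v)) = Fintype.card b := by
    rw [← hbspan]
    have := finrank_span_eq_card hbli
    rwa [Subtype.range_coe] at this
  have hle : Fintype.card (Fin t) ≤ Fintype.card b := by simpa [hcard] using ht
  obtain ⟨e⟩ := Function.Embedding.nonempty_of_card_le hle
  have hch : ∀ x : b, ∃ j, v j = x := fun x => hbsub x.2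
  choose j hj using hch
  refine ⟨fun i => j (e i), ?_⟩
  have := hbli.comp e e.injective
  have h : (v ∘ fun i => j (e i)) = Subtype.val ∘ e := funext fun i => hj (e i)
  rw [h]
  exact this

/-- a (possibly infinite) matrix with `r` independent columns has a nonzero `r × r` minor -/
theorem exists_rows_det_ne_zero {I : Type*} {r : ℕ} (A : I → Fin r → K)
    (hA : LinearIndependent K (fun b : Fin r => fun i => A i b)) :
    ∃ f : Fin r → I, (Matrix.of fun a b => A (f a) b).det ≠ 0 := by
  classical
  have htop : span K (Set.range A) = ⊤ := by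
    by_contra hne
    obtain ⟨φ, hφ0, hφ⟩ := Submodule.exists_le_ker_of_lt_top _ (lt_top_iff_ne_top.2 hne)
    set c : Fin r → K := fun b => φ (Pi.single b 1) with hc
    have hφw : ∀ w : Fin r → K, φ w = ∑ b, w b * c b := by
      intro w
      conv_lhs => rw [pi_eq_sum_univ' w]
      rw [map_sum]
      simp [hc]
    have hrel : ∑ b, c b • (fun i => A i b) = 0 := by
      funext i
      have h1 : φ (A i) = 0 := hφ (subset_span ⟨i, rfl⟩)
      rw [hφw] at h1
      simp only [Finset.sum_apply, Pi.smul_apply, smul_eq_mul, Pi.zero_apply]
      rw [← h1]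
      exact Finset.sum_congr rfl fun b _ => mul_comm _ _
    have hc0 : ∀ b, c b = 0 := (Fintype.linearIndependent_iff.1 hA) c hrel
    apply hφ0
    refine LinearMap.ext fun w => ?_
    rw [hφw]
    simp [hc0]
  obtain ⟨b, hbsub, hbspan, hbli⟩ := exists_linearIndependent K (Set.range A)
  have hbfin : b.Finite := hbli.setFinite
  haveI : Fintype b := hbfin.fintype
  have hcard : Fintype.card b = r := by
    have h1 := finrank_span_eq_card hbli
    rw [Subtype.range_coe, hbspan, htop, finrank_top, Module.finrank_fin_fun] at h1
    exact h1.symm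
  have e : Fin r ≃ b := (Fintype.equivFinOfCardEq hcard).symm
  have hch : ∀ x : b, ∃ i, A i = x := fun x => hbsub x.2
  choose j hj using hch
  refine ⟨fun a => j (e a), ?_⟩
  have hrows : LinearIndependent K (Matrix.of fun a b => A (j (e a)) b).row := by
    have := hbli.comp e e.injective
    have h : (Matrix.of fun a b => A (j (e a)) b).row = Subtype.val ∘ e :=
      funext fun a => hj (e a)
    rw [h]
    exact this
  have h4 := Matrix.linearIndependent_rows_iff_isUnit.1 hrows
  rw [Matrix.isUnit_iff_isUnit_det] at h4
  exact h4.ne_zero

theorem le_finrank_range_iff {I : Type*} {u : ℕ} (v : Fin u → I → K) (t : ℕ) :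
    t ≤ Set.finrank K (Set.range v) ↔
      ∃ (f : Fin t → I) (g : Fin t → Fin u), (Matrix.of fun a b => v (g b) (f a)).det ≠ 0 := by
  constructor
  · intro ht
    obtain ⟨g, hg⟩ := exists_subfamily_linearIndependent v t ht
    obtain ⟨f, hf⟩ := exists_rows_det_ne_zero (fun i b => v (g b) i) hg
    exact ⟨f, g, hf⟩
  · rintro ⟨f, g, hdet⟩
    have hli : LinearIndependent K (v ∘ g) := by
      rw [Fintype.linearIndependent_iff]
      intro c hc
      have h1 : (Matrix.of fun a b => v (g b) (f a)).mulVec c = 0 := by
        funext a
        have := congrFun hc (f a)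
        simp only [Finset.sum_apply, Pi.smul_apply, Function.comp_apply, smul_eq_mul,
          Pi.zero_apply] at this
        simp only [Matrix.mulVec, dotProduct, Matrix.of_apply, Pi.zero_apply]
        rw [← this]
        exact Finset.sum_congr rfl fun b _ => mul_comm _ _
      have h2 := Matrix.eq_zero_of_mulVec_eq_zero hdet h1
      exact fun i => congrFun h2 i
    have h3 := finrank_span_eq_card hli
    rw [Fintype.card_fin] at h3
    unfold Set.finrank
    rw [← h3]
    haveI : Module.Finite K (span K (Set.range v)) :=
      Module.Finite.span_of_finite K (Set.finite_range _)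
    refine Submodule.finrank_mono (span_mono ?_)
    rintro _ ⟨i, rfl⟩
    exact ⟨g i, rfl⟩

end LinAlg2

end Groth.Agent.Helper6.BasicElt
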