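import Mathlib
import Groth.Agent.Helper6.Serre7
import Groth.Agent.Helper6.Serre2

/-!
# Basic elements, generalized: ranks at primes with arbitrary coordinate sets, relative key lemma
-/

set_option autoImplicit false

namespace Groth.Agent.Helper6.BasicElt

open Module Submodule

variable {R : Type*} [CommRing R] {ι : Type*}

/-- reduction of a vector modulo a prime, with values in the residue field -/
noncomputable def redI (ι : Type*) (p : PrimeSpectrum R) :
    (ι → R) →ₗ[R] (ι → p.asIdeal.ResidueField) :=
  (Algebra.linearMap R p.asIdeal.ResidueField).compLeft ι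

theorem redI_apply (p : PrimeSpectrum R) (v : ι → R) (i : ι) :
    redI ι p v i = algebraMap R p.asIdeal.ResidueField (v i) := rfl

theorem redI_smul (p : PrimeSpectrum R) (a : R) (v : ι → R) :
    redI ι p (a • v) = algebraMap R p.asIdeal.ResidueField a • redI ι p v := by
  ext i
  simp [redI_apply]

/-- the rank of a family of vectors at a prime -/
noncomputable def rkI (p : PrimeSpectrum R) {σ : Type*} (v : σ → ι → R) : ℕ :=
  Set.finrank p.asIdeal.ResidueField (Set.range fun i => redI ι p (v i))

theorem le_rkI_iff (p : PrimeSpectrum R) {u : ℕ} (v : Fin u → ι → R) (t : ℕ) :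
    t ≤ rkI p v ↔ ∃ (f : Fin t → ι) (g : Fin t → Fin u),
      (Matrix.of fun a b => v (g b) (f a)).det ∉ p.asIdeal := by
  unfold rkI
  rw [le_finrank_range_iff]
  refine exists_congr fun f => exists_congr fun g => ?_
  have : (Matrix.of fun a b => redI ι p (v (g b)) (f a)) =
      (Matrix.of fun a b => v (g b) (f a)).map (algebraMap R p.asIdeal.ResidueField) := by
    ext i j
    rfl
  rw [this, ← RingHom.mapMatrix_apply, ← RingHom.map_det, Ne,
    Ideal.algebraMap_residueField_eq_zero]

theorem rkI_comp_equiv (p : PrimeSpectrum R) {σ τ : Type*} (e : τ ≃ σ) (v : σ → ι → R) :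
    rkI p (v ∘ e) = rkI p v := by
  unfold rkI
  congr 2
  ext x
  constructor
  · rintro ⟨i, rfl⟩
    exact ⟨e i, rfl⟩
  · rintro ⟨i, rfl⟩
    exact ⟨e.symm i, by simp⟩

theorem isOpen_setOf_le_rkI {σ : Type*} [Finite σ] (v : σ → ι → R) (t : ℕ) :
    IsOpen {p : PrimeSpectrum R | t ≤ rkI p v} := by
  cases nonempty_fintype σ
  let e := (Fintype.equivFin σ).symm
  have h0 : ∀ p : PrimeSpectrum R, rkI p v = rkI p (v ∘ e) := fun p => (rkI_comp_equiv p e v).symm
  have : {p : PrimeSpectrum R | t ≤ rkI p v} =
      ⋃ (f : Fin t → ι) (g : Fin t → Fin (Fintype.card σ)),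
        (PrimeSpectrum.basicOpen ((Matrix.of fun a b => (v ∘ e) (g b) (f a)).det) :
          Set (PrimeSpectrum R)) := by
    ext p
    simp only [Set.mem_ofPred_eq, Set.mem_iUnion, SetLike.mem_coe, PrimeSpectrum.mem_basicOpen]
    rw [h0, le_rkI_iff]
  rw [this]
  exact isOpen_iUnion fun f => isOpen_iUnion fun g => (PrimeSpectrum.basicOpen _).isOpen

/-- the rank does not decrease under generalization -/
theorem rkI_mono {σ : Type*} [Finite σ] (v : σ → ι → R) {q p : PrimeSpectrum R} (hqp : q ≤ p) :
    rkI p v ≤ rkI q v := by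
  have hopen := isOpen_setOf_le_rkI v (rkI p v)
  have hp : p ∈ {p' : PrimeSpectrum R | rkI p v ≤ rkI p' v} := by
    change rkI p v ≤ rkI p v
    exact le_rfl
  have hspec : q ⤳ p := (PrimeSpectrum.le_iff_specializes q p).1 hqp
  exact hspec.mem_open hopen hp

section Rel

variable {σ : Type*} [Fintype σ]

/-- the relative rank of `m` modulo the span of `S` at `p` -/
noncomputable def rkRel (p : PrimeSpectrum R) (S : σ → ι → R) {τ : Type*} (m : τ → ι → R) : ℕ :=
  Set.finrank p.asIdeal.ResidueField (Set.range fun i =>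
    (span p.asIdeal.ResidueField (Set.range fun j => redI ι p (S j))).mkQ (redI ι p (m i)))

theorem rkI_sumElim (p : PrimeSpectrum R) (S : σ → ι → R) {τ : Type*} [Finite τ] (m : τ → ι → R)
    (hS : LinearIndependent p.asIdeal.ResidueField (fun i => redI ι p (S i))) :
    rkI p (Sum.elim S m) = Fintype.card σ + rkRel p S m := by
  unfold rkI rkRel
  have h1 : (fun i => redI ι p (Sum.elim S m i)) =
      Sum.elim (fun j => redI ι p (S j)) (fun i => redI ι p (m i)) := by
    funext i
    cases i <;> rfl
  rw [h1, finrank_range_sumElim]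
  congr 1
  unfold Set.finrank
  exact finrank_span_eq_card hS

end Rel

end Groth.Agent.Helper6.BasicElt
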