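import Mathlib
import Groth.Agent.Helper6.Serre9

/-!
# The j-spectrum: primes which are intersections of maximal ideals
-/

set_option autoImplicit false

namespace Groth.Agent.Helper6.BasicElt

open TopologicalSpace

variable {R : Type*} [CommRing R]

/-- the maximal ideals containing a prime -/
def Zm (p : PrimeSpectrum R) : Set (MaximalSpectrum R) := {x | p.asIdeal ≤ x.asIdeal}

theorem mem_Zm {p : PrimeSpectrum R} {x : MaximalSpectrum R} : x ∈ Zm p ↔ p.asIdeal ≤ x.asIdeal :=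
  Iff.rfl

/-- closed subsets of the maximal spectrum -/
theorem isClosed_setOf_le (I : Ideal R) : IsClosed {x : MaximalSpectrum R | I ≤ x.asIdeal} := by
  have : {x : MaximalSpectrum R | I ≤ x.asIdeal} =
      MaximalSpectrum.toPrimeSpectrum ⁻¹' (PrimeSpectrum.zeroLocus (I : Set R)) := by
    ext x
    simp [PrimeSpectrum.mem_zeroLocus, MaximalSpectrum.toPrimeSpectrum]
  rw [this]
  exact (PrimeSpectrum.isClosed_zeroLocus _).preimage MaximalSpectrum.toPrimeSpectrum_continuous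

theorem exists_ideal_of_isClosed {C : Set (MaximalSpectrum R)} (hC : IsClosed C) :
    ∃ I : Ideal R, C = {x : MaximalSpectrum R | I ≤ x.asIdeal} := by
  obtain ⟨t, ht, rfl⟩ := isClosed_induced_iff.1 hC
  obtain ⟨I, rfl⟩ := (PrimeSpectrum.isClosed_iff_zeroLocus_ideal t).1 ht
  refine ⟨I, ?_⟩
  ext x
  simp [PrimeSpectrum.mem_zeroLocus, MaximalSpectrum.toPrimeSpectrum]

theorem isClosed_Zm (p : PrimeSpectrum R) : IsClosed (Zm p) := isClosed_setOf_le p.asIdeal

/-- `p` is an intersection of maximal ideals -/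
def IsJ (p : PrimeSpectrum R) : Prop := ∀ a : R, (∀ x ∈ Zm p, a ∈ x.asIdeal) → a ∈ p.asIdeal

theorem IsJ.nonempty {p : PrimeSpectrum R} (hp : IsJ p) : (Zm p).Nonempty := by
  by_contra hne
  rw [Set.not_nonempty_iff_eq_empty] at hne
  have : (1 : R) ∈ p.asIdeal := hp 1 (by simp [hne])
  exact p.isPrime.ne_top ((Ideal.eq_top_iff_one _).2 this)

theorem IsJ.isIrreducible {p : PrimeSpectrum R} (hp : IsJ p) : IsIrreducible (Zm p) := by
  refine ⟨hp.nonempty, ?_⟩
  rw [isPreirreducible_iff_isClosed_union_isClosed]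
  intro z₁ z₂ hz₁ hz₂ hsub
  obtain ⟨I₁, rfl⟩ := exists_ideal_of_isClosed hz₁
  obtain ⟨I₂, rfl⟩ := exists_ideal_of_isClosed hz₂
  by_contra hcon
  push Not at hcon
  obtain ⟨h1, h2⟩ := hcon
  obtain ⟨x₁, hx₁, hx₁'⟩ := Set.not_subset.1 h1
  obtain ⟨x₂, hx₂, hx₂'⟩ := Set.not_subset.1 h2
  have hx₁'' : ¬ I₁ ≤ x₁.asIdeal := hx₁'
  have hx₂'' : ¬ I₂ ≤ x₂.asIdeal := hx₂'
  obtain ⟨a, haI, hax⟩ := SetLike.not_le_iff_exists.1 hx₁''
  obtain ⟨b, hbI, hbx⟩ := SetLike.not_le_iff_exists.1 hx₂''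
  have hab : a * b ∈ p.asIdeal := by
    apply hp
    intro x hx
    rcases hsub hx with h | h
    · exact Ideal.mul_mem_right _ _ (h haI)
    · exact Ideal.mul_mem_left _ _ (h hbI)
  rcases p.isPrime.mem_or_mem hab with h | h
  · exact hax (hx₁ h)
  · exact hbx (hx₂ h)

/-- the ideal of a set of maximal ideals -/
def jIdeal (C : Set (MaximalSpectrum R)) : Ideal R := ⨅ x ∈ C, x.asIdeal

theorem mem_jIdeal {C : Set (MaximalSpectrum R)} {a : R} :
    a ∈ jIdeal C ↔ ∀ x ∈ C, a ∈ x.asIdeal := by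
  simp [jIdeal]

theorem jIdeal_isPrime {C : Set (MaximalSpectrum R)} (hC : IsIrreducible C) :
    (jIdeal C).IsPrime := by
  refine ⟨?_, ?_⟩
  · obtain ⟨x, hx⟩ := hC.nonempty
    intro htop
    have : (1 : R) ∈ jIdeal C := by rw [htop]; trivial
    exact x.isMaximal.ne_top ((Ideal.eq_top_iff_one _).2 (mem_jIdeal.1 this x hx))
  · intro a b hab
    have hsub : C ⊆ {x : MaximalSpectrum R | Ideal.span {a} ≤ x.asIdeal} ∪
        {x : MaximalSpectrum R | Ideal.span {b} ≤ x.asIdeal} := by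
      intro x hx
      rcases x.isMaximal.isPrime.mem_or_mem (mem_jIdeal.1 hab x hx) with h | h
      · exact Or.inl ((Ideal.span_singleton_le_iff_mem _).2 h)
      · exact Or.inr ((Ideal.span_singleton_le_iff_mem _).2 h)
    rcases (isPreirreducible_iff_isClosed_union_isClosed.1 hC.2) _ _ (isClosed_setOf_le _)
      (isClosed_setOf_le _) hsub with h | h
    · exact Or.inl (mem_jIdeal.2 fun x hx => (Ideal.span_singleton_le_iff_mem _).1 (h hx))
    · exact Or.inr (mem_jIdeal.2 fun x hx => (Ideal.span_singleton_le_iff_mem _).1 (h hx))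

/-- the generic j-prime of an irreducible closed subset of the maximal spectrum -/
def jpt (C : Set (MaximalSpectrum R)) (hC : IsIrreducible C) : PrimeSpectrum R :=
  ⟨jIdeal C, jIdeal_isPrime hC⟩

theorem Zm_jpt {C : Set (MaximalSpectrum R)} (hC : IsIrreducible C) (hcl : IsClosed C) :
    Zm (jpt C hC) = C := by
  ext x
  constructor
  · intro hx
    obtain ⟨I, rfl⟩ := exists_ideal_of_isClosed hcl
    have h1 : I ≤ jIdeal {x : MaximalSpectrum R | I ≤ x.asIdeal} := by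
      intro a ha
      exact mem_jIdeal.2 fun y hy => hy ha
    exact h1.trans hx
  · intro hx a ha
    exact mem_jIdeal.1 ha x hx

theorem isJ_jpt {C : Set (MaximalSpectrum R)} (hC : IsIrreducible C) (hcl : IsClosed C) :
    IsJ (jpt C hC) := by
  intro a ha
  rw [Zm_jpt hC hcl] at ha
  exact mem_jIdeal.2 ha

theorem jIdeal_le_of_subset {p : PrimeSpectrum R} (hp : IsJ p) {C : Set (MaximalSpectrum R)}
    (h : Zm p ⊆ C) : jIdeal C ≤ p.asIdeal := by
  intro a ha
  exact hp a fun x hx => mem_jIdeal.1 ha x (h hx)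

theorem Zm_anti {q p : PrimeSpectrum R} (h : q ≤ p) : Zm p ⊆ Zm q := fun _ hx =>
  mem_Zm.2 (le_trans (show q.asIdeal ≤ p.asIdeal from h) (mem_Zm.1 hx))

theorem Zm_ssubset {q p : PrimeSpectrum R} (hq : IsJ q) (hp : IsJ p) (h : q < p) :
    Zm p ⊂ Zm q := by
  refine ⟨Zm_anti h.le, fun hsub => ?_⟩
  have : p ≤ q := by
    intro a ha
    exact hq a fun x hx => (hsub hx) ha
  exact absurd (le_antisymm h.le this) h.ne

section Noeth

variable [NoetherianSpace (MaximalSpectrum R)]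

/-- the finiteness property of the j-spectrum -/
theorem exists_finset_minimal_J (Z : Set (PrimeSpectrum R)) (hZ : IsClosed Z) :
    ∃ E : Finset (PrimeSpectrum R), (↑E ⊆ Z ∩ {p | IsJ p}) ∧
      ∀ p ∈ Z ∩ {p | IsJ p}, ∃ q ∈ E, q ≤ p := by
  classical
  obtain ⟨I, rfl⟩ := (PrimeSpectrum.isClosed_iff_zeroLocus_ideal Z).1 hZ
  obtain ⟨S, hSfin, hScl, hSirr, hSU⟩ :=
    NoetherianSpace.exists_finite_set_isClosed_irreducible (isClosed_setOf_le (R := R) I)
  refine ⟨hSfin.toFinset.attach.image (fun t => jpt t.1 (hSirr t.1 (hSfin.mem_toFinset.1 t.2))),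
    ?_, ?_⟩
  · intro q hq
    rw [Finset.coe_image] at hq
    obtain ⟨t, -, rfl⟩ := hq
    have htS : t.1 ∈ S := hSfin.mem_toFinset.1 t.2
    refine ⟨?_, isJ_jpt _ (hScl _ htS)⟩
    rw [PrimeSpectrum.mem_zeroLocus]
    intro a ha
    refine mem_jIdeal.2 fun x hx => ?_
    have : x ∈ {x : MaximalSpectrum R | I ≤ x.asIdeal} := by
      rw [hSU]
      exact ⟨t.1, htS, hx⟩
    exact this ha
  · rintro p ⟨hpZ, hpJ⟩
    rw [PrimeSpectrum.mem_zeroLocus] at hpZ
    have hsub : Zm p ⊆ ⋃₀ (hSfin.toFinset : Set (Set (MaximalSpectrum R))) := by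
      rw [Set.Finite.coe_toFinset, ← hSU]
      intro x hx
      exact le_trans hpZ hx
    obtain ⟨t, htS, ht⟩ := isIrreducible_iff_sUnion_isClosed.1 (IsJ.isIrreducible hpJ) hSfin.toFinset
      (fun z hz => hScl z (hSfin.mem_toFinset.1 hz)) hsub
    refine ⟨jpt t (hSirr t (hSfin.mem_toFinset.1 htS)), ?_, jIdeal_le_of_subset hpJ ht⟩
    rw [Finset.mem_image]
    exact ⟨⟨t, htS⟩, Finset.mem_attach _ _, rfl⟩

end Noeth

/-- the codimension of a j-prime in the maximal spectrum -/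
noncomputable def cJ (p : PrimeSpectrum R) : ℕ∞ := by
  classical
  exact if h : IsIrreducible (Zm p) then
    Order.coheight (⟨Zm p, h, isClosed_Zm p⟩ : IrreducibleCloseds (MaximalSpectrum R)) else 0

theorem cJ_eq {p : PrimeSpectrum R} (h : IsIrreducible (Zm p)) :
    cJ p = Order.coheight (⟨Zm p, h, isClosed_Zm p⟩ : IrreducibleCloseds (MaximalSpectrum R)) := by
  unfold cJ
  rw [dif_pos h]

theorem cJ_jpt {C : Set (MaximalSpectrum R)} (hC : IsIrreducible C) (hcl : IsClosed C) :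
    cJ (jpt C hC) = Order.coheight (⟨C, hC, hcl⟩ : IrreducibleCloseds (MaximalSpectrum R)) := by
  have h : IsIrreducible (Zm (jpt C hC)) := by rw [Zm_jpt hC hcl]; exact hC
  rw [cJ_eq h]
  congr 1
  exact IrreducibleCloseds.ext (Zm_jpt hC hcl)

theorem cJ_mono {q p : PrimeSpectrum R} (hq : IsJ q) (hp : IsJ p) (h : q ≤ p) : cJ q ≤ cJ p := by
  rw [cJ_eq hq.isIrreducible, cJ_eq hp.isIrreducible]
  apply Order.coheight_anti
  exact Zm_anti h

theorem cJ_lt {q p : PrimeSpectrum R} (hq : IsJ q) (hp : IsJ p) (h : q < p) (hfin : cJ q < ⊤) :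
    cJ q < cJ p := by
  rw [cJ_eq hq.isIrreducible] at hfin ⊢
  rw [cJ_eq hp.isIrreducible]
  refine Order.coheight_strictAnti ?_ hfin
  exact Zm_ssubset hq hp h

end Groth.Agent.Helper6.BasicElt
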