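import Mathlib
import Groth.Agent.Helper6.Serre10

/-!
# Serre's unimodularity quotients `V_x = (M/xM)/B_x` and ranks of evaluation vectors
-/

set_option autoImplicit false

namespace Groth.Agent.Helper6.BasicElt

open Module Submodule

variable {R : Type*} [CommRing R] {M : Type*} [AddCommGroup M] [Module R M]

/-- the subspace of `M/xM` spanned by the elements on which all functionals take values in `x` -/
def Bq (x : MaximalSpectrum R) :
    Submodule (R ⧸ x.asIdeal) (M ⧸ (x.asIdeal • ⊤ : Submodule R M)) :=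
  Submodule.span (R ⧸ x.asIdeal)
    ((x.asIdeal • ⊤ : Submodule R M).mkQ '' {m : M | ∀ φ : M →ₗ[R] R, φ m ∈ x.asIdeal})

/-- the image of an element in `V_x` -/
def img (x : MaximalSpectrum R) (m : M) :
    (M ⧸ (x.asIdeal • ⊤ : Submodule R M)) ⧸ Bq (M := M) x :=
  (Bq x).mkQ ((x.asIdeal • ⊤ : Submodule R M).mkQ m)

theorem functional_mem_of_mem_smul (I : Ideal R) (φ : M →ₗ[R] R) {m : M}
    (hm : m ∈ (I • ⊤ : Submodule R M)) : φ m ∈ I := by
  refine Submodule.smul_induction_on hm (fun a ha n _ => ?_) (fun a b ha hb => ?_)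
  · rw [map_smul, smul_eq_mul]
    exact Ideal.mul_mem_right _ _ ha
  · rw [map_add]
    exact add_mem ha hb

theorem img_eq_zero_iff (x : MaximalSpectrum R) (m : M) :
    img x m = 0 ↔ ∀ φ : M →ₗ[R] R, φ m ∈ x.asIdeal := by
  constructor
  · intro h0
    have hmem : (x.asIdeal • ⊤ : Submodule R M).mkQ m ∈ Bq (M := M) x :=
      (Submodule.Quotient.mk_eq_zero _).1 h0
    have key : ∀ v ∈ Bq (M := M) x, ∀ m' : M, (x.asIdeal • ⊤ : Submodule R M).mkQ m' = v →
        ∀ φ : M →ₗ[R] R, φ m' ∈ x.asIdeal := by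
      intro v hv
      induction hv using Submodule.span_induction with
      | mem v hv =>
        obtain ⟨m₀, hm₀, rfl⟩ := hv
        intro m' hm' φ
        have h1 : m' - m₀ ∈ (x.asIdeal • ⊤ : Submodule R M) :=
          (Submodule.Quotient.eq _).1 hm'
        have h2 := functional_mem_of_mem_smul x.asIdeal φ h1
        rw [map_sub] at h2
        have := add_mem h2 (hm₀ φ)
        simpa using this
      | zero =>
        intro m' hm' φ
        exact functional_mem_of_mem_smul _ φ ((Submodule.Quotient.mk_eq_zero _).1 hm')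
      | add v w _ _ ihv ihw =>
        intro m' hm' φ
        obtain ⟨m₁, rfl⟩ := Submodule.mkQ_surjective _ v
        have h2 : (x.asIdeal • ⊤ : Submodule R M).mkQ (m' - m₁) = w := by
          rw [map_sub, hm']
          abel
        have := add_mem (ihv m₁ rfl φ) (ihw (m' - m₁) h2 φ)
        rw [← map_add] at this
        simpa using this
      | smul c v _ ihv =>
        intro m' hm' φ
        obtain ⟨a, rfl⟩ := Ideal.Quotient.mk_surjective c
        obtain ⟨m₁, rfl⟩ := Submodule.mkQ_surjective _ v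
        have h1 : m' - a • m₁ ∈ (x.asIdeal • ⊤ : Submodule R M) :=
          (Submodule.Quotient.eq _).1 hm'
        have h2 := functional_mem_of_mem_smul x.asIdeal φ h1
        rw [map_sub, map_smul, smul_eq_mul] at h2
        have := add_mem h2 (Ideal.mul_mem_left _ a (ihv m₁ rfl φ))
        simpa using this
    exact key _ hmem m rfl
  · intro h
    refine (Submodule.Quotient.mk_eq_zero _).2 ?_
    exact Submodule.subset_span ⟨m, h, rfl⟩

theorem img_sum {τ : Type*} [Fintype τ] (x : MaximalSpectrum R) (a : τ → R) (y : τ → M) :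
    img x (∑ j, a j • y j) = ∑ j, Ideal.Quotient.mk x.asIdeal (a j) • img x (y j) := by
  unfold img
  rw [map_sum, map_sum]
  refine Finset.sum_congr rfl fun j _ => ?_
  rw [← map_smul]
  rfl

theorem img_surjective (x : MaximalSpectrum R) : Function.Surjective (img (M := M) x) := by
  intro v
  obtain ⟨w, rfl⟩ := Submodule.mkQ_surjective _ v
  obtain ⟨m, rfl⟩ := Submodule.mkQ_surjective _ w
  exact ⟨m, rfl⟩

/-- evaluation against all functionals -/
def ev : M →ₗ[R] ((M →ₗ[R] R) → R) := LinearMap.pi fun φ => φ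

theorem ev_apply (m : M) (φ : M →ₗ[R] R) : ev m φ = φ m := rfl

theorem redI_ev_eq_zero_iff (x : MaximalSpectrum R) (m : M) :
    redI (M →ₗ[R] R) x.toPrimeSpectrum (ev m) = 0 ↔ ∀ φ : M →ₗ[R] R, φ m ∈ x.asIdeal := by
  rw [funext_iff]
  refine forall_congr' fun φ => ?_
  rw [redI_apply, Pi.zero_apply, Ideal.algebraMap_residueField_eq_zero]
  rfl

theorem redI_ev_sum {τ : Type*} [Fintype τ] (p : PrimeSpectrum R) (a : τ → R) (y : τ → M) :
    redI (M →ₗ[R] R) p (ev (∑ j, a j • y j)) =
      ∑ j, algebraMap R p.asIdeal.ResidueField (a j) • redI (M →ₗ[R] R) p (ev (y j)) := by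
  rw [map_sum, map_sum]
  refine Finset.sum_congr rfl fun j _ => ?_
  rw [map_smul, redI_smul]

theorem linearIndependent_img_iff {τ : Type*} [Fintype τ] (x : MaximalSpectrum R) (y : τ → M) :
    LinearIndependent (R ⧸ x.asIdeal) (fun j => img x (y j)) ↔
      LinearIndependent x.toPrimeSpectrum.asIdeal.ResidueField
        (fun j => redI (M →ₗ[R] R) x.toPrimeSpectrum (ev (y j))) := by
  have Q1 : LinearIndependent (R ⧸ x.asIdeal) (fun j => img x (y j)) ↔
      ∀ a : τ → R, (∀ φ : M →ₗ[R] R, φ (∑ j, a j • y j) ∈ x.asIdeal) → ∀ j, a j ∈ x.asIdeal := by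
    rw [Fintype.linearIndependent_iff]
    constructor
    · intro h a ha j
      have h1 : ∑ j, Ideal.Quotient.mk x.asIdeal (a j) • img x (y j) = 0 := by
        rw [← img_sum, img_eq_zero_iff]
        exact ha
      exact Ideal.Quotient.eq_zero_iff_mem.1 (h _ h1 j)
    · intro h c hc j
      obtain ⟨a, rfl⟩ : ∃ a : τ → R, c = fun j => Ideal.Quotient.mk _ (a j) :=
        ⟨fun j => (Ideal.Quotient.mk_surjective (c j)).choose,
          funext fun j => (Ideal.Quotient.mk_surjective (c j)).choose_spec.symm⟩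
      rw [← img_sum, img_eq_zero_iff] at hc
      exact Ideal.Quotient.eq_zero_iff_mem.2 (h a hc j)
  have Q2 : LinearIndependent x.toPrimeSpectrum.asIdeal.ResidueField
        (fun j => redI (M →ₗ[R] R) x.toPrimeSpectrum (ev (y j))) ↔
      ∀ a : τ → R, (∀ φ : M →ₗ[R] R, φ (∑ j, a j • y j) ∈ x.asIdeal) → ∀ j, a j ∈ x.asIdeal := by
    haveI : x.toPrimeSpectrum.asIdeal.IsMaximal := x.isMaximal
    have hsurj := Ideal.algebraMap_residueField_surjective x.toPrimeSpectrum.asIdeal
    rw [Fintype.linearIndependent_iff]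
    constructor
    · intro h a ha j
      have h1 : ∑ j, algebraMap R x.toPrimeSpectrum.asIdeal.ResidueField (a j) •
          redI (M →ₗ[R] R) x.toPrimeSpectrum (ev (y j)) = 0 := by
        rw [← redI_ev_sum, redI_ev_eq_zero_iff]
        exact ha
      exact (Ideal.algebraMap_residueField_eq_zero).1 (h _ h1 j)
    · intro h c hc j
      obtain ⟨a, rfl⟩ : ∃ a : τ → R, c = fun j => algebraMap R _ (a j) :=
        ⟨fun j => (hsurj (c j)).choose, funext fun j => (hsurj (c j)).choose_spec.symm⟩
      rw [← redI_ev_sum, redI_ev_eq_zero_iff] at hc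
      exact (Ideal.algebraMap_residueField_eq_zero).2 (h a hc j)
  rw [Q1, Q2]

theorem rkI_ev_of_linearIndependent {r : ℕ} (x : MaximalSpectrum R) (y : Fin r → M)
    (h : LinearIndependent (R ⧸ x.asIdeal) (fun j => img x (y j))) :
    rkI x.toPrimeSpectrum (fun j => ev (y j)) = r := by
  have h1 := (linearIndependent_img_iff x y).1 h
  unfold rkI Set.finrank
  rw [finrank_span_eq_card h1]
  simp

theorem linearIndependent_img_of_rkI {τ : Type*} [Fintype τ] (x : MaximalSpectrum R) (y : τ → M)
    (h : Fintype.card τ ≤ rkI x.toPrimeSpectrum (fun j => ev (y j))) :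
    LinearIndependent (R ⧸ x.asIdeal) (fun j => img x (y j)) := by
  rw [linearIndependent_img_iff]
  rw [linearIndependent_iff_card_eq_finrank_span]
  exact le_antisymm h (finrank_range_le_card _)

/-- the rank of the evaluation vectors of a generating family dominates all ranks -/
theorem rkI_ev_le_of_span_eq_top {τ υ : Type*} [Finite τ] [Fintype υ] (p : PrimeSpectrum R)
    (g : υ → M) (hg : Submodule.span R (Set.range g) = ⊤) (y : τ → M) :
    rkI p (fun j => ev (y j)) ≤ rkI p (fun i => ev (g i)) := by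
  unfold rkI Set.finrank
  haveI : Module.Finite p.asIdeal.ResidueField (span p.asIdeal.ResidueField
      (Set.range fun i => redI (M →ₗ[R] R) p (ev (g i)))) :=
    Module.Finite.span_of_finite _ (Set.finite_range _)
  refine Submodule.finrank_mono (span_le.2 ?_)
  rintro _ ⟨j, rfl⟩
  have hy : y j ∈ Submodule.span R (Set.range g) := by rw [hg]; trivial
  obtain ⟨a, ha⟩ := (Submodule.mem_span_range_iff_exists_fun R).1 hy
  change redI (M →ₗ[R] R) p (ev (y j)) ∈ _
  rw [← ha, redI_ev_sum]
  exact sum_mem fun i _ => smul_mem _ _ (subset_span ⟨i, rfl⟩)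

/-- lower bound for the rank of generators from the dimension of `V_x` -/
theorem le_rkI_ev_gens {υ : Type*} [Fintype υ] (x : MaximalSpectrum R) (g : υ → M)
    (hg : Submodule.span R (Set.range g) = ⊤) (t : ℕ)
    (ht : t ≤ Module.finrank (R ⧸ x.asIdeal)
      ((M ⧸ (x.asIdeal • ⊤ : Submodule R M)) ⧸ Bq (M := M) x)) :
    t ≤ rkI x.toPrimeSpectrum (fun i => ev (g i)) := by
  haveI : x.asIdeal.IsMaximal := x.isMaximal
  letI : Field (R ⧸ x.asIdeal) := Ideal.Quotient.field x.asIdeal
  obtain ⟨f, hf⟩ := exists_linearIndependent_of_le_finrank ht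
  choose y hy using fun j => img_surjective (M := M) x (f j)
  have h1 : LinearIndependent (R ⧸ x.asIdeal) (fun j => img x (y j)) := by
    have : (fun j => img x (y j)) = f := funext hy
    rw [this]
    exact hf
  rw [← rkI_ev_of_linearIndependent x y h1]
  exact rkI_ev_le_of_span_eq_top _ g hg y

end Groth.Agent.Helper6.BasicElt
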