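import Mathlib
import Groth.Agent.Helper6.Serre11

/-!
# Serre's proposition on general sections, over the maximal spectrum
-/

set_option autoImplicit false
universe u

namespace Groth.Agent.Helper6.BasicElt

open Module Submodule TopologicalSpace

variable {R : Type*} [CommRing R]

theorem exists_mem_le_rkI_of_jpt {ι σ : Type*} [Finite σ] (v : σ → ι → R)
    (C : Set (MaximalSpectrum R)) (hC : IsIrreducible C) (t : ℕ) (h : t ≤ rkI (jpt C hC) v) :
    ∃ x ∈ C, t ≤ rkI x.toPrimeSpectrum v := by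
  cases nonempty_fintype σ
  let e := (Fintype.equivFin σ).symm
  rw [← rkI_comp_equiv _ e, le_rkI_iff] at h
  obtain ⟨f, g, hdet⟩ := h
  have h1 : ¬ ∀ x ∈ C, (Matrix.of fun a b => (v ∘ e) (g b) (f a)).det ∈ x.asIdeal := fun hall =>
    hdet (mem_jIdeal.2 hall)
  push Not at h1
  obtain ⟨x, hxC, hx⟩ := h1
  refine ⟨x, hxC, ?_⟩
  rw [← rkI_comp_equiv _ e, le_rkI_iff]
  exact ⟨f, g, hx⟩

theorem linearIndependent_of_le_rkI {ι τ : Type*} [Fintype τ] (p : PrimeSpectrum R)
    (v : τ → ι → R) (h : Fintype.card τ ≤ rkI p v) :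
    LinearIndependent p.asIdeal.ResidueField (fun j => redI ι p (v j)) := by
  rw [linearIndependent_iff_card_eq_finrank_span]
  exact le_antisymm h (finrank_range_le_card _)

/-- **Serre's proposition**. -/
theorem serre_prop (R : Type u) [CommRing R] [NoetherianSpace (MaximalSpectrum R)]
    (M : Type u) [AddCommGroup M] [Module R M] [Module.Finite R M]
    (h : ℕ) (s : Fin h → M) (F : Set (MaximalSpectrum R)) (hF : IsClosed F)
    (n : ℕ) (xs : Fin n → MaximalSpectrum R) (hxs : Function.Injective xs) (hxF : ∀ i, xs i ∈ F)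
    (v : ∀ i : Fin n, M ⧸ ((xs i).asIdeal • ⊤ : Submodule R M)) (k : ℕ)
    (H1 : ∀ x : MaximalSpectrum R, h + k ≤ Module.finrank (R ⧸ x.asIdeal)
      ((M ⧸ (x.asIdeal • ⊤ : Submodule R M)) ⧸ Bq (M := M) x))
    (H2 : ∀ x : MaximalSpectrum R,
      ¬ LinearIndependent (R ⧸ x.asIdeal) (fun i => img x (s i)) → x ∈ F) :
    ∃ (t : M) (F' : Set (MaximalSpectrum R)), IsClosed F' ∧
      (∀ i : Fin n, img (xs i) t = (Bq (xs i)).mkQ (v i)) ∧
      (∀ x : MaximalSpectrum R, ¬ LinearIndependent (R ⧸ x.asIdeal)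
        (Fin.snoc (fun i => img x (s i)) (img x t)) → x ∈ F ∪ F') ∧
      ∀ Z : IrreducibleCloseds (MaximalSpectrum R), (Z : Set (MaximalSpectrum R)) ⊆ F' →
        (k : ℕ∞) ≤ Order.coheight Z := by
  classical
  -- generators
  obtain ⟨u, g, hg⟩ := Module.Finite.exists_fin (R := R) (M := M)
  -- Step 1: Chinese remainder theorem
  have hcop : Pairwise (Function.onFun IsCoprime fun i => (xs i).asIdeal) := by
    intro i j hij
    rw [Function.onFun, Ideal.isCoprime_iff_sup_eq]
    refine Ideal.IsMaximal.coprime_of_ne (xs i).isMaximal (xs j).isMaximal fun heq => ?_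
    exact hij (hxs (MaximalSpectrum.ext heq))
  choose vt hvt using fun i => Submodule.mkQ_surjective _ (v i)
  choose e he using fun i : Fin n => Ideal.exists_forall_sub_mem_ideal hcop
    (fun j => if j = i then (1 : R) else 0)
  set t₀ : M := ∑ i, e i • vt i with ht₀
  have ht₀v : ∀ j, ((xs j).asIdeal • ⊤ : Submodule R M).mkQ t₀ = v j := by
    intro j
    rw [← hvt j]
    refine (Submodule.Quotient.eq _).2 ?_
    have h1 : t₀ - vt j = ∑ i, (e i - if j = i then (1 : R) else 0) • vt i := by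
      simp only [sub_smul, Finset.sum_sub_distrib, ite_smul, one_smul, zero_smul,
        Finset.sum_ite_eq, Finset.mem_univ, if_true, ht₀]
    rw [h1]
    exact sum_mem fun i _ => Submodule.smul_mem_smul (he i j) mem_top
  clear_value t₀
  -- Step 2: finitely many elements of `⋂ xs i` without common zeros outside `F`
  have hr : ∃ (w : ℕ) (r : Fin w → R), (∀ l i, r l ∈ (xs i).asIdeal) ∧
      ∀ x : MaximalSpectrum R, (∀ l, r l ∈ x.asIdeal) → x ∈ F := by
    set I : Ideal R := ⨅ i, (xs i).asIdeal with hI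
    have hcover : Fᶜ ⊆ ⋃ a : I, {x : MaximalSpectrum R | ¬ Ideal.span {(a : R)} ≤ x.asIdeal} := by
      intro x hx
      have hIx : ¬ I ≤ x.asIdeal := by
        intro hle
        have : ∃ i, (xs i).asIdeal ≤ x.asIdeal := by
          have h1 : (Finset.univ : Finset (Fin n)).inf (fun i => (xs i).asIdeal) ≤ x.asIdeal := by
            rw [Finset.inf_univ_eq_iInf]
            exact hle
          obtain ⟨i, -, hi⟩ := (Ideal.IsPrime.inf_le' x.isMaximal.isPrime).1 h1
          exact ⟨i, hi⟩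
        obtain ⟨i, hi⟩ := this
        have heq : xs i = x := MaximalSpectrum.ext
          ((xs i).isMaximal.eq_of_le x.isMaximal.ne_top hi)
        exact hx (heq ▸ hxF i)
      obtain ⟨a, haI, hax⟩ := SetLike.not_le_iff_exists.1 hIx
      refine Set.mem_iUnion.2 ⟨⟨a, haI⟩, ?_⟩
      change ¬ Ideal.span {a} ≤ x.asIdeal
      rwa [Ideal.span_singleton_le_iff_mem]
    obtain ⟨T, hT⟩ := (NoetherianSpace.isCompact (Fᶜ : Set (MaximalSpectrum R))).elim_finite_subcover
      _ (fun a : I => (isClosed_setOf_le (Ideal.span {(a : R)})).isOpen_compl) hcover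
    refine ⟨T.card, fun l => ((T.equivFin.symm l : T) : I), ?_, ?_⟩
    · intro l i
      have : (((T.equivFin.symm l : T) : I) : R) ∈ I := ((T.equivFin.symm l : T) : I).2
      exact (Ideal.mem_iInf.1 this) i
    · intro x hx
      by_contra hxF'
      have := hT hxF'
      simp only [Set.mem_iUnion] at this
      obtain ⟨a, haT, hax⟩ := this
      apply hax
      change Ideal.span {(a : R)} ≤ x.asIdeal
      rw [Ideal.span_singleton_le_iff_mem]
      have := hx (T.equivFin ⟨a, haT⟩)
      simpa using this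
  obtain ⟨w, r, hr1, hr2⟩ := hr
  -- Step 3: set up the basic element machine
  let ι := M →ₗ[R] R
  set S : Fin h → ι → R := fun i => ev (s i) with hSdef
  let eq : Fin w × Fin u ≃ Fin (w * u) := finProdFinEquiv
  set m : Fin (w * u + 1) → ι → R := @Fin.cons (w * u) (fun _ => ι → R) (ev t₀)
    (fun i => ev (r (eq.symm i).1 • g (eq.symm i).2)) with hmdef
  have hm0 : m 0 = ev t₀ := rfl
  have hms : ∀ i : Fin (w * u), m i.succ = ev (r (eq.symm i).1 • g (eq.symm i).2) := fun i => by
    rw [hmdef, Fin.cons_succ]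
  set Y : Set (PrimeSpectrum R) := {p | IsJ p ∧ ¬ Zm p ⊆ F ∧ cJ p < k} with hYdef
  set δ : PrimeSpectrum R → ℕ := fun p => k - 1 - (cJ p).toNat with hδdef
  have hYPP : Y ⊆ {p | IsJ p} := fun p hp => hp.1
  have hY : ∀ q p : PrimeSpectrum R, q ∈ {p | IsJ p} → q ≤ p → p ∈ Y → q ∈ Y := by
    intro q p hq hqp hp
    refine ⟨hq, fun hsub => hp.2.1 ((Zm_anti hqp).trans hsub), ?_⟩
    exact lt_of_le_of_lt (cJ_mono hq hp.1 hqp) hp.2.2
  have hδ : ∀ q p : PrimeSpectrum R, q ∈ Y → p ∈ Y → q < p → δ p < δ q := by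
    intro q p hq hp hqp
    have h1 : cJ q < cJ p := cJ_lt hq.1 hp.1 hqp (lt_of_lt_of_le hq.2.2 le_top)
    have h2 := hp.2.2
    obtain ⟨a, ha⟩ := ENat.ne_top_iff_exists.1 (ne_top_of_lt hq.2.2)
    obtain ⟨b, hb⟩ := ENat.ne_top_iff_exists.1 (ne_top_of_lt hp.2.2)
    simp only [hδdef]
    rw [← ha, ← hb] at h1
    rw [← hb] at h2
    rw [← ha, ← hb]
    simp only [ENat.toNat_natCast]
    have h1' : a < b := by exact_mod_cast h1
    have h2' : b < k := by exact_mod_cast h2
    omega
  -- a maximal ideal outside `F` above each `p ∈ Y`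
  have hYx : ∀ p ∈ Y, ∃ x : MaximalSpectrum R, x ∈ Zm p ∧ x ∉ F := fun p hp =>
    Set.not_subset.1 hp.2.1
  have hle : ∀ (p : PrimeSpectrum R) (x : MaximalSpectrum R), x ∈ Zm p → p ≤ x.toPrimeSpectrum :=
    fun p x hx => hx
  have hS : ∀ p ∈ Y, LinearIndependent p.asIdeal.ResidueField (fun i => redI ι p (S i)) := by
    intro p hp
    obtain ⟨x, hxp, hxF'⟩ := hYx p hp
    have h1 : LinearIndependent (R ⧸ x.asIdeal) (fun i => img x (s i)) := by
      by_contra hcon
      exact hxF' (H2 x hcon)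
    have h2 := rkI_ev_of_linearIndependent x s h1
    have h3 := rkI_mono (fun i => ev (s i)) (hle p x hxp)
    apply linearIndependent_of_le_rkI
    rw [Fintype.card_fin]
    rw [h2] at h3
    exact h3
  have hgen : ∀ p ∈ Y, h + k ≤ rkI p (Sum.elim S m) := by
    intro p hp
    obtain ⟨x, hxp, hxF'⟩ := hYx p hp
    have h1 := le_rkI_ev_gens x g hg (h + k) (H1 x)
    have h2 := rkI_mono (fun i => ev (g i)) (hle p x hxp)
    refine h1.trans (h2.trans ?_)
    -- some `r l` is a unit at `p`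
    have hl : ∃ l, r l ∉ p.asIdeal := by
      by_contra hcon
      push Not at hcon
      exact hxF' (hr2 x fun l => hxp (hcon l))
    obtain ⟨l, hl⟩ := hl
    have hl' : algebraMap R p.asIdeal.ResidueField (r l) ≠ 0 := fun h0 =>
      hl ((Ideal.algebraMap_residueField_eq_zero).1 h0)
    unfold rkI Set.finrank
    haveI : Module.Finite p.asIdeal.ResidueField (span p.asIdeal.ResidueField
        (Set.range fun i => redI ι p (Sum.elim S m i))) :=
      Module.Finite.span_of_finite _ (Set.finite_range _)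
    refine Submodule.finrank_mono (span_le.2 ?_)
    rintro _ ⟨j, rfl⟩
    have h3 : redI ι p (ev (g j)) = (algebraMap R p.asIdeal.ResidueField (r l))⁻¹ •
        redI ι p (Sum.elim S m (Sum.inr (eq (l, j)).succ)) := by
      rw [Sum.elim_inr, hms, Equiv.symm_apply_apply, map_smul, redI_smul, smul_smul,
        inv_mul_cancel₀ hl', one_smul]
    change redI ι p (ev (g j)) ∈ _
    rw [h3]
    exact smul_mem _ _ (subset_span ⟨_, rfl⟩)
  have hm : ∀ p ∈ Y, min (w * u + 1) (δ p + 1) ≤ rkRel p S m := by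
    intro p hp
    have h1 := hgen p hp
    rw [rkI_sumElim p S m (hS p hp), Fintype.card_fin] at h1
    have h2 : δ p + 1 ≤ k := by
      have h3 := hp.2.2
      obtain ⟨b, hb⟩ := ENat.ne_top_iff_exists.1 (ne_top_of_lt hp.2.2)
      rw [← hb] at h3
      have h3' : b < k := by exact_mod_cast h3
      simp only [hδdef]
      omega
    exact (min_le_right _ _).trans (by omega)
  obtain ⟨c, hc⟩ := exists_basicG {p | IsJ p} exists_finset_minimal_J Y hYPP hY δ hδ S hS
    (w * u) m hm
  set t : M := t₀ + ∑ i : Fin (w * u), c i • (r (eq.symm i).1 • g (eq.symm i).2) with ht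
  have hevt : ev t = m 0 + ∑ i : Fin (w * u), c i • m i.succ := by
    rw [ht, map_add, map_sum, hm0]
    congr 1
    refine Finset.sum_congr rfl fun i _ => ?_
    rw [map_smul, hms]
  have hbasic : ∀ p ∈ Y, h + 1 ≤ rkI p (Sum.elim S (fun _ : Fin 1 => ev t)) := by
    intro p hp
    rw [rkI_sumElim p S _ (hS p hp), Fintype.card_fin, hevt]
    have := hc p hp
    omega
  -- Step 4: the degeneracy locus
  set D : Set (MaximalSpectrum R) :=
    {x | ¬ (h + 1 ≤ rkI x.toPrimeSpectrum (Sum.elim S (fun _ : Fin 1 => ev t)))} with hD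
  have hDcl : IsClosed D :=
    ((isOpen_setOf_le_rkI (Sum.elim S (fun _ : Fin 1 => ev t)) (h + 1)).isClosed_compl).preimage
      MaximalSpectrum.toPrimeSpectrum_continuous
  obtain ⟨𝒮, h𝒮fin, h𝒮cl, h𝒮irr, h𝒮U⟩ :=
    NoetherianSpace.exists_finite_set_isClosed_irreducible hDcl
  set 𝒮' : Set (Set (MaximalSpectrum R)) := {C ∈ 𝒮 | ¬ C ⊆ F} with h𝒮'
  have h𝒮'fin : 𝒮'.Finite := h𝒮fin.subset fun C hC => hC.1
  refine ⟨t, ⋃ C ∈ 𝒮', C, h𝒮'fin.isClosed_biUnion fun C hC => h𝒮cl C hC.1, ?_, ?_, ?_⟩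
  · -- prescribed values
    intro i
    unfold img
    congr 1
    rw [← ht₀v i, ht, map_add]
    have : ((xs i).asIdeal • ⊤ : Submodule R M).mkQ
        (∑ j : Fin (w * u), c j • (r (eq.symm j).1 • g (eq.symm j).2)) = 0 := by
      refine (Submodule.Quotient.mk_eq_zero _).2 ?_
      exact sum_mem fun j _ => Submodule.smul_mem _ _
        (Submodule.smul_mem_smul (hr1 _ i) mem_top)
    rw [this, add_zero]
  · -- independence off `F ∪ F'`
    intro x hx
    by_contra hxFF
    rw [Set.mem_union, not_or] at hxFF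
    obtain ⟨hxF', hxF''⟩ := hxFF
    have hxD : x ∉ D := by
      intro hxD
      rw [h𝒮U] at hxD
      obtain ⟨C, hC, hxC⟩ := hxD
      by_cases hCF : C ⊆ F
      · exact hxF' (hCF hxC)
      · exact hxF'' (Set.mem_biUnion (⟨hC, hCF⟩ : C ∈ 𝒮') hxC)
    have h1 : h + 1 ≤ rkI x.toPrimeSpectrum (Sum.elim S (fun _ : Fin 1 => ev t)) := by
      by_contra hcon
      exact hxD hcon
    have h2 : (Sum.elim S (fun _ : Fin 1 => ev t)) =
        fun j => ev (Sum.elim s (fun _ : Fin 1 => t) j) := by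
      funext j
      cases j <;> rfl
    rw [h2] at h1
    have h3 := linearIndependent_img_of_rkI x (Sum.elim s (fun _ : Fin 1 => t)) (by
      rw [Fintype.card_sum, Fintype.card_fin, Fintype.card_fin]
      exact h1)
    apply hx
    rw [← linearIndependent_equiv (finSumFinEquiv : Fin h ⊕ Fin 1 ≃ Fin (h + 1))]
    convert h3 using 1
    funext j
    cases j with
    | inl i =>
      simp only [Function.comp_apply, finSumFinEquiv_apply_left, Sum.elim_inl]
      exact Fin.snoc_castSucc (α := fun _ => _) _ _ i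
    | inr i =>
      have hi : i = 0 := Subsingleton.elim _ _
      subst hi
      simp only [Function.comp_apply, finSumFinEquiv_apply_right, Sum.elim_inr]
      have : Fin.natAdd h (0 : Fin 1) = Fin.last h := by
        ext
        simp
      rw [this]
      exact Fin.snoc_last (α := fun _ => _) _ _
  · -- codimension of `F'`
    intro Z hZ
    have hsub : (Z : Set (MaximalSpectrum R)) ⊆ ⋃₀ (h𝒮'fin.toFinset : Set (Set (MaximalSpectrum R))) := by
      rw [Set.Finite.coe_toFinset, Set.sUnion_eq_biUnion]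
      exact hZ
    obtain ⟨C, hC, hZC⟩ := isIrreducible_iff_sUnion_isClosed.1 Z.isIrreducible h𝒮'fin.toFinset
      (fun z hz => h𝒮cl z (h𝒮'fin.mem_toFinset.1 hz).1) hsub
    have hC' : C ∈ 𝒮' := h𝒮'fin.mem_toFinset.1 hC
    have hCirr := h𝒮irr C hC'.1
    have hCcl := h𝒮cl C hC'.1
    have h1 : Order.coheight (⟨C, hCirr, hCcl⟩ : IrreducibleCloseds (MaximalSpectrum R)) ≤
        Order.coheight Z := Order.coheight_anti (show Z ≤ ⟨C, hCirr, hCcl⟩ from hZC)
    refine le_trans ?_ h1
    by_contra hlt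
    push Not at hlt
    have hpY : jpt C hCirr ∈ Y := by
      refine ⟨isJ_jpt hCirr hCcl, ?_, ?_⟩
      · rw [Zm_jpt hCirr hCcl]
        exact hC'.2
      · rw [cJ_jpt hCirr hCcl]
        exact hlt
    obtain ⟨x, hxC, hx⟩ := exists_mem_le_rkI_of_jpt _ C hCirr (h + 1) (hbasic _ hpY)
    have hxD : x ∈ D := by
      rw [h𝒮U]
      exact ⟨C, hC'.1, hxC⟩
    exact hxD hx

end Groth.Agent.Helper6.BasicElt
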