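import Mathlib
import Groth.Agent.Helper6.Serre12

/-!
# Serre's splitting theorem over rings with Noetherian maximal spectrum
-/

set_option autoImplicit false
universe u

namespace Groth.Agent.Helper6.BasicElt

open Module Submodule TopologicalSpace

variable {R : Type*} [CommRing R] {M : Type*} [AddCommGroup M] [Module R M]

theorem finite_Vx [Module.Finite R M] (x : MaximalSpectrum R) :
    Module.Finite (R ⧸ x.asIdeal) ((M ⧸ (x.asIdeal • ⊤ : Submodule R M)) ⧸ Bq (M := M) x) := by
  classical
  obtain ⟨u, g, hg⟩ := Module.Finite.exists_fin (R := R) (M := M)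
  refine ⟨⟨Finset.univ.image (fun i => img x (g i)), ?_⟩⟩
  rw [eq_top_iff]
  intro v _
  obtain ⟨m, rfl⟩ := img_surjective (M := M) x v
  have hm : m ∈ Submodule.span R (Set.range g) := by rw [hg]; trivial
  obtain ⟨a, rfl⟩ := (Submodule.mem_span_range_iff_exists_fun R).1 hm
  rw [img_sum]
  refine sum_mem fun i _ => smul_mem _ _ (subset_span ?_)
  simp

/-- a free direct summand of rank `r` of the localization at `x` bounds `dim V_x` from below -/
theorem le_finrank_Vx_of_local_split [Module.FinitePresentation R M] (x : MaximalSpectrum R)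
    (r : ℕ)
    (f : (Fin r → Localization.AtPrime x.asIdeal) →ₗ[Localization.AtPrime x.asIdeal]
      LocalizedModule x.asIdeal.primeCompl M)
    (g : LocalizedModule x.asIdeal.primeCompl M →ₗ[Localization.AtPrime x.asIdeal]
      (Fin r → Localization.AtPrime x.asIdeal))
    (hgf : g ∘ₗ f = LinearMap.id) :
    r ≤ Module.finrank (R ⧸ x.asIdeal)
      ((M ⧸ (x.asIdeal • ⊤ : Submodule R M)) ⧸ Bq (M := M) x) := by
  classical
  let S := x.asIdeal.primeCompl
  let Rx := Localization.AtPrime x.asIdeal
  -- global elements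
  choose ys hys using fun j : Fin r =>
    IsLocalizedModule.surj S (LocalizedModule.mkLinearMap S M) (f (Pi.single j 1))
  -- global functionals
  let G : Fin r → (M →ₗ[R] Rx) := fun i =>
    (((LinearMap.proj i : (Fin r → Rx) →ₗ[Rx] Rx).comp g).restrictScalars R).comp
      (LocalizedModule.mkLinearMap S M)
  choose ψ σ hψ using fun i : Fin r =>
    Module.FinitePresentation.exists_lift_of_isLocalizedModule S (Algebra.linearMap R Rx) (G i)
  -- the matrix
  have hA : ∀ i j, algebraMap R Rx (ψ i (ys j).1) =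
      if i = j then algebraMap R Rx ((σ i : R) * ((ys j).2 : R)) else 0 := by
    intro i j
    have h1 : algebraMap R Rx (ψ i (ys j).1) = (σ i : R) • G i (ys j).1 := by
      have := LinearMap.congr_fun (hψ i) (ys j).1
      rw [← Submonoid.smul_def]
      simpa using this
    have h2 : G i (ys j).1 = g (LocalizedModule.mkLinearMap S M (ys j).1) i := rfl
    rw [h1, h2, ← hys j]
    have h3 : g (f (Pi.single j 1)) = Pi.single j 1 := LinearMap.congr_fun hgf _
    have h4 : g ((ys j).2 • f (Pi.single j 1)) = ((ys j).2 : R) • g (f (Pi.single j 1)) := by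
      rw [Submonoid.smul_def, ← algebraMap_smul Rx (((ys j).2 : R)) (f (Pi.single j 1)), map_smul,
        algebraMap_smul]
    rw [h4, h3]
    by_cases hij : i = j
    · subst hij
      simp only [Pi.smul_apply, Pi.single_eq_same, if_true, Algebra.smul_def, mul_one, map_mul]
      rfl
    · simp [hij]
  have hdet : (Matrix.of fun a b => ψ a (ys b).1).det ∉ x.asIdeal := by
    intro hmem
    have h1 : algebraMap R Rx (Matrix.of fun a b => ψ a (ys b).1).det =
        ∏ i, algebraMap R Rx ((σ i : R) * ((ys i).2 : R)) := by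
      rw [RingHom.map_det]
      have : (algebraMap R Rx).mapMatrix (Matrix.of fun a b => ψ a (ys b).1) =
          Matrix.diagonal fun i => algebraMap R Rx ((σ i : R) * ((ys i).2 : R)) := by
        ext i j
        simp only [RingHom.mapMatrix_apply, Matrix.map_apply, Matrix.of_apply, hA,
          Matrix.diagonal_apply]
        by_cases hij : i = j
        · subst hij
          simp
        · simp [hij]
      rw [this, Matrix.det_diagonal]
    have h2 : IsUnit (algebraMap R Rx (Matrix.of fun a b => ψ a (ys b).1).det) := by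
      rw [h1]
      rw [← map_prod]
      refine (IsLocalization.AtPrime.isUnit_to_map_iff Rx x.asIdeal _).2 ?_
      exact (Submonoid.prod_mem _ fun i _ =>
        Submonoid.mul_mem _ (σ i).2 (ys i).2.2 : ∏ i, ((σ i : R) * ((ys i).2 : R)) ∈ S)
    exact ((IsLocalization.AtPrime.isUnit_to_map_iff Rx x.asIdeal _).1 h2) hmem
  have hrk : r ≤ rkI x.toPrimeSpectrum (fun j : Fin r => ev (ys j).1) := by
    rw [le_rkI_iff]
    exact ⟨ψ, id, hdet⟩
  have hli := linearIndependent_img_of_rkI x (fun j : Fin r => (ys j).1) (by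
    rw [Fintype.card_fin]
    exact hrk)
  haveI : x.asIdeal.IsMaximal := x.isMaximal
  letI : Field (R ⧸ x.asIdeal) := Ideal.Quotient.field x.asIdeal
  haveI : Module.Finite R M := inferInstance
  haveI := finite_Vx (M := M) x
  have := hli.fintype_card_le_finrank
  rwa [Fintype.card_fin] at this

/-- **Serre's splitting theorem** over rings with Noetherian maximal spectrum. -/
theorem exists_unimodular_maxSpec (R : Type u) [CommRing R] (d : ℕ)
    [NoetherianSpace (MaximalSpectrum R)]
    (hdim : topologicalKrullDim (MaximalSpectrum R) ≤ d)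
    (M : Type u) [AddCommGroup M] [Module R M] [Module.Finite R M]
    (hM : ∀ x : MaximalSpectrum R, d + 1 ≤ Module.finrank (R ⧸ x.asIdeal)
      ((M ⧸ (x.asIdeal • ⊤ : Submodule R M)) ⧸ Bq (M := M) x)) :
    ∃ (s : M) (φ : M →ₗ[R] R), φ s = 1 := by
  obtain ⟨t, F', hF'cl, -, hC2, hC3⟩ := serre_prop R M 0 Fin.elim0 ∅ isClosed_empty 0 Fin.elim0
    (fun a => a.elim0) (fun i => i.elim0) (fun i => i.elim0) (d + 1)
    (fun x => by simpa using hM x)
    (fun x hx => absurd linearIndependent_empty_type hx)
  -- `F'` is empty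
  have hF' : F' = ∅ := by
    by_contra hne
    obtain ⟨x, hx⟩ := Set.nonempty_iff_ne_empty.2 hne
    let Z : IrreducibleCloseds (MaximalSpectrum R) :=
      ⟨{x}, isIrreducible_singleton, isClosed_singleton⟩
    have h1 := hC3 Z (Set.singleton_subset_iff.2 hx)
    have h2 : (Order.coheight Z : WithBot ℕ∞) ≤ (d : WithBot ℕ∞) :=
      (Order.coheight_le_krullDim Z).trans hdim
    have h3 : ((d + 1 : ℕ) : ℕ∞) ≤ (d : ℕ∞) := h1.trans (by exact_mod_cast h2)
    have h4 : d + 1 ≤ d := by exact_mod_cast h3
    omega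
  -- the order ideal of `t` is everything
  have hO : LinearMap.range (LinearMap.applyₗ t : (M →ₗ[R] R) →ₗ[R] R) = ⊤ := by
    by_contra hne
    obtain ⟨𝔪, h𝔪, hle⟩ := Ideal.exists_le_maximal (LinearMap.range
      (LinearMap.applyₗ t : (M →ₗ[R] R) →ₗ[R] R)) hne
    let x : MaximalSpectrum R := ⟨𝔪, h𝔪⟩
    have h1 : img x t = 0 := (img_eq_zero_iff x t).2 fun φ => hle ⟨φ, rfl⟩
    have h2 : ¬ LinearIndependent (R ⧸ x.asIdeal)
        (Fin.snoc (fun i : Fin 0 => img x (Fin.elim0 i : M)) (img x t)) := by
      intro hli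
      haveI : Nontrivial (R ⧸ x.asIdeal) := Ideal.Quotient.nontrivial_iff.2 h𝔪.ne_top
      have := hli.ne_zero (Fin.last 0)
      rw [Fin.snoc_last] at this
      exact this h1
    have := hC2 x h2
    rw [hF'] at this
    simp at this
  have h1 : (1 : R) ∈ LinearMap.range (LinearMap.applyₗ t : (M →ₗ[R] R) →ₗ[R] R) := by
    rw [hO]
    trivial
  obtain ⟨φ, hφ⟩ := h1
  exact ⟨t, φ, hφ⟩

end Groth.Agent.Helper6.BasicElt
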