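import Mathlib
import Groth.Agent.Helper6.Serre2

/-!
# Basic elements (Eisenbud–Evans), part 3: the key lemma and existence of basic elements
-/

set_option autoImplicit false

namespace Groth.Agent.Helper6.BasicElt

open Module Submodule

variable {R : Type*} [CommRing R] {N : ℕ}

theorem red_modFam (p : PrimeSpectrum R) {u : ℕ} (m : Fin (u + 1) → Fin N → R) (a : Fin u → R) :
    (fun i : Fin u => red p (m i.castSucc + a i • m (Fin.last u))) =
      modFam (fun i => red p (m i)) (fun i => algebraMap R p.asIdeal.ResidueField (a i)) := by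
  funext i
  simp only [modFam, map_add, red_smul]

theorem rk_modFam (p : PrimeSpectrum R) {u : ℕ} (m : Fin (u + 1) → Fin N → R) (a : Fin u → R) :
    rk p (fun i : Fin u => m i.castSucc + a i • m (Fin.last u)) =
      Set.finrank p.asIdeal.ResidueField (Set.range
        (modFam (fun i => red p (m i)) (fun i => algebraMap R p.asIdeal.ResidueField (a i)))) := by
  unfold rk
  rw [red_modFam]

variable [IsNoetherianRing R]

/-- **Key lemma** (Eisenbud–Evans). -/
theorem key (δ : PrimeSpectrum R → ℕ) (hδ : ∀ q p : PrimeSpectrum R, q < p → δ p < δ q)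
    (Y : Set (PrimeSpectrum R)) (hY : ∀ q p : PrimeSpectrum R, q ≤ p → p ∈ Y → q ∈ Y)
    (u : ℕ) (m : Fin (u + 1) → Fin N → R)
    (hm : ∀ p ∈ Y, min (u + 1) (δ p + 1) ≤ rk p m) :
    ∃ a : Fin u → R, ∀ p ∈ Y,
      min u (δ p + 1) ≤ rk p (fun i : Fin u => m i.castSucc + a i • m (Fin.last u)) := by
  classical
  -- the finite sets of generic points of the rank strata
  have hcl : ∀ t : ℕ, IsClosed {p : PrimeSpectrum R | ¬ t ≤ rk p m} := fun t =>
    (isOpen_setOf_le_rk m t).isClosed_compl
  choose Et hEt1 hEt2 using fun t => exists_finset_minimal _ (hcl t)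
  set E : Finset (PrimeSpectrum R) := (Finset.range (u + 2)).biUnion Et with hE
  -- the property to achieve at the finitely many primes
  obtain ⟨a, ha⟩ := exists_forall_of_finset u E
    (fun q c => q ∈ Y → min u (δ q + 1) ≤
      Set.finrank q.asIdeal.ResidueField (Set.range (modFam (fun i => red q (m i)) c))) (by
    intro q _ c r hr
    have hr' : algebraMap R q.asIdeal.ResidueField r ≠ 0 := fun h =>
      hr ((Ideal.algebraMap_residueField_eq_zero).1 h)
    by_cases hli : LinearIndependent q.asIdeal.ResidueField (fun i => red q (m i))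
    · refine ⟨0, fun _ => ?_⟩
      have h1 := finrank_le_modFam_add_one (fun i => red q (m i))
        (c + fun i => algebraMap R q.asIdeal.ResidueField (r * (0 : Fin u → R) i))
      have h2 : Set.finrank q.asIdeal.ResidueField (Set.range fun i => red q (m i)) = u + 1 := by
        unfold Set.finrank
        rw [finrank_span_eq_card hli]
        simp
      rw [h2] at h1
      exact (min_le_left _ _).trans (by omega)
    · obtain ⟨b₀, hb₀, hspan⟩ := exists_span_modFam_eq (fun i => red q (m i)) hli c _ hr'
      have hlift : ∃ b : Fin u → R, (fun i => algebraMap R q.asIdeal.ResidueField (r * b i)) =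
          algebraMap R q.asIdeal.ResidueField r • b₀ := by
        rcases hb₀ with rfl | ⟨j, rfl⟩
        · exact ⟨0, by ext i; simp⟩
        · refine ⟨Pi.single j 1, ?_⟩
          ext i
          by_cases hij : i = j
          · subst hij
            simp
          · simp [Pi.single_eq_of_ne hij]
      obtain ⟨b, hb⟩ := hlift
      refine ⟨b, fun hqY => ?_⟩
      rw [hb]
      unfold Set.finrank
      rw [hspan]
      exact (min_le_min_right _ (Nat.le_succ u)).trans (hm q hqY))
  refine ⟨a, fun p hpY => ?_⟩
  rw [rk_modFam]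
  have h1 := finrank_le_modFam_add_one (fun i => red p (m i))
    (fun i => algebraMap R p.asIdeal.ResidueField (a i))
  change rk p m ≤ _ at h1
  have h0 := hm p hpY
  by_cases hbig : min u (δ p + 1) + 1 ≤ rk p m
  · omega
  · -- then `rk p m = δ p + 1 ≤ u`
    have ht1 : rk p m ≤ u := by
      have := min_le_left u (δ p + 1)
      omega
    have ht2 : rk p m = δ p + 1 := by
      rcases le_total (u + 1) (δ p + 1) with h | h
      · rw [min_eq_left h] at h0
        omega
      · rw [min_eq_right h] at h0
        have := min_le_right u (δ p + 1)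
        omega
    have hpZ : p ∈ {p : PrimeSpectrum R | ¬ (rk p m + 1) ≤ rk p m} := by
      simp
    obtain ⟨q, hqE, hqp⟩ := hEt2 (rk p m + 1) p hpZ
    have hqZ : ¬ (rk p m + 1) ≤ rk q m := hEt1 (rk p m + 1) hqE
    have hqY : q ∈ Y := hY q p hqp hpY
    rcases eq_or_lt_of_le hqp with rfl | hlt
    · refine ha q ?_ hqY
      rw [hE, Finset.mem_biUnion]
      exact ⟨rk q m + 1, Finset.mem_range.2 (by omega), hqE⟩
    · exfalso
      have h3 := hδ q p hlt
      have h4 := hm q hqY
      rcases le_total (u + 1) (δ q + 1) with h | h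
      · rw [min_eq_left h] at h4
        omega
      · rw [min_eq_right h] at h4
        omega

/-- existence of basic elements -/
theorem exists_basic (δ : PrimeSpectrum R → ℕ) (hδ : ∀ q p : PrimeSpectrum R, q < p → δ p < δ q)
    (Y : Set (PrimeSpectrum R)) (hY : ∀ q p : PrimeSpectrum R, q ≤ p → p ∈ Y → q ∈ Y)
    (u : ℕ) (m : Fin (u + 1) → Fin N → R)
    (hm : ∀ p ∈ Y, min (u + 1) (δ p + 1) ≤ rk p m) :
    ∃ c : Fin u → R, ∀ p ∈ Y,
      1 ≤ rk p (fun _ : Fin 1 => m 0 + ∑ i : Fin u, c i • m i.succ) := by
  induction u with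
  | zero =>
    refine ⟨0, fun p hp => ?_⟩
    have h := hm p hp
    have h1 : min (0 + 1) (δ p + 1) = 1 := by omega
    rw [h1] at h
    have h2 : (fun _ : Fin 1 => m 0 + ∑ i : Fin 0, (0 : Fin 0 → R) i • m i.succ) = m := by
      funext i
      have : i = 0 := Subsingleton.elim _ _
      subst this
      simp
    rw [h2]
    exact h
  | succ u ih =>
    obtain ⟨a, ha⟩ := key δ hδ Y hY (u + 1) m hm
    obtain ⟨c', hc'⟩ := ih (fun i : Fin (u + 1) => m i.castSucc + a i • m (Fin.last (u + 1))) ha
    refine ⟨Fin.snoc c' (a 0 + ∑ i : Fin u, c' i * a i.succ), fun p hp => ?_⟩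
    have h := hc' p hp
    convert h using 3
    rw [Fin.sum_univ_castSucc]
    simp only [Fin.snoc_castSucc, Fin.snoc_last, Fin.succ_last, smul_add, Finset.sum_add_distrib,
      add_smul, Finset.sum_smul, smul_smul, Fin.castSucc_zero]
    have : ∀ i : Fin u, (i.castSucc).succ = (i.succ).castSucc := fun i => rfl
    simp only [this]
    abel

end Groth.Agent.Helper6.BasicElt
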