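import Mathlib
import Groth.Agent.Helper6.Serre3

/-!
# Basic elements (Eisenbud–Evans), part 4: unimodular elements in projective modules
-/

set_option autoImplicit false

namespace Groth.Agent.Helper6.BasicElt

open Module Submodule TensorProduct

variable {R : Type*} [CommRing R]

section RankLemma

variable {P : Type*} [AddCommGroup P] [Module R P] {N : ℕ}
  (ι : P →ₗ[R] (Fin N → R)) (π : (Fin N → R) →ₗ[R] P) (hπι : π ∘ₗ ι = LinearMap.id)

include hπι in
theorem sum_coord_smul (x : P) : ∑ j, ι x j • π (Pi.single j 1) = x := by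
  classical
  have h1 : ι x = ∑ j, ι x j • (Pi.single j (1 : R) : Fin N → R) := pi_eq_sum_univ' (ι x)
  have h2 := congrArg π h1
  rw [map_sum] at h2
  simp only [map_smul] at h2
  rw [← h2]
  exact LinearMap.congr_fun hπι x

include hπι in
theorem rankAtStalk_le_rk [Module.Finite R P] [Module.Projective R P] (p : PrimeSpectrum R) :
    Module.rankAtStalk P p ≤ rk p (fun j : Fin N => ι (π (Pi.single j 1))) := by
  classical
  let κ := p.asIdeal.ResidueField
  let F : κ ⊗[R] P →ₗ[κ] (Fin N → κ) := ((red p).comp ι).liftBaseChange κ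
  let G : (Fin N → κ) →ₗ[κ] κ ⊗[R] P :=
    ∑ j, (LinearMap.proj j : (Fin N → κ) →ₗ[κ] κ).smulRight ((1 : κ) ⊗ₜ[R] π (Pi.single j 1))
  have hG : ∀ w, G w = ∑ j, w j • ((1 : κ) ⊗ₜ[R] π (Pi.single j 1)) := by
    intro w
    simp [G, LinearMap.sum_apply]
  have hF : ∀ (k : κ) (x : P), F (k ⊗ₜ x) = k • red p (ι x) := fun k x => rfl
  have hGF : ∀ t, G (F t) = t := by
    intro t
    induction t using TensorProduct.induction_on with
    | zero => simp
    | tmul k x =>
      rw [hF, map_smul, hG]
      have : ∀ j, red p (ι x) j • ((1 : κ) ⊗ₜ[R] π (Pi.single j 1)) =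
          (1 : κ) ⊗ₜ[R] (ι x j • π (Pi.single j 1)) := by
        intro j
        rw [red_apply, TensorProduct.smul_tmul', TensorProduct.tmul_smul,
          ← TensorProduct.smul_tmul', algebraMap_smul]
      simp only [this]
      rw [← TensorProduct.tmul_sum, sum_coord_smul ι π hπι, TensorProduct.smul_tmul',
        smul_eq_mul, mul_one]
    | add a b ha hb => rw [map_add, map_add, ha, hb]
  have hFinj : Function.Injective F := Function.LeftInverse.injective hGF
  have hrange : LinearMap.range F ≤
      span κ (Set.range fun j => red p (ι (π (Pi.single j 1)))) := by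
    rintro _ ⟨t, rfl⟩
    induction t using TensorProduct.induction_on with
    | zero => simp
    | tmul k x =>
      rw [hF]
      refine smul_mem _ _ ?_
      have h1 : red p (ι x) = ∑ j, algebraMap R κ (ι x j) • red p (ι (π (Pi.single j 1))) := by
        conv_lhs => rw [← sum_coord_smul ι π hπι x]
        rw [map_sum, map_sum]
        refine Finset.sum_congr rfl fun j _ => ?_
        rw [map_smul, red_smul]
      rw [h1]
      exact sum_mem fun j _ => smul_mem _ _ (subset_span ⟨j, rfl⟩)
    | add a b ha hb =>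
      rw [map_add]
      exact add_mem ha hb
  rw [Module.rankAtStalk_eq]
  haveI : Module.Finite κ (span κ (Set.range fun j => red p (ι (π (Pi.single j 1))))) :=
    Module.Finite.span_of_finite κ (Set.finite_range _)
  calc finrank κ (κ ⊗[R] P) = finrank κ (LinearMap.range F) :=
        (LinearMap.finrank_range_of_inj hFinj).symm
    _ ≤ _ := Submodule.finrank_mono hrange

end RankLemma

theorem red_ne_zero_of_one_le_rk {N : ℕ} (p : PrimeSpectrum R) (s : Fin N → R)
    (h : 1 ≤ rk p (fun _ : Fin 1 => s)) : red p s ≠ 0 := by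
  intro h0
  unfold rk Set.finrank at h
  rw [Set.range_const, h0] at h
  simp at h

/-- **Theorem A** (Eisenbud–Evans, Bass): if `(x, a)` is unimodular in `P ⊕ R` and `P` is
projective of constant rank `> dim R`, then `x + a y` is unimodular for some `y`. -/
theorem exists_unimodular_add [IsNoetherianRing R] (d : ℕ) (hdim : ringKrullDim R ≤ d)
    (P : Type*) [AddCommGroup P] [Module R P] [Module.Finite R P] [Module.Projective R P]
    (n : ℕ) (hrk : ∀ p : PrimeSpectrum R, Module.rankAtStalk P p = n) (hnd : d < n)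
    (x : P) (a : R) (φ : P →ₗ[R] R) (c : R) (h : φ x + c * a = 1) :
    ∃ (y : P) (ψ : P →ₗ[R] R), ψ (x + a • y) = 1 := by
  classical
  obtain ⟨N, π, ι, -, -, hπι⟩ := Module.Finite.exists_comp_eq_id_of_projective R P
  -- the dimension function
  have hcoh : ∀ p : PrimeSpectrum R, Order.coheight p ≤ (d : ℕ∞) := by
    intro p
    have h1 : (Order.coheight p : WithBot ℕ∞) ≤ ((d : ℕ∞) : WithBot ℕ∞) :=
      (Order.coheight_le_krullDim p).trans hdim
    exact_mod_cast h1
  set δ : PrimeSpectrum R → ℕ := fun p => (Order.coheight p).toNat with hδdef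
  have hδcoe : ∀ p : PrimeSpectrum R, ((δ p : ℕ) : ℕ∞) = Order.coheight p := by
    intro p
    exact ENat.natCast_toNat (ne_top_of_le_ne_top (ENat.natCast_ne_top d) (hcoh p))
  have hδd : ∀ p, δ p ≤ d := by
    intro p
    have := hcoh p
    rw [← hδcoe] at this
    exact_mod_cast this
  have hδ : ∀ q p : PrimeSpectrum R, q < p → δ p < δ q := by
    intro q p hqp
    have hfin : Order.coheight p < ⊤ := lt_of_le_of_lt (hcoh p) (ENat.natCast_lt_top d)
    have := Order.coheight_strictAnti hqp hfin
    rw [← hδcoe, ← hδcoe] at this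
    exact_mod_cast this
  set Y : Set (PrimeSpectrum R) := {p | a ∉ p.asIdeal} with hYdef
  have hY : ∀ q p : PrimeSpectrum R, q ≤ p → p ∈ Y → q ∈ Y := fun q p hqp hp ha => hp (hqp ha)
  set m : Fin (N + 1) → Fin N → R :=
    Fin.cons (ι x) (fun j => a • ι (π (Pi.single j 1))) with hmdef
  have hm0 : m 0 = ι x := rfl
  have hms : ∀ j : Fin N, m j.succ = a • ι (π (Pi.single j 1)) := fun j => by
    simp [hmdef]
  have hm : ∀ p ∈ Y, min (N + 1) (δ p + 1) ≤ rk p m := by
    intro p hp
    have ha : algebraMap R p.asIdeal.ResidueField a ≠ 0 := fun h0 =>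
      hp ((Ideal.algebraMap_residueField_eq_zero).1 h0)
    have h1 : n ≤ rk p m := by
      rw [← hrk p]
      refine (rankAtStalk_le_rk ι π hπι p).trans ?_
      unfold rk Set.finrank
      haveI : Module.Finite p.asIdeal.ResidueField
          (span p.asIdeal.ResidueField (Set.range fun i => red p (m i))) :=
        Module.Finite.span_of_finite _ (Set.finite_range _)
      refine Submodule.finrank_mono (span_le.2 ?_)
      rintro _ ⟨j, rfl⟩
      have : red p (ι (π (Pi.single j 1))) =
          (algebraMap R p.asIdeal.ResidueField a)⁻¹ • red p (m j.succ) := by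
        rw [hms, red_smul, smul_smul, inv_mul_cancel₀ ha, one_smul]
      change red p (ι (π (Pi.single j 1))) ∈ _
      rw [this]
      exact smul_mem _ _ (subset_span ⟨j.succ, rfl⟩)
    have := hδd p
    exact (min_le_right _ _).trans (by omega)
  obtain ⟨cf, hcf⟩ := exists_basic δ hδ Y hY N m hm
  set y : P := ∑ j, cf j • π (Pi.single j 1) with hy
  have hs : ι (x + a • y) = m 0 + ∑ j : Fin N, cf j • m j.succ := by
    rw [map_add, hm0, map_smul, hy, map_sum, Finset.smul_sum]
    congr 1
    refine Finset.sum_congr rfl fun j _ => ?_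
    rw [hms, map_smul, smul_comm]
  set s : Fin N → R := ι (x + a • y) with hsdef
  -- every functional takes values in the ideal of coordinates
  have hO : ∀ (χ : P →ₗ[R] R) (z : P), χ z ∈ Ideal.span (Set.range (ι z)) := by
    intro χ z
    have : χ z = ∑ j, ι z j • χ (π (Pi.single j 1)) := by
      conv_lhs => rw [← sum_coord_smul ι π hπι z]
      rw [map_sum]
      simp only [map_smul]
    rw [this]
    refine sum_mem fun j _ => ?_
    rw [smul_eq_mul]
    exact Ideal.mul_mem_right _ _ (Ideal.subset_span ⟨j, rfl⟩)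
  have htop : Ideal.span (Set.range s) = ⊤ := by
    by_contra hne
    obtain ⟨𝔪, h𝔪, hle⟩ := Ideal.exists_le_maximal _ hne
    by_cases ha𝔪 : a ∈ 𝔪
    · have h1 : φ (x + a • y) ∈ 𝔪 := hle (hO φ _)
      have h2 : φ (x + a • y) = 1 - a * (c - φ y) := by
        rw [map_add, map_smul, smul_eq_mul]
        linear_combination h
      rw [h2] at h1
      have h3 : a * (c - φ y) ∈ 𝔪 := Ideal.mul_mem_right _ _ ha𝔪
      have : (1 : R) ∈ 𝔪 := by
        have := add_mem h1 h3
        simpa using this
      exact h𝔪.ne_top ((Ideal.eq_top_iff_one _).2 this)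
    · have hpY : (⟨𝔪, h𝔪.isPrime⟩ : PrimeSpectrum R) ∈ Y := ha𝔪
      have h1 := hcf _ hpY
      rw [← hs] at h1
      have h2 := red_ne_zero_of_one_le_rk _ _ h1
      apply h2
      ext i
      rw [red_apply]
      exact (Ideal.algebraMap_residueField_eq_zero).2 (hle (Ideal.subset_span ⟨i, rfl⟩))
  have h1 : (1 : R) ∈ Ideal.span (Set.range s) := by
    rw [htop]
    trivial
  obtain ⟨r, hr⟩ := Ideal.mem_span_range_iff_exists_fun.1 h1
  refine ⟨y, ∑ j, r j • ((LinearMap.proj j : (Fin N → R) →ₗ[R] R).comp ι), ?_⟩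
  rw [LinearMap.sum_apply, ← hr]
  refine Finset.sum_congr rfl fun j _ => ?_
  simp [hsdef]

end Groth.Agent.Helper6.BasicElt
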