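import Mathlib
import Groth.Agent.Helper6.Serre4

/-!
# Serre's splitting theorem and Bass's cancellation theorem for projective modules
-/

set_option autoImplicit false
universe u v

namespace Groth.Agent.Helper6.BasicElt

open Module

variable {R : Type u} [CommRing R]

/-- splitting off the line spanned by a unimodular element -/
noncomputable def splitEquiv {P : Type v} [AddCommGroup P] [Module R P] (ψ : P →ₗ[R] R) (s : P)
    (hs : ψ s = 1) : P ≃ₗ[R] (LinearMap.ker ψ) × R where
  toFun x := (⟨x - ψ x • s, by simp [hs]⟩, ψ x)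
  map_add' x y := by
    ext
    · simp only [map_add, add_smul, Prod.mk_add_mk, Submodule.coe_add]
      abel
    · simp
  map_smul' r x := by
    ext
    · simp only [map_smul, smul_eq_mul, RingHom.id_apply, Prod.smul_mk, Submodule.coe_smul,
        smul_sub, mul_smul]
    · simp
  invFun kr := kr.1 + kr.2 • s
  left_inv x := by simp
  right_inv kr := by
    have h1 : ψ (kr.1 : P) = 0 := kr.1.2
    ext
    · simp [h1, hs]
    · simp [h1, hs]

/-- **Serre's splitting theorem**: unimodular elements exist. -/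
theorem exists_unimodular [IsNoetherianRing R] (d : ℕ) (hdim : ringKrullDim R ≤ d)
    (P : Type v) [AddCommGroup P] [Module R P] [Module.Finite R P] [Module.Projective R P]
    (n : ℕ) (hrk : ∀ p : PrimeSpectrum R, Module.rankAtStalk P p = n) (hnd : d < n) :
    ∃ (s : P) (ψ : P →ₗ[R] R), ψ s = 1 := by
  obtain ⟨y, ψ, hψ⟩ := exists_unimodular_add d hdim P n hrk hnd 0 1 0 1 (by simp)
  exact ⟨0 + (1 : R) • y, ψ, hψ⟩

theorem exists_split_one [IsNoetherianRing R] [Nontrivial R] (d : ℕ) (hdim : ringKrullDim R ≤ d)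
    (P : Type v) [AddCommGroup P] [Module R P] [Module.Finite R P] [Module.Projective R P]
    (n : ℕ) (hrk : ∀ p : PrimeSpectrum R, Module.rankAtStalk P p = n) (hnd : d < n) :
    ∃ (P' : Type v) (_ : AddCommGroup P') (_ : Module R P') (_ : Module.Finite R P')
      (_ : Module.Projective R P'), (∀ p : PrimeSpectrum R, Module.rankAtStalk P' p = n - 1) ∧
      Nonempty (P ≃ₗ[R] P' × R) := by
  obtain ⟨s, ψ, hs⟩ := exists_unimodular d hdim P n hrk hnd
  let e := splitEquiv ψ s hs
  haveI : Module.Finite R (LinearMap.ker ψ × R) := Module.Finite.equiv e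
  haveI : Module.Projective R (LinearMap.ker ψ × R) := Module.Projective.of_equiv e
  haveI : Module.Finite R (LinearMap.ker ψ) :=
    Module.Finite.of_surjective (LinearMap.fst R (LinearMap.ker ψ) R) LinearMap.fst_surjective
  haveI : Module.Projective R (LinearMap.ker ψ) :=
    Module.Projective.of_split (LinearMap.inl R (LinearMap.ker ψ) R)
      (LinearMap.fst R (LinearMap.ker ψ) R) (by ext; simp)
  refine ⟨LinearMap.ker ψ, inferInstance, inferInstance, inferInstance, inferInstance, ?_, ⟨e⟩⟩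
  intro p
  have h1 := congrFun (Module.rankAtStalk_eq_of_equiv e) p
  rw [Module.rankAtStalk_prod, hrk p] at h1
  simp only [Pi.add_apply, Module.rankAtStalk_self, Pi.one_apply] at h1
  omega

/-- splitting off a free summand of rank `k` -/
theorem exists_split [IsNoetherianRing R] [Nontrivial R] (d : ℕ) (hdim : ringKrullDim R ≤ d)
    (k : ℕ) : ∀ (P : Type v) [AddCommGroup P] [Module R P] [Module.Finite R P]
    [Module.Projective R P] (n : ℕ) (_ : ∀ p : PrimeSpectrum R, Module.rankAtStalk P p = n)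
    (_ : d + k ≤ n),
    ∃ (P' : Type v) (_ : AddCommGroup P') (_ : Module R P'),
      Nonempty (P ≃ₗ[R] P' × (Fin k → R)) := by
  induction k with
  | zero =>
    intro P _ _ _ _ n _ _
    exact ⟨P, inferInstance, inferInstance, ⟨(LinearEquiv.prodUnique).symm⟩⟩
  | succ k ih =>
    intro P _ _ _ _ n hrk hn
    obtain ⟨P₁, _, _, _, _, hrk₁, ⟨e₁⟩⟩ := exists_split_one d hdim P n hrk (by omega)
    obtain ⟨P', _, _, ⟨e₂⟩⟩ := ih P₁ (n - 1) hrk₁ (by omega)
    refine ⟨P', inferInstance, inferInstance, ⟨?_⟩⟩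
    exact e₁ ≪≫ₗ (LinearEquiv.prodCongr e₂ (LinearEquiv.refl R R)) ≪≫ₗ
      (LinearEquiv.prodAssoc R P' (Fin k → R) R) ≪≫ₗ
      (LinearEquiv.prodCongr (LinearEquiv.refl R P')
        ((LinearEquiv.prodComm R (Fin k → R) R) ≪≫ₗ
          Fin.consLinearEquiv R (fun _ : Fin (k + 1) => R)))

/-- from a product decomposition to complementary submodules -/
theorem exists_isCompl_of_equiv {P P' F : Type*} [AddCommGroup P] [Module R P] [AddCommGroup P']
    [Module R P'] [AddCommGroup F] [Module R F] (e : P ≃ₗ[R] P' × F) :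
    ∃ (P₀ Q : Submodule R P), IsCompl P₀ Q ∧ Nonempty (Q ≃ₗ[R] F) := by
  refine ⟨LinearMap.ker ((LinearMap.snd R P' F).comp e.toLinearMap),
    LinearMap.ker ((LinearMap.fst R P' F).comp e.toLinearMap), ⟨?_, ?_⟩, ⟨?_⟩⟩
  · rw [Submodule.disjoint_def]
    intro x hx1 hx2
    simp only [LinearMap.mem_ker, LinearMap.coe_comp, LinearEquiv.coe_coe, Function.comp_apply,
      LinearMap.snd_apply, LinearMap.fst_apply] at hx1 hx2
    apply e.injective
    rw [map_zero]
    exact Prod.ext hx2 hx1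
  · rw [codisjoint_iff, eq_top_iff]
    intro x _
    have : x = e.symm ((e x).1, 0) + e.symm (0, (e x).2) := by
      rw [← map_add]
      simp
    rw [this]
    refine Submodule.add_mem_sup ?_ ?_
    · simp
    · simp
  · exact
      { toFun := fun q => (e q.1).2
        map_add' := fun a b => by simp
        map_smul' := fun r a => by simp
        invFun := fun f => ⟨e.symm (0, f), by simp⟩
        left_inv := fun q => by
          have h : (e q.1).1 = 0 := q.2
          apply Subtype.ext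
          simp only
          rw [← h, Prod.mk.eta, LinearEquiv.symm_apply_apply]
        right_inv := fun f => by simp }

section Cancel

variable {M M' : Type v} [AddCommGroup M] [Module R M] [AddCommGroup M'] [Module R M']

/-- an equivalence `M × R ≃ M' × R` fixing `(0, 1)` induces `M ≃ M'` -/
theorem nonempty_equiv_of_fix (e : (M × R) ≃ₗ[R] (M' × R)) (he : e (0, 1) = (0, 1)) :
    Nonempty (M ≃ₗ[R] M') := by
  have he' : e.symm (0, 1) = (0, 1) := by
    rw [← he, LinearEquiv.symm_apply_apply]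
  have key : ∀ {A B : Type v} [AddCommGroup A] [Module R A] [AddCommGroup B] [Module R B]
      (f : (A × R) ≃ₗ[R] (B × R)) (hf : f (0, 1) = (0, 1)) (x : A),
      (f.symm ((f (x, 0)).1, 0)).1 = x := by
    intro A B _ _ _ _ f hf x
    have h1 : ((f (x, 0)).1, (0 : R)) = f (x, 0) - (f (x, 0)).2 • f (0, 1) := by
      rw [hf]
      ext <;> simp
    rw [h1, ← map_smul, ← map_sub, LinearEquiv.symm_apply_apply]
    simp
  refine ⟨LinearEquiv.ofLinearMap
    ((LinearMap.fst R M' R).comp (e.toLinearMap.comp (LinearMap.inl R M R)))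
    ((LinearMap.fst R M R).comp (e.symm.toLinearMap.comp (LinearMap.inl R M' R))) ?_ ?_⟩
  · ext y
    have := key e.symm (by simpa using he') y
    simpa using this
  · ext x
    have := key e he x
    simpa using this

/-- cancellation of one free summand -/
theorem cancel_one [IsNoetherianRing R] (d : ℕ) (hdim : ringKrullDim R ≤ d)
    [Module.Finite R M] [Module.Projective R M]
    (n : ℕ) (hrk : ∀ p : PrimeSpectrum R, Module.rankAtStalk M p = n) (hnd : d < n)
    (e : (M × R) ≃ₗ[R] (M' × R)) : Nonempty (M ≃ₗ[R] M') := by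
  set pa := e.symm (0, 1) with hpa
  set ψ : M × R →ₗ[R] R := (LinearMap.snd R M' R).comp e.toLinearMap with hψ
  have hψpa : ψ pa = 1 := by simp [hψ, hpa]
  have h1 : (ψ.comp (LinearMap.inl R M R)) pa.1 + ψ (0, 1) * pa.2 = 1 := by
    have hdec : pa = (pa.1, 0) + pa.2 • ((0 : M), (1 : R)) := by ext <;> simp
    have h2 : ψ pa = ψ (pa.1, 0) + pa.2 * ψ (0, 1) := by
      conv_lhs => rw [hdec]
      rw [map_add, map_smul, smul_eq_mul]
    rw [hψpa] at h2
    calc (ψ.comp (LinearMap.inl R M R)) pa.1 + ψ (0, 1) * pa.2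
        = ψ (pa.1, 0) + pa.2 * ψ (0, 1) := by
          rw [mul_comm]
          rfl
      _ = 1 := h2.symm
  obtain ⟨y, χ, hχ⟩ := exists_unimodular_add d hdim M n hrk hnd pa.1 pa.2 _ _ h1
  set s := pa.1 + pa.2 • y with hs
  -- the three shears
  let τ₁ : (M × R) ≃ₗ[R] (M × R) := (LinearEquiv.prodComm R M R) ≪≫ₗ
    (LinearEquiv.skewProd (LinearEquiv.refl R R) (LinearEquiv.refl R M)
      (LinearMap.toSpanSingleton R M y)) ≪≫ₗ (LinearEquiv.prodComm R R M)
  let τ₂ : (M × R) ≃ₗ[R] (M × R) :=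
    LinearEquiv.skewProd (LinearEquiv.refl R M) (LinearEquiv.refl R R) ((1 - pa.2) • χ)
  let τ₃ : (M × R) ≃ₗ[R] (M × R) := (LinearEquiv.prodComm R M R) ≪≫ₗ
    (LinearEquiv.skewProd (LinearEquiv.refl R R) (LinearEquiv.refl R M)
      (LinearMap.toSpanSingleton R M (-s))) ≪≫ₗ (LinearEquiv.prodComm R R M)
  have hτ₁ : τ₁ pa = (s, pa.2) := by
    simp [τ₁, hs]
  have hτ₂ : τ₂ (s, pa.2) = (s, 1) := by
    simp [τ₂, hχ]
  have hτ₃ : τ₃ (s, 1) = (0, 1) := by
    simp [τ₃]
  let σ := τ₁ ≪≫ₗ τ₂ ≪≫ₗ τ₃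
  have hσ : σ pa = (0, 1) := by
    simp only [σ, LinearEquiv.trans_apply, hτ₁, hτ₂, hτ₃]
  refine nonempty_equiv_of_fix (σ.symm ≪≫ₗ e) ?_
  rw [LinearEquiv.trans_apply, ← hσ, LinearEquiv.symm_apply_apply, hpa,
    LinearEquiv.apply_symm_apply]

end Cancel

/-- **Bass's cancellation theorem** -/
theorem cancel [IsNoetherianRing R] [Nontrivial R] (d : ℕ) (hdim : ringKrullDim R ≤ d) (m : ℕ) :
    ∀ (P P' : Type v) [AddCommGroup P] [Module R P] [Module.Finite R P] [Module.Projective R P]
    [AddCommGroup P'] [Module R P'] (n : ℕ)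
    (_ : ∀ p : PrimeSpectrum R, Module.rankAtStalk P p = n) (_ : d < n)
    (_ : (P × (Fin m → R)) ≃ₗ[R] (P' × (Fin m → R))), Nonempty (P ≃ₗ[R] P') := by
  induction m with
  | zero =>
    intro P P' _ _ _ _ _ _ n _ _ e
    exact ⟨(LinearEquiv.prodUnique).symm ≪≫ₗ e ≪≫ₗ LinearEquiv.prodUnique⟩
  | succ m ih =>
    intro P P' _ _ _ _ _ _ n hrk hnd e
    -- regroup
    let ρ : ∀ (A : Type v) [AddCommGroup A] [Module R A],
        (A × (Fin (m + 1) → R)) ≃ₗ[R] ((A × (Fin m → R)) × R) := fun A _ _ =>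
      (LinearEquiv.prodCongr (LinearEquiv.refl R A)
        ((Fin.consLinearEquiv R (fun _ : Fin (m + 1) => R)).symm ≪≫ₗ
          LinearEquiv.prodComm R R (Fin m → R))) ≪≫ₗ
      (LinearEquiv.prodAssoc R A (Fin m → R) R).symm
    have hrk' : ∀ p : PrimeSpectrum R, Module.rankAtStalk (P × (Fin m → R)) p = n + m := by
      intro p
      rw [Module.rankAtStalk_prod]
      simp [hrk p]
    obtain ⟨e₁⟩ := cancel_one d hdim (n + m) hrk' (by omega)
      ((ρ P).symm ≪≫ₗ e ≪≫ₗ ρ P')
    exact ih P P' n hrk hnd e₁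

end Groth.Agent.Helper6.BasicElt
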