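import Mathlib
import Groth.Agent.Helper6.Serre5

/-!
# Powers of stably isomorphic projective modules
-/

set_option autoImplicit false
universe u v

namespace Groth.Agent.Helper6.BasicElt

open Module

variable {R : Type u} [CommRing R]

theorem projective_pi_fin (N : ℕ) (P : Type v) [AddCommGroup P] [Module R P]
    [Module.Projective R P] : Module.Projective R (Fin N → P) :=
  Module.Projective.of_equiv (DFinsupp.linearEquivFunOnFintype (R := R) (M := fun _ : Fin N => P))

theorem rankAtStalk_pi_fin (N : ℕ) (P : Type v) [AddCommGroup P] [Module R P]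
    [Module.Finite R P] [Module.Projective R P] (n : ℕ)
    (hrk : ∀ p : PrimeSpectrum R, Module.rankAtStalk P p = n) (p : PrimeSpectrum R) :
    Module.rankAtStalk (Fin N → P) p = N * n := by
  rw [Module.rankAtStalk_pi, finsum_eq_sum_of_fintype]
  simp [hrk p]

theorem nonempty_pi_prod_equiv {P Q F : Type*} [AddCommGroup P] [Module R P] [AddCommGroup Q]
    [Module R Q] [AddCommGroup F] [Module R F] (e : (P × F) ≃ₗ[R] (Q × F)) (N : ℕ) :
    Nonempty (((Fin N → P) × F) ≃ₗ[R] ((Fin N → Q) × F)) := by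
  induction N with
  | zero => exact ⟨LinearEquiv.uniqueProd ≪≫ₗ (LinearEquiv.uniqueProd).symm⟩
  | succ N ih =>
    obtain ⟨e'⟩ := ih
    refine ⟨?_⟩
    exact
      (LinearEquiv.prodCongr (Fin.consLinearEquiv R (fun _ : Fin (N + 1) => P)).symm
        (LinearEquiv.refl R F)) ≪≫ₗ
      (LinearEquiv.prodAssoc R P (Fin N → P) F) ≪≫ₗ
      (LinearEquiv.prodCongr (LinearEquiv.refl R P) e') ≪≫ₗ
      (LinearEquiv.prodAssoc R P (Fin N → Q) F).symm ≪≫ₗ
      (LinearEquiv.prodCongr (LinearEquiv.prodComm R P (Fin N → Q)) (LinearEquiv.refl R F)) ≪≫ₗ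
      (LinearEquiv.prodAssoc R (Fin N → Q) P F) ≪≫ₗ
      (LinearEquiv.prodCongr (LinearEquiv.refl R (Fin N → Q)) e) ≪≫ₗ
      (LinearEquiv.prodAssoc R (Fin N → Q) Q F).symm ≪≫ₗ
      (LinearEquiv.prodCongr ((LinearEquiv.prodComm R (Fin N → Q) Q) ≪≫ₗ
        Fin.consLinearEquiv R (fun _ : Fin (N + 1) => Q)) (LinearEquiv.refl R F))

end Groth.Agent.Helper6.BasicElt
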