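import Mathlib

/-!
# A Serre functor on a Hom-finite linear triangulated category is exact (Bondal–Kapranov)
-/

set_option autoImplicit false
set_option linter.style.haveILetI false
set_option linter.unusedSectionVars false

universe w v u
open CategoryTheory CategoryTheory.Limits CategoryTheory.Pretriangulated

namespace Groth.Agent.Helper6.SerreTri

section LA

variable {k : Type*} [Field k] {U V : Type*} [AddCommGroup U] [Module k U] [AddCommGroup V]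
  [Module k V]

/-- a functional prescribed on the image of a linear map, compatibly with the kernel, exists -/
lemma exists_functional (γ : U →ₗ[k] V) (φ : U →ₗ[k] k) (h : ∀ u, γ u = 0 → φ u = 0) :
    ∃ D : V →ₗ[k] k, ∀ u, D (γ u) = φ u := by
  have hker : LinearMap.ker γ ≤ LinearMap.ker φ := fun u hu =>
    LinearMap.mem_ker.mpr (h u (LinearMap.mem_ker.mp hu))
  obtain ⟨D, hD⟩ := LinearMap.exists_extend
    (((LinearMap.ker γ).liftQ φ hker).comp γ.quotKerEquivRange.symm.toLinearMap)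
  refine ⟨D, fun u => ?_⟩
  have h1 := congrArg (fun ψ => ψ ⟨γ u, LinearMap.mem_range_self γ u⟩) hD
  simp only [LinearMap.comp_apply, Submodule.subtype_apply, LinearEquiv.coe_coe] at h1
  rw [h1, LinearMap.quotKerEquivRange_symm_apply_image]
  exact Submodule.liftQ_apply _ _ _

end LA

variable {k : Type w} [Field k]
  {T : Type u} [Category.{v} T] [Preadditive T] [Linear k T]
  (F : T ⥤ T)
  (c : ∀ X Y : T, (X ⟶ Y) ≃ₗ[k] Module.Dual k (Y ⟶ F.obj X))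

/-- the trace `Hom(X, F X) → k` -/
def tr (X : T) : (X ⟶ F.obj X) →ₗ[k] k := c X X (𝟙 X)

section Basic

variable (hc₁ : ∀ (X Y Y' : T) (f : X ⟶ Y) (g : Y ⟶ Y'),
    c X Y' (f ≫ g) = (c X Y f) ∘ₗ Linear.leftComp k (F.obj X) g)
  (hc₂ : ∀ (X' X Y : T) (a : X' ⟶ X) (f : X ⟶ Y),
    c X' Y (a ≫ f) = (c X Y f) ∘ₗ Linear.rightComp k Y (F.map a))

include hc₁ in
lemma c_apply {X Y : T} (f : X ⟶ Y) (p : Y ⟶ F.obj X) : c X Y f p = tr F c X (f ≫ p) := by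
  have h := hc₁ X X Y (𝟙 X) f
  rw [Category.id_comp] at h
  rw [h]
  rfl

include hc₂ in
lemma c_apply' {X Y : T} (f : X ⟶ Y) (p : Y ⟶ F.obj X) :
    c X Y f p = tr F c Y (p ≫ F.map f) := by
  have h := hc₂ X Y Y f (𝟙 Y)
  rw [Category.comp_id] at h
  rw [h]
  rfl

include hc₁ hc₂ in
lemma tr_comm {X Y : T} (f : X ⟶ Y) (p : Y ⟶ F.obj X) :
    tr F c X (f ≫ p) = tr F c Y (p ≫ F.map f) :=
  (c_apply F c hc₁ f p).symm.trans (c_apply' F c hc₂ f p)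

include hc₁ in
/-- maps into `F X` are detected by the trace pairing -/
lemma eq_of_tr {X W : T} (p p' : W ⟶ F.obj X)
    (h : ∀ f : X ⟶ W, tr F c X (f ≫ p) = tr F c X (f ≫ p')) : p = p' := by
  have h1 : ∀ φ : Module.Dual k (W ⟶ F.obj X), φ (p - p') = 0 := by
    intro φ
    obtain ⟨f, rfl⟩ := (c X W).surjective φ
    rw [map_sub, c_apply F c hc₁, c_apply F c hc₁, h f, sub_self]
  exact sub_eq_zero.mp ((Module.forall_dual_apply_eq_zero_iff k _).mp h1)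

variable [∀ X Y : T, Module.Finite k (X ⟶ Y)]

include hc₁ in
/-- every functional on `Hom(X, W)` is a trace pairing -/
lemma exists_of_functional {X W : T} (Z : (X ⟶ W) →ₗ[k] k) :
    ∃ z : W ⟶ F.obj X, ∀ f : X ⟶ W, tr F c X (f ≫ z) = Z f := by
  let Φ : (W ⟶ F.obj X) →ₗ[k] Module.Dual k (X ⟶ W) := (c X W).toLinearMap.flip
  have hΦ : ∀ z f, Φ z f = c X W f z := fun z f => rfl
  have hinj : Function.Injective Φ := by
    intro z z' h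
    refine eq_of_tr F c hc₁ z z' (fun f => ?_)
    have h2 := congrArg (fun ψ => ψ f) h
    rw [← c_apply F c hc₁, ← c_apply F c hc₁]
    exact h2
  have hfr : Module.finrank k (W ⟶ F.obj X) = Module.finrank k (Module.Dual k (X ⟶ W)) := by
    rw [Subspace.dual_finrank_eq, LinearEquiv.finrank_eq (c X W), Subspace.dual_finrank_eq]
  obtain ⟨z, hz⟩ := (LinearMap.injective_iff_surjective_of_finrank_eq_finrank hfr).mp hinj Z
  refine ⟨z, fun f => ?_⟩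
  rw [← c_apply F c hc₁]
  exact congrArg (fun ψ => ψ f) hz

include hc₁ hc₂ in
/-- dual exactness: lifting along `F m` -/
lemma exists_lift {P Q W : T} (m : P ⟶ Q) (y : W ⟶ F.obj Q)
    (h : ∀ u : Q ⟶ W, m ≫ u = 0 → tr F c Q (u ≫ y) = 0) :
    ∃ z : W ⟶ F.obj P, z ≫ F.map m = y := by
  obtain ⟨Z, hZ⟩ := exists_functional (Linear.leftComp k W m)
    ((tr F c Q) ∘ₗ Linear.rightComp k Q y) (fun u hu => h u hu)
  obtain ⟨z, hz⟩ := exists_of_functional F c hc₁ Z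
  refine ⟨z, eq_of_tr F c hc₁ _ _ (fun u => ?_)⟩
  have h1 : tr F c Q (u ≫ z ≫ F.map m) = tr F c P (m ≫ u ≫ z) := by
    rw [← Category.assoc u z, ← tr_comm F c hc₁ hc₂ m (u ≫ z)]
  rw [h1, ← Category.assoc, hz]
  exact hZ u

end Basic

section Shift

variable [HasZeroObject T] [HasShift T ℤ]
  [∀ n : ℤ, (shiftFunctor T n).Additive] [∀ n : ℤ, (shiftFunctor T n).Linear k] [Pretriangulated T]
  [∀ X Y : T, Module.Finite k (X ⟶ Y)]
  (hc₁ : ∀ (X Y Y' : T) (f : X ⟶ Y) (g : Y ⟶ Y'),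
    c X Y' (f ≫ g) = (c X Y f) ∘ₗ Linear.leftComp k (F.obj X) g)
  (hc₂ : ∀ (X' X Y : T) (a : X' ⟶ X) (f : X ⟶ Y),
    c X' Y (a ≫ f) = (c X Y f) ∘ₗ Linear.rightComp k Y (F.map a))

include hc₁ in
lemma exists_eps (X : T) : ∃ ε : (F.obj X)⟦(1 : ℤ)⟧ ⟶ F.obj (X⟦(1 : ℤ)⟧),
    ∀ v : X ⟶ F.obj X, tr F c (X⟦(1 : ℤ)⟧) (v⟦(1 : ℤ)⟧' ≫ ε) = - tr F c X v := by
  obtain ⟨Z, hZ⟩ := exists_functional
    ((shiftFunctor T (1 : ℤ)).mapLinearMap k (X := X) (Y := F.obj X)) (-(tr F c X))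
    (fun v hv => by
      have : v = 0 :=
        (shiftFunctor T (1 : ℤ)).map_injective (hv.trans (Functor.map_zero _ _ _).symm)
      rw [this, map_zero])
  obtain ⟨ε, hε⟩ := exists_of_functional F c hc₁ Z
  exact ⟨ε, fun v => (hε _).trans (hZ v)⟩

/-- the comparison `Σ F X ⟶ F Σ X` -/
noncomputable def eps (X : T) : (F.obj X)⟦(1 : ℤ)⟧ ⟶ F.obj (X⟦(1 : ℤ)⟧) :=
  (exists_eps F c hc₁ X).choose

lemma eps_spec (X : T) (v : X ⟶ F.obj X) :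
    tr F c (X⟦(1 : ℤ)⟧) (v⟦(1 : ℤ)⟧' ≫ eps F c hc₁ X) = - tr F c X v :=
  (exists_eps F c hc₁ X).choose_spec v

lemma eps_spec' (X W : T) (v : X ⟶ W) (p : W ⟶ F.obj X) :
    tr F c (X⟦(1 : ℤ)⟧) (v⟦(1 : ℤ)⟧' ≫ p⟦(1 : ℤ)⟧' ≫ eps F c hc₁ X) = - tr F c X (v ≫ p) := by
  rw [← Category.assoc, ← Functor.map_comp]
  exact eps_spec F c hc₁ X _

lemma isIso_eps (X : T) : IsIso (eps F c hc₁ X) := by
  rw [isIso_iff_yoneda_map_bijective]
  intro V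
  obtain ⟨V', ⟨ι⟩⟩ : ∃ V' : T, Nonempty (V'⟦(1 : ℤ)⟧ ≅ V) :=
    ⟨_, ⟨(shiftFunctor T (1 : ℤ)).objObjPreimageIso V⟩⟩
  constructor
  · intro x x' hxx
    have h0 : (x - x') ≫ eps F c hc₁ X = 0 := by
      rw [Preadditive.sub_comp]
      exact sub_eq_zero.mpr hxx
    obtain ⟨p, hp⟩ : ∃ p : V' ⟶ F.obj X, p⟦(1 : ℤ)⟧' = ι.hom ≫ (x - x') :=
      ⟨(shiftFunctor T (1 : ℤ)).preimage _, Functor.map_preimage _ _⟩
    have hp0 : p = 0 := by
      refine eq_of_tr F c hc₁ p 0 (fun v => ?_)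
      have h1 := eps_spec' F c hc₁ X V' v p
      rw [hp, Category.assoc, h0, comp_zero, comp_zero, map_zero] at h1
      rw [comp_zero, map_zero]
      exact neg_eq_zero.mp h1.symm
    have h2 : ι.hom ≫ (x - x') = 0 := by rw [← hp, hp0, Functor.map_zero]
    have h3 : x - x' = 0 := by
      have h4 := congrArg (fun t => ι.inv ≫ t) h2
      simpa using h4
    exact sub_eq_zero.mp h3
  · intro y
    obtain ⟨p, hp⟩ := exists_of_functional F c hc₁ (X := X) (W := V')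
      (-((tr F c (X⟦(1 : ℤ)⟧)) ∘ₗ (Linear.rightComp k (X⟦(1 : ℤ)⟧) (ι.hom ≫ y)) ∘ₗ
        ((shiftFunctor T (1 : ℤ)).mapLinearMap k)))
    have h1 : p⟦(1 : ℤ)⟧' ≫ eps F c hc₁ X = ι.hom ≫ y := by
      refine eq_of_tr F c hc₁ _ _ (fun u => ?_)
      obtain ⟨v, rfl⟩ : ∃ v : X ⟶ V', v⟦(1 : ℤ)⟧' = u :=
        ⟨(shiftFunctor T (1 : ℤ)).preimage u, Functor.map_preimage _ _⟩
      rw [eps_spec' F c hc₁, hp v]
      show - (- tr F c (X⟦(1 : ℤ)⟧) (v⟦(1 : ℤ)⟧' ≫ ι.hom ≫ y)) = _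
      rw [neg_neg]
    refine ⟨ι.inv ≫ p⟦(1 : ℤ)⟧', ?_⟩
    show (ι.inv ≫ p⟦(1 : ℤ)⟧') ≫ eps F c hc₁ X = y
    rw [Category.assoc, h1, Iso.inv_hom_id_assoc]

include hc₂ in
lemma eps_naturality {X X' : T} (a : X ⟶ X') :
    (F.map a)⟦(1 : ℤ)⟧' ≫ eps F c hc₁ X' = eps F c hc₁ X ≫ F.map (a⟦(1 : ℤ)⟧') := by
  refine eq_of_tr F c hc₁ _ _ (fun u => ?_)
  obtain ⟨v, rfl⟩ : ∃ v : X' ⟶ F.obj X, v⟦(1 : ℤ)⟧' = u :=
    ⟨(shiftFunctor T (1 : ℤ)).preimage u, Functor.map_preimage _ _⟩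
  rw [eps_spec' F c hc₁, ← tr_comm F c hc₁ hc₂ a v]
  have h1 : tr F c (X'⟦(1 : ℤ)⟧) (v⟦(1 : ℤ)⟧' ≫ eps F c hc₁ X ≫ F.map (a⟦(1 : ℤ)⟧')) =
      tr F c (X⟦(1 : ℤ)⟧) (a⟦(1 : ℤ)⟧' ≫ v⟦(1 : ℤ)⟧' ≫ eps F c hc₁ X) := by
    rw [← Category.assoc (v⟦(1 : ℤ)⟧'), ← tr_comm F c hc₁ hc₂]
  rw [h1, ← Category.assoc, ← Functor.map_comp]
  exact (eps_spec F c hc₁ X _).symm

/-- the commutation isomorphism of the Serre functor with the shift -/
noncomputable def eIso : shiftFunctor T (1 : ℤ) ⋙ F ≅ F ⋙ shiftFunctor T (1 : ℤ) :=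
  haveI := isIso_eps F c hc₁
  NatIso.ofComponents (fun X => (asIso (eps F c hc₁ X)).symm) (by
    intro X X' a
    show F.map (a⟦(1 : ℤ)⟧') ≫ inv (eps F c hc₁ X') = inv (eps F c hc₁ X) ≫ (F.map a)⟦(1 : ℤ)⟧'
    rw [IsIso.comp_inv_eq, Category.assoc, IsIso.eq_inv_comp]
    exact (eps_naturality F c hc₁ hc₂ a).symm)

lemma eIso_hom_app (X : T) :
    (eIso F c hc₁ hc₂).hom.app X = haveI := isIso_eps F c hc₁ X; inv (eps F c hc₁ X) := rfl

end Shift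

end Groth.Agent.Helper6.SerreTri
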