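import Mathlib
import Groth.Agent.Helper6.SerreTri1

/-!
# A Serre functor is exact: distinguished triangles
-/

set_option autoImplicit false
set_option linter.style.haveILetI false
set_option linter.unusedSectionVars false

universe w v u
open CategoryTheory CategoryTheory.Limits CategoryTheory.Pretriangulated

namespace Groth.Agent.Helper6.SerreTri

variable {k : Type w} [Field k]
  {T : Type u} [Category.{v} T] [Preadditive T] [Linear k T]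
  (F : T ⥤ T) [F.Additive]
  (c : ∀ X Y : T, (X ⟶ Y) ≃ₗ[k] Module.Dual k (Y ⟶ F.obj X))
  [HasZeroObject T] [HasShift T ℤ]
  [∀ n : ℤ, (shiftFunctor T n).Additive] [∀ n : ℤ, (shiftFunctor T n).Linear k] [Pretriangulated T]
  [∀ X Y : T, Module.Finite k (X ⟶ Y)]
  (hc₁ : ∀ (X Y Y' : T) (f : X ⟶ Y) (g : Y ⟶ Y'),
    c X Y' (f ≫ g) = (c X Y f) ∘ₗ Linear.leftComp k (F.obj X) g)
  (hc₂ : ∀ (X' X Y : T) (a : X' ⟶ X) (f : X ⟶ Y),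
    c X' Y (a ≫ f) = (c X Y f) ∘ₗ Linear.rightComp k Y (F.map a))

section

variable (T' : Triangle T) (hT' : T' ∈ distTriang T) {X : T} (g' : F.obj T'.obj₂ ⟶ X)
  (h' : X ⟶ (F.obj T'.obj₁)⟦(1 : ℤ)⟧)
  (hX : Triangle.mk (F.map T'.mor₁) g' h' ∈ distTriang T)

include hc₂ hT' hX in
lemma star (p : T'.obj₃ ⟶ F.obj T'.obj₂) (q : T'.obj₁⟦(1 : ℤ)⟧ ⟶ X)
    (hpq : p ≫ g' = T'.mor₃ ≫ q) :
    tr F c T'.obj₂ (T'.mor₂ ≫ p) =
      tr F c (T'.obj₁⟦(1 : ℤ)⟧) (q ≫ h' ≫ eps F c hc₁ T'.obj₁) := by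
  obtain ⟨r, hr1, hr2⟩ : ∃ r : T'.obj₂⟦(1 : ℤ)⟧ ⟶ (F.obj T'.obj₁)⟦(1 : ℤ)⟧,
      (-(T'.mor₁⟦(1 : ℤ)⟧')) ≫ r = q ≫ h' ∧
      (-(T'.mor₂⟦(1 : ℤ)⟧')) ≫ p⟦(1 : ℤ)⟧' = r ≫ (-((F.map T'.mor₁)⟦(1 : ℤ)⟧')) :=
    complete_distinguished_triangle_morphism _ _
      (rot_of_distTriang _ (rot_of_distTriang _ hT')) (rot_of_distTriang _ hX) p q hpq.symm
  obtain ⟨r₀, rfl⟩ : ∃ r₀ : T'.obj₂ ⟶ F.obj T'.obj₁, r₀⟦(1 : ℤ)⟧' = r :=
    ⟨(shiftFunctor T (1 : ℤ)).preimage r, Functor.map_preimage _ _⟩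
  have e1 : T'.mor₂ ≫ p = r₀ ≫ F.map T'.mor₁ := by
    apply (shiftFunctor T (1 : ℤ)).map_injective
    rw [Functor.map_comp, Functor.map_comp]
    rw [Preadditive.neg_comp, Preadditive.comp_neg, neg_inj] at hr2
    exact hr2
  have e2 : q ≫ h' = -((T'.mor₁ ≫ r₀)⟦(1 : ℤ)⟧') := by
    rw [Functor.map_comp, ← hr1, Preadditive.neg_comp]
  rw [e1, ← tr_comm F c hc₁ hc₂ T'.mor₁ r₀, ← Category.assoc, e2, Preadditive.neg_comp, map_neg,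
    eps_spec, neg_neg]

include hc₂ hT' hX in
lemma exists_delta : ∃ δ : X ⟶ F.obj T'.obj₃, g' ≫ δ = F.map T'.mor₂ ∧
    δ ≫ F.map T'.mor₃ = h' ≫ eps F c hc₁ T'.obj₁ := by
  obtain ⟨D, hD⟩ := exists_functional
    (((Linear.rightComp k T'.obj₃ g').coprod (-(Linear.leftComp k X T'.mor₃))) :
      ((T'.obj₃ ⟶ F.obj T'.obj₂) × (T'.obj₁⟦(1 : ℤ)⟧ ⟶ X)) →ₗ[k] (T'.obj₃ ⟶ X))
    (((tr F c T'.obj₂) ∘ₗ Linear.leftComp k (F.obj T'.obj₂) T'.mor₂).coprod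
      (-((tr F c (T'.obj₁⟦(1 : ℤ)⟧)) ∘ₗ
        Linear.rightComp k (T'.obj₁⟦(1 : ℤ)⟧) (h' ≫ eps F c hc₁ T'.obj₁))))
    (by
      rintro ⟨p, q⟩ hpq
      have hpq' : p ≫ g' + -(T'.mor₃ ≫ q) = 0 := hpq
      have hpq'' : p ≫ g' = T'.mor₃ ≫ q := by
        rw [← sub_eq_add_neg, sub_eq_zero] at hpq'
        exact hpq'
      show tr F c T'.obj₂ (T'.mor₂ ≫ p) +
        -(tr F c (T'.obj₁⟦(1 : ℤ)⟧) (q ≫ h' ≫ eps F c hc₁ T'.obj₁)) = 0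
      rw [star F c hc₁ hc₂ T' hT' g' h' hX p q hpq'']
      exact add_neg_cancel _)
  have hD1 : ∀ p : T'.obj₃ ⟶ F.obj T'.obj₂, D (p ≫ g') = tr F c T'.obj₂ (T'.mor₂ ≫ p) := by
    intro p
    have h1 := hD (p, 0)
    have h2 : D (p ≫ g' + -(T'.mor₃ ≫ (0 : T'.obj₁⟦(1 : ℤ)⟧ ⟶ X))) =
        tr F c T'.obj₂ (T'.mor₂ ≫ p) +
          -(tr F c (T'.obj₁⟦(1 : ℤ)⟧) ((0 : T'.obj₁⟦(1 : ℤ)⟧ ⟶ X) ≫ h' ≫ eps F c hc₁ T'.obj₁)) :=
      h1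
    rw [comp_zero, neg_zero, add_zero, zero_comp, map_zero, neg_zero, add_zero] at h2
    exact h2
  have hD2 : ∀ q : T'.obj₁⟦(1 : ℤ)⟧ ⟶ X, D (T'.mor₃ ≫ q) =
      tr F c (T'.obj₁⟦(1 : ℤ)⟧) (q ≫ h' ≫ eps F c hc₁ T'.obj₁) := by
    intro q
    have h1 := hD (0, q)
    have h2 : D ((0 : T'.obj₃ ⟶ F.obj T'.obj₂) ≫ g' + -(T'.mor₃ ≫ q)) =
        tr F c T'.obj₂ (T'.mor₂ ≫ (0 : T'.obj₃ ⟶ F.obj T'.obj₂)) +
          -(tr F c (T'.obj₁⟦(1 : ℤ)⟧) (q ≫ h' ≫ eps F c hc₁ T'.obj₁)) := h1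
    rw [zero_comp, zero_add, comp_zero, map_zero, zero_add, map_neg, neg_inj] at h2
    exact h2
  obtain ⟨δ, hδ⟩ := exists_of_functional F c hc₁ (X := T'.obj₃) (W := X) D
  refine ⟨δ, eq_of_tr F c hc₁ _ _ (fun p => ?_), eq_of_tr F c hc₁ _ _ (fun q => ?_)⟩
  · rw [← Category.assoc, hδ, hD1, tr_comm F c hc₁ hc₂ T'.mor₂ p]
  · have h1 : tr F c (T'.obj₁⟦(1 : ℤ)⟧) (q ≫ δ ≫ F.map T'.mor₃) =
        tr F c T'.obj₃ (T'.mor₃ ≫ q ≫ δ) := by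
      rw [← Category.assoc q δ, ← tr_comm F c hc₁ hc₂ T'.mor₃ (q ≫ δ)]
    rw [h1, ← Category.assoc, hδ, hD2]

include hc₂ hT' hX in
lemma isIso_delta (δ : X ⟶ F.obj T'.obj₃) (hδ1 : g' ≫ δ = F.map T'.mor₂)
    (hδ2 : δ ≫ F.map T'.mor₃ = h' ≫ eps F c hc₁ T'.obj₁) : IsIso δ := by
  haveI := isIso_eps F c hc₁
  rw [isIso_iff_yoneda_map_bijective]
  intro W
  -- dual exactness
  have EB : ∀ y : W ⟶ F.obj T'.obj₂, y ≫ F.map T'.mor₂ = 0 →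
      ∃ z : W ⟶ F.obj T'.obj₁, z ≫ F.map T'.mor₁ = y := by
    intro y hy
    refine exists_lift F c hc₁ hc₂ T'.mor₁ y (fun u hu => ?_)
    obtain ⟨u', rfl⟩ := Triangle.yoneda_exact₂ T' hT' u hu
    rw [Category.assoc, tr_comm F c hc₁ hc₂ T'.mor₂ (u' ≫ y), Category.assoc, hy, comp_zero,
      map_zero]
  have EC : ∀ y : W ⟶ F.obj T'.obj₃, y ≫ F.map T'.mor₃ = 0 →
      ∃ z : W ⟶ F.obj T'.obj₂, z ≫ F.map T'.mor₂ = y := by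
    intro y hy
    refine exists_lift F c hc₁ hc₂ T'.mor₂ y (fun u hu => ?_)
    obtain ⟨u', rfl⟩ := Triangle.yoneda_exact₃ T' hT' u hu
    rw [Category.assoc, tr_comm F c hc₁ hc₂ T'.mor₃ (u' ≫ y), Category.assoc, hy, comp_zero,
      map_zero]
  constructor
  · intro x x' hxx
    have h0 : (x - x') ≫ δ = 0 := by
      rw [Preadditive.sub_comp]
      exact sub_eq_zero.mpr hxx
    have h1 : (x - x') ≫ h' = 0 := by
      have h2 : ((x - x') ≫ h') ≫ eps F c hc₁ T'.obj₁ = 0 := by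
        rw [Category.assoc, ← hδ2, ← Category.assoc, h0, zero_comp]
      exact (cancel_mono (eps F c hc₁ T'.obj₁)).mp (h2.trans zero_comp.symm)
    obtain ⟨y, hy'⟩ : ∃ y : W ⟶ F.obj T'.obj₂, x - x' = y ≫ g' :=
      Triangle.coyoneda_exact₃ _ hX (x - x') h1
    have h3 : y ≫ F.map T'.mor₂ = 0 := by
      rw [← hδ1, ← Category.assoc, ← hy', h0]
    obtain ⟨z, hz⟩ := EB y h3
    have h4 : F.map T'.mor₁ ≫ g' = 0 := comp_distTriang_mor_zero₁₂ _ hX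
    have h5 : x - x' = 0 := by
      rw [hy', ← hz, Category.assoc, h4, comp_zero]
    exact sub_eq_zero.mp h5
  · intro c'
    -- t := c' ≫ F h ≫ inv ε
    have ht : (c' ≫ F.map T'.mor₃ ≫ inv (eps F c hc₁ T'.obj₁)) ≫ (F.map T'.mor₁)⟦(1 : ℤ)⟧' = 0 := by
      have h2 : ((c' ≫ F.map T'.mor₃ ≫ inv (eps F c hc₁ T'.obj₁)) ≫ (F.map T'.mor₁)⟦(1 : ℤ)⟧') ≫
          eps F c hc₁ T'.obj₂ = 0 := by
        rw [Category.assoc, eps_naturality F c hc₁ hc₂ T'.mor₁, Category.assoc, Category.assoc,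
          IsIso.inv_hom_id_assoc, ← Functor.map_comp, comp_distTriang_mor_zero₃₁ _ hT',
          Functor.map_zero, comp_zero]
      exact (cancel_mono (eps F c hc₁ T'.obj₂)).mp (h2.trans zero_comp.symm)
    obtain ⟨x, hx'⟩ : ∃ x : W ⟶ X,
        c' ≫ F.map T'.mor₃ ≫ inv (eps F c hc₁ T'.obj₁) = x ≫ h' :=
      Triangle.coyoneda_exact₁ _ hX _ ht
    have h3 : (c' - x ≫ δ) ≫ F.map T'.mor₃ = 0 := by
      rw [Preadditive.sub_comp, Category.assoc, hδ2, ← Category.assoc x, ← hx', Category.assoc,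
        Category.assoc, IsIso.inv_hom_id, Category.comp_id, sub_self]
    obtain ⟨y, hy⟩ := EC _ h3
    refine ⟨x + y ≫ g', ?_⟩
    show (x + y ≫ g') ≫ δ = c'
    rw [Preadditive.add_comp, Category.assoc, hδ1, hy]
    abel

include hc₂ hT' in
/-- **Bondal–Kapranov**: the Serre functor sends distinguished triangles to distinguished
triangles. -/
theorem main : Triangle.mk (F.map T'.mor₁) (F.map T'.mor₂)
    (F.map T'.mor₃ ≫ (eIso F c hc₁ hc₂).hom.app T'.obj₁) ∈ distTriang T := by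
  haveI := isIso_eps F c hc₁
  obtain ⟨X, g', h', hX⟩ := distinguished_cocone_triangle (F.map T'.mor₁)
  obtain ⟨δ, hδ1, hδ2⟩ := exists_delta F c hc₁ hc₂ T' hT' g' h' hX
  haveI := isIso_delta F c hc₁ hc₂ T' hT' g' h' hX δ hδ1 hδ2
  refine isomorphic_distinguished _ hX _ (Triangle.isoMk _ _ (Iso.refl _) (Iso.refl _)
    (asIso δ).symm ?_ ?_ ?_)
  · exact (Category.comp_id _).trans (Category.id_comp _).symm
  · show F.map T'.mor₂ ≫ inv δ = 𝟙 _ ≫ g'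
    rw [← hδ1, Category.assoc, IsIso.hom_inv_id, Category.comp_id, Category.id_comp]
  · show (F.map T'.mor₃ ≫ inv (eps F c hc₁ T'.obj₁)) ≫ (𝟙 _)⟦(1 : ℤ)⟧' = inv δ ≫ h'
    rw [CategoryTheory.Functor.map_id, Category.comp_id, IsIso.eq_inv_comp, ← Category.assoc,
      hδ2, Category.assoc, IsIso.hom_inv_id, Category.comp_id]

end

end Groth.Agent.Helper6.SerreTri
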