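import Mathlib

universe u

open CategoryTheory TopologicalSpace Opposite

namespace Groth.Agent.Helper6.ShBasis

section

variable {X Y : TopCat.{u}} (f : X ⟶ Y) (F : X.Sheaf (Type u)) (G : Y.Sheaf (Type u))
  {BX : Set (Opens X)} (hBX : Opens.IsBasis BX) {BY : Set (Opens Y)} (hBY : Opens.IsBasis BY)

/-- restriction for `F` -/
def rF {U' U : Opens X} (h : U' ≤ U) (s : F.presheaf.obj (op U)) : F.presheaf.obj (op U') :=
  F.presheaf.map (homOfLE h).op s

def rG {V' V : Opens Y} (h : V' ≤ V) (s : G.presheaf.obj (op V)) : G.presheaf.obj (op V') :=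
  G.presheaf.map (homOfLE h).op s

lemma rF_rF {U'' U' U : Opens X} (h' : U'' ≤ U') (h : U' ≤ U) (s : F.presheaf.obj (op U)) :
    rF F h' (rF F h s) = rF F (h'.trans h) s := by
  unfold rF
  rw [← Functor.map_comp_apply]
  rfl

lemma rG_rG {V'' V' V : Opens Y} (h' : V'' ≤ V') (h : V' ≤ V) (s : G.presheaf.obj (op V)) :
    rG G h' (rG G h s) = rG G (h'.trans h) s := by
  unfold rG
  rw [← Functor.map_comp_apply]
  rfl

lemma rF_self {U : Opens X} (s : F.presheaf.obj (op U)) : rF F (le_refl U) s = s := by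
  unfold rF
  have : (homOfLE (le_refl U)).op = 𝟙 (op U) := rfl
  rw [this, Functor.map_id_apply]

lemma rG_self {V : Opens Y} (s : G.presheaf.obj (op V)) : rG G (le_refl V) s = s := by
  unfold rG
  have : (homOfLE (le_refl V)).op = 𝟙 (op V) := rfl
  rw [this, Functor.map_id_apply]

lemma map_eq_rF {U' U : Opens X} (g : op U ⟶ op U') (s : F.presheaf.obj (op U)) :
    F.presheaf.map g s = rF F (g.unop.le) s := by
  unfold rF
  have : g = (homOfLE g.unop.le).op := Subsingleton.elim _ _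
  rw [← this]

lemma map_eq_rG {V' V : Opens Y} (g : op V ⟶ op V') (s : G.presheaf.obj (op V)) :
    G.presheaf.map g s = rG G (g.unop.le) s := by
  unfold rG
  have : g = (homOfLE g.unop.le).op := Subsingleton.elim _ _
  rw [← this]

variable (BX BY) in
/-- index of the cover of `f⁻¹ W` -/
structure Idx (W : Opens Y) where
  V : Opens Y
  hV : V ∈ BY
  U : Opens X
  hU : U ∈ BX
  hVW : V ≤ W
  hUV : U ≤ (Opens.map f).obj V

variable
  (φ : ∀ (V : BY) (U : BX), (U : Opens X) ≤ (Opens.map f).obj V →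
      (G.presheaf.obj (op (V : Opens Y)) → F.presheaf.obj (op (U : Opens X))))
  (hφ : ∀ (V V' : BY) (U U' : BX) (hUV : (U : Opens X) ≤ (Opens.map f).obj V)
      (hU'V' : (U' : Opens X) ≤ (Opens.map f).obj V') (hV : (V' : Opens Y) ≤ V) (hU : (U' : Opens X) ≤ U)
      (s : G.presheaf.obj (op (V : Opens Y))),
      F.presheaf.map (homOfLE hU).op (φ V U hUV s) = φ V' U' hU'V' (G.presheaf.map (homOfLE hV).op s))

/-- local section -/
def loc {W : Opens Y} (s : G.presheaf.obj (op W)) (i : Idx f BX BY W) : F.presheaf.obj (op i.U) :=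
  φ ⟨i.V, i.hV⟩ ⟨i.U, i.hU⟩ i.hUV (rG G i.hVW s)

include hφ in
lemma loc_res {W : Opens Y} (s : G.presheaf.obj (op W)) (i k : Idx f BX BY W)
    (hU : k.U ≤ i.U) (hV : k.V ≤ i.V) :
    rF F hU (loc f F G φ s i) = loc f F G φ s k := by
  unfold loc
  have := hφ ⟨i.V, i.hV⟩ ⟨k.V, k.hV⟩ ⟨i.U, i.hU⟩ ⟨k.U, k.hU⟩ i.hUV k.hUV hV hU (rG G i.hVW s)
  have h2 : G.presheaf.map (homOfLE hV).op (rG G i.hVW s) = rG G k.hVW s := rG_rG G hV i.hVW s
  rw [h2] at this
  exact this

lemma idx_le {W : Opens Y} (i : Idx f BX BY W) : i.U ≤ (Opens.map f).obj W :=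
  i.hUV.trans ((Opens.map f).monotone i.hVW)

include hBX hBY in
lemma cover (W : Opens Y) :
    (Opens.map f).obj W ≤ ⨆ i : Idx f BX BY W, i.U := by
  intro x hx
  have hx' : f x ∈ W := hx
  obtain ⟨V, hV, hxV, hVW⟩ := Opens.isBasis_iff_nbhd.mp hBY hx'
  have hx2 : x ∈ (Opens.map f).obj V := hxV
  obtain ⟨U, hU, hxU, hUV⟩ := Opens.isBasis_iff_nbhd.mp hBX hx2
  exact Opens.mem_iSup.mpr ⟨⟨V, hV, U, hU, hVW, hUV⟩, hxU⟩

include hBX hBY hφ in
lemma compat {W : Opens Y} (s : G.presheaf.obj (op W)) :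
    TopCat.Presheaf.IsCompatible F.1 (fun i : Idx f BX BY W => i.U) (loc f F G φ s) := by
  intro i j
  show rF F inf_le_left (loc f F G φ s i) = rF F inf_le_right (loc f F G φ s j)
  refine TopCat.Sheaf.eq_of_locally_eq' F
    (fun k : {k : Idx f BX BY W // k.U ≤ i.U ⊓ j.U ∧ k.V ≤ i.V ⊓ j.V} => k.1.U) (i.U ⊓ j.U)
    (fun k => homOfLE k.2.1) ?_ _ _ ?_
  · intro x hx
    have hxi : f x ∈ i.V := i.hUV hx.1
    have hxj : f x ∈ j.V := j.hUV hx.2
    have hxV : f x ∈ i.V ⊓ j.V := ⟨hxi, hxj⟩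
    obtain ⟨V, hV, hxV', hVle⟩ := Opens.isBasis_iff_nbhd.mp hBY hxV
    have hx2 : x ∈ (i.U ⊓ j.U) ⊓ (Opens.map f).obj V := ⟨hx, hxV'⟩
    obtain ⟨U, hU, hxU, hUle⟩ := Opens.isBasis_iff_nbhd.mp hBX hx2
    exact Opens.mem_iSup.mpr ⟨⟨⟨V, hV, U, hU, (hVle.trans inf_le_left).trans i.hVW,
      hUle.trans inf_le_right⟩, hUle.trans inf_le_left, hVle⟩, hxU⟩
  · rintro ⟨k, hkU, hkV⟩
    show rF F hkU (rF F inf_le_left (loc f F G φ s i)) = rF F hkU (rF F inf_le_right (loc f F G φ s j))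
    rw [rF_rF, rF_rF, loc_res f F G φ hφ s i k (hkU.trans inf_le_left) (hkV.trans inf_le_left),
      loc_res f F G φ hφ s j k (hkU.trans inf_le_right) (hkV.trans inf_le_right)]

include hBX hBY hφ in
lemma glue_exists {W : Opens Y} (s : G.presheaf.obj (op W)) :
    ∃! t : F.presheaf.obj (op ((Opens.map f).obj W)),
      ∀ i : Idx f BX BY W, rF F (idx_le f i) t = loc f F G φ s i := by
  have h := TopCat.Sheaf.existsUnique_gluing' F (fun i : Idx f BX BY W => i.U) ((Opens.map f).obj W)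
    (fun i => homOfLE (idx_le f i)) (cover f hBX hBY W) (loc f F G φ s)
    (compat f F G hBX hBY φ hφ s)
  exact h

/-- the glued section -/
noncomputable def glue {W : Opens Y} (s : G.presheaf.obj (op W)) :
    F.presheaf.obj (op ((Opens.map f).obj W)) :=
  (glue_exists f F G hBX hBY φ hφ s).choose

lemma glue_spec {W : Opens Y} (s : G.presheaf.obj (op W)) (i : Idx f BX BY W) :
    rF F (idx_le f i) (glue f F G hBX hBY φ hφ s) = loc f F G φ s i :=
  (glue_exists f F G hBX hBY φ hφ s).choose_spec.1 i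

lemma glue_uniq {W : Opens Y} (s : G.presheaf.obj (op W))
    (t : F.presheaf.obj (op ((Opens.map f).obj W)))
    (ht : ∀ i : Idx f BX BY W, rF F (idx_le f i) t = loc f F G φ s i) :
    t = glue f F G hBX hBY φ hφ s :=
  (glue_exists f F G hBX hBY φ hφ s).choose_spec.2 t ht

lemma glue_res {W' W : Opens Y} (h : W' ≤ W) (s : G.presheaf.obj (op W)) :
    rF F ((Opens.map f).monotone h) (glue f F G hBX hBY φ hφ s) =
      glue f F G hBX hBY φ hφ (rG G h s) := by
  apply glue_uniq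
  intro i
  rw [rF_rF]
  let i' : Idx f BX BY W := ⟨i.V, i.hV, i.U, i.hU, i.hVW.trans h, i.hUV⟩
  have := glue_spec f F G hBX hBY φ hφ s i'
  rw [this]
  unfold loc
  rw [rG_rG]

/-- the morphism -/
noncomputable def psi : G ⟶ (TopCat.Sheaf.pushforward (Type u) f).obj F :=
  ⟨{ app := fun W => TypeCat.ofHom (fun s => glue f F G hBX hBY φ hφ (W := W.unop) s)
     naturality := by
       intro A B g
       apply ConcreteCategory.hom_ext
       intro s
       have hle : B.unop ≤ A.unop := g.unop.le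
       have h1 : G.presheaf.map g s = rG G hle s := by
         have : g = (homOfLE hle).op := Subsingleton.elim _ _
         rw [this]; rfl
       show glue f F G hBX hBY φ hφ (G.presheaf.map g s) =
         F.presheaf.map ((Opens.map f).op.map g) (glue f F G hBX hBY φ hφ s)
       have h2 : (Opens.map f).op.map g = (homOfLE ((Opens.map f).monotone hle)).op :=
         Subsingleton.elim _ _
       rw [h1, h2]
       exact (glue_res f F G hBX hBY φ hφ hle s).symm }⟩

lemma psi_app {W : Opens Y} (s : G.presheaf.obj (op W)) :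
    (psi f F G hBX hBY φ hφ).1.app (op W) s = glue f F G hBX hBY φ hφ s := rfl

include hBX hBY hφ in
theorem main :
    ∃! ψ : G ⟶ (TopCat.Sheaf.pushforward (Type u) f).obj F,
      ∀ (V : BY) (U : BX) (hUV : (U : Opens X) ≤ (Opens.map f).obj V) (s : G.presheaf.obj (op (V : Opens Y))),
        F.presheaf.map (homOfLE hUV).op (ψ.1.app (op (V : Opens Y)) s) = φ V U hUV s := by
  refine ⟨psi f F G hBX hBY φ hφ, ?_, ?_⟩
  · intro V U hUV s
    rw [psi_app]
    let i : Idx f BX BY (V : Opens Y) := ⟨V.1, V.2, U.1, U.2, le_rfl, hUV⟩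
    have := glue_spec f F G hBX hBY φ hφ s i
    unfold loc at this
    rw [rG_self] at this
    exact this
  · intro ψ' hψ'
    apply Sheaf.hom_ext
    apply NatTrans.ext
    funext W
    apply ConcreteCategory.hom_ext
    intro s
    induction W using Opposite.rec with
    | _ W =>
    rw [psi_app]
    apply glue_uniq
    intro i
    have h1 := hψ' ⟨i.V, i.hV⟩ ⟨i.U, i.hU⟩ i.hUV (rG G i.hVW s)
    have h2 : ψ'.1.app (op i.V) (rG G i.hVW s) =
        rF F ((Opens.map f).monotone i.hVW) (ψ'.1.app (op W) s) := by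
      have := NatTrans.naturality_apply ψ'.1 (homOfLE i.hVW).op s
      exact this
    unfold loc
    rw [← h1]
    show _ = rF F i.hUV (ψ'.1.app (op i.V) (rG G i.hVW s))
    rw [h2]
    exact (rF_rF F _ _ _).symm

end

end Groth.Agent.Helper6.ShBasis
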