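import Mathlib
import Groth.Prelude.Def_DualSh
import Groth.Agent.S1782
import Groth.Agent.S1784
import Groth.Agent.S1799
import Groth.Agent.Helper9.RD4
import Groth.Agent.Helper6.HasLBC
import Groth.Agent.Helper6.Coext4
import Groth.Agent.Helper6.GorFib1
import Groth.Agent.Helper6.LD6

/-!
# The upper shriek of a normalized dualizing complex is normalized at closed points of the
closed fibre
-/

set_option autoImplicit false
set_option linter.style.haveILetI false
set_option linter.unusedSectionVars false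

universe u
open CategoryTheory CategoryTheory.Limits Pretriangulated DerivedCategory TensorProduct
attribute [local instance] HasDerivedCategory.standard

namespace Groth.Agent.Helper6.ShrNorm
open Groth.Agent.Helper3.DRingLib Groth.Agent.Helper6.DK Groth.Agent.Helper6.LocExt
  Groth.Agent.Helper6.LD IsLocalRing Groth.Agent.Helper6 Groth.Agent.Helper9

/-- the residue field at a closed point of the closed fibre is finite over the base -/
theorem finite_quot (R A : Type u) [CommRing R] [CommRing A] [IsLocalRing R] [Algebra R A]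
    [Algebra.FiniteType R A] (m : Ideal A) [m.IsMaximal]
    (hm : m.comap (algebraMap R A) = maximalIdeal R) : Module.Finite R (A ⧸ m) := by
  letI : Field (A ⧸ m) := Ideal.Quotient.field m
  have h0 : ∀ a ∈ maximalIdeal R, algebraMap R (A ⧸ m) a = 0 := by
    intro a ha
    rw [← hm] at ha
    rw [IsScalarTower.algebraMap_apply R A (A ⧸ m)]
    exact Ideal.Quotient.eq_zero_iff_mem.mpr ha
  let σ : ResidueField R →+* (A ⧸ m) :=
    Ideal.Quotient.lift (maximalIdeal R) (algebraMap R (A ⧸ m)) h0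
  letI : Algebra (ResidueField R) (A ⧸ m) := σ.toAlgebra
  haveI : IsScalarTower R (ResidueField R) (A ⧸ m) :=
    IsScalarTower.of_algebraMap_eq (fun r => rfl)
  haveI : Algebra.FiniteType R (A ⧸ m) :=
    Algebra.FiniteType.of_surjective (IsScalarTower.toAlgHom R A (A ⧸ m))
      Ideal.Quotient.mk_surjective
  haveI : Algebra.FiniteType (ResidueField R) (A ⧸ m) :=
    Algebra.FiniteType.of_restrictScalars_finiteType R (ResidueField R) (A ⧸ m)
  haveI : Module.Finite (ResidueField R) (A ⧸ m) :=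
    finite_of_finite_type_of_isJacobsonRing (ResidueField R) (A ⧸ m)
  haveI : Module.Finite R (ResidueField R) :=
    Module.Finite.of_surjective (Algebra.linearMap R (ResidueField R)) residue_surjective
  exact Module.Finite.trans (ResidueField R) (A ⧸ m)

variable (R A : Type u) [CommRing R] [CommRing A] [IsNoetherianRing R] [IsNoetherianRing A]
  [Algebra R A] (n : ℕ) (ψ : MvPolynomial (Fin n) R →ₐ[R] A) (hψ : Function.Surjective ψ)
  [DRing.HasLBaseChange (algebraMap R (MvPolynomial (Fin n) R))]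
  (Rψ : Dual.D (MvPolynomial (Fin n) R) ⥤ Dual.D A) (adj : DRing.restrictD ψ.toRingHom ⊣ Rψ)
  [IsLocalRing R] (m : Ideal A) [m.IsMaximal]
  (hm : m.comap (algebraMap R A) = IsLocalRing.maximalIdeal R)
  (ω : Dual.D R) (hω : Dual.IsDualizing R ω) (hn : Dual.IsNormalized R ω)

include hψ adj hm hω hn in
theorem subsingleton_residue_shriek (i : ℤ) (hi : i ≠ 0) :
    Subsingleton (Dual.inD A (A ⧸ m) ⟶ (Dual2.shriekVia n Rψ ω)⟦i⟧) := by
  letI : Field (A ⧸ m) := Ideal.Quotient.field m
  haveI : Algebra.FiniteType R A := Algebra.FiniteType.of_surjective ψ hψ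
  haveI hfin : Module.Finite R (A ⧸ m) := finite_quot R A m hm
  haveI : Module.Finite A (A ⧸ m) :=
    Module.Finite.of_surjective (Algebra.linearMap A (A ⧸ m)) Ideal.Quotient.mk_surjective
  -- right adjoints
  haveI := BR3.isLeftAdjoint_restrictD (algebraMap A (A ⧸ m))
  let Gκ := (DRing.restrictD (algebraMap A (A ⧸ m))).rightAdjoint
  have adjκ : DRing.restrictD (algebraMap A (A ⧸ m)) ⊣ Gκ := Adjunction.ofIsLeftAdjoint _
  haveI := BR3.isLeftAdjoint_restrictD (algebraMap R (A ⧸ m))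
  let G' := (DRing.restrictD (algebraMap R (A ⧸ m))).rightAdjoint
  have adj' : DRing.restrictD (algebraMap R (A ⧸ m)) ⊣ G' := Adjunction.ofIsLeftAdjoint _
  -- presentations
  let χ : MvPolynomial (Fin 0) A →ₐ[A] (A ⧸ m) := RD4.pres0
  have hχ : Function.Surjective χ := RD4.pres0_surjective Ideal.Quotient.mk_surjective
  haveI := HasLBC.hasLBaseChange (algebraMap A (MvPolynomial (Fin 0) A))
  haveI := BR3.isLeftAdjoint_restrictD χ.toRingHom
  let Rχ := (DRing.restrictD χ.toRingHom).rightAdjoint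
  have adjχ : DRing.restrictD χ.toRingHom ⊣ Rχ := Adjunction.ofIsLeftAdjoint _
  let θ : MvPolynomial (Fin n) R →ₐ[R] (A ⧸ m) := (IsScalarTower.toAlgHom R A (A ⧸ m)).comp ψ
  have hθ : Function.Surjective θ := fun x => by
    obtain ⟨a, rfl⟩ := Ideal.Quotient.mk_surjective x
    obtain ⟨p, rfl⟩ := hψ a
    exact ⟨p, rfl⟩
  haveI := BR3.isLeftAdjoint_restrictD θ.toRingHom
  let Rθ := (DRing.restrictD θ.toRingHom).rightAdjoint
  have adjθ : DRing.restrictD θ.toRingHom ⊣ Rθ := Adjunction.ofIsLeftAdjoint _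
  -- `ω` is bounded below
  obtain ⟨a, b, hab⟩ := hω.finite_injective_dimension
  obtain ⟨hGE, _⟩ := bounds_of_hinj ω a b hab
  haveI := hGE
  have hK : ∀ j : ℤ, j < a → Subsingleton (Dual.HD R ω j) := fun j hj =>
    ModuleCat.subsingleton_of_isZero (isZero_of_isGE ω a j hj)
  obtain ⟨e1⟩ := Groth.Agent.S1799.result R A (A ⧸ m) n ψ hψ Rψ adj 0 χ hχ Rχ adjχ n θ hθ Rθ adjθ
    ω a hK
  obtain ⟨e2⟩ := Groth.Agent.S1784.result A (A ⧸ m) 0 χ hχ Rχ adjχ Gκ adjκ
    (Dual2.shriekVia n Rψ ω)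
  obtain ⟨e3⟩ := Groth.Agent.S1784.result R (A ⧸ m) n θ hθ Rθ adjθ G' adj' ω
  have hco1 := Coext.isCoext_of_adj (algebraMap A (A ⧸ m)) Gκ adjκ (Dual2.shriekVia n Rψ ω)
  have hco2 := Coext.isCoext_of_adj (algebraMap R (A ⧸ m)) G' adj' ω
  -- the residue field as an `R`-module
  let N : ModuleCat.{u} R := (rF (algebraMap R (A ⧸ m))).obj (ModuleCat.of (A ⧸ m) (A ⧸ m))
  let l : (A ⧸ m) →ₗ[R] N :=
    { toFun := fun x => x
      map_add' := fun _ _ => rfl
      map_smul' := fun r x => by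
        rw [RingHom.id_apply, Algebra.smul_def]
        rfl }
  haveI : Module.Finite R N := Module.Finite.of_surjective l (fun x => ⟨x, rfl⟩)
  have hkilled : ∀ r ∈ maximalIdeal R, ∀ x : N, r • x = 0 := by
    intro r hr x
    have h0 : algebraMap R (A ⧸ m) r = 0 := by
      rw [← hm] at hr
      rw [IsScalarTower.algebraMap_apply R A (A ⧸ m)]
      exact Ideal.Quotient.eq_zero_iff_mem.mpr hr
    show (algebraMap R (A ⧸ m) r) • (show A ⧸ m from x) = 0
    rw [h0, zero_smul]
  have hV : Subsingleton (Dual.inD R (R ⧸ maximalIdeal R) ⟶ ω⟦i⟧) := hn i hi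
  haveI h5 := DK.subsingleton_of_killed (maximalIdeal R) N hkilled (ω⟦i⟧) hV
  haveI h4 : Subsingleton ((DRing.restrictD (algebraMap R (A ⧸ m))).obj
      (Dual.inD (A ⧸ m) (A ⧸ m)) ⟶ ω⟦i⟧) :=
    (Iso.homCongr (rDSingle (algebraMap R (A ⧸ m)) 0 (ModuleCat.of (A ⧸ m) (A ⧸ m)))
      (Iso.refl (ω⟦i⟧))).subsingleton
  haveI h3 : Subsingleton (Dual.inD (A ⧸ m) (A ⧸ m) ⟶ (G'.obj ω)⟦i⟧) :=
    (hco2.homShiftEquiv (Dual.inD (A ⧸ m) (A ⧸ m)) i).subsingleton
  haveI h2 : Subsingleton (Dual.inD (A ⧸ m) (A ⧸ m) ⟶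
      (Gκ.obj (Dual2.shriekVia n Rψ ω))⟦i⟧) :=
    (Iso.homCongr (Iso.refl (Dual.inD (A ⧸ m) (A ⧸ m)))
      ((CategoryTheory.shiftFunctor _ i).mapIso (e2.symm ≪≫ e1.symm ≪≫ e3))).subsingleton
  haveI h1 : Subsingleton ((DRing.restrictD (algebraMap A (A ⧸ m))).obj
      (Dual.inD (A ⧸ m) (A ⧸ m)) ⟶ (Dual2.shriekVia n Rψ ω)⟦i⟧) :=
    (hco1.homShiftEquiv (Dual.inD (A ⧸ m) (A ⧸ m)) i).symm.subsingleton
  exact (Iso.homCongr (GorFib.ρ m) (Iso.refl ((Dual2.shriekVia n Rψ ω)⟦i⟧))).subsingleton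

include hψ adj hm hω hn in
theorem main [DRing.HasLBaseChange (algebraMap A (Localization.AtPrime m))] :
    Dual.IsDualizing (Localization.AtPrime m)
        ((DRing.LBaseChange (algebraMap A (Localization.AtPrime m))).obj
          (Dual2.shriekVia n Rψ ω)) ∧
      Dual.IsNormalized (Localization.AtPrime m)
        ((DRing.LBaseChange (algebraMap A (Localization.AtPrime m))).obj
          (Dual2.shriekVia n Rψ ω)) := by
  have hωA : Dual.IsDualizing A (Dual2.shriekVia n Rψ ω) :=
    Groth.Agent.S1782.result R A n ψ hψ Rψ adj ω hω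
  have hB : Dual.IsDualizing (Localization.AtPrime m)
      ((bcD A (Localization.AtPrime m)).obj (Dual2.shriekVia n Rψ ω)) :=
    isDualizing_bcD m.primeCompl (Localization.AtPrime m) _ hωA
  let eL := lbcIsoBcD A (Localization.AtPrime m) (Dual2.shriekVia n Rψ ω)
  refine ⟨isDualizing_of_iso eL.symm hB, ?_⟩
  intro i hi
  obtain ⟨a, b, hab⟩ := hωA.finite_injective_dimension
  obtain ⟨hGE, _⟩ := bounds_of_hinj (Dual2.shriekVia n Rψ ω) a b hab
  haveI := hGE
  haveI h1 := subsingleton_residue_shriek R A n ψ hψ Rψ adj m hm ω hω hn i hi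
  have hunder : (maximalIdeal (Localization.AtPrime m)).under A = m :=
    IsLocalization.AtPrime.comap_maximalIdeal (Localization.AtPrime m) m
  haveI h2 : Subsingleton (Dual.inD (Localization.AtPrime m)
      (Localization.AtPrime m ⧸ maximalIdeal (Localization.AtPrime m)) ⟶
        ((bcD A (Localization.AtPrime m)).obj (Dual2.shriekVia n Rψ ω))⟦i⟧) :=
    (loc_iff_of_under m.primeCompl (Localization.AtPrime m) (Dual2.shriekVia n Rψ ω) a
      (maximalIdeal (Localization.AtPrime m)) m hunder i).mp inferInstance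
  exact (Iso.homCongr (Iso.refl (Dual.inD (Localization.AtPrime m)
      (Localization.AtPrime m ⧸ maximalIdeal (Localization.AtPrime m))))
    ((CategoryTheory.shiftFunctor _ i).mapIso eL)).subsingleton

end Groth.Agent.Helper6.ShrNorm
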