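import Mathlib

set_option autoImplicit false
open CategoryTheory Limits Opposite Functor Simplicial

namespace Groth.Agent.Helper6.SkCounit

universe u

variable (U : SSet.{u}) (n : ℕ)

/-- the inclusion -/
abbrev L : (SimplexCategory.Truncated n)ᵒᵖ ⥤ SimplexCategoryᵒᵖ :=
  (SimplexCategory.Truncated.inclusion n).op

/-- the skeleton object -/
noncomputable abbrev X : SSet.{u} := (SSet.Truncated.sk n).obj ((SSet.truncation n).obj U)

/-- unit -/
noncomputable abbrev η : L n ⋙ U ⟶ L n ⋙ X U n := (L n).lanUnit.app (L n ⋙ U)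

/-- counit -/
noncomputable abbrev ε : X U n ⟶ U := (SSet.skAdj n).counit.app U

lemma η_ε : η U n ≫ whiskerLeft (L n) (ε U n) = 𝟙 (L n ⋙ U) :=
  lanUnit_app_whiskerLeft_lanAdjunction_counit_app (L n) U

/-- truncated object -/
abbrev tr (l : ℕ) (hl : l ≤ n) : (SimplexCategory.Truncated n)ᵒᵖ :=
  op ⟨SimplexCategory.mk l, by simpa using hl⟩

lemma ε_η (l : ℕ) (hl : l ≤ n) (y : U _⦋l⦌) :
    (ε U n).app (op (SimplexCategory.mk l)) ((η U n).app (tr n l hl) y) = y := by
  have := ConcreteCategory.congr_hom (congr_app (η_ε U n) (tr n l hl)) y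
  exact this

/-- elements of the skeleton -/
noncomputable def E (l : ℕ) (hl : l ≤ n) {k : ℕ} (f : SimplexCategory.mk k ⟶ SimplexCategory.mk l)
    (y : U _⦋l⦌) : (X U n) _⦋k⦌ :=
  (X U n).map f.op ((η U n).app (tr n l hl) y)

lemma ε_E (l : ℕ) (hl : l ≤ n) {k : ℕ} (f : SimplexCategory.mk k ⟶ SimplexCategory.mk l)
    (y : U _⦋l⦌) : (ε U n).app _ (E U n l hl f y) = U.map f.op y := by
  have h1 := NatTrans.naturality_apply (ε U n) f.op ((η U n).app (tr n l hl) y)
  rw [E, h1, ε_η]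

lemma E_map (l l' : ℕ) (hl : l ≤ n) (hl' : l' ≤ n) {k : ℕ}
    (f : SimplexCategory.mk k ⟶ SimplexCategory.mk l)
    (h : SimplexCategory.mk l ⟶ SimplexCategory.mk l') (y' : U _⦋l'⦌) :
    E U n l hl f (U.map h.op y') = E U n l' hl' (f ≫ h) y' := by
  let φ : tr n l' hl' ⟶ tr n l hl :=
    (ObjectProperty.homMk h : (⟨SimplexCategory.mk l, by simpa using hl⟩ :
      SimplexCategory.Truncated n) ⟶ ⟨SimplexCategory.mk l', by simpa using hl'⟩).op
  have h1 := NatTrans.naturality_apply (η U n) φ y'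
  have h2 : (η U n).app (tr n l hl) (U.map h.op y') =
      (X U n).map h.op ((η U n).app (tr n l' hl') y') := h1
  rw [E, E, h2, op_comp, Functor.map_comp_apply]

lemma exists_E {k : ℕ} (x : (X U n) _⦋k⦌) :
    ∃ (l : ℕ) (hl : l ≤ n) (f : SimplexCategory.mk k ⟶ SimplexCategory.mk l) (y : U _⦋l⦌),
      x = E U n l hl f y := by
  have hp : (LeftExtension.mk _ ((L n).lanUnit.app (L n ⋙ U))).IsPointwiseLeftKanExtension :=
    Functor.isPointwiseLeftKanExtensionOfIsLeftKanExtension _ ((L n).lanUnit.app (L n ⋙ U))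
  obtain ⟨g, y, hy⟩ := Types.jointly_surjective_of_isColimit (hp (op (SimplexCategory.mk k))) x
  obtain ⟨⟨⟨a, ha⟩⟩, ⟨⟨⟩⟩, gh⟩ := g
  induction a using SimplexCategory.rec with
  | _ l =>
    refine ⟨l, by simpa using ha, gh.unop, y, ?_⟩
    rw [← hy]
    rfl


lemma exists_epi_mono {k l : ℕ} (f : SimplexCategory.mk k ⟶ SimplexCategory.mk l) :
    ∃ (i : ℕ) (π : SimplexCategory.mk k ⟶ SimplexCategory.mk i)
      (ι : SimplexCategory.mk i ⟶ SimplexCategory.mk l), Epi π ∧ Mono ι ∧ π ≫ ι = f :=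
  ⟨(image f).len, factorThruImage f, image.ι f, inferInstance, inferInstance, image.fac f⟩

/-- canonical form -/
lemma exists_canonical {k : ℕ} (x : (X U n) _⦋k⦌) :
    ∃ (j : ℕ) (hj : j ≤ n) (π : SimplexCategory.mk k ⟶ SimplexCategory.mk j) (_ : Epi π)
      (z : U.nonDegenerate j), x = E U n j hj π z.1 := by
  obtain ⟨l, hl, f, y, rfl⟩ := exists_E U n x
  obtain ⟨i, π, ι, hπ, hι, rfl⟩ := exists_epi_mono f
  have hi : i ≤ l := by simpa using SimplexCategory.len_le_of_mono ι
  obtain ⟨j, σ, hσ, z, hz⟩ := U.exists_nonDegenerate (U.map ι.op y)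
  have hj : j ≤ i := by simpa using SimplexCategory.len_le_of_epi σ
  refine ⟨j, by omega, π ≫ σ, inferInstance, z, ?_⟩
  rw [← E_map U n i l (by omega) hl π ι y, hz, E_map U n i j (by omega) (by omega) π σ z.1]

lemma ε_injective (k : ℕ) : Function.Injective ((ε U n).app (op (SimplexCategory.mk k))) := by
  intro x x' hxx'
  obtain ⟨j, hj, π, hπ, z, rfl⟩ := exists_canonical U n x
  obtain ⟨j', hj', π', hπ', z', rfl⟩ := exists_canonical U n x'
  rw [ε_E, ε_E] at hxx'
  obtain rfl : j = j' := U.unique_nonDegenerate_dim (U.map π.op z.1) π z rfl π' z' hxx'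
  obtain rfl : z = z' := U.unique_nonDegenerate_simplex (U.map π.op z.1) π z rfl π' z' hxx'
  obtain rfl : π = π' := U.unique_nonDegenerate_map (U.map π.op z.1) π z rfl π' z hxx'
  rfl

lemma mono_ε : Mono (ε U n) := by
  rw [NatTrans.mono_iff_mono_app]
  intro d
  obtain ⟨D⟩ := d
  induction D using SimplexCategory.rec with
  | _ k =>
    rw [mono_iff_injective]
    exact ε_injective U n k

lemma range_ε : SSet.Subcomplex.range (ε U n) = U.skeleton (n + 1) := by
  apply le_antisymm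
  · intro d
    obtain ⟨D⟩ := d
    induction D using SimplexCategory.rec with
    | _ k =>
      rintro _ ⟨x, rfl⟩
      obtain ⟨l, hl, f, y, rfl⟩ := exists_E U n x
      rw [ε_E]
      exact (U.skeleton (n + 1)).map f.op (U.mem_skeleton y (by omega))
  · change (⨆ (i : Fin (n + 1)) (x : U.nonDegenerate i), SSet.Subcomplex.ofSimplex x.1) ≤ _
    refine iSup_le (fun i => iSup_le (fun x => ?_))
    rw [SSet.Subcomplex.ofSimplex_le_iff]
    exact ⟨(η U n).app (tr n i (by omega)) x.1, ε_η U n i (by omega) x.1⟩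

theorem main : Mono ((SSet.skAdj n).counit.app U) ∧
    SSet.Subcomplex.range ((SSet.skAdj n).counit.app U) = U.skeleton (n + 1) :=
  ⟨mono_ε U n, range_ε U n⟩

end Groth.Agent.Helper6.SkCounit
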