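import Mathlib
import Groth.Prelude.Def_CAlg
import Groth.Agent.Helper2.DepthLoc
import Groth.Agent.Helper2.DepthRees

/-! `(S_k)` plus a codimension bound gives an `I`-depth bound. -/

set_option autoImplicit false
universe u

namespace Groth.Agent.Helper6.SkDepthI

open Groth.Agent.Helper2 RingTheory.Sequence

theorem main (k : ℕ) (A : Type u) [CommRing A] [IsNoetherianRing A]
    (M : Type u) [AddCommGroup M] [Module A M] [Module.Finite A M] (I : Ideal A)
    (hS : LocCoh.HasSk k A M)
    (hcodim : ∀ p : PrimeSpectrum A, I ≤ p.asIdeal → p ∈ Module.support A M →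
      (k : WithBot ℕ∞) ≤ Module.supportDim (Localization.AtPrime p.asIdeal)
        (LocalizedModule p.asIdeal.primeCompl M)) :
    (k : ℕ∞) ≤ LocCoh.idealDepth I M := by
  by_cases hIM : I • (⊤ : Submodule A M) = ⊤
  · unfold LocCoh.idealDepth
    rw [if_pos hIM]
    exact le_top
  · obtain ⟨rs, -, hreg, hmem, hmax⟩ := DepthRees.exists_maximal_extension I M hIM []
      (IsWeaklyRegular.nil A M) (by simp)
    have hlen := DepthRees.length_eq_idealDepth_of_maximal I M hIM rs hreg hmem hmax
    obtain ⟨p, hIp, hdp⟩ := DepthLoc.exists_depth_localized_eq I M hIM rs hmem hreg hmax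
    have hpS : p ∈ Module.support A M := by
      by_contra hcon
      rw [Module.notMem_support_iff] at hcon
      rw [DepthLoc.depth_eq_top_of_subsingleton] at hdp
      exact ENat.top_ne_natCast _ hdp
    have h1 := hS p.asIdeal
    rw [min_eq_left (hcodim p hIp hpS), hdp] at h1
    rw [← hlen]
    exact_mod_cast h1

end Groth.Agent.Helper6.SkDepthI
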