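import Mathlib

set_option autoImplicit false
open CategoryTheory Limits Opposite Functor Simplicial

namespace Groth.Agent.Helper6.SkDim

universe u

lemma deg_of_factor (X : SSet.{u}) (n : ℕ) (a : SimplexCategory) (ha : a.len < n)
    (f : SimplexCategory.mk n ⟶ a) (y : X.obj (op a)) : X.map f.op y ∈ X.degenerate n := by
  induction a using SimplexCategory.rec with
  | _ l => exact ⟨l, by simpa using ha, f, y, rfl⟩

theorem main (m : ℕ) (U : SSet.Truncated.{u} m) :
    ((SSet.Truncated.sk m).obj U).HasDimensionLT (m + 1) := by
  let L := (SimplexCategory.Truncated.inclusion m).op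
  let X : SSet.{u} := (SSet.Truncated.sk m).obj U
  have hp : (LeftExtension.mk X (L.lanUnit.app U)).IsPointwiseLeftKanExtension :=
    Functor.isPointwiseLeftKanExtensionOfIsLeftKanExtension _ (L.lanUnit.app U)
  refine ⟨fun n hn => ?_⟩
  ext x
  simp only [Set.top_eq_univ, Set.mem_univ, iff_true]
  obtain ⟨g, y, hy⟩ := Types.jointly_surjective_of_isColimit (hp (op (SimplexCategory.mk n))) x
  have hlen : g.left.unop.obj.len < n := by
    have := g.left.unop.property
    omega
  have := deg_of_factor X n g.left.unop.obj hlen g.hom.unop ((L.lanUnit.app U).app g.left y)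
  rw [← hy]
  exact this

end Groth.Agent.Helper6.SkDim
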