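import Mathlib
import Groth.Prelude.Def_DRing4
import Groth.Prelude.Def_CAlg
import Groth.Prelude.Def_EGA4b
import Groth.Agent.Helper6.QG2
import Groth.Agent.Helper6.SkDescMod
import Groth.Agent.Helper6.SkQuot
import Groth.Agent.Helper5.RSD1
import Groth.Agent.Helper1.SupportDim

/-!
# Serre's condition `(S_k)` at a prime in terms of the generizations, and openness of the
`(S_k)` locus over a ring with a dualizing complex
-/

set_option autoImplicit false
set_option linter.style.haveILetI false
set_option linter.unusedSectionVars false

universe u
open CategoryTheory CategoryTheory.Limits Pretriangulated DerivedCategory TensorProduct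
attribute [local instance] HasDerivedCategory.standard

namespace Groth.Agent.Helper6.SkOpen
open Groth.Agent.Helper3.DRingLib Groth.Agent.Helper6.DK Groth.Agent.Helper6.LocExt IsLocalRing
open Groth.Agent.Helper6.LD

section Transfer

variable {A : Type u} [CommRing A] [IsNoetherianRing A]
  (M : Type u) [AddCommGroup M] [Module A M] [Module.Finite A M]

/-- transfer of dimension and depth along `A_q → (A_p)_P` -/
theorem transfer (p : Ideal A) [p.IsPrime] (P : Ideal (Localization.AtPrime p)) [P.IsPrime]
    (q : Ideal A) [q.IsPrime] [P.LiesOver q] :
    Module.supportDim (Localization.AtPrime P)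
        (LocalizedModule P.primeCompl (Localization.AtPrime p ⊗[A] M)) =
      Module.supportDim (Localization.AtPrime q) (LocalizedModule q.primeCompl M) ∧
    LocCoh.depth (Localization.AtPrime P)
        (LocalizedModule P.primeCompl (Localization.AtPrime p ⊗[A] M)) =
      LocCoh.depth (Localization.AtPrime q) (LocalizedModule q.primeCompl M) := by
  letI := Localization.AtPrime.algebraOfLiesOver q P
  haveI : IsLocalHom (algebraMap (Localization.AtPrime q) (Localization.AtPrime P)) :=
    Localization.isLocalHom_localRingHom _ _ _ Ideal.LiesOver.over
  haveI : IsNoetherianRing (Localization.AtPrime p) :=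
    IsLocalization.isNoetherianRing p.primeCompl _ inferInstance
  haveI : IsNoetherianRing (Localization.AtPrime q) :=
    IsLocalization.isNoetherianRing q.primeCompl _ inferInstance
  haveI : IsNoetherianRing (Localization.AtPrime P) :=
    IsLocalization.isNoetherianRing P.primeCompl _ inferInstance
  haveI : Module.Finite (Localization.AtPrime q) (LocalizedModule q.primeCompl M) :=
    Module.Finite.of_isLocalizedModule q.primeCompl (LocalizedModule.mkLinearMap q.primeCompl M)
  have eI := Groth.Agent.Helper6.SkDescMod.locTensorEquiv M q P
  rcases subsingleton_or_nontrivial (LocalizedModule q.primeCompl M) with hsub | hnt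
  · haveI : Subsingleton (Localization.AtPrime P ⊗[Localization.AtPrime q]
        LocalizedModule q.primeCompl M) := inferInstance
    haveI : Subsingleton (LocalizedModule P.primeCompl (Localization.AtPrime p ⊗[A] M)) :=
      eI.toEquiv.subsingleton
    refine ⟨?_, ?_⟩
    · rw [Module.supportDim_eq_bot_of_subsingleton, Module.supportDim_eq_bot_of_subsingleton]
    · rw [Groth.Agent.Helper2.DepthLoc.depth_eq_top_of_subsingleton,
        Groth.Agent.Helper2.DepthLoc.depth_eq_top_of_subsingleton]
  · have hPmin : P ∈ (q.map (algebraMap A (Localization.AtPrime p))).minimalPrimes := by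
      have hPq : q.map (algebraMap A (Localization.AtPrime p)) = P := by
        have hq : q = P.comap (algebraMap A (Localization.AtPrime p)) := Ideal.LiesOver.over
        rw [hq]
        exact IsLocalization.map_comap p.primeCompl _ P
      rw [hPq, Ideal.minimalPrimes_eq_subsingleton_self]
      exact Set.mem_singleton _
    have hfl := Groth.Agent.Helper2.SkDescent.isFiniteLength_fib (Localization.AtPrime q)
      (Localization.AtPrime P)
      (Groth.Agent.Helper2.SkDescent.maximalIdeal_mem_minimalPrimes A (Localization.AtPrime p)
        q P hPmin)
    have hd : LocCoh.depth (Localization.AtPrime P)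
        (LocalizedModule P.primeCompl (Localization.AtPrime p ⊗[A] M)) =
        LocCoh.depth (Localization.AtPrime P)
          (Localization.AtPrime P ⊗[Localization.AtPrime q] LocalizedModule q.primeCompl M) :=
      Groth.Agent.Helper2.DepthCM.idealDepth_congr _ eI
    have h0 : Module.supportDim (Localization.AtPrime P)
        (EGA4.FibMod (Localization.AtPrime q) (Localization.AtPrime P)
          (Localization.AtPrime P)) = 0 := by
      have h1 := Groth.Agent.Helper1.SupportDim.supportDim_le_zero_of_isFiniteLength hfl
      haveI := Groth.Agent.Helper2.DepthFlat.fibMod_nontrivial (A := Localization.AtPrime q)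
        (B := Localization.AtPrime P) (N := Localization.AtPrime P)
      have h2 : Module.supportDim (Localization.AtPrime P)
          (EGA4.FibMod (Localization.AtPrime q) (Localization.AtPrime P)
            (Localization.AtPrime P)) ≠ ⊥ := by
        rw [ne_eq, Module.supportDim_eq_bot_iff_subsingleton, not_subsingleton_iff_nontrivial]
        infer_instance
      generalize Module.supportDim (Localization.AtPrime P)
          (EGA4.FibMod (Localization.AtPrime q) (Localization.AtPrime P)
            (Localization.AtPrime P)) = c at h1 h2 ⊢
      induction c with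
      | bot => exact absurd rfl h2
      | coe c =>
        have h3 : c ≤ 0 := by exact_mod_cast h1
        have h4 : c = 0 := le_antisymm h3 (by simp)
        rw [h4]
        rfl
    refine ⟨?_, ?_⟩
    · rw [Module.supportDim_eq_of_equiv eI, Groth.Agent.Helper6.FlatGD.supportDim_tensor_eq]
      exact (congrArg (fun z => Module.supportDim (Localization.AtPrime q)
        (LocalizedModule q.primeCompl M) + z) h0).trans (add_zero _)
    · rw [hd, Groth.Agent.Helper2.DepthFlat.main (A := Localization.AtPrime q)
        (B := Localization.AtPrime P) (M := LocalizedModule q.primeCompl M)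
        (N := Localization.AtPrime P) hfl]

/-- **`(S_k)` at `p` in terms of the generizations of `p`** -/
theorem hasSkAt_iff (k : ℕ) (p : Ideal A) [p.IsPrime] :
    EGA4.HasSkAt k A M p ↔ ∀ (q : Ideal A) [q.IsPrime], q ≤ p →
      min (k : WithBot ℕ∞)
        (Module.supportDim (Localization.AtPrime q) (LocalizedModule q.primeCompl M)) ≤
      ((LocCoh.depth (Localization.AtPrime q) (LocalizedModule q.primeCompl M) : ℕ∞) :
        WithBot ℕ∞) := by
  have hiff : EGA4.HasSkAt k A M p ↔
      LocCoh.HasSk k (Localization.AtPrime p) (Localization.AtPrime p ⊗[A] M) :=
    ⟨fun h => Groth.Agent.Helper6.SkQuot.hasSk_of_equiv k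
        (LocalizedModule.equivTensorProduct p.primeCompl M) h,
      fun h => Groth.Agent.Helper6.SkQuot.hasSk_of_equiv k
        (LocalizedModule.equivTensorProduct p.primeCompl M).symm h⟩
  rw [hiff]
  constructor
  · intro h q hq hqp
    have hdisj : Disjoint (p.primeCompl : Set A) (q : Set A) := by
      rw [Set.disjoint_left]
      intro x hx hxq
      exact hx (hqp hxq)
    haveI hPprime : (q.map (algebraMap A (Localization.AtPrime p))).IsPrime :=
      IsLocalization.isPrime_of_isPrime_disjoint p.primeCompl _ _ hq hdisj
    have hPc : (q.map (algebraMap A (Localization.AtPrime p))).comap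
        (algebraMap A (Localization.AtPrime p)) = q :=
      IsLocalization.comap_map_of_isPrime_disjoint p.primeCompl _ hq hdisj
    haveI : (q.map (algebraMap A (Localization.AtPrime p))).LiesOver q := ⟨hPc.symm⟩
    obtain ⟨h1, h2⟩ := transfer M p (q.map (algebraMap A (Localization.AtPrime p))) q
    have h3 := h (q.map (algebraMap A (Localization.AtPrime p)))
    rw [h1, h2] at h3
    exact h3
  · intro h P hP
    haveI : (P.comap (algebraMap A (Localization.AtPrime p))).IsPrime := Ideal.comap_isPrime _ _
    haveI : P.LiesOver (P.comap (algebraMap A (Localization.AtPrime p))) := ⟨rfl⟩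
    have hqp : P.comap (algebraMap A (Localization.AtPrime p)) ≤ p := by
      have h1 : P ≤ maximalIdeal (Localization.AtPrime p) := le_maximalIdeal hP.ne_top
      have h2 := Ideal.comap_mono (f := algebraMap A (Localization.AtPrime p)) h1
      have e : (maximalIdeal (Localization.AtPrime p)).comap
          (algebraMap A (Localization.AtPrime p)) = p :=
        IsLocalization.AtPrime.under_maximalIdeal (Localization.AtPrime p) p
      rw [e] at h2
      exact h2
    obtain ⟨h1, h2⟩ := transfer M p P (P.comap (algebraMap A (Localization.AtPrime p)))
    rw [h1, h2]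
    exact h _ hqp

end Transfer

end Groth.Agent.Helper6.SkOpen
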