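import Mathlib
import Groth.Prelude.Def_DRing4
import Groth.Prelude.Def_CAlg
import Groth.Prelude.Def_EGA4b
import Groth.Agent.Helper6.SkOpen1
import Groth.Agent.Helper6.LD6

/-!
# Openness of the `(S_k)` locus of a finite module over a ring with a dualizing complex
-/

set_option autoImplicit false
set_option linter.style.haveILetI false
set_option linter.unusedSectionVars false

universe u
open CategoryTheory CategoryTheory.Limits Pretriangulated DerivedCategory TensorProduct
attribute [local instance] HasDerivedCategory.standard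

namespace Groth.Agent.Helper6.SkOpen
open Groth.Agent.Helper3.DRingLib Groth.Agent.Helper6.DK Groth.Agent.Helper6.LocExt IsLocalRing
open Groth.Agent.Helper6.LD Groth.Agent.Helper6.QG

variable {A : Type u} [CommRing A] [IsNoetherianRing A]
  (ω : Dual.D A) (hω : Dual.IsDualizing A ω)
  (M : Type u) [AddCommGroup M] [Module A M] [Module.Finite A M]

include hω in
/-- a prime is "bad" iff two `Ext` supports meet at it with too small a local dimension -/
theorem not_sk_iff (k : ℕ) (Q : PrimeSpectrum A) :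
    ¬ (min (k : WithBot ℕ∞)
        (Module.supportDim (Localization.AtPrime Q.asIdeal)
          (LocalizedModule Q.asIdeal.primeCompl M)) ≤
      ((LocCoh.depth (Localization.AtPrime Q.asIdeal)
        (LocalizedModule Q.asIdeal.primeCompl M) : ℕ∞) : WithBot ℕ∞)) ↔
    ∃ i j : ℤ, j < i ∧ Q ∈ Module.support A (Dual.inD A M ⟶ ω⟦i⟧) ∧
      Q ∈ Module.support A (Dual.inD A M ⟶ ω⟦j⟧) ∧
      Module.supportDim (Localization.AtPrime Q.asIdeal)
        (LocalizedModule Q.asIdeal.primeCompl M) < ((((k : ℤ) + i - j).toNat : ℕ) : WithBot ℕ∞) := by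
  constructor
  · intro hbad
    have hnt : Nontrivial (LocalizedModule Q.asIdeal.primeCompl M) := by
      by_contra h
      rw [not_nontrivial_iff_subsingleton] at h
      haveI := h
      apply hbad
      rw [Groth.Agent.Helper2.DepthLoc.depth_eq_top_of_subsingleton]
      exact le_top
    have hQM : Q ∈ Module.support A M := Module.mem_support_iff.mpr hnt
    obtain ⟨s, e, t, he, ht, hte, hA, hB, hC⟩ := loc_range' ω hω M Q hQM
    rw [he, ht, min_le_iff, not_or] at hbad
    have htk : t < k := by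
      by_contra h
      exact hbad.1 (by exact_mod_cast not_lt.mp h)
    have hte' : t < e := by
      by_contra h
      exact hbad.2 (by exact_mod_cast not_lt.mp h)
    refine ⟨s - (t : ℤ), s - (e : ℤ), by omega, hC, hB, ?_⟩
    rw [he]
    have h7 : e < ((k : ℤ) + (s - (t : ℤ)) - (s - (e : ℤ))).toNat := by omega
    exact_mod_cast h7
  · rintro ⟨i, j, hji, hi, hj, hdim⟩ hsk
    have hQM : Q ∈ Module.support A M := mem_support_of_mem_support_ext' ω hω M i Q hi
    obtain ⟨s, e, t, he, ht, hte, hA, hB, hC⟩ := loc_range' ω hω M Q hQM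
    obtain ⟨h1, h2⟩ := hA i hi
    obtain ⟨h3, h4⟩ := hA j hj
    rw [he] at hdim
    rw [he, ht] at hsk
    have h5 : e < ((k : ℤ) + i - j).toNat := by exact_mod_cast hdim
    rcases min_le_iff.mp hsk with h | h
    · have h6 : k ≤ t := by exact_mod_cast h
      omega
    · have h6 : e ≤ t := by exact_mod_cast h
      omega

include hω in
/-- **the `(S_k)` locus is open** -/
theorem isOpen_hasSkAt (k : ℕ) :
    IsOpen {p : PrimeSpectrum A | EGA4.HasSkAt k A M p.asIdeal} := by
  rw [← isClosed_compl_iff]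
  obtain ⟨a, b, hab⟩ := hω.finite_injective_dimension
  have hfin : ∀ i : ℤ, Module.Finite A (Dual.inD A M ⟶ ω⟦i⟧) :=
    fun i => finite_ext_dualizing ω hω M i
  let J : ℤ → ℤ → Ideal A := fun i j =>
    Module.annihilator A (Dual.inD A M ⟶ ω⟦i⟧) ⊔ Module.annihilator A (Dual.inD A M ⟶ ω⟦j⟧)
  have hJ : ∀ (i j : ℤ) (Q : PrimeSpectrum A), J i j ≤ Q.asIdeal ↔
      (Q ∈ Module.support A (Dual.inD A M ⟶ ω⟦i⟧) ∧
        Q ∈ Module.support A (Dual.inD A M ⟶ ω⟦j⟧)) := by
    intro i j Q
    haveI := hfin i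
    haveI := hfin j
    rw [Module.mem_support_iff_of_finite, Module.mem_support_iff_of_finite]
    exact sup_le_iff
  let Bad : Set (PrimeSpectrum A) := {q | ∃ i j : ℤ, j < i ∧ q.asIdeal ∈ (J i j).minimalPrimes ∧
      Module.supportDim (Localization.AtPrime q.asIdeal)
        (LocalizedModule q.asIdeal.primeCompl M) < ((((k : ℤ) + i - j).toNat : ℕ) : WithBot ℕ∞)}
  have hBadfin : Bad.Finite := by
    have hrange : ∀ i j : ℤ, J i j ≠ ⊤ → i ∈ Finset.Icc a b ∧ j ∈ Finset.Icc a b := by
      intro i j hne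
      constructor
      · rw [Finset.mem_Icc]
        by_contra hcon
        have h1 : i < a ∨ b < i := by omega
        haveI := hab M i h1
        apply hne
        have h2 : Module.annihilator A (Dual.inD A M ⟶ ω⟦i⟧) = ⊤ :=
          Module.annihilator_eq_top_iff.mpr inferInstance
        show Module.annihilator A (Dual.inD A M ⟶ ω⟦i⟧) ⊔ _ = ⊤
        rw [h2, top_sup_eq]
      · rw [Finset.mem_Icc]
        by_contra hcon
        have h1 : j < a ∨ b < j := by omega
        haveI := hab M j h1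
        apply hne
        have h2 : Module.annihilator A (Dual.inD A M ⟶ ω⟦j⟧) = ⊤ :=
          Module.annihilator_eq_top_iff.mpr inferInstance
        show _ ⊔ Module.annihilator A (Dual.inD A M ⟶ ω⟦j⟧) = ⊤
        rw [h2, sup_top_eq]
    have hsub : Bad ⊆ ⋃ i ∈ Finset.Icc a b, ⋃ j ∈ Finset.Icc a b,
        {q : PrimeSpectrum A | q.asIdeal ∈ (J i j).minimalPrimes} := by
      rintro q ⟨i, j, hji, hq, -⟩
      have hne : J i j ≠ ⊤ := fun h => hq.1.1.ne_top (top_le_iff.mp (h ▸ hq.1.2))
      obtain ⟨hi, hj⟩ := hrange i j hne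
      simp only [Set.mem_iUnion]
      exact ⟨i, hi, j, hj, hq⟩
    refine Set.Finite.subset ?_ hsub
    refine Set.Finite.biUnion (Finset.finite_toSet _) (fun i _ =>
      Set.Finite.biUnion (Finset.finite_toSet _) (fun j _ => ?_))
    refine Set.Finite.of_finite_image (f := fun q : PrimeSpectrum A => q.asIdeal) ?_ ?_
    · refine (Ideal.finite_minimalPrimes_of_isNoetherianRing A (J i j)).subset ?_
      rintro _ ⟨q, hq, rfl⟩
      exact hq
    · intro q _ q' _ h
      exact PrimeSpectrum.ext h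
  have heq : {p : PrimeSpectrum A | EGA4.HasSkAt k A M p.asIdeal}ᶜ =
      ⋃ q ∈ Bad, PrimeSpectrum.zeroLocus (q.asIdeal : Set A) := by
    ext p
    show ¬ EGA4.HasSkAt k A M p.asIdeal ↔ _
    rw [hasSkAt_iff M k p.asIdeal, Set.mem_iUnion₂]
    constructor
    · intro hnot
      by_contra hcon
      apply hnot
      intro q hq hqp
      by_contra hbad
      apply hcon
      obtain ⟨i, j, hji, hi, hj, hdim⟩ := (not_sk_iff ω hω M k ⟨q, hq⟩).mp hbad
      have hJle : J i j ≤ q := (hJ i j ⟨q, hq⟩).mpr ⟨hi, hj⟩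
      obtain ⟨q₀, hq₀, hq₀q⟩ := Ideal.exists_minimalPrimes_le hJle
      obtain ⟨hi₀, hj₀⟩ := (hJ i j ⟨q₀, hq₀.1.1⟩).mp hq₀.1.2
      have hQ₀M : (⟨q₀, hq₀.1.1⟩ : PrimeSpectrum A) ∈ Module.support A M :=
        mem_support_of_mem_support_ext' ω hω M i _ hi₀
      have hQM : (⟨q, hq⟩ : PrimeSpectrum A) ∈ Module.support A M :=
        mem_support_of_mem_support_ext' ω hω M i _ hi
      haveI : q₀.IsPrime := hq₀.1.1
      have hmono : Module.supportDim (Localization.AtPrime q₀)
          (LocalizedModule q₀.primeCompl M) ≤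
          Module.supportDim (Localization.AtPrime q) (LocalizedModule q.primeCompl M) := by
        rw [Groth.Agent.Helper5.RSD.supportDim_localized_eq_height M q₀ hQ₀M,
          Groth.Agent.Helper5.RSD.supportDim_localized_eq_height M q hQM]
        have hle : (⟨⟨q₀, hq₀.1.1⟩, hQ₀M⟩ : Module.support A M) ≤ ⟨⟨q, hq⟩, hQM⟩ :=
          (PrimeSpectrum.asIdeal_le_asIdeal _ _).mp hq₀q
        exact_mod_cast Order.height_mono hle
      refine ⟨⟨q₀, hq₀.1.1⟩, ⟨i, j, hji, hq₀, lt_of_le_of_lt hmono hdim⟩, ?_⟩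
      rw [PrimeSpectrum.mem_zeroLocus, SetLike.coe_subset_coe]
      exact hq₀q.trans hqp
    · rintro ⟨Q₀, ⟨i, j, hji, hq₀, hdim⟩, hp⟩ hall
      have hq₀p : Q₀.asIdeal ≤ p.asIdeal :=
        SetLike.coe_subset_coe.mp ((PrimeSpectrum.mem_zeroLocus _ _).mp hp)
      obtain ⟨hi₀, hj₀⟩ := (hJ i j Q₀).mp hq₀.1.2
      exact (not_sk_iff ω hω M k Q₀).mpr ⟨i, j, hji, hi₀, hj₀, hdim⟩ (hall Q₀.asIdeal hq₀p)
  rw [heq]
  exact hBadfin.isClosed_biUnion fun q _ => PrimeSpectrum.isClosed_zeroLocus _

end Groth.Agent.Helper6.SkOpen
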