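import Mathlib
import Groth.Agent.Helper6.OpenSub6
import Groth.Agent.Helper6.LargestOpen1
import Groth.Agent.Helper6.FpComp
import Groth.Agent.Helper5.LargestOpen
import Groth.Agent.Helper6.TwoProjSp
import Groth.Agent.Helper6.LocQ10
import Groth.Agent.Helper6.LocalFppf
import Groth.Agent.Helper6.FpLiftIso
import Groth.Agent.Helper5.AlgSpIso
import Groth.Agent.Helper6.LargestOpen2
import Groth.Agent.Helper6.SmST6

/-!
# Helper6: the smooth locus of a morphism of algebraic stacks, I — restricting chart squares to open substacks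
-/

set_option autoImplicit false
set_option linter.style.haveILetI false
set_option linter.unusedVariables false
universe v₇ u₇ v₆ u₆ v₅ u₅ v₄ u₄ v₃ u₃ v₂ u₂ v u

namespace Groth.Agent.Helper6.SmLocus1
open CategoryTheory Functor FibCat Limits AlgebraicGeometry Opposite
open Groth.Agent.Helper3 Stk Groth.Agent.Helper6.OfPsh Groth.Agent.Helper6.OfPshHom
open Groth.Agent.Helper6.FpTools Groth.Agent.Helper6.OfPshFp Groth.Agent.Helper6.AlgStRep
open Groth.Agent.Helper6.AlgStEquiv Groth.Agent.Helper6.AlgStInv Groth.Agent.Helper6.AlgStPsh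
open Groth.Agent.Helper6.DiagRed Groth.Agent.Helper6.RepDiag Groth.Agent.Helper6.RepComp
open Groth.Agent.Helper6.DiagRep Groth.Agent.Helper6.AlgStPts Groth.Agent.Helper6.StPts
open Groth.Agent.Helper6.SmLoc Groth.Agent.Helper6.ChartOver Groth.Agent.Helper6.StTop
open Groth.Agent.Helper6.QcMor2 Groth.Agent.Helper6.SpAtlas Groth.Agent.Helper4.SDClasses
open Groth.Agent.Helper6.Descent1 Groth.Agent.Helper6.Descent2 Groth.Agent.Helper6.LocQ0
open Groth.Agent.Helper6.LocQ1 Groth.Agent.Helper6.LocQ2 Groth.Agent.Helper6.AlgStBC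
open Groth.Agent.Helper6.OverRep Groth.Agent.Helper6.LocQ3 Groth.Agent.Helper6.LocQ4
open Groth.Agent.Helper6.FlatST Groth.Agent.Helper6.DiagLft Groth.Agent.Helper6.ToSpace
open Groth.Agent.Helper6.LocQ5 Groth.Agent.Helper6.OpenSub1 Groth.Agent.Helper6.OpenSub2
open Groth.Agent.Helper6.OpenSub3 Groth.Agent.Helper6.OpenSub4 Groth.Agent.Helper6.OpenSub5
open Groth.Agent.Helper6.OpenSub6 Groth.Agent.Helper6.SpSquare Groth.Agent.Helper6.TwoProj
open Groth.Agent.Helper6.TwoProjSp Groth.Agent.Helper4.AlgSpPtsDesc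
open Groth.Agent.Helper6.LargestOpen1 Groth.Agent.Helper6.LargestOpen2
open AlgSp


section General

variable {C : Type u} [Category.{v} C]
variable {𝒲 : BasedCategory.{v₂, u₂} C} {𝒵 : BasedCategory.{v₃, u₃} C}
  {𝒳 : BasedCategory.{v₄, u₄} C} {𝒴 : BasedCategory.{v₅, u₅} C}
  (y : 𝒲 ⥤ᵇ 𝒵) (g : 𝒵 ⥤ᵇ 𝒴) (f : 𝒳 ⥤ᵇ 𝒴)

theorem pasteInner_faithful [y.toFunctor.Faithful] : (pasteInner y g f).toFunctor.Faithful := by
  refine ⟨fun {x x'} k k' h => ?_⟩
  apply fp_hom_ext
  · apply y.toFunctor.map_injective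
    exact congrArg (fun t => t.hom.fst) h
  · exact congrArg (fun t => t.hom.snd) h

theorem pasteInner_full [y.toFunctor.Full] : (pasteInner y g f).toFunctor.Full := by
  refine ⟨fun {x x'} Θ => ?_⟩
  let a₀ : y.obj x.obj.fst ⟶ y.obj x'.obj.fst := Θ.hom.fst
  let a : x.obj.fst ⟶ x'.obj.fst := y.toFunctor.preimage a₀
  have ha : y.map a = a₀ := y.toFunctor.map_preimage a₀
  let c : x.obj.snd ⟶ x'.obj.snd := Θ.hom.snd
  have hw : g.map a₀ ≫ x'.obj.iso.hom = x.obj.iso.hom ≫ f.map c := Θ.hom.w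
  have key : g.map (y.map a) ≫ x'.obj.iso.hom = x.obj.iso.hom ≫ f.map c := by
    rw [ha]; exact hw
  refine ⟨ObjectProperty.homMk ⟨a, c, key⟩, ?_⟩
  apply fp_hom_ext
  · exact ha
  · rfl

end General

variable {S : Scheme.{u}} {𝒳 𝒴 : AlgSt.Cat S}

section Res

variable (T : Set (AlgSt.Points 𝒳)) (h𝒳 : AlgSt.IsAlgStack Scheme.fppfPrecoverage 𝒳) (hT : IsOpen T)
  (f : 𝒳 ⥤ᵇ 𝒴) {U V : Over S} (x : overCat U ⥤ᵇ 𝒳) (y : overCat V ⥤ᵇ 𝒴) (h : U ⟶ V)
  (α : BasedFunctor.comp x f ≅ BasedFunctor.comp (AlgSt.overMap h) y)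

/-- the restricted 2-isomorphism of a chart square -/
noncomputable def alphaRes :
    BasedFunctor.comp (chartSub T h𝒳 hT x) (BasedFunctor.comp (AlgSt.subIncl 𝒳 (QT T)) f) ≅
      BasedFunctor.comp (AlgSt.overMap (chartIncl T h𝒳 hT x ≫ h)) y :=
  (Iso.refl _ : BasedFunctor.comp (chartSub T h𝒳 hT x)
      (BasedFunctor.comp (AlgSt.subIncl 𝒳 (QT T)) f) ≅
    BasedFunctor.comp (AlgSt.overMap (chartIncl T h𝒳 hT x)) (BasedFunctor.comp x f)) ≪≫
  whiskerLeftIso' (AlgSt.overMap (chartIncl T h𝒳 hT x)) α ≪≫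
    whiskerRightIso' (overMapComp (chartIncl T h𝒳 hT x) h) y

/-- the restricted lift to the fibre product -/
noncomputable def liftRes :
    overCat (chartOver T h𝒳 hT x) ⥤ᵇ fp (BasedFunctor.comp (AlgSt.subIncl 𝒳 (QT T)) f) y :=
  fpLift (chartSub T h𝒳 hT x) (AlgSt.overMap (chartIncl T h𝒳 hT x ≫ h)) (alphaRes T h𝒳 hT f x y h α)

set_option backward.isDefEq.respectTransparency.types false in
/-- comparison of the restricted lift with the original one -/
noncomputable def liftResIso :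
    BasedFunctor.comp (AlgSt.overMap (chartIncl T h𝒳 hT x)) (fpLift x (AlgSt.overMap h) α) ≅
      BasedFunctor.comp (liftRes T h𝒳 hT f x y h α) (pasteInner (AlgSt.subIncl 𝒳 (QT T)) f y) :=
  fpLiftEta _ ≪≫
    fpLiftIso (F := f) (G := y)
      (a := BasedFunctor.comp (BasedFunctor.comp (AlgSt.overMap (chartIncl T h𝒳 hT x))
        (fpLift x (AlgSt.overMap h) α)) (fpFst f y))
      (b := BasedFunctor.comp (BasedFunctor.comp (AlgSt.overMap (chartIncl T h𝒳 hT x))
        (fpLift x (AlgSt.overMap h) α)) (fpSnd f y))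
      (a' := BasedFunctor.comp (BasedFunctor.comp (liftRes T h𝒳 hT f x y h α)
        (pasteInner (AlgSt.subIncl 𝒳 (QT T)) f y)) (fpFst f y))
      (b' := BasedFunctor.comp (BasedFunctor.comp (liftRes T h𝒳 hT f x y h α)
        (pasteInner (AlgSt.subIncl 𝒳 (QT T)) f y)) (fpSnd f y))
      (whiskerLeftIso' (BasedFunctor.comp (AlgSt.overMap (chartIncl T h𝒳 hT x))
        (fpLift x (AlgSt.overMap h) α)) (fpIso f y))
      (whiskerLeftIso' (BasedFunctor.comp (liftRes T h𝒳 hT f x y h α)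
        (pasteInner (AlgSt.subIncl 𝒳 (QT T)) f y)) (fpIso f y))
      (Iso.refl _) (overMapComp (chartIncl T h𝒳 hT x) h) (fun w => by
      change f.map (𝟙 _) ≫ _ = _
      rw [f.toFunctor.map_id, Category.id_comp]
      change (alphaRes T h𝒳 hT f x y h α).hom.toNatTrans.app w = _
      unfold alphaRes
      rw [Iso.refl_trans]
      rfl) ≪≫ (fpLiftEta _).symm

set_option backward.isDefEq.respectTransparency.types false in
theorem chartSub_smooth (hx : AlgSt.RepByAlgSpWith (LocP @Smooth) x) :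
    AlgSt.RepByAlgSpWith (LocP @Smooth) (chartSub T h𝒳 hT x) := by
  let c := chartIncl T h𝒳 hT x
  haveI : IsOpenImmersion c.left := by
    change IsOpenImmersion (chartOpen T h𝒳 hT x).ι
    infer_instance
  apply rep_of_comp_fullyFaithful (LocP @Smooth) (AlgSt.subIncl 𝒳 (QT T))
  exact Groth.Agent.Helper6.RepComp.repByAlgSpWith_comp (isFibGrpd_overCat _) (isFibGrpd_overCat U)
    _ (locP_comp' _ good_smooth) Groth.Agent.Helper6.LocalFppf.smooth _ x
    (Groth.Agent.Helper6.QcChart.overMap_smooth c inferInstance) hx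

set_option backward.isDefEq.respectTransparency.types false in
theorem chartSub_surj (hx₁ : AlgSt.RepByAlgSpWith (LocP @Smooth) x)
    (hx₂ : AlgSt.RepByAlgSpWith IsSurjectiveMor x) :
    AlgSt.RepByAlgSpWith IsSurjectiveMor (chartSub T h𝒳 hT x) := by
  have hfull : IsFibGrpd (AlgSt.fullSub 𝒳 (QT T)).p := (isStack_fullSub_QT T h𝒳.isStack).1
  have hX : IsFibGrpd 𝒳.p := h𝒳.isStack.1
  let c := chartIncl T h𝒳 hT x
  refine rep_surj_of_isSurjective (isFibGrpd_overCat _) hfull _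
    (repByAlgSp1_of_with (chartSub_smooth T h𝒳 hT x hx₁)) ?_
  intro q
  have hq : AlgSt.Points.map (AlgSt.subIncl 𝒳 (QT T)) q ∈ T :=
    (range_subIncl_QT T).le ⟨q, rfl⟩
  obtain ⟨t, ht⟩ := ofChart_surjective hX x hx₂ (AlgSt.Points.map (AlgSt.subIncl 𝒳 (QT T)) q)
  have htW : t ∈ chartOpen T h𝒳 hT x := by
    change AlgSt.Points.ofChart x t ∈ T
    rw [ht]
    exact hq
  refine ⟨chartPt _ (show ↥(chartOpen T h𝒳 hT x) from ⟨t, htW⟩), ?_⟩
  apply points_map_injective_of_full hfull hX (AlgSt.subIncl 𝒳 (QT T))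
  rw [← points_map_comp (chartSub T h𝒳 hT x) (AlgSt.subIncl 𝒳 (QT T))]
  change AlgSt.Points.map (BasedFunctor.comp (AlgSt.overMap c) x) _ = _
  rw [points_map_comp, points_map_overMap]
  exact ht

set_option backward.isDefEq.respectTransparency.types false in
theorem liftRes_smooth
    (hℓ : AlgSt.RepByAlgSpWith (LocP @Smooth) (fpLift x (AlgSt.overMap h) α)) :
    AlgSt.RepByAlgSpWith (LocP @Smooth) (liftRes T h𝒳 hT f x y h α) := by
  let c := chartIncl T h𝒳 hT x
  haveI : IsOpenImmersion c.left := by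
    change IsOpenImmersion (chartOpen T h𝒳 hT x).ι
    infer_instance
  haveI := pasteInner_full (AlgSt.subIncl 𝒳 (QT T)) f y
  haveI := pasteInner_faithful (AlgSt.subIncl 𝒳 (QT T)) f y
  apply rep_of_comp_fullyFaithful (LocP @Smooth) (pasteInner (AlgSt.subIncl 𝒳 (QT T)) f y)
  refine Groth.Agent.Helper6.AlgStSpMap.repByAlgSpWith_of_iso _
    (liftResIso T h𝒳 hT f x y h α).symm ?_
  exact Groth.Agent.Helper6.RepComp.repByAlgSpWith_comp (isFibGrpd_overCat _) (isFibGrpd_overCat U)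
    _ (locP_comp' _ good_smooth) Groth.Agent.Helper6.LocalFppf.smooth _ _
    (Groth.Agent.Helper6.QcChart.overMap_smooth c inferInstance) hℓ

set_option backward.isDefEq.respectTransparency.types false in
/-- if `f` is smooth on the open substack cut out by `T` then the chart map is smooth over `T` -/
theorem smooth_res_of_locQ (h𝒴 : AlgSt.IsAlgStack Scheme.fppfPrecoverage 𝒴)
    (hx : AlgSt.RepByAlgSpWith (LocP @Smooth) x) (hy : AlgSt.RepByAlgSpWith (LocP @Smooth) y)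
    (hℓ : AlgSt.RepByAlgSpWith (LocP @Smooth) (fpLift x (AlgSt.overMap h) α))
    (hL : AlgSt.LocQ (LocP @Smooth) (BasedFunctor.comp (AlgSt.subIncl 𝒳 (QT T)) f)) :
    Smooth (chartIncl T h𝒳 hT x ≫ h).left := by
  have hsub : AlgSt.IsAlgStack Scheme.fppfPrecoverage (AlgSt.fullSub 𝒳 (QT T)) :=
    (isOpenSubstack_QT T h𝒳 hT).2.1
  have := (locQ_iff_all (LocP @Smooth) Groth.Agent.Helper6.SmST6.isSmoothLocalST_smooth hsub h𝒴
    (BasedFunctor.comp (AlgSt.subIncl 𝒳 (QT T)) f)).1 hL _ _ (chartSub T h𝒳 hT x) y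
    (chartIncl T h𝒳 hT x ≫ h) (alphaRes T h𝒳 hT f x y h α) (chartSub_smooth T h𝒳 hT x hx) hy
    (liftRes_smooth T h𝒳 hT f x y h α hℓ)
  exact AlgSp.locP_yon_map this

include α in
set_option backward.isDefEq.respectTransparency.types false in
/-- if the chart map is smooth over `T` then `f` is smooth on the open substack cut out by `T` -/
theorem locQ_of_smooth_res
    (hx₁ : AlgSt.RepByAlgSpWith (LocP @Smooth) x)
    (hx₂ : AlgSt.RepByAlgSpWith IsSurjectiveMor x)
    (hy : AlgSt.RepByAlgSpWith (LocP @Smooth) y)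
    (hs : Smooth (chartIncl T h𝒳 hT x ≫ h).left) :
    AlgSt.LocQ (LocP @Smooth) (BasedFunctor.comp (AlgSt.subIncl 𝒳 (QT T)) f) :=
  ⟨chartOver T h𝒳 hT x, V, chartSub T h𝒳 hT x, y, chartIncl T h𝒳 hT x ≫ h,
    alphaRes T h𝒳 hT f x y h α, chartSub_smooth T h𝒳 hT x hx₁, chartSub_surj T h𝒳 hT x hx₁ hx₂, hy,
    locP_yon_of @Smooth good_smooth _ hs⟩

end Res

end Groth.Agent.Helper6.SmLocus1
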