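import Mathlib
import Groth.Agent.Helper6.OpenSub6
import Groth.Agent.Helper6.LargestOpen1
import Groth.Agent.Helper6.FpComp
import Groth.Agent.Helper5.LargestOpen
import Groth.Agent.Helper6.TwoProjSp
import Groth.Agent.Helper6.LocQ10
import Groth.Agent.Helper6.LocalFppf
import Groth.Agent.Helper6.FpLiftIso
import Groth.Agent.Helper5.AlgSpIso
import Groth.Agent.Helper6.LargestOpen2
import Groth.Agent.Helper6.SmST6
import Groth.Agent.Helper6.SmLocus1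

/-!
# Helper6: the smooth locus of a morphism of algebraic stacks, II — existence of the largest open substack
-/

set_option autoImplicit false
set_option linter.style.haveILetI false
set_option linter.unusedVariables false
universe v₇ u₇ v₆ u₆ v₅ u₅ v₄ u₄ v₃ u₃ v₂ u₂ v u

namespace Groth.Agent.Helper6.SmLocus2
open CategoryTheory Functor FibCat Limits AlgebraicGeometry Opposite
open Groth.Agent.Helper3 Stk Groth.Agent.Helper6.OfPsh Groth.Agent.Helper6.OfPshHom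
open Groth.Agent.Helper6.FpTools Groth.Agent.Helper6.OfPshFp Groth.Agent.Helper6.AlgStRep
open Groth.Agent.Helper6.AlgStEquiv Groth.Agent.Helper6.AlgStInv Groth.Agent.Helper6.AlgStPsh
open Groth.Agent.Helper6.DiagRed Groth.Agent.Helper6.RepDiag Groth.Agent.Helper6.RepComp
open Groth.Agent.Helper6.DiagRep Groth.Agent.Helper6.AlgStPts Groth.Agent.Helper6.StPts
open Groth.Agent.Helper6.SmLoc Groth.Agent.Helper6.ChartOver Groth.Agent.Helper6.StTop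
open Groth.Agent.Helper6.QcMor2 Groth.Agent.Helper6.SpAtlas Groth.Agent.Helper4.SDClasses
open Groth.Agent.Helper6.Descent1 Groth.Agent.Helper6.Descent2 Groth.Agent.Helper6.LocQ0
open Groth.Agent.Helper6.LocQ1 Groth.Agent.Helper6.LocQ2 Groth.Agent.Helper6.AlgStBC
open Groth.Agent.Helper6.OverRep Groth.Agent.Helper6.LocQ3 Groth.Agent.Helper6.LocQ4
open Groth.Agent.Helper6.FlatST Groth.Agent.Helper6.DiagLft Groth.Agent.Helper6.ToSpace
open Groth.Agent.Helper6.LocQ5 Groth.Agent.Helper6.OpenSub1 Groth.Agent.Helper6.OpenSub2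
open Groth.Agent.Helper6.OpenSub3 Groth.Agent.Helper6.OpenSub4 Groth.Agent.Helper6.OpenSub5
open Groth.Agent.Helper6.OpenSub6 Groth.Agent.Helper6.SpSquare Groth.Agent.Helper6.TwoProj
open Groth.Agent.Helper6.TwoProjSp Groth.Agent.Helper4.AlgSpPtsDesc
open Groth.Agent.Helper6.LargestOpen1 Groth.Agent.Helper6.LargestOpen2 Groth.Agent.Helper6.SmLocus1
open AlgSp


variable {S : Scheme.{u}} {𝒳 𝒴 : AlgSt.Cat S}

theorem locQ_transport (f : 𝒳 ⥤ᵇ 𝒴) (P : MorphismProperty (Sp S)) {Q Q' : 𝒳.obj → Prop} (e : Q = Q')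
    (h : AlgSt.LocQ P (BasedFunctor.comp (AlgSt.subIncl 𝒳 Q) f)) :
    AlgSt.LocQ P (BasedFunctor.comp (AlgSt.subIncl 𝒳 Q') f) := by
  subst e
  exact h

set_option backward.isDefEq.respectTransparency.types false in
/-- S13037 -/
theorem exists_largest (h𝒳 : AlgSt.IsAlgStack Scheme.fppfPrecoverage 𝒳)
    (h𝒴 : AlgSt.IsAlgStack Scheme.fppfPrecoverage 𝒴) (f : 𝒳 ⥤ᵇ 𝒴) :
    ∃ Q : 𝒳.obj → Prop, AlgSt.IsOpenSubstack 𝒳 Q Scheme.fppfPrecoverage ∧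
      AlgSt.LocQ (LocP @Smooth) (BasedFunctor.comp (AlgSt.subIncl 𝒳 Q) f) ∧
      ∀ Q' : 𝒳.obj → Prop, AlgSt.IsOpenSubstack 𝒳 Q' Scheme.fppfPrecoverage →
        AlgSt.LocQ (LocP @Smooth) (BasedFunctor.comp (AlgSt.subIncl 𝒳 Q') f) →
          ∀ a, Q' a → Q a := by
  obtain ⟨V, y, hy₁, hy₂⟩ := h𝒴.atlas
  obtain ⟨U, x, h, α, hx, hℓ₁, hℓ₂, hxs⟩ := exists_lsmooth_square h𝒳 h𝒴 f y hy₁
  have hx₂ := hxs hy₂
  let 𝒯 : Set (Set (AlgSt.Points 𝒳)) := {T' | IsOpen T' ∧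
    AlgSt.LocQ (LocP @Smooth) (BasedFunctor.comp (AlgSt.subIncl 𝒳 (QT T')) f)}
  have hT : IsOpen (⋃₀ 𝒯) := isOpen_sUnion (fun T' hT' => hT'.1)
  refine ⟨QT (⋃₀ 𝒯), isOpenSubstack_QT (⋃₀ 𝒯) h𝒳 hT, ?_, ?_⟩
  · apply locQ_of_smooth_res (⋃₀ 𝒯) h𝒳 hT f x y h α hx hx₂ hy₁
    refine Groth.Agent.Helper6.SmSD.smooth_of_family _ (fun u => ?_)
    have hu : AlgSt.Points.ofChart x ((chartIncl (⋃₀ 𝒯) h𝒳 hT x).left u) ∈ ⋃₀ 𝒯 :=
      chartIncl_mem (⋃₀ 𝒯) h𝒳 hT x u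
    obtain ⟨T', hT'mem, hu'⟩ := hu
    have hsm := smooth_res_of_locQ T' h𝒳 hT'mem.1 f x y h α h𝒴 hx hy₁ hℓ₁ hT'mem.2
    have hle : chartOpen T' h𝒳 hT'mem.1 x ≤ chartOpen (⋃₀ 𝒯) h𝒳 hT x :=
      fun t ht => ⟨T', hT'mem, ht⟩
    let e : (chartOpen T' h𝒳 hT'mem.1 x : Scheme.{u}) ⟶
        (chartOpen (⋃₀ 𝒯) h𝒳 hT x : Scheme.{u}) := U.left.homOfLE hle
    haveI : IsOpenImmersion e := inferInstance
    have hes : Smooth e := inferInstance
    refine ⟨(chartOpen T' h𝒳 hT'mem.1 x : Scheme.{u}), e, ⟨u.1, hu'⟩, hes, ?_, ?_⟩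
    · apply Subtype.ext
      exact Scheme.homOfLE_apply hle _
    · have e1 : e ≫ (chartIncl (⋃₀ 𝒯) h𝒳 hT x ≫ h).left =
          (chartIncl T' h𝒳 hT'mem.1 x ≫ h).left := by
        change e ≫ ((chartOpen (⋃₀ 𝒯) h𝒳 hT x).ι ≫ h.left) =
          (chartOpen T' h𝒳 hT'mem.1 x).ι ≫ h.left
        rw [← Category.assoc]
        congr 1
        exact Scheme.homOfLE_ι _ hle
      exact e1 ▸ hsm
  · intro Q' hQ' hL a ha
    have hT' : IsOpen (Set.range (AlgSt.Points.map (AlgSt.subIncl 𝒳 Q'))) :=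
      isOpen_range_of_isOpenSubstack h𝒳 Q' hQ'
    have hQeq : Q' = QT (Set.range (AlgSt.Points.map (AlgSt.subIncl 𝒳 Q'))) :=
      funext fun z => propext (Q_iff_QT_range h𝒳 Q' hQ' z)
    have hmem : Set.range (AlgSt.Points.map (AlgSt.subIncl 𝒳 Q')) ∈ 𝒯 :=
      ⟨hT', locQ_transport f _ hQeq hL⟩
    exact QT_mono (Set.subset_sUnion_of_mem hmem) ((Q_iff_QT_range h𝒳 Q' hQ' a).1 ha)

end Groth.Agent.Helper6.SmLocus2
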