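import Mathlib
import Groth.Agent.Helper6.OpenSub6
import Groth.Agent.Helper6.LargestOpen1
import Groth.Agent.Helper6.FpComp
import Groth.Agent.Helper5.LargestOpen
import Groth.Agent.Helper6.TwoProjSp
import Groth.Agent.Helper6.LocQ10
import Groth.Agent.Helper6.LocalFppf
import Groth.Agent.Helper6.FpLiftIso
import Groth.Agent.Helper5.AlgSpIso
import Groth.Agent.Helper6.LargestOpen2
import Groth.Agent.Helper6.SmST6
import Groth.Agent.Helper6.SmLocus1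
import Groth.Agent.Helper6.SmLocus2
import Groth.Agent.Helper6.LargestOpen5

/-!
# Helper6: the smooth locus of a morphism of algebraic stacks, III — the smooth locus pulls back along smooth morphisms
-/

set_option autoImplicit false
set_option linter.style.haveILetI false
set_option linter.unusedVariables false
universe v₇ u₇ v₆ u₆ v₅ u₅ v₄ u₄ v₃ u₃ v₂ u₂ v u

namespace Groth.Agent.Helper6.SmLocus3
open CategoryTheory Functor FibCat Limits AlgebraicGeometry Opposite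
open Groth.Agent.Helper3 Stk Groth.Agent.Helper6.OfPsh Groth.Agent.Helper6.OfPshHom
open Groth.Agent.Helper6.FpTools Groth.Agent.Helper6.OfPshFp Groth.Agent.Helper6.AlgStRep
open Groth.Agent.Helper6.AlgStEquiv Groth.Agent.Helper6.AlgStInv Groth.Agent.Helper6.AlgStPsh
open Groth.Agent.Helper6.DiagRed Groth.Agent.Helper6.RepDiag Groth.Agent.Helper6.RepComp
open Groth.Agent.Helper6.DiagRep Groth.Agent.Helper6.AlgStPts Groth.Agent.Helper6.StPts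
open Groth.Agent.Helper6.SmLoc Groth.Agent.Helper6.ChartOver Groth.Agent.Helper6.StTop
open Groth.Agent.Helper6.QcMor2 Groth.Agent.Helper6.SpAtlas Groth.Agent.Helper4.SDClasses
open Groth.Agent.Helper6.Descent1 Groth.Agent.Helper6.Descent2 Groth.Agent.Helper6.LocQ0
open Groth.Agent.Helper6.LocQ1 Groth.Agent.Helper6.LocQ2 Groth.Agent.Helper6.AlgStBC
open Groth.Agent.Helper6.OverRep Groth.Agent.Helper6.LocQ3 Groth.Agent.Helper6.LocQ4
open Groth.Agent.Helper6.FlatST Groth.Agent.Helper6.DiagLft Groth.Agent.Helper6.ToSpace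
open Groth.Agent.Helper6.LocQ5 Groth.Agent.Helper6.OpenSub1 Groth.Agent.Helper6.OpenSub2
open Groth.Agent.Helper6.OpenSub3 Groth.Agent.Helper6.OpenSub4 Groth.Agent.Helper6.OpenSub5
open Groth.Agent.Helper6.OpenSub6 Groth.Agent.Helper6.SpSquare Groth.Agent.Helper6.TwoProj
open Groth.Agent.Helper6.TwoProjSp Groth.Agent.Helper4.AlgSpPtsDesc
open Groth.Agent.Helper6.LargestOpen1 Groth.Agent.Helper6.LargestOpen2 Groth.Agent.Helper6.SmLocus1 Groth.Agent.Helper6.LargestOpen5 Groth.Agent.Helper6.LocQ6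
open AlgSp


variable {S : Scheme.{u}} {𝒳' 𝒳 𝒴 : AlgSt.Cat S}

theorem locQ_mono {P P' : MorphismProperty (Sp S)} (hle : P ≤ P') {f : 𝒳 ⥤ᵇ 𝒴}
    (h : AlgSt.LocQ P f) : AlgSt.LocQ P' f := by
  obtain ⟨U, V, x, y, h, α, hx₁, hx₂, hy, hP⟩ := h
  exact ⟨U, V, x, y, h, α, hx₁, hx₂, hy, hle _ hP⟩

theorem locQ_smooth_of_isOpenImm (h𝒴 : AlgSt.IsAlgStack Scheme.fppfPrecoverage 𝒴) (f : 𝒳 ⥤ᵇ 𝒴)
    (hf : AlgSt.IsOpenImm f) : AlgSt.LocQ (LocP @Smooth) f :=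
  locQ_of_repWith @IsOpenImmersion _
    (fun h hh => locP_yon_of _ good_smooth h (by haveI := hh; infer_instance)) h𝒴 f hf

set_option backward.isDefEq.respectTransparency.types false in
/-- `g ≫ f` is smooth on the preimage of the smooth locus of `f` when `g` is smooth -/
theorem locQ_smooth_preimage (h𝒳' : AlgSt.IsAlgStack Scheme.fppfPrecoverage 𝒳')
    (h𝒳 : AlgSt.IsAlgStack Scheme.fppfPrecoverage 𝒳)
    (g : 𝒳' ⥤ᵇ 𝒳) (hg : AlgSt.LocQ (LocP @Smooth) g) (f : 𝒳 ⥤ᵇ 𝒴)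
    (Q : 𝒳.obj → Prop) (hQ₁ : AlgSt.IsOpenSubstack 𝒳 Q Scheme.fppfPrecoverage)
    (hQ₂ : AlgSt.LocQ (LocP @Smooth) (BasedFunctor.comp (AlgSt.subIncl 𝒳 Q) f)) :
    AlgSt.LocQ (LocP @Smooth)
      (BasedFunctor.comp (AlgSt.subIncl 𝒳' (fun a => Q (g.obj a))) (BasedFunctor.comp g f)) := by
  have hsub : AlgSt.IsAlgStack Scheme.fppfPrecoverage (AlgSt.fullSub 𝒳 Q) := hQ₁.2.1
  have hsub' : AlgSt.IsAlgStack Scheme.fppfPrecoverage (AlgSt.fullSub 𝒳' (fun a => Q (g.obj a))) :=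
    (isOpenSubstack_preimage h𝒳' h𝒳 g Q hQ₁).2.1
  have h1 : AlgSt.LocQ (LocP @Smooth) (fpFst (AlgSt.subIncl 𝒳 Q) g) :=
    locQ_fpFst _ Groth.Agent.Helper6.SmST6.isSmoothLocalST_smooth smooth_bc h𝒳' h𝒳 hsub g
      (AlgSt.subIncl 𝒳 Q) hg
  have hE : IsEquivOver (BasedFunctor.comp (subPre g Q) (fpSwap g (AlgSt.subIncl 𝒳 Q))) :=
    isEquivOver_comp (isEquivOver_subPre g Q hQ₁.1) (isEquivOver_fpSwap _ _)
  have h2 : AlgSt.LocQ (LocP @Smooth)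
      (BasedFunctor.comp (BasedFunctor.comp (subPre g Q) (fpSwap g (AlgSt.subIncl 𝒳 Q)))
        (fpFst (AlgSt.subIncl 𝒳 Q) g)) := locQ_equiv_comp _ _ hE _ h1
  have h3 : AlgSt.LocQ (LocP @Smooth)
      (BasedFunctor.comp (liftSub Q (BasedFunctor.comp (AlgSt.subIncl 𝒳' (fun a => Q (g.obj a))) g)
        (fun a => a.property)) (BasedFunctor.comp (AlgSt.subIncl 𝒳 Q) f)) :=
    locQ_comp _ Groth.Agent.Helper6.SmST6.isSmoothLocalST_smooth (locP_comp' _ good_smooth)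
      hsub' hsub _ _ h2 hQ₂
  exact h3

set_option backward.isDefEq.respectTransparency.types false in
/-- the image under a smooth `g` of an open substack on which `g ≫ f` is smooth is an open substack
on which `f` is smooth -/
theorem locQ_smooth_image (h𝒳' : AlgSt.IsAlgStack Scheme.fppfPrecoverage 𝒳')
    (h𝒳 : AlgSt.IsAlgStack Scheme.fppfPrecoverage 𝒳)
    (g : 𝒳' ⥤ᵇ 𝒳) (hg : AlgSt.LocQ (LocP @Smooth) g) (f : 𝒳 ⥤ᵇ 𝒴)
    (Q' : 𝒳'.obj → Prop) (hQ' : AlgSt.IsOpenSubstack 𝒳' Q' Scheme.fppfPrecoverage)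
    (hL : AlgSt.LocQ (LocP @Smooth)
      (BasedFunctor.comp (AlgSt.subIncl 𝒳' Q') (BasedFunctor.comp g f)))
    (T'' : Set (AlgSt.Points 𝒳))
    (hT''eq : T'' = AlgSt.Points.map g '' Set.range (AlgSt.Points.map (AlgSt.subIncl 𝒳' Q')))
    (hT'' : IsOpen T'') :
    AlgSt.LocQ (LocP @Smooth) (BasedFunctor.comp (AlgSt.subIncl 𝒳 (QT T'')) f) := by
  have hsubQ' : AlgSt.IsAlgStack Scheme.fppfPrecoverage (AlgSt.fullSub 𝒳' Q') := hQ'.2.1
  have hfullQ' : IsFibGrpd (AlgSt.fullSub 𝒳' Q').p := hsubQ'.isStack.1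
  have hfull'' : IsFibGrpd (AlgSt.fullSub 𝒳 (QT T'')).p := (isStack_fullSub_QT T'' h𝒳.isStack).1
  have hX : IsFibGrpd 𝒳.p := h𝒳.isStack.1
  have hX' : IsFibGrpd 𝒳'.p := h𝒳'.isStack.1
  obtain ⟨U', V, x', y, h, α, hx'₁, hx'₂, hy, hP⟩ := hL
  let G : overCat U' ⥤ᵇ 𝒳 := BasedFunctor.comp x' (BasedFunctor.comp (AlgSt.subIncl 𝒳' Q') g)
  have hsubT : Set.range (AlgSt.Points.map (AlgSt.subIncl 𝒳' Q')) ⊆ AlgSt.Points.map g ⁻¹' T'' := by
    intro t ht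
    rw [hT''eq]
    exact ⟨t, ht, rfl⟩
  have hG : ∀ w, QT T'' (G.obj w) := fun w =>
    (QT_preimage_iff hX' hX g T'' _).2
      (QT_mono hsubT ((Q_iff_QT_range h𝒳' Q' hQ' _).1 (x'.obj w).property))
  -- `G` is smooth
  have hGQ : AlgSt.LocQ (LocP @Smooth) G := by
    have hx'Q : AlgSt.LocQ (LocP @Smooth) x' :=
      (locQ_iff_rep _ Groth.Agent.Helper6.SmST6.isSmoothLocalST_smooth smooth_bc
        (isAlgStack_overCat U') hsubQ' x' (repByAlgSp1_of_with hx'₁)).2 hx'₁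
    have hi : AlgSt.LocQ (LocP @Smooth) (AlgSt.subIncl 𝒳' Q') :=
      locQ_smooth_of_isOpenImm h𝒳' _ hQ'.2.2
    have hig : AlgSt.LocQ (LocP @Smooth) (BasedFunctor.comp (AlgSt.subIncl 𝒳' Q') g) :=
      locQ_comp _ Groth.Agent.Helper6.SmST6.isSmoothLocalST_smooth (locP_comp' _ good_smooth)
        hsubQ' h𝒳' _ _ hi hg
    exact locQ_comp _ Groth.Agent.Helper6.SmST6.isSmoothLocalST_smooth (locP_comp' _ good_smooth)
      (isAlgStack_overCat U') hsubQ' _ _ hx'Q hig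
  have hGrep : AlgSt.RepByAlgSp1 G := Groth.Agent.Helper6.AlgStDiagIff.forward h𝒳.diag U' G
  have hGsm : AlgSt.RepByAlgSpWith (LocP @Smooth) G :=
    (locQ_iff_rep _ Groth.Agent.Helper6.SmST6.isSmoothLocalST_smooth smooth_bc
      (isAlgStack_overCat U') h𝒳 G hGrep).1 hGQ
  have hx''sm : AlgSt.RepByAlgSpWith (LocP @Smooth) (liftSub (QT T'') G hG) :=
    rep_of_comp_fullyFaithful (LocP @Smooth) (AlgSt.subIncl 𝒳 (QT T'')) _ hGsm
  refine ⟨U', V, liftSub (QT T'') G hG, y, h, ?_, hx''sm, ?_, hy, hP⟩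
  · exact (Iso.refl _ : BasedFunctor.comp (liftSub (QT T'') G hG)
        (BasedFunctor.comp (AlgSt.subIncl 𝒳 (QT T'')) f) ≅
      BasedFunctor.comp x' (BasedFunctor.comp (AlgSt.subIncl 𝒳' Q') (BasedFunctor.comp g f))) ≪≫ α
  · refine rep_surj_of_isSurjective (isFibGrpd_overCat _) hfull'' _ (repByAlgSp1_of_with hx''sm) ?_
    intro q
    have hq : AlgSt.Points.map (AlgSt.subIncl 𝒳 (QT T'')) q ∈ T'' :=
      (range_subIncl_QT T'').le ⟨q, rfl⟩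
    have hq2 : AlgSt.Points.map (AlgSt.subIncl 𝒳 (QT T'')) q ∈
        AlgSt.Points.map g '' Set.range (AlgSt.Points.map (AlgSt.subIncl 𝒳' Q')) := hT''eq ▸ hq
    obtain ⟨t', ⟨q', rfl⟩, ht'⟩ := hq2
    obtain ⟨r, hr⟩ := isSurjective_of_rep_surj (isFibGrpd_overCat U') hfullQ' x' hx'₂ q'
    refine ⟨r, ?_⟩
    apply points_map_injective_of_full hfull'' hX (AlgSt.subIncl 𝒳 (QT T''))
    rw [← points_map_comp (liftSub (QT T'') G hG) (AlgSt.subIncl 𝒳 (QT T''))]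
    change AlgSt.Points.map G r = _
    rw [← ht', ← hr, ← points_map_comp, ← points_map_comp]

set_option backward.isDefEq.respectTransparency.types false in
/-- S19902 -/
theorem largest_preimage (h𝒳' : AlgSt.IsAlgStack Scheme.fppfPrecoverage 𝒳')
    (h𝒳 : AlgSt.IsAlgStack Scheme.fppfPrecoverage 𝒳)
    (g : 𝒳' ⥤ᵇ 𝒳) (hg : AlgSt.LocQ (LocP @Smooth) g) (f : 𝒳 ⥤ᵇ 𝒴)
    (Q : 𝒳.obj → Prop) (hQ₁ : AlgSt.IsOpenSubstack 𝒳 Q Scheme.fppfPrecoverage)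
    (hQ₂ : AlgSt.LocQ (LocP @Smooth) (BasedFunctor.comp (AlgSt.subIncl 𝒳 Q) f))
    (hQ₃ : ∀ Q' : 𝒳.obj → Prop, AlgSt.IsOpenSubstack 𝒳 Q' Scheme.fppfPrecoverage →
      AlgSt.LocQ (LocP @Smooth) (BasedFunctor.comp (AlgSt.subIncl 𝒳 Q') f) → ∀ a, Q' a → Q a) :
    AlgSt.IsOpenSubstack 𝒳' (fun a ↦ Q (g.obj a)) Scheme.fppfPrecoverage ∧
      AlgSt.LocQ (LocP @Smooth)
        (BasedFunctor.comp (AlgSt.subIncl 𝒳' (fun a ↦ Q (g.obj a))) (BasedFunctor.comp g f)) ∧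
      ∀ Q' : 𝒳'.obj → Prop, AlgSt.IsOpenSubstack 𝒳' Q' Scheme.fppfPrecoverage →
        AlgSt.LocQ (LocP @Smooth)
          (BasedFunctor.comp (AlgSt.subIncl 𝒳' Q') (BasedFunctor.comp g f)) →
        ∀ a, Q' a → Q (g.obj a) := by
  refine ⟨isOpenSubstack_preimage h𝒳' h𝒳 g Q hQ₁,
    locQ_smooth_preimage h𝒳' h𝒳 g hg f Q hQ₁ hQ₂, ?_⟩
  intro Q' hQ' hL a ha
  have hopen : AlgSt.IsOpenMor g :=
    isOpenMor_of_locQ_flat_lfp h𝒳' h𝒳 g (locQ_mono smooth_le_flat hg) (locQ_mono smooth_le_lfp hg)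
  have hT' : IsOpen (Set.range (AlgSt.Points.map (AlgSt.subIncl 𝒳' Q'))) :=
    isOpen_range_of_isOpenSubstack h𝒳' Q' hQ'
  have hT'' : IsOpen (AlgSt.Points.map g '' Set.range (AlgSt.Points.map (AlgSt.subIncl 𝒳' Q'))) :=
    hopen _ hT'
  have key := locQ_smooth_image h𝒳' h𝒳 g hg f Q' hQ' hL _ rfl hT''
  refine hQ₃ _ (isOpenSubstack_QT _ h𝒳 hT'') key (g.obj a) ?_
  refine (QT_preimage_iff h𝒳'.isStack.1 h𝒳.isStack.1 g _ a).2 (QT_mono ?_
    ((Q_iff_QT_range h𝒳' Q' hQ' a).1 ha))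
  exact Set.subset_preimage_image _ _

end Groth.Agent.Helper6.SmLocus3
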