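import Mathlib
import Groth.Prelude.Def_W4c1hilbpnTgt
import Groth.Agent.Helper7.HTd

set_option autoImplicit false
set_option linter.style.haveILetI false
set_option linter.unusedSectionVars false

/-!
# Vanishing of the graded pieces `tPiece I α` for `α ≥ 0` and for `α < 0`
-/

namespace Groth.Agent.Helper6.TgtVanish

open MvPolynomial W4c1hilbpn Groth.Agent.Helper7.HTa Groth.Agent.Helper7.HTb
  Groth.Agent.Helper7.HTc Groth.Agent.Helper7.HTd

variable {σ : Type*} {k : Type*} [Field k] [Fintype σ] [DecidableEq σ]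
variable {I : Ideal (MvPolynomial σ k)} {α : σ → ℤ}

theorem exps_of_le {β β' : σ →₀ ℕ} (h : β ∈ exps I) (hle : β ≤ β') : β' ∈ exps I := by
  rw [← add_tsub_cancel_of_le hle]
  exact exps_add h _

theorem region_empty_of_nonneg (hα : ∀ i, 0 ≤ α i) (γ : σ → ℤ) : γ ∉ region I α := by
  rintro ⟨⟨β, hβ, rfl⟩, h2⟩
  apply h2
  have hnn : ∀ i, 0 ≤ (β i : ℤ) + α i := fun i => add_nonneg (Int.natCast_nonneg _) (hα i)
  refine ⟨hnn, ?_⟩
  have hle : β ≤ (Finsupp.equivFunOnFinite.symm fun i => ((β i : ℤ) + α i).toNat) := by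
    rw [Finsupp.le_def]
    intro i
    simp only [Finsupp.equivFunOnFinite_symm_apply_apply]
    have := hα i
    omega
  exact exps_of_le hβ hle

theorem tPiece_eq_bot_of_nonneg (hI : IsMonomial I) (hα : ∀ i, 0 ≤ α i) : tPiece I α = ⊥ := by
  rw [eq_bot_iff]
  intro φ hφ
  rw [Submodule.mem_bot]
  exact eq_zero_of_co_eq_zero hI hφ (fun v => absurd v.2 (region_empty_of_nonneg hα v.1))

/-- steps down -/
def dn (γ : σ → ℤ) (i : σ) (t : ℕ) : σ → ℤ := fun l => γ l - if l = i then (t : ℤ) else 0

theorem stp_dn_succ (γ : σ → ℤ) (i : σ) (t : ℕ) : stp (dn γ i (t + 1)) i = dn γ i t := by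
  funext l
  by_cases hl : l = i
  · subst hl
    simp only [stp, dn, if_true]
    push_cast
    ring
  · simp [stp, dn, hl]

theorem mem_region_of (γ : σ → ℤ) (hsub : nn (fun l => γ l - α l))
    (hβ : toN (fun l => γ l - α l) ∈ exps I) (hnot : nn γ → toN γ ∉ exps I) :
    γ ∈ region I α := by
  refine ⟨⟨toN (fun l => γ l - α l), hβ, ?_⟩, fun h => hnot h.1 h.2⟩
  funext l
  have h1 := congrFun (toInt_toN hsub) l
  simp only [toInt] at h1
  rw [h1]
  ring

theorem exists_top (hI : IsMonomial I) [Module.Finite k (MvPolynomial σ k ⧸ I)]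
    {f : region I α → k} (hf : IsAdm I α f) (i₁ : σ) (v : region I α) (hv : nn v.1) :
    ∃ v' : region I α, nn v'.1 ∧ f v' = f v ∧ (∀ l, l ≠ i₁ → v'.1 l = v.1 l) ∧
      toN (stp v'.1 i₁) ∈ exps I := by
  classical
  have hfin := Groth.Agent.Helper6.MonoIdeal.finite_compl_exps I hI
  have hex : ∃ j : ℕ, toN (up v.1 i₁ j) ∈ exps I := by
    by_contra hcon
    push Not at hcon
    refine (Set.infinite_of_injective_forall_mem (f := fun j : ℕ => toN (up v.1 i₁ j)) ?_
      (fun j => hcon j)) hfin
    intro j j' hjj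
    have h1 := DFunLike.congr_fun hjj i₁
    simp only [toN_apply, up, if_true] at h1
    have := hv i₁
    omega
  have h0 : toN (up v.1 i₁ 0) ∉ exps I := by
    rw [up_zero]
    exact notMem_of_region_nn v.2 hv
  have hj1 : Nat.find hex ≠ 0 := by
    intro h
    apply h0
    have := Nat.find_spec hex
    rwa [h] at this
  obtain ⟨j₀, hj₀⟩ := Nat.exists_eq_succ_of_ne_zero hj1
  have hnnup : ∀ j : ℕ, nn (up v.1 i₁ j) := by
    intro j l
    have := hv l
    simp only [up]
    split_ifs <;> omega
  have hstep : ∀ j : ℕ, j ≤ j₀ → ∃ h : up v.1 i₁ j ∈ region I α, f ⟨_, h⟩ = f v := by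
    intro j
    induction j with
    | zero =>
      intro _
      have e : up v.1 i₁ 0 = v.1 := up_zero _ _
      refine ⟨by rw [e]; exact v.2, ?_⟩
      congr 1
      exact Subtype.ext e
    | succ j ih =>
      intro hj
      obtain ⟨hmem, hfe⟩ := ih (by omega)
      have hmem' : up v.1 i₁ (j + 1) ∈ region I α := by
        rw [up_succ]
        obtain ⟨⟨β, hβ, hβe⟩, -⟩ := hmem
        refine ⟨⟨β + Finsupp.single i₁ 1, exps_add hβ _, ?_⟩, ?_⟩
        · rw [hβe]
          exact (tr_add_single (α := α) β i₁).symm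
        · intro hcon
          have hlt : j + 1 < Nat.find hex := by omega
          apply Nat.find_min hex hlt
          rw [up_succ]
          exact hcon.2
      refine ⟨hmem', ?_⟩
      rw [← hfe]
      exact (hf.step ⟨_, hmem⟩ ⟨_, hmem'⟩ i₁ (up_succ v.1 i₁ j)).symm
  obtain ⟨hmem, hfe⟩ := hstep j₀ le_rfl
  refine ⟨⟨_, hmem⟩, hnnup j₀, hfe, ?_, ?_⟩
  · intro l hl
    simp [up, hl]
  · have := Nat.find_spec hex
    rw [hj₀, Nat.succ_eq_add_one, up_succ] at this
    exact this

theorem down_step {f : region I α → k} (hf : IsAdm I α f) (hαneg : ∀ i, α i < 0)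
    {i₁ i₂ : σ} (h12 : i₁ ≠ i₂) (v' : region I α) (hv' : nn v'.1)
    (htop : toN (stp v'.1 i₁) ∈ exps I) (t : ℕ) (ht : (t : ℤ) ≤ -α i₂) :
    ∃ h : dn v'.1 i₂ t ∈ region I α, f ⟨_, h⟩ = f v' := by
  induction t with
  | zero =>
    have e : dn v'.1 i₂ 0 = v'.1 := by
      funext l
      simp [dn]
    refine ⟨by rw [e]; exact v'.2, ?_⟩
    congr 1
    exact Subtype.ext e
  | succ t ih =>
    obtain ⟨hmem, hfe⟩ := ih (by push_cast at ht; omega)
    have hmem' : dn v'.1 i₂ (t + 1) ∈ region I α := by
      apply mem_region_of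
      · intro l
        have h1 := hv' l
        have h2 := hαneg l
        simp only [dn]
        split_ifs with h
        · subst h
          push_cast at ht ⊢
          omega
        · omega
      · refine exps_of_le htop ?_
        rw [Finsupp.le_def]
        intro l
        simp only [toN_apply, stp, dn]
        apply Int.toNat_le_toNat
        have h2 := hαneg l
        by_cases hl1 : l = i₁
        · have hl2 : l ≠ i₂ := fun h => h12 (hl1.symm.trans h)
          rw [if_pos hl1, if_neg hl2]
          omega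
        · rw [if_neg hl1]
          by_cases hl2 : l = i₂
          · subst hl2
            rw [if_pos rfl]
            push_cast at ht ⊢
            omega
          · rw [if_neg hl2]
            omega
      · intro _ hcon
        apply notMem_of_region_nn v'.2 hv'
        refine exps_of_le hcon ?_
        rw [Finsupp.le_def]
        intro l
        simp only [toN_apply, dn]
        apply Int.toNat_le_toNat
        split_ifs
        · have : (0 : ℤ) ≤ ((t + 1 : ℕ) : ℤ) := Int.natCast_nonneg _
          omega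
        · omega
    refine ⟨hmem', ?_⟩
    rw [← hfe]
    exact hf.step ⟨_, hmem'⟩ ⟨_, hmem⟩ i₂ (stp_dn_succ v'.1 i₂ t).symm

theorem adm_eq_zero_of_neg (hI : IsMonomial I) [Module.Finite k (MvPolynomial σ k ⧸ I)]
    {f : region I α → k} (hf : IsAdm I α f) (hαneg : ∀ i, α i < 0)
    {i₁ i₂ : σ} (h12 : i₁ ≠ i₂) : ∀ v : region I α, f v = 0 := by
  have key : ∀ m : ℕ, ∀ v : region I α, nn v.1 → (v.1 i₂).toNat = m → f v = 0 := by
    intro m
    induction m using Nat.strong_induction_on with
    | _ m ih =>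
      intro v hv hm
      obtain ⟨v', hv'nn, hfv', hsame, htop⟩ := exists_top hI hf i₁ v hv
      rw [← hfv']
      have hv'2 : v'.1 i₂ = (m : ℤ) := by
        rw [hsame i₂ h12.symm, ← hm, Int.toNat_of_nonneg (hv i₂)]
      obtain ⟨d, hd⟩ : ∃ d : ℕ, (d : ℤ) = -α i₂ :=
        ⟨(-α i₂).toNat, Int.toNat_of_nonneg (by have := hαneg i₂; omega)⟩
      have hdpos : 1 ≤ d := by have := hαneg i₂; omega
      by_cases hmd : m + 1 ≤ d
      · obtain ⟨hmem, hfeq⟩ := down_step hf hαneg h12 v' hv'nn htop (m + 1) (by omega)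
        rw [← hfeq]
        apply hf.neg
        intro hnn
        have h1 := hnn i₂
        simp only [dn, if_true] at h1
        push_cast at h1
        omega
      · obtain ⟨hmem, hfeq⟩ := down_step hf hαneg h12 v' hv'nn htop d (by omega)
        rw [← hfeq]
        refine ih (m - d) (by omega) ⟨_, hmem⟩ ?_ ?_
        · intro l
          have h1 := hv'nn l
          simp only [dn]
          split_ifs with h
          · subst h
            omega
          · omega
        · simp only [dn, if_true]
          omega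
  intro v
  by_cases hv : nn v.1
  · exact key _ v hv rfl
  · exact hf.neg v hv

theorem tPiece_eq_bot_of_neg (hI : IsMonomial I) [Module.Finite k (MvPolynomial σ k ⧸ I)]
    (hαneg : ∀ i, α i < 0) {i₁ i₂ : σ} (h12 : i₁ ≠ i₂) : tPiece I α = ⊥ := by
  rw [eq_bot_iff]
  intro φ hφ
  rw [Submodule.mem_bot]
  exact eq_zero_of_co_eq_zero hI hφ (adm_eq_zero_of_neg hI (isAdm_co hI hφ) hαneg h12)

end Groth.Agent.Helper6.TgtVanish
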