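import Mathlib
import Groth.Prelude.Def_W4c1hilbpnTgt
import Groth.Agent.Helper6.TgtVanish

set_option autoImplicit false
set_option linter.style.haveILetI false
set_option linter.unusedSectionVars false

/-!
# Strongly stable ideals in three variables: `x ∈ I` iff the doubly negative pieces vanish
-/

namespace Groth.Agent.Helper6.StableX

open MvPolynomial W4c1hilbpn Groth.Agent.Helper7.HTa Groth.Agent.Helper7.HTb
  Groth.Agent.Helper7.HTc Groth.Agent.Helper7.HTd Groth.Agent.Helper6.TgtVanish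

section general

variable {σ : Type*} {k : Type*} [Field k] [Fintype σ] [DecidableEq σ]
variable {I : Ideal (MvPolynomial σ k)} {α : σ → ℤ}

theorem down_step' {f : region I α → k} (hf : IsAdm I α f) (hα : ∀ i, α i ≤ 0)
    {i₁ i₂ : σ} (h12 : i₁ ≠ i₂) (h1 : α i₁ < 0) (v' : region I α) (hv' : nn v'.1)
    (htop : toN (stp v'.1 i₁) ∈ exps I) (t : ℕ) (ht : (t : ℤ) ≤ -α i₂) :
    ∃ h : dn v'.1 i₂ t ∈ region I α, f ⟨_, h⟩ = f v' := by
  induction t with
  | zero =>
    have e : dn v'.1 i₂ 0 = v'.1 := by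
      funext l
      simp [dn]
    refine ⟨by rw [e]; exact v'.2, ?_⟩
    congr 1
    exact Subtype.ext e
  | succ t ih =>
    obtain ⟨hmem, hfe⟩ := ih (by push_cast at ht; omega)
    have hmem' : dn v'.1 i₂ (t + 1) ∈ region I α := by
      apply mem_region_of
      · intro l
        have h1' := hv' l
        have h2 := hα l
        simp only [dn]
        split_ifs with h
        · subst h
          push_cast at ht ⊢
          omega
        · omega
      · refine exps_of_le htop ?_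
        rw [Finsupp.le_def]
        intro l
        simp only [toN_apply, stp, dn]
        apply Int.toNat_le_toNat
        have h2 := hα l
        by_cases hl1 : l = i₁
        · have hl2 : l ≠ i₂ := fun h => h12 (hl1.symm.trans h)
          have h3 : α l < 0 := by rw [hl1]; exact h1
          rw [if_pos hl1, if_neg hl2]
          omega
        · rw [if_neg hl1]
          by_cases hl2 : l = i₂
          · subst hl2
            rw [if_pos rfl]
            push_cast at ht ⊢
            omega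
          · rw [if_neg hl2]
            omega
      · intro _ hcon
        apply notMem_of_region_nn v'.2 hv'
        refine exps_of_le hcon ?_
        rw [Finsupp.le_def]
        intro l
        simp only [toN_apply, dn]
        apply Int.toNat_le_toNat
        split_ifs
        · have : (0 : ℤ) ≤ ((t + 1 : ℕ) : ℤ) := Int.natCast_nonneg _
          omega
        · omega
    refine ⟨hmem', ?_⟩
    rw [← hfe]
    exact hf.step ⟨_, hmem'⟩ ⟨_, hmem⟩ i₂ (stp_dn_succ v'.1 i₂ t).symm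

theorem adm_eq_zero' (hI : IsMonomial I) [Module.Finite k (MvPolynomial σ k ⧸ I)]
    {f : region I α → k} (hf : IsAdm I α f) (hα : ∀ i, α i ≤ 0)
    {i₁ i₂ : σ} (h12 : i₁ ≠ i₂) (h1 : α i₁ < 0) (h2 : α i₂ < 0) : ∀ v : region I α, f v = 0 := by
  have key : ∀ m : ℕ, ∀ v : region I α, nn v.1 → (v.1 i₂).toNat = m → f v = 0 := by
    intro m
    induction m using Nat.strong_induction_on with
    | _ m ih =>
      intro v hv hm
      obtain ⟨v', hv'nn, hfv', hsame, htop⟩ := exists_top hI hf i₁ v hv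
      rw [← hfv']
      have hv'2 : v'.1 i₂ = (m : ℤ) := by
        rw [hsame i₂ h12.symm, ← hm, Int.toNat_of_nonneg (hv i₂)]
      obtain ⟨d, hd⟩ : ∃ d : ℕ, (d : ℤ) = -α i₂ :=
        ⟨(-α i₂).toNat, Int.toNat_of_nonneg (by omega)⟩
      have hdpos : 1 ≤ d := by omega
      by_cases hmd : m + 1 ≤ d
      · obtain ⟨hmem, hfeq⟩ := down_step' hf hα h12 h1 v' hv'nn htop (m + 1) (by omega)
        rw [← hfeq]
        apply hf.neg
        intro hnn
        have h1' := hnn i₂
        simp only [dn, if_true] at h1'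
        push_cast at h1'
        omega
      · obtain ⟨hmem, hfeq⟩ := down_step' hf hα h12 h1 v' hv'nn htop d (by omega)
        rw [← hfeq]
        refine ih (m - d) (by omega) ⟨_, hmem⟩ ?_ ?_
        · intro l
          have h1' := hv'nn l
          simp only [dn]
          split_ifs with h
          · subst h
            omega
          · omega
        · simp only [dn, if_true]
          omega
  intro v
  by_cases hv : nn v.1
  · exact key _ v hv rfl
  · exact hf.neg v hv

theorem tPiece_eq_bot_of_nonpos (hI : IsMonomial I) [Module.Finite k (MvPolynomial σ k ⧸ I)]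
    (hα : ∀ i, α i ≤ 0) {i₁ i₂ : σ} (h12 : i₁ ≠ i₂) (h1 : α i₁ < 0) (h2 : α i₂ < 0) :
    tPiece I α = ⊥ := by
  rw [eq_bot_iff]
  intro φ hφ
  rw [Submodule.mem_bot]
  exact eq_zero_of_co_eq_zero hI hφ (adm_eq_zero' hI (isAdm_co hI hφ) hα h12 h1 h2)

theorem single_le {i₀ : σ} {β : σ →₀ ℕ} (h : 1 ≤ β i₀) : Finsupp.single i₀ 1 ≤ β := by
  rw [Finsupp.le_def]
  intro l
  by_cases hl : l = i₀
  · rw [hl, Finsupp.single_eq_same]
    exact h
  · rw [Finsupp.single_eq_of_ne hl]
    exact Nat.zero_le _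

theorem tPiece_eq_bot_V1 (hI : IsMonomial I) {i₀ : σ} (he : Finsupp.single i₀ 1 ∈ exps I)
    (h0 : α i₀ < 0) {l : σ} (hl : l ≠ i₀) (hl0 : α l < 0) : tPiece I α = ⊥ := by
  rw [eq_bot_iff]
  intro φ hφ
  rw [Submodule.mem_bot]
  have hx0 : φ (mon I he) = 0 := by
    apply eq_zero_of_not_nn hφ he
    intro hnn
    have h := hnn l
    simp only [tr] at h
    rw [Finsupp.single_eq_of_ne hl] at h
    push_cast at h
    omega
  have hall : ∀ (β : σ →₀ ℕ) (hβ : β ∈ exps I), φ (mon I hβ) = 0 := by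
    intro β hβ
    by_cases hnn : nn (tr α β)
    · have h1 : 1 ≤ β i₀ := by
        have h := hnn i₀
        simp only [tr] at h
        omega
      have e : mon I hβ = (monomial (β - Finsupp.single i₀ 1) (1 : k)) • mon I he := by
        apply Subtype.ext
        show monomial β (1 : k) =
          monomial (β - Finsupp.single i₀ 1) 1 * monomial (Finsupp.single i₀ 1) 1
        rw [monomial_mul, one_mul, tsub_add_cancel_of_le (single_le h1)]
      rw [e, map_smul, hx0, smul_zero]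
    · exact eq_zero_of_not_nn hφ hβ hnn
  refine eq_zero_of_co_eq_zero hI hφ (fun v => ?_)
  rw [co, hall _ (bOf_mem I α v.2), map_zero]

theorem tPiece_eq_bot_V2 (hI : IsMonomial I) {i₀ : σ} (he : Finsupp.single i₀ 1 ∈ exps I)
    (h0 : 1 ≤ α i₀) : tPiece I α = ⊥ := by
  rw [eq_bot_iff]
  intro φ hφ
  rw [Submodule.mem_bot]
  refine eq_zero_of_co_eq_zero hI hφ (fun v => co_eq_zero_of_not_nn hφ v ?_)
  intro hnn
  apply notMem_of_region_nn v.2 hnn
  refine exps_of_le he (single_le ?_)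
  obtain ⟨⟨β, hβ, hv⟩, -⟩ := v.2
  have h1 : 1 ≤ v.1 i₀ := by
    rw [hv]
    show 1 ≤ (β i₀ : ℤ) + α i₀
    have := Int.natCast_nonneg (β i₀)
    omega
  rw [toN_apply]
  omega

theorem exists_pow_mem (hI : IsMonomial I) [Module.Finite k (MvPolynomial σ k ⧸ I)]
    (g : ℕ → (σ →₀ ℕ)) (hg : Function.Injective g) : ∃ c : ℕ, g c ∈ exps I := by
  by_contra hcon
  push Not at hcon
  exact (Set.infinite_of_injective_forall_mem (f := g) hg hcon)
    (Groth.Agent.Helper6.MonoIdeal.finite_compl_exps I hI)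

end general

section three

variable {k : Type*} [Field k] {I : Ideal (MvPolynomial (Fin 3) k)}

theorem e3_0 (a b c : ℕ) : e3 a b c 0 = a := rfl
theorem e3_1 (a b c : ℕ) : e3 a b c 1 = b := rfl
theorem e3_2 (a b c : ℕ) : e3 a b c 2 = c := rfl

theorem e3_congr {a b c a' b' c' : ℕ} (ha : a = a') (hb : b = b') (hc : c = c') :
    e3 a b c = e3 a' b' c' := by rw [ha, hb, hc]

theorem e3_le {a b c a' b' c' : ℕ} (ha : a ≤ a') (hb : b ≤ b') (hc : c ≤ c') :
    e3 a b c ≤ e3 a' b' c' := by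
  rw [Finsupp.le_def]
  intro l
  fin_cases l
  · exact ha
  · exact hb
  · exact hc

theorem e3_ext (β : Fin 3 →₀ ℕ) : β = e3 (β 0) (β 1) (β 2) := by
  ext l
  fin_cases l <;> rfl

theorem toN_eq_e3 (v : Fin 3 → ℤ) : toN v = e3 (v 0).toNat (v 1).toNat (v 2).toNat := by
  ext l
  fin_cases l <;> rfl

theorem move_eq (β : Fin 3 →₀ ℕ) (i j : Fin 3) (a b c : ℕ)
    (h0 : β 0 - (if j = 0 then 1 else 0) + (if i = 0 then 1 else 0) = a)
    (h1 : β 1 - (if j = 1 then 1 else 0) + (if i = 1 then 1 else 0) = b)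
    (h2 : β 2 - (if j = 2 then 1 else 0) + (if i = 2 then 1 else 0) = c) :
    β - Finsupp.single j 1 + Finsupp.single i 1 = e3 a b c := by
  ext l
  rw [Finsupp.add_apply, Finsupp.tsub_apply, Finsupp.single_apply, Finsupp.single_apply]
  fin_cases l
  · exact h0
  · exact h1
  · exact h2

theorem single_zero_eq : (Finsupp.single (0 : Fin 3) 1 : Fin 3 →₀ ℕ) = e3 1 0 0 := by
  ext l
  rw [Finsupp.single_apply]
  fin_cases l <;> rfl

theorem X_mem_iff : (X 0 : MvPolynomial (Fin 3) k) ∈ I ↔ e3 1 0 0 ∈ exps I := by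
  show monomial (Finsupp.single (0 : Fin 3) 1) (1 : k) ∈ I ↔ _
  rw [single_zero_eq]
  rfl

theorem exists_data (hI : IsStronglyStable I) [Module.Finite k (MvPolynomial (Fin 3) k ⧸ I)]
    (hx : e3 1 0 0 ∉ exps I) :
    ∃ c j : ℕ, 1 ≤ c ∧ 1 ≤ j ∧ e3 0 0 c ∈ exps I ∧ e3 0 0 (c - 1) ∉ exps I ∧
      e3 1 0 (c - 1) ∈ exps I ∧ e3 0 1 (c - 1) ∈ exps I ∧
      e3 1 j 0 ∈ exps I ∧ e3 0 j 0 ∉ exps I ∧ e3 1 (j - 1) 0 ∉ exps I := by
  classical
  have h0 : e3 0 0 0 ∉ exps I := fun h => hx (exps_of_le h (e3_le (by omega) le_rfl le_rfl))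
  have hexz : ∃ c : ℕ, e3 0 0 c ∈ exps I :=
    exists_pow_mem hI.1 (fun c => e3 0 0 c) (fun c c' h => by
      have := DFunLike.congr_fun h 2
      exact this)
  have hexy : ∃ b : ℕ, e3 0 b 0 ∈ exps I :=
    exists_pow_mem hI.1 (fun b => e3 0 b 0) (fun b b' h => by
      have := DFunLike.congr_fun h 1
      exact this)
  obtain ⟨c, hc⟩ : ∃ c, c = Nat.find hexz := ⟨_, rfl⟩
  have hcE : e3 0 0 c ∈ exps I := by rw [hc]; exact Nat.find_spec hexz
  have hc1 : 1 ≤ c := by
    by_contra hcon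
    have : c = 0 := by omega
    rw [this] at hcE
    exact h0 hcE
  have hcmin : e3 0 0 (c - 1) ∉ exps I := Nat.find_min hexz (by omega)
  have hxc : e3 1 0 (c - 1) ∈ exps I := by
    have h := hI.2 (e3 0 0 c) hcE 0 2 (by decide) (by rw [e3_2]; omega)
    rw [move_eq (e3 0 0 c) 0 2 1 0 (c - 1) rfl rfl rfl] at h
    exact h
  have hyc : e3 0 1 (c - 1) ∈ exps I := by
    have h := hI.2 (e3 0 0 c) hcE 1 2 (by decide) (by rw [e3_2]; omega)
    rw [move_eq (e3 0 0 c) 1 2 0 1 (c - 1) rfl rfl rfl] at h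
    exact h
  obtain ⟨b, hb⟩ : ∃ b, b = Nat.find hexy := ⟨_, rfl⟩
  have hbE : e3 0 b 0 ∈ exps I := by rw [hb]; exact Nat.find_spec hexy
  have hb1 : 1 ≤ b := by
    by_contra hcon
    have : b = 0 := by omega
    rw [this] at hbE
    exact h0 hbE
  have hxb : e3 1 (b - 1) 0 ∈ exps I := by
    have h := hI.2 (e3 0 b 0) hbE 0 1 (by decide) (by rw [e3_1]; omega)
    rw [move_eq (e3 0 b 0) 0 1 1 (b - 1) 0 rfl rfl rfl] at h
    exact h
  have hexj : ∃ j : ℕ, e3 1 j 0 ∈ exps I := ⟨b - 1, hxb⟩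
  obtain ⟨j, hj⟩ : ∃ j, j = Nat.find hexj := ⟨_, rfl⟩
  have hjE : e3 1 j 0 ∈ exps I := by rw [hj]; exact Nat.find_spec hexj
  have hj1 : 1 ≤ j := by
    by_contra hcon
    have : j = 0 := by omega
    rw [this] at hjE
    exact hx hjE
  have hjb : j ≤ b - 1 := by rw [hj]; exact Nat.find_min' hexj hxb
  have hj0 : e3 0 j 0 ∉ exps I := Nat.find_min hexy (by omega)
  have hjmin : e3 1 (j - 1) 0 ∉ exps I := Nat.find_min hexj (by omega)
  exact ⟨c, j, hc1, hj1, hcE, hcmin, hxc, hyc, hjE, hj0, hjmin⟩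

theorem stp_apply (a : Fin 3 → ℤ) (i j : Fin 3) : stp a i j = a j + if j = i then 1 else 0 := rfl

open Classical in
theorem sigPiece_ne_bot (hI : IsMonomial I) {c j : ℕ} (hc : 1 ≤ c) (hj : 1 ≤ j)
    (h1 : e3 0 0 c ∈ exps I) (h2 : e3 0 0 (c - 1) ∉ exps I) (h3 : e3 1 0 (c - 1) ∈ exps I)
    (h4 : e3 0 1 (c - 1) ∈ exps I) (h5 : e3 1 j 0 ∈ exps I) (h6 : e3 0 j 0 ∉ exps I)
    (h7 : e3 1 (j - 1) 0 ∉ exps I) : sigPiece I ({0, 1} : Set (Fin 3)) ≠ ⊥ := by
  obtain ⟨α, hα⟩ : ∃ α : Fin 3 → ℤ, α = ![-1, -(j : ℤ), (c : ℤ) - 1] := ⟨_, rfl⟩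
  obtain ⟨γ, hγ⟩ : ∃ γ : Fin 3 → ℤ, γ = ![0, 0, (c : ℤ) - 1] := ⟨_, rfl⟩
  have hα0 : α 0 = -1 := by rw [hα]; rfl
  have hα1 : α 1 = -(j : ℤ) := by rw [hα]; rfl
  have hα2 : α 2 = (c : ℤ) - 1 := by rw [hα]; rfl
  have hγ0 : γ 0 = 0 := by rw [hγ]; rfl
  have hγ1 : γ 1 = 0 := by rw [hγ]; rfl
  have hγ2 : γ 2 = (c : ℤ) - 1 := by rw [hγ]; rfl
  have hγnn : nn γ := by
    intro l
    fin_cases l
    · show 0 ≤ γ 0
      omega
    · show 0 ≤ γ 1
      omega
    · show 0 ≤ γ 2
      omega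
  have hγN : toN γ = e3 0 0 (c - 1) := by
    rw [toN_eq_e3, hγ0, hγ1, hγ2]
    exact e3_congr (by omega) (by omega) (by omega)
  have hγreg : γ ∈ region I α := by
    apply mem_region_of γ
    · intro l
      fin_cases l
      · show 0 ≤ γ 0 - α 0
        omega
      · show 0 ≤ γ 1 - α 1
        omega
      · show 0 ≤ γ 2 - α 2
        omega
    · rw [toN_eq_e3]
      show e3 (γ 0 - α 0).toNat (γ 1 - α 1).toNat (γ 2 - α 2).toNat ∈ exps I
      rw [hγ0, hγ1, hγ2, hα0, hα1, hα2]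
      have e : e3 (0 - (-1 : ℤ)).toNat (0 - (-(j : ℤ))).toNat ((c : ℤ) - 1 - ((c : ℤ) - 1)).toNat =
          e3 1 j 0 := e3_congr (by omega) (by omega) (by omega)
      rw [e]
      exact h5
    · intro _
      rw [hγN]
      exact h2
  have hcases : ∀ l : Fin 3, l = 0 ∨ l = 1 ∨ l = 2 := by
    intro l
    fin_cases l
    · exact Or.inl rfl
    · exact Or.inr (Or.inl rfl)
    · exact Or.inr (Or.inr rfl)
  have hup : ∀ l : Fin 3, stp γ l ∉ region I α := by
    intro l hmem
    apply hmem.2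
    have hnn' : nn (stp γ l) := by
      intro l'
      have := hγnn l'
      rw [stp_apply]
      split_ifs <;> omega
    refine ⟨hnn', ?_⟩
    show toN (stp γ l) ∈ exps I
    rw [toN_eq_e3, stp_apply, stp_apply, stp_apply, hγ0, hγ1, hγ2]
    rcases hcases l with rfl | rfl | rfl
    · rw [if_pos rfl, if_neg (by decide), if_neg (by decide)]
      have e : e3 (0 + (1 : ℤ)).toNat (0 + (0 : ℤ)).toNat ((c : ℤ) - 1 + 0).toNat =
          e3 1 0 (c - 1) := e3_congr (by omega) (by omega) (by omega)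
      rw [e]
      exact h3
    · rw [if_neg (by decide), if_pos rfl, if_neg (by decide)]
      have e : e3 (0 + (0 : ℤ)).toNat (0 + (1 : ℤ)).toNat ((c : ℤ) - 1 + 0).toNat =
          e3 0 1 (c - 1) := e3_congr (by omega) (by omega) (by omega)
      rw [e]
      exact h4
    · rw [if_neg (by decide), if_neg (by decide), if_pos rfl]
      have e : e3 (0 + (0 : ℤ)).toNat (0 + (0 : ℤ)).toNat ((c : ℤ) - 1 + 1).toNat =
          e3 0 0 c := e3_congr (by omega) (by omega) (by omega)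
      rw [e]
      exact h1
  have hdown : ∀ v : region I α, ∀ l : Fin 3, γ = stp v.1 l → False := by
    intro v l hγv
    obtain ⟨⟨β', hβ', hv⟩, -⟩ := v.2
    have c0 : γ 0 = (β' 0 : ℤ) + α 0 + if (0 : Fin 3) = l then 1 else 0 := by
      rw [hγv, stp_apply, hv]
    have c1 : γ 1 = (β' 1 : ℤ) + α 1 + if (1 : Fin 3) = l then 1 else 0 := by
      rw [hγv, stp_apply, hv]
    have c2 : γ 2 = (β' 2 : ℤ) + α 2 + if (2 : Fin 3) = l then 1 else 0 := by
      rw [hγv, stp_apply, hv]
    rw [hγ0, hα0] at c0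
    rw [hγ1, hα1] at c1
    rw [hγ2, hα2] at c2
    rcases hcases l with rfl | rfl | rfl
    · rw [if_pos rfl] at c0
      rw [if_neg (by decide)] at c1 c2
      have e : β' = e3 0 j 0 := by
        rw [e3_ext β']
        exact e3_congr (by omega) (by omega) (by omega)
      rw [e] at hβ'
      exact h6 hβ'
    · rw [if_pos rfl] at c1
      rw [if_neg (by decide)] at c0 c2
      have e : β' = e3 1 (j - 1) 0 := by
        rw [e3_ext β']
        exact e3_congr (by omega) (by omega) (by omega)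
      rw [e] at hβ'
      exact h7 hβ'
    · rw [if_pos rfl] at c2
      omega
  have hadm : IsAdm I α (fun v : region I α => if v.1 = γ then (1 : k) else 0) := by
    refine ⟨fun v hv => ?_, fun v w l hw => ?_⟩
    · have hne : v.1 ≠ γ := fun h => hv (h ▸ hγnn)
      show (if v.1 = γ then (1 : k) else 0) = 0
      rw [if_neg hne]
    · have hv : v.1 ≠ γ := by
        intro h
        apply hup l
        have : stp γ l = w.1 := by rw [hw, ← h]; rfl
        rw [this]
        exact w.2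
      have hw' : w.1 ≠ γ := by
        intro h
        exact hdown v l (by rw [← h, hw]; rfl)
      show (if v.1 = γ then (1 : k) else 0) = if w.1 = γ then (1 : k) else 0
      rw [if_neg hv, if_neg hw']
  have hmem := phiOf_mem hI hadm
  have hco := co_phiOf hI hadm ⟨γ, hγreg⟩
  have hco' : co I α (phiOf hI hadm) ⟨γ, hγreg⟩ = 1 := by
    rw [hco]
    show (if γ = γ then (1 : k) else 0) = 1
    rw [if_pos rfl]
  intro hbot
  have hle : tPiece I α ≤ sigPiece I ({0, 1} : Set (Fin 3)) := by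
    unfold sigPiece
    refine le_iSup_of_le ⟨α, ?_⟩ le_rfl
    intro i
    fin_cases i
    · show α 0 < 0 ↔ (0 : Fin 3) ∈ ({0, 1} : Set (Fin 3))
      rw [hα0]
      simp
    · show α 1 < 0 ↔ (1 : Fin 3) ∈ ({0, 1} : Set (Fin 3))
      rw [hα1]
      simp
      omega
    · show α 2 < 0 ↔ (2 : Fin 3) ∈ ({0, 1} : Set (Fin 3))
      rw [hα2]
      simp
      omega
  rw [hbot, le_bot_iff] at hle
  rw [hle, Submodule.mem_bot] at hmem
  rw [hmem] at hco'
  have hz : co I α (0 : Tgt I) ⟨γ, hγreg⟩ = 0 := by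
    rw [co, LinearMap.zero_apply, map_zero]
  rw [hz] at hco'
  exact zero_ne_one hco'

theorem main (hI : IsStronglyStable I) [Module.Finite k (MvPolynomial (Fin 3) k ⧸ I)] :
    (MvPolynomial.X 0 : MvPolynomial (Fin 3) k) ∈ I ↔
      (sigPiece I ({1, 2} : Set (Fin 3)) = ⊥ ∧ sigPiece I ({0, 2} : Set (Fin 3)) = ⊥ ∧
        sigPiece I ({0, 1} : Set (Fin 3)) = ⊥) := by
  rw [X_mem_iff]
  constructor
  · intro hx
    have he : Finsupp.single (0 : Fin 3) 1 ∈ exps I := by rw [single_zero_eq]; exact hx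
    refine ⟨?_, ?_, ?_⟩
    · unfold sigPiece
      rw [iSup_eq_bot]
      rintro ⟨α, hα⟩
      have h0 : ¬ α 0 < 0 := fun h => by
        have := (hα 0).mp h
        simp at this
      have h1 : α 1 < 0 := (hα 1).mpr (by simp)
      have h2 : α 2 < 0 := (hα 2).mpr (by simp)
      by_cases h00 : α 0 = 0
      · refine tPiece_eq_bot_of_nonpos hI.1 (fun i => ?_) (i₁ := 1) (i₂ := 2) (by decide) h1 h2
        fin_cases i
        · show α 0 ≤ 0
          omega
        · show α 1 ≤ 0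
          omega
        · show α 2 ≤ 0
          omega
      · have h01 : 1 ≤ α 0 := by omega
        exact tPiece_eq_bot_V2 hI.1 he h01
    · unfold sigPiece
      rw [iSup_eq_bot]
      rintro ⟨α, hα⟩
      have h0 : α 0 < 0 := (hα 0).mpr (by simp)
      have h2 : α 2 < 0 := (hα 2).mpr (by simp)
      exact tPiece_eq_bot_V1 hI.1 he h0 (l := 2) (by decide) h2
    · unfold sigPiece
      rw [iSup_eq_bot]
      rintro ⟨α, hα⟩
      have h0 : α 0 < 0 := (hα 0).mpr (by simp)
      have h1 : α 1 < 0 := (hα 1).mpr (by simp)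
      exact tPiece_eq_bot_V1 hI.1 he h0 (l := 1) (by decide) h1
  · rintro ⟨-, -, h3⟩
    by_contra hx
    obtain ⟨c, j, hc1, hj1, a1, a2, a3, a4, a5, a6, a7⟩ := exists_data hI hx
    exact sigPiece_ne_bot hI.1 hc1 hj1 a1 a2 a3 a4 a5 a6 a7 h3

end three

end Groth.Agent.Helper6.StableX
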