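import Mathlib
import Groth.Prelude.Def_W4c1hilbpnTgt
import Groth.Agent.Helper6.StableX

set_option autoImplicit false
set_option linter.style.haveILetI false
set_option linter.unusedSectionVars false

/-!
# Tangent vectors from a socle monomial and a minimal generator; three corner generators
-/

namespace Groth.Agent.Helper6.SocleGen

open MvPolynomial W4c1hilbpn Groth.Agent.Helper7.HTa Groth.Agent.Helper7.HTb
  Groth.Agent.Helper7.HTc Groth.Agent.Helper7.HTd Groth.Agent.Helper6.TgtVanish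
  Groth.Agent.Helper6.StableX

section general

variable {σ : Type*} {k : Type*} [Field k] [Fintype σ] [DecidableEq σ]
variable {I : Ideal (MvPolynomial σ k)}

/-- a socle monomial `γ` and a minimal generator `β` give a nonzero tangent vector of
multidegree `γ - β` -/
theorem tPiece_ne_bot_of_socle (hI : IsMonomial I) {γ β : σ →₀ ℕ} (hγ : γ ∉ exps I)
    (hβ : β ∈ exps I) (hsoc : ∀ m, γ + Finsupp.single m 1 ∈ exps I)
    (hmin : ∀ (m : σ) (β' : σ →₀ ℕ), β' + Finsupp.single m 1 = β → β' ∉ exps I) :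
    tPiece I (fun m => (γ m : ℤ) - (β m : ℤ)) ≠ ⊥ := by
  classical
  obtain ⟨α, hα⟩ : ∃ α : σ → ℤ, α = fun m => (γ m : ℤ) - (β m : ℤ) := ⟨_, rfl⟩
  rw [← hα]
  have hαm : ∀ m, α m = (γ m : ℤ) - (β m : ℤ) := fun m => by rw [hα]
  have hnnγ : nn (toInt γ) := fun m => Int.natCast_nonneg _
  have hγreg : toInt γ ∈ region I α := by
    have e : (fun l => toInt γ l - α l) = toInt β := by
      funext l
      rw [hαm]
      simp only [toInt]
      ring
    apply mem_region_of (toInt γ)
    · rw [e]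
      exact fun m => Int.natCast_nonneg _
    · rw [e, toN_toInt]
      exact hβ
    · intro _
      rw [toN_toInt]
      exact hγ
  have hstp : ∀ l, stp (toInt γ) l = toInt (γ + Finsupp.single l 1) := by
    intro l
    funext m
    show (γ m : ℤ) + (if m = l then 1 else 0) = (((γ + Finsupp.single l 1 : σ →₀ ℕ) m : ℕ) : ℤ)
    rw [Finsupp.add_apply, Finsupp.single_apply]
    by_cases h : m = l
    · rw [if_pos h, if_pos h.symm]
      push_cast
      ring
    · rw [if_neg h, if_neg (Ne.symm h)]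
      push_cast
      ring
  have hup : ∀ l, stp (toInt γ) l ∉ region I α := by
    intro l hmem
    have h2 := hmem.2
    rw [hstp] at h2
    apply h2
    refine ⟨fun m => Int.natCast_nonneg _, ?_⟩
    show toN (toInt (γ + Finsupp.single l 1)) ∈ exps I
    rw [toN_toInt]
    exact hsoc l
  have hdown : ∀ v : region I α, ∀ l, toInt γ = stp v.1 l → False := by
    intro v l h
    obtain ⟨⟨β', hβ', hv⟩, -⟩ := v.2
    apply hmin l β' _ hβ'
    ext m
    have c := congrFun h m
    rw [hv] at c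
    simp only [toInt, stp] at c
    rw [hαm] at c
    rw [Finsupp.add_apply, Finsupp.single_apply]
    by_cases hml : m = l
    · rw [if_pos hml] at c
      rw [if_pos hml.symm]
      omega
    · rw [if_neg hml] at c
      rw [if_neg (Ne.symm hml)]
      omega
  have hadm : IsAdm I α (fun v : region I α => if v.1 = toInt γ then (1 : k) else 0) := by
    refine ⟨fun v hv => ?_, fun v w l hw => ?_⟩
    · have hne : v.1 ≠ toInt γ := fun h => hv (h ▸ hnnγ)
      show (if v.1 = toInt γ then (1 : k) else 0) = 0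
      rw [if_neg hne]
    · have hv : v.1 ≠ toInt γ := by
        intro h
        apply hup l
        have : stp (toInt γ) l = w.1 := by rw [hw, ← h]; rfl
        rw [this]
        exact w.2
      have hw' : w.1 ≠ toInt γ := by
        intro h
        exact hdown v l (by rw [← h, hw]; rfl)
      show (if v.1 = toInt γ then (1 : k) else 0) = if w.1 = toInt γ then (1 : k) else 0
      rw [if_neg hv, if_neg hw']
  have hmem := phiOf_mem hI hadm
  have hco := co_phiOf hI hadm ⟨toInt γ, hγreg⟩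
  have hco' : co I α (phiOf hI hadm) ⟨toInt γ, hγreg⟩ = 1 := by
    rw [hco]
    show (if toInt γ = toInt γ then (1 : k) else 0) = 1
    rw [if_pos rfl]
  intro hbot
  rw [hbot, Submodule.mem_bot] at hmem
  rw [hmem] at hco'
  have hz : co I α (0 : Tgt I) ⟨toInt γ, hγreg⟩ = 0 := by
    rw [co, LinearMap.zero_apply, map_zero]
  rw [hz] at hco'
  exact zero_ne_one hco'

theorem exists_socle_in_box (hI : IsMonomial I) [Module.Finite k (MvPolynomial σ k ⧸ I)]
    {i j : σ} (hij : i ≠ j) {A B C P : σ →₀ ℕ}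
    (hP : P ∉ exps I) (hPi : P i < A i) (hPj : P j < A j)
    (hB : B ∈ exps I) (hBi : B i ≤ A i) (hBP : ∀ m, m ≠ i → B m ≤ P m)
    (hC : C ∈ exps I) (hCj : C j ≤ A j) (hCP : ∀ m, m ≠ j → C m ≤ P m) :
    ∃ γ : σ →₀ ℕ, γ ∉ exps I ∧ γ i < A i ∧ γ j < A j ∧
      ∀ m, γ + Finsupp.single m 1 ∈ exps I := by
  classical
  have hfin := Groth.Agent.Helper6.MonoIdeal.finite_compl_exps I hI
  obtain ⟨S, hS⟩ : ∃ S : Finset (σ →₀ ℕ),
      S = hfin.toFinset.filter (fun γ => P ≤ γ ∧ γ i < A i ∧ γ j < A j) := ⟨_, rfl⟩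
  have hmemS : ∀ γ, γ ∈ S ↔ γ ∉ exps I ∧ P ≤ γ ∧ γ i < A i ∧ γ j < A j := by
    intro γ
    rw [hS, Finset.mem_filter, Set.Finite.mem_toFinset]
    rfl
  have hne : S.Nonempty := ⟨P, (hmemS P).mpr ⟨hP, le_rfl, hPi, hPj⟩⟩
  obtain ⟨γ, hγS, hmax⟩ := Finset.exists_max_image S (fun γ => γ.degree) hne
  obtain ⟨hγE, hPγ, hγi, hγj⟩ := (hmemS γ).mp hγS
  refine ⟨γ, hγE, hγi, hγj, fun m => ?_⟩
  by_contra hcon
  have hdeg : (γ + Finsupp.single m 1).degree = γ.degree + 1 := by
    rw [map_add, Finsupp.degree_single]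
  have hnotS : γ + Finsupp.single m 1 ∉ S := by
    intro h
    have := hmax _ h
    simp only [hdeg] at this
    omega
  have hPle : P ≤ γ + Finsupp.single m 1 := le_trans hPγ le_self_add
  by_cases hmi : m = i
  · rw [hmi] at hcon hnotS hPle
    by_cases hlt : γ i + 1 < A i
    · apply hnotS
      refine (hmemS _).mpr ⟨hcon, hPle, ?_, ?_⟩
      · rw [Finsupp.add_apply, Finsupp.single_eq_same]
        exact hlt
      · rw [Finsupp.add_apply, Finsupp.single_eq_of_ne (Ne.symm hij), add_zero]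
        exact hγj
    · apply hcon
      refine exps_of_le hB ?_
      rw [Finsupp.le_def]
      intro m'
      rw [Finsupp.add_apply]
      by_cases hm' : m' = i
      · rw [hm', Finsupp.single_eq_same]
        omega
      · rw [Finsupp.single_eq_of_ne hm', add_zero]
        exact le_trans (hBP m' hm') (hPγ m')
  · by_cases hmj : m = j
    · rw [hmj] at hcon hnotS hPle
      by_cases hlt : γ j + 1 < A j
      · apply hnotS
        refine (hmemS _).mpr ⟨hcon, hPle, ?_, ?_⟩
        · rw [Finsupp.add_apply, Finsupp.single_eq_of_ne hij, add_zero]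
          exact hγi
        · rw [Finsupp.add_apply, Finsupp.single_eq_same]
          exact hlt
      · apply hcon
        refine exps_of_le hC ?_
        rw [Finsupp.le_def]
        intro m'
        rw [Finsupp.add_apply]
        by_cases hm' : m' = j
        · rw [hm', Finsupp.single_eq_same]
          omega
        · rw [Finsupp.single_eq_of_ne hm', add_zero]
          exact le_trans (hCP m' hm') (hPγ m')
    · apply hnotS
      refine (hmemS _).mpr ⟨hcon, hPle, ?_, ?_⟩
      · rw [Finsupp.add_apply, Finsupp.single_eq_of_ne (Ne.symm hmi), add_zero]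
        exact hγi
      · rw [Finsupp.add_apply, Finsupp.single_eq_of_ne (Ne.symm hmj), add_zero]
        exact hγj

end general

section three

variable {k : Type*} [Field k] {I : Ideal (MvPolynomial (Fin 3) k)}

theorem exists_alpha (hI : IsMonomial I) [Module.Finite k (MvPolynomial (Fin 3) k ⧸ I)]
    {i j l : Fin 3} (hij : i ≠ j) (hil : i ≠ l) (hjl : j ≠ l)
    (hcover : ∀ m : Fin 3, m = i ∨ m = j ∨ m = l)
    {A B C : Fin 3 →₀ ℕ} (hA : A ∈ exps I) (hAl : A l = 0)
    (hAi : ∀ β', β' + Finsupp.single i 1 = A → β' ∉ exps I)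
    (hAj : ∀ β', β' + Finsupp.single j 1 = A → β' ∉ exps I)
    (hAi1 : 1 ≤ A i) (hAj1 : 1 ≤ A j)
    (hB : B ∈ exps I) (hBj : B j = 0) (hBi : B i ≤ A i) (hBi1 : 1 ≤ B i)
    (hBmin : ∀ β', β' + Finsupp.single i 1 = B → β' ∉ exps I)
    (hC : C ∈ exps I) (hCi : C i = 0) (hCj : C j ≤ A j) (hCj1 : 1 ≤ C j)
    (hCmin : ∀ β', β' + Finsupp.single j 1 = C → β' ∉ exps I) :
    ∃ α : Fin 3 → ℤ, (∀ m, α m < 0 ↔ (m = i ∨ m = j)) ∧ tPiece I α ≠ ⊥ := by
  have key : ∃ γ : Fin 3 →₀ ℕ, γ ∉ exps I ∧ γ i < A i ∧ γ j < A j ∧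
      ∀ m, γ + Finsupp.single m 1 ∈ exps I := by
    rcases le_total (C l) (B l) with h | h
    · have hPB : (B - Finsupp.single i 1) + Finsupp.single i 1 = B :=
        tsub_add_cancel_of_le (single_le hBi1)
      refine exists_socle_in_box hI hij (P := B - Finsupp.single i 1) (hBmin _ hPB) ?_ ?_
        hB hBi ?_ hC hCj ?_
      · rw [Finsupp.tsub_apply, Finsupp.single_eq_same]
        omega
      · rw [Finsupp.tsub_apply, Finsupp.single_eq_of_ne (Ne.symm hij), hBj]
        omega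
      · intro m hm
        rw [Finsupp.tsub_apply, Finsupp.single_eq_of_ne hm, Nat.sub_zero]
      · intro m hm
        rcases hcover m with hmi | hmj | hml
        · rw [hmi, hCi]
          exact Nat.zero_le _
        · exact absurd hmj hm
        · rw [hml, Finsupp.tsub_apply, Finsupp.single_eq_of_ne (Ne.symm hil), Nat.sub_zero]
          exact h
    · have hPC : (C - Finsupp.single j 1) + Finsupp.single j 1 = C :=
        tsub_add_cancel_of_le (single_le hCj1)
      refine exists_socle_in_box hI hij (P := C - Finsupp.single j 1) (hCmin _ hPC) ?_ ?_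
        hB hBi ?_ hC hCj ?_
      · rw [Finsupp.tsub_apply, Finsupp.single_eq_of_ne hij, hCi]
        omega
      · rw [Finsupp.tsub_apply, Finsupp.single_eq_same]
        omega
      · intro m hm
        rcases hcover m with hmi | hmj | hml
        · exact absurd hmi hm
        · rw [hmj, hBj]
          exact Nat.zero_le _
        · rw [hml, Finsupp.tsub_apply, Finsupp.single_eq_of_ne (Ne.symm hjl), Nat.sub_zero]
          exact h
      · intro m hm
        rw [Finsupp.tsub_apply, Finsupp.single_eq_of_ne hm, Nat.sub_zero]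
  obtain ⟨γ, hγ, hγi, hγj, hsoc⟩ := key
  refine ⟨fun m => (γ m : ℤ) - (A m : ℤ), ?_, tPiece_ne_bot_of_socle hI hγ hA hsoc ?_⟩
  · intro m
    show (γ m : ℤ) - (A m : ℤ) < 0 ↔ (m = i ∨ m = j)
    rcases hcover m with hmi | hmj | hml
    · rw [hmi]
      constructor
      · intro _
        exact Or.inl rfl
      · intro _
        omega
    · rw [hmj]
      constructor
      · intro _
        exact Or.inr rfl
      · intro _
        omega
    · rw [hml, hAl]
      constructor
      · intro h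
        have := Int.natCast_nonneg (γ l)
        push_cast at h
        omega
      · rintro (h | h)
        · exact absurd h.symm hil
        · exact absurd h.symm hjl
  · intro m β' h
    rcases hcover m with hmi | hmj | hml
    · rw [hmi] at h
      exact hAi β' h
    · rw [hmj] at h
      exact hAj β' h
    · rw [hml] at h
      have h2 := DFunLike.congr_fun h l
      rw [Finsupp.add_apply, Finsupp.single_eq_same, hAl] at h2
      omega

theorem sig_ne_bot (N : Set (Fin 3)) (i j : Fin 3) (hN : ∀ m, m ∈ N ↔ (m = i ∨ m = j))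
    (h : ∃ α : Fin 3 → ℤ, (∀ m, α m < 0 ↔ (m = i ∨ m = j)) ∧ tPiece I α ≠ ⊥) :
    sigPiece I N ≠ ⊥ := by
  obtain ⟨α, hα, hne⟩ := h
  intro hbot
  apply hne
  have hle : tPiece I α ≤ sigPiece I N := by
    unfold sigPiece
    exact le_iSup_of_le ⟨α, fun m => (hα m).trans (hN m).symm⟩ le_rfl
  rw [hbot, le_bot_iff] at hle
  exact hle

theorem notMem_of_add_single {β' A' A : Fin 3 →₀ ℕ} {m : Fin 3} (hA' : A' ∉ exps I)
    (hA'A : A' + Finsupp.single m 1 = A) (h : β' + Finsupp.single m 1 = A) : β' ∉ exps I := by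
  have e : β' = A' := add_right_cancel (h.trans hA'A.symm)
  rw [e]
  exact hA'

theorem e3_add_single0 (a b c : ℕ) (h : 1 ≤ a) :
    e3 (a - 1) b c + Finsupp.single 0 1 = e3 a b c := by
  rw [e3_ext (e3 (a - 1) b c + Finsupp.single 0 1)]
  refine e3_congr ?_ ?_ ?_
  · rw [Finsupp.add_apply, Finsupp.single_eq_same, e3_0]
    omega
  · rw [Finsupp.add_apply, Finsupp.single_eq_of_ne (by decide), e3_1, add_zero]
  · rw [Finsupp.add_apply, Finsupp.single_eq_of_ne (by decide), e3_2, add_zero]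

theorem e3_add_single1 (a b c : ℕ) (h : 1 ≤ b) :
    e3 a (b - 1) c + Finsupp.single 1 1 = e3 a b c := by
  rw [e3_ext (e3 a (b - 1) c + Finsupp.single 1 1)]
  refine e3_congr ?_ ?_ ?_
  · rw [Finsupp.add_apply, Finsupp.single_eq_of_ne (by decide), e3_0, add_zero]
  · rw [Finsupp.add_apply, Finsupp.single_eq_same, e3_1]
    omega
  · rw [Finsupp.add_apply, Finsupp.single_eq_of_ne (by decide), e3_2, add_zero]

theorem e3_add_single2 (a b c : ℕ) (h : 1 ≤ c) :
    e3 a b (c - 1) + Finsupp.single 2 1 = e3 a b c := by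
  rw [e3_ext (e3 a b (c - 1) + Finsupp.single 2 1)]
  refine e3_congr ?_ ?_ ?_
  · rw [Finsupp.add_apply, Finsupp.single_eq_of_ne (by decide), e3_0, add_zero]
  · rw [Finsupp.add_apply, Finsupp.single_eq_of_ne (by decide), e3_1, add_zero]
  · rw [Finsupp.add_apply, Finsupp.single_eq_same, e3_2]
    omega

theorem main (hI : IsMonomial I) [Module.Finite k (MvPolynomial (Fin 3) k ⧸ I)]
    (a1 a2 b1 b3 c2 c3 : ℕ) (ha1 : 0 < a1) (ha2 : 0 < a2) (hb1 : 0 < b1) (hb3 : 0 < b3)
    (hc2 : 0 < c2) (hc3 : 0 < c3)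
    (hA : e3 a1 a2 0 ∈ exps I ∧ e3 (a1 - 1) a2 0 ∉ exps I ∧ e3 a1 (a2 - 1) 0 ∉ exps I)
    (hB : e3 b1 0 b3 ∈ exps I ∧ e3 (b1 - 1) 0 b3 ∉ exps I ∧ e3 b1 0 (b3 - 1) ∉ exps I)
    (hC : e3 0 c2 c3 ∈ exps I ∧ e3 0 (c2 - 1) c3 ∉ exps I ∧ e3 0 c2 (c3 - 1) ∉ exps I)
    (hcase : (b1 ≤ a1 ∧ c2 ≤ a2) ∨ (a1 ≤ b1 ∧ c3 ≤ b3) ∨ (a2 ≤ c2 ∧ b3 ≤ c3)) :
    sigPiece I ({0, 1} : Set (Fin 3)) ≠ ⊥ ∨ sigPiece I ({0, 2} : Set (Fin 3)) ≠ ⊥ ∨
      sigPiece I ({1, 2} : Set (Fin 3)) ≠ ⊥ := by
  have hcov012 : ∀ m : Fin 3, m = 0 ∨ m = 1 ∨ m = 2 := by decide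
  have hcov021 : ∀ m : Fin 3, m = 0 ∨ m = 2 ∨ m = 1 := by decide
  have hcov120 : ∀ m : Fin 3, m = 1 ∨ m = 2 ∨ m = 0 := by decide
  rcases hcase with ⟨h1, h2⟩ | ⟨h1, h2⟩ | ⟨h1, h2⟩
  · left
    refine sig_ne_bot _ 0 1 (fun m => Iff.rfl) ?_
    exact exists_alpha hI (i := 0) (j := 1) (l := 2) (by decide) (by decide) (by decide) hcov012
      (A := e3 a1 a2 0) (B := e3 b1 0 b3) (C := e3 0 c2 c3)
      hA.1 rfl
      (fun β' h => notMem_of_add_single hA.2.1 (e3_add_single0 a1 a2 0 ha1) h)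
      (fun β' h => notMem_of_add_single hA.2.2 (e3_add_single1 a1 a2 0 ha2) h)
      ha1 ha2
      hB.1 rfl h1 hb1
      (fun β' h => notMem_of_add_single hB.2.1 (e3_add_single0 b1 0 b3 hb1) h)
      hC.1 rfl h2 hc2
      (fun β' h => notMem_of_add_single hC.2.1 (e3_add_single1 0 c2 c3 hc2) h)
  · right
    left
    refine sig_ne_bot _ 0 2 (fun m => Iff.rfl) ?_
    exact exists_alpha hI (i := 0) (j := 2) (l := 1) (by decide) (by decide) (by decide) hcov021
      (A := e3 b1 0 b3) (B := e3 a1 a2 0) (C := e3 0 c2 c3)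
      hB.1 rfl
      (fun β' h => notMem_of_add_single hB.2.1 (e3_add_single0 b1 0 b3 hb1) h)
      (fun β' h => notMem_of_add_single hB.2.2 (e3_add_single2 b1 0 b3 hb3) h)
      hb1 hb3
      hA.1 rfl h1 ha1
      (fun β' h => notMem_of_add_single hA.2.1 (e3_add_single0 a1 a2 0 ha1) h)
      hC.1 rfl h2 hc3
      (fun β' h => notMem_of_add_single hC.2.2 (e3_add_single2 0 c2 c3 hc3) h)
  · right
    right
    refine sig_ne_bot _ 1 2 (fun m => Iff.rfl) ?_
    exact exists_alpha hI (i := 1) (j := 2) (l := 0) (by decide) (by decide) (by decide) hcov120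
      (A := e3 0 c2 c3) (B := e3 a1 a2 0) (C := e3 b1 0 b3)
      hC.1 rfl
      (fun β' h => notMem_of_add_single hC.2.1 (e3_add_single1 0 c2 c3 hc2) h)
      (fun β' h => notMem_of_add_single hC.2.2 (e3_add_single2 0 c2 c3 hc3) h)
      hc2 hc3
      hA.1 rfl h1 ha2
      (fun β' h => notMem_of_add_single hA.2.2 (e3_add_single1 a1 a2 0 ha2) h)
      hB.1 rfl h2 hb3
      (fun β' h => notMem_of_add_single hB.2.2 (e3_add_single2 b1 0 b3 hb3) h)

end three

end Groth.Agent.Helper6.SocleGen
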