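import Mathlib
import Groth.Prelude.Def_EtBase
import Groth.Agent.Helper4.SubConst

set_option autoImplicit false
set_option linter.style.haveILetI false
set_option linter.unusedSectionVars false
set_option linter.unusedVariables false
set_option linter.unusedSimpArgs false

/-!
# Existence of specialization arrows between geometric points of the small étale site

Given geometric points `ξ`, `ξ'` of `X`, an étale neighbourhood `(V, v)` of `ξ` and a lift `v'` of `ξ'`
to `V` whose image point is a generization of that of `v`, there is a morphism of points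
`Φ ξ' ⟶ Φ ξ` sending `v` to `v'` (a cofiltered limit of finite nonempty sets is nonempty).
-/

universe u

open CategoryTheory CategoryTheory.Limits AlgebraicGeometry Opposite

namespace Groth.Agent.Helper6.SpA

open Groth.Agent.Helper4.EtLocRing Groth.Agent.Helper4.SubConst

/-- sections of a morphism to the spectrum of a field are determined by their image point -/
lemma section_ext {K : Type u} [Field K] {P : Scheme.{u}} (p : P ⟶ Spec (CommRingCat.of K))
    (σ₁ σ₂ : Spec (CommRingCat.of K) ⟶ P) (h₁ : σ₁ ≫ p = 𝟙 _) (h₂ : σ₂ ≫ p = 𝟙 _)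
    (h : σ₁ default = σ₂ default) : σ₁ = σ₂ := by
  obtain ⟨⟨t₁, a₁⟩, rfl⟩ := (Scheme.SpecToEquivOfField K P).symm.surjective σ₁
  obtain ⟨⟨t₂, a₂⟩, rfl⟩ := (Scheme.SpecToEquivOfField K P).symm.surjective σ₂
  have ht : t₁ = t₂ := by
    simpa [Scheme.SpecToEquivOfField] using h
  subst ht
  congr 2
  let y : Spec (CommRingCat.of K) := p t₁
  let c : CommRingCat.of K ⟶ P.residueField t₁ :=
    CommRingCat.ofHom (algebraMap K y.asIdeal.ResidueField) ≫
      (Scheme.Spec.residueFieldIso (CommRingCat.of K) y).inv ≫ p.residueFieldMap t₁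
  have key : ∀ a : P.residueField t₁ ⟶ CommRingCat.of K,
      ((Scheme.SpecToEquivOfField K P).symm ⟨t₁, a⟩) ≫ p = 𝟙 _ → c ≫ a = 𝟙 _ := by
    intro a ha
    apply Spec.map_injective
    rw [Spec.map_id, ← ha]
    simp only [Scheme.SpecToEquivOfField_symm_apply, c, Spec.map_comp, Category.assoc]
    rw [← Scheme.Hom.SpecMap_residueFieldMap_fromSpecResidueField,
      ← Scheme.Spec.map_residueFieldIso_inv_eq_fromSpecResidueField]
  have k₁ := key a₁ h₁
  have k₂ := key a₂ h₂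
  ext z
  have inj : Function.Injective a₁.hom := a₁.hom.injective
  have e1 : a₁.hom (c.hom (a₁.hom z)) = a₁.hom z := by
    have := congrArg (fun m => m.hom (a₁.hom z)) k₁
    exact this
  have e2 : c.hom (a₁.hom z) = z := inj e1
  have e3 : a₂.hom (c.hom (a₁.hom z)) = a₁.hom z := by
    have := congrArg (fun m => m.hom (a₁.hom z)) k₂
    exact this
  rw [e2] at e3
  exact e3.symm

/-- finitely many lifts of a field-valued point along a quasi-compact étale morphism -/
lemma finite_lifts_qc {A B : Scheme.{u}} (f : A ⟶ B) [Etale f] [QuasiCompact f] {K : Type u}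
    [Field K] (η : Spec (CommRingCat.of K) ⟶ B) :
    Finite {l : Spec (CommRingCat.of K) ⟶ A // l ≫ f = η} := by
  let p := pullback.snd f η
  haveI : LocallyQuasiFinite p := Groth.Agent.Helper4.SchLQF.locallyQuasiFinite_of_etale p
  have hfin : (p ⁻¹' {default}).Finite := p.finite_preimage_singleton default
  haveI : Finite ↥(p ⁻¹' {default}) := hfin.to_subtype
  let σ : {l : Spec (CommRingCat.of K) ⟶ A // l ≫ f = η} → (Spec (CommRingCat.of K) ⟶ pullback f η) :=
    fun l => pullback.lift l.1 (𝟙 _) (by rw [l.2, Category.id_comp])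
  have hσ : ∀ l, σ l ≫ p = 𝟙 _ := fun l => pullback.lift_snd _ _ _
  have hσ' : ∀ l, σ l ≫ pullback.fst f η = l.1 := fun l => pullback.lift_fst _ _ _
  let g : {l : Spec (CommRingCat.of K) ⟶ A // l ≫ f = η} → ↥(p ⁻¹' {default}) :=
    fun l => ⟨σ l default, Subsingleton.elim _ _⟩
  refine Finite.of_injective g ?_
  intro l l' hll'
  have h1 : σ l default = σ l' default := congrArg Subtype.val hll'
  have h2 : σ l = σ l' := section_ext p _ _ (hσ l) (hσ l') h1
  apply Subtype.ext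
  rw [← hσ' l, ← hσ' l', h2]

variable {X : Scheme.{u}} {Ω' : Type u} [Field Ω'] [IsSepClosed Ω']

lemma ptLeft_hom (ξ' : Spec (CommRingCat.of Ω') ⟶ X) {U : X.Etale} (l : (Φ ξ').fiber.obj U) :
    ptLeft ξ' l ≫ U.hom = ξ' :=
  Over.w (show Over.mk ξ' ⟶ (Scheme.Etale.forget X).obj U from l)

/-- finitely many lifts of a geometric point to an affine étale scheme over an affine open -/
lemma finite_fiber (ξ' : Spec (CommRingCat.of Ω') ⟶ X) (U : X.Etale) [IsAffine U.left]
    (W₀ : X.Opens) (hW₀ : IsAffineOpen W₀) (hr : Set.range U.hom ⊆ (W₀ : Set X)) :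
    Finite ((Φ ξ').fiber.obj U) := by
  by_cases hne : Nonempty ((Φ ξ').fiber.obj U)
  · obtain ⟨l₀⟩ := hne
    haveI : IsAffine (W₀ : Scheme.{u}) := hW₀
    let f₀ : U.left ⟶ (W₀ : Scheme.{u}) := IsOpenImmersion.lift W₀.ι U.hom
      (by rw [Scheme.Opens.range_ι]; exact hr)
    have hf₀ : f₀ ≫ W₀.ι = U.hom := IsOpenImmersion.lift_fac _ _ _
    haveI : Etale (f₀ ≫ W₀.ι) := by rw [hf₀]; infer_instance
    haveI : Etale f₀ := Etale.of_comp f₀ W₀.ι
    let η₀ := ptLeft ξ' l₀ ≫ f₀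
    haveI := finite_lifts_qc f₀ η₀
    let g : (Φ ξ').fiber.obj U → {l : Spec (CommRingCat.of Ω') ⟶ U.left // l ≫ f₀ = η₀} :=
      fun l => ⟨ptLeft ξ' l, by
        rw [← cancel_mono W₀.ι, Category.assoc, hf₀, ptLeft_hom]
        show ξ' = (ptLeft ξ' l₀ ≫ f₀) ≫ W₀.ι
        rw [Category.assoc, hf₀, ptLeft_hom]⟩
    refine Finite.of_injective g ?_
    intro l l' h
    exact Over.OverMorphism.ext (congrArg Subtype.val h)
  · haveI : IsEmpty ((Φ ξ').fiber.obj U) := not_nonempty_iff.1 hne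
    infer_instance

variable {Ω : Type u} [Field Ω] [IsSepClosed Ω] (ξ : Spec (CommRingCat.of Ω) ⟶ X)
  (ξ' : Spec (CommRingCat.of Ω') ⟶ X) (V : X.Etale) (v : (Φ ξ).fiber.obj V)
  (v' : (Φ ξ').fiber.obj V)

lemma etale_left {U V : X.Etale} (g : U ⟶ V) : Etale g.left := by
  have hw : g.left ≫ V.hom = U.hom := MorphismProperty.Over.w g
  haveI : Etale (g.left ≫ V.hom) := by rw [hw]; infer_instance
  exact Etale.of_comp g.left V.hom

/-- lifting a generization along a morphism of neighbourhoods -/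
lemma exists_lift_gen {U : X.Etale} (u : (Φ ξ).fiber.obj U) (g : U ⟶ V)
    (hg : (Φ ξ).fiber.map g u = v)
    (h : (ptLeft ξ' v') default ⤳ (ptLeft ξ v) default) :
    ∃ u' : (Φ ξ').fiber.obj U, (Φ ξ').fiber.map g u' = v' ∧
      (ptLeft ξ' u') default ⤳ (ptLeft ξ u) default := by
  haveI := etale_left g
  have h1 : g.left ((ptLeft ξ u) default) = (ptLeft ξ v) default := by
    rw [← hg]
    rfl
  rw [← h1] at h
  obtain ⟨x', hx', hgx'⟩ := (Flat.generalizingMap g.left) h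
  obtain ⟨l', hl', hl'x⟩ := exists_lift_hom ξ' g v' x' hgx'
  exact ⟨l', hl', by rw [hl'x]; exact hx'⟩

/-- the base neighbourhood -/
abbrev e₀ : (Φ ξ).fiber.Elements := ⟨V, v⟩

/-- good neighbourhoods over the base one -/
def good : ObjectProperty (Over (e₀ ξ V v)) := fun o =>
  IsAffine o.left.1.left ∧ ∃ W₀ : X.Opens, IsAffineOpen W₀ ∧ Set.range o.left.1.hom ⊆ (W₀ : Set X)

/-- the index category -/
abbrev JJ := (good ξ V v).FullSubcategory

lemma exists_good (d : Over (e₀ ξ V v)) :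
    ∃ c : JJ ξ V v, Nonempty ((good ξ V v).ι.obj c ⟶ d) := by
  let U : X.Etale := d.left.1
  let u : (Φ ξ).fiber.obj U := d.left.2
  obtain ⟨_, ⟨W₀, hW₀ : IsAffineOpen W₀, rfl⟩, hxW₀, -⟩ :=
    (X.isBasis_affineOpens).exists_subset_of_mem_open (Set.mem_univ (ξ default)) isOpen_univ
  let p : U.left := (ptLeft ξ u) default
  have hp : p ∈ U.hom ⁻¹ᵁ W₀ := by
    show U.hom p ∈ W₀
    rw [hom_ptLeft]
    exact hxW₀
  obtain ⟨_, ⟨(O₁ : U.left.Opens), hO₁ : IsAffineOpen O₁, rfl⟩, hpO₁, hO₁O⟩ :=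
    (U.left.isBasis_affineOpens).exists_subset_of_mem_open hp (U.hom ⁻¹ᵁ W₀).isOpen
  have hr : Set.range (ptLeft ξ u) ⊆ (O₁ : Set ↥U.left) := by
    rintro _ ⟨z, rfl⟩
    rw [Subsingleton.elim z default]
    exact hpO₁
  obtain ⟨u₁, hu₁⟩ := exists_lift_open ξ U u O₁ hr
  let d₁ : (Φ ξ).fiber.Elements := ⟨etObj U O₁.ι, u₁⟩
  let k : d₁ ⟶ d.left := ⟨etObjHom U O₁.ι, hu₁⟩
  refine ⟨⟨Over.mk (k ≫ d.hom), ?_, W₀, hW₀, ?_⟩, ⟨Over.homMk k rfl⟩⟩
  · show IsAffine (O₁ : Scheme.{u})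
    exact hO₁
  · rintro _ ⟨z, rfl⟩
    show U.hom (O₁.ι z) ∈ W₀
    exact hO₁O (show O₁.ι z ∈ O₁ from z.2)

/-- the system of lifts -/
noncomputable def GG : JJ ξ V v ⥤ Type u where
  obj j := {u' : (Φ ξ').fiber.obj j.obj.left.1 // (Φ ξ').fiber.map j.obj.hom.1 u' = v'}
  map {j j'} a := ↾(fun x => ⟨(Φ ξ').fiber.map a.hom.left.1 x.1, by
    have h1 : a.hom.left ≫ j'.obj.hom = j.obj.hom := Over.w a.hom
    have h2 : a.hom.left.1 ≫ j'.obj.hom.1 = j.obj.hom.1 := congrArg Subtype.val h1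
    have h3 : (Φ ξ').fiber.map j'.obj.hom.1 ((Φ ξ').fiber.map a.hom.left.1 x.1) =
        (Φ ξ').fiber.map (a.hom.left.1 ≫ j'.obj.hom.1) x.1 :=
      (Functor.map_comp_apply _ _ _ _).symm
    exact h3.trans ((congrArg (fun m => (Φ ξ').fiber.map m x.1) h2).trans x.2)⟩)
  map_id j := by
    ext x
    show (Φ ξ').fiber.map (𝟙 j.obj.left.1) x.1 = x.1
    rw [CategoryTheory.Functor.map_id]
    rfl
  map_comp {j j' j''} a b := by
    ext x
    show (Φ ξ').fiber.map (a.hom.left.1 ≫ b.hom.left.1) x.1 = _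
    rw [CategoryTheory.Functor.map_comp]
    rfl

/-- existence of specialization arrows -/
theorem exists_hom (h : (ptLeft ξ' v') default ⤳ (ptLeft ξ v) default) :
    ∃ φ : Φ ξ' ⟶ Φ ξ, φ.hom.app V v = v' := by
  haveI : IsCofiltered (JJ ξ V v) :=
    IsCofiltered.of_exists_of_isCofiltered_of_fullyFaithful (good ξ V v).ι (exists_good ξ V v)
  haveI : ((good ξ V v).ι).Initial :=
    Functor.initial_of_exists_of_isCofiltered_of_fullyFaithful _ (exists_good ξ V v)
  haveI : ∀ j, Nonempty ((GG ξ ξ' V v v').obj j) := fun j => by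
    obtain ⟨u', hu', -⟩ := exists_lift_gen ξ ξ' V v v' j.obj.left.2 j.obj.hom.1 j.obj.hom.2 h
    exact ⟨⟨u', hu'⟩⟩
  haveI : ∀ j, Finite ((GG ξ ξ' V v v').obj j) := fun j => by
    obtain ⟨hA, W₀, hW₀, hr⟩ := j.property
    haveI := hA
    haveI := finite_fiber ξ' j.obj.left.1 W₀ hW₀ hr
    exact Subtype.finite
  obtain ⟨s, hs⟩ := nonempty_sections_of_finite_cofiltered_system (GG ξ ξ' V v v')
  let Fn : JJ ξ V v ⥤ (Φ ξ).fiber.Elements := (good ξ V v).ι ⋙ Over.forget _
  let P : (Φ ξ).fiber.Elements ⥤ Type u := CategoryOfElements.π _ ⋙ (Φ ξ').fiber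
  let t : (Fn ⋙ P).sections := ⟨fun j => (s j).1, fun {j j'} a => congrArg Subtype.val (hs a)⟩
  haveI : Fn.Initial := Functor.initial_comp _ _
  obtain ⟨t', ht'⟩ := (Functor.bijective_sectionsPrecomp Fn P).2 t
  let τ : (Φ ξ).fiber ⟶ (Φ ξ').fiber :=
    { app := fun U => ↾(fun u => t'.1 ⟨U, u⟩)
      naturality := by
        intro U U' g
        ext u
        let d₁ : (Φ ξ).fiber.Elements := ⟨U, u⟩
        let d₂ : (Φ ξ).fiber.Elements := ⟨U', (Φ ξ).fiber.map g u⟩
        let a : d₁ ⟶ d₂ := ⟨g, rfl⟩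
        exact (t'.2 a).symm }
  refine ⟨⟨τ⟩, ?_⟩
  obtain ⟨j⟩ := IsCofiltered.nonempty (C := JJ ξ V v)
  have h1 : t'.1 (Fn.obj j) = (s j).1 := congrFun (congrArg Subtype.val ht') j
  have h2 : P.map j.obj.hom (t'.1 (Fn.obj j)) = t'.1 (e₀ ξ V v) := t'.2 j.obj.hom
  show t'.1 (e₀ ξ V v) = v'
  rw [← h2, h1]
  exact (s j).2


/-- the tautological lift of a geometric point to `X` itself -/
noncomputable def topLift : (Φ ξ).fiber.obj (EtCoh.top X) :=
  Over.homMk ξ (by simp)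

/-- a morphism of points exists along any specialization -/
theorem exists_hom_of_specializes (h : ξ' default ⤳ ξ default) : Nonempty (Φ ξ' ⟶ Φ ξ) := by
  obtain ⟨φ, -⟩ := exists_hom ξ ξ' (EtCoh.top X) (topLift ξ) (topLift ξ') h
  exact ⟨φ⟩

end Groth.Agent.Helper6.SpA
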