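import Mathlib
import Groth.Prelude.Def_EtBase
import Groth.Agent.Helper6.SpA

set_option autoImplicit false
set_option linter.style.haveILetI false
set_option linter.unusedSectionVars false
set_option linter.unusedVariables false
set_option linter.unusedSimpArgs false

universe u

open CategoryTheory CategoryTheory.Limits AlgebraicGeometry Opposite

namespace Groth.Agent.Helper6.SpB

open Groth.Agent.Helper4.EtLocRing Groth.Agent.Helper4.SubConst

variable {X : Scheme.{u}} {Ω Ω' : Type u} [Field Ω] [IsSepClosed Ω] [Field Ω'] [IsSepClosed Ω']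
  {ξ : Spec (CommRingCat.of Ω) ⟶ X} {ξ' : Spec (CommRingCat.of Ω') ⟶ X}

/-- the specialization map attached to a morphism of points -/
noncomputable abbrev sp (φ : Φ ξ' ⟶ Φ ξ) (F : EtCoh.Ab X) :
    (EtCoh.stalk ξ).obj F ⟶ (EtCoh.stalk ξ').obj F :=
  (GrothendieckTopology.Point.Hom.sheafFiber (A := AddCommGrpCat.{u + 1}) φ).app F

/-- the specialization map on germs -/
lemma sp_germ (φ : Φ ξ' ⟶ Φ ξ) (F : EtCoh.Ab X) (U : X.Etale) (u : (Φ ξ).fiber.obj U)
    (s : F.obj.obj (op U)) :
    (sp φ F) ((Φ ξ).toPresheafFiber U u F.obj s) =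
      (Φ ξ').toPresheafFiber U (φ.hom.app U u) F.obj s := by
  have e : sp φ F = (GrothendieckTopology.Point.Hom.presheafFiber φ).app F.obj := rfl
  rw [e, GrothendieckTopology.Point.Hom.presheafFiber_app]
  have h := (Φ ξ).toPresheafFiber_presheafFiberDesc (P := F.obj)
    (fun Y y => (Φ ξ').toPresheafFiber Y (φ.hom.app Y y) F.obj)
  exact congrArg (fun (m : F.obj.obj (op U) ⟶ _) => m.hom s) (h U u)

end Groth.Agent.Helper6.SpB
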