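import Mathlib
import Groth.Prelude.Def_PBC
import Groth.Agent.Helper6.SpA
import Groth.Agent.Helper4.SubCons

set_option autoImplicit false
set_option linter.style.haveILetI false
set_option linter.unusedSectionVars false
set_option linter.unusedVariables false
set_option linter.unusedSimpArgs false

universe u

open CategoryTheory CategoryTheory.Limits AlgebraicGeometry Opposite Topology

namespace Groth.Agent.Helper6.SpC

open Groth.Agent.Helper4.EtLocRing Groth.Agent.Helper4.SubConst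
open Groth.Agent.Helper4.StalkFinC Groth.Agent.Helper4.NoethStrat Groth.Agent.Helper4.FlcPull
open Groth.Agent.Helper9.EtStalkPull Groth.Agent.Helper9.EtStalkExact

variable {X : Scheme.{u}}

/-- injective specialization maps and finite stalks force constructibility -/
theorem isConstructible_of_sp_mono [IsLocallyNoetherian X] (F : EtCoh.Ab X)
    (hfin : ∀ (Ω : Type u) [Field Ω] [IsSepClosed Ω] (ξ : Spec (CommRingCat.of Ω) ⟶ X),
      Finite ((EtCoh.stalk ξ).obj F))
    (hmono : ∀ (Ω Ω' : Type u) [Field Ω] [IsSepClosed Ω] [Field Ω'] [IsSepClosed Ω']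
        (ξ : Spec (CommRingCat.of Ω) ⟶ X) (ξ' : Spec (CommRingCat.of Ω') ⟶ X)
        (φ : Scheme.pointSmallEtale ξ' ⟶ Scheme.pointSmallEtale ξ),
        Mono ((GrothendieckTopology.Point.Hom.sheafFiber (A := AddCommGrpCat.{u + 1}) φ).app F)) :
    EtPBC.IsConstructible F := by
  apply isConstructible_of_local F
  intro x
  obtain ⟨T₀, g₀, hg₀, hr₀⟩ := Groth.Agent.Helper4.StrataC.exists_closedImmersion (closure {x})
    isClosed_closure
  haveI := hg₀
  obtain ⟨t₀, ht₀⟩ : x ∈ Set.range g₀ := by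
    rw [hr₀]
    exact subset_closure (Set.mem_singleton x)
  have hgen : IsGenericPoint t₀ (⊤ : Set T₀) := by
    rw [isGenericPoint_def, g₀.isEmbedding.closure_eq_preimage_closure_image, Set.image_singleton,
      ht₀]
    ext t
    simp only [Set.mem_preimage, Set.top_eq_univ, Set.mem_univ, iff_true]
    have : g₀ t ∈ Set.range g₀ := ⟨t, rfl⟩
    rw [hr₀] at this
    exact this
  let G := (EtCoh.pull g₀).obj F
  let ζ := geomPt t₀
  have e : ∀ {Ω₁ : Type u} [Field Ω₁] [IsSepClosed Ω₁] (η : Spec (CommRingCat.of Ω₁) ⟶ T₀),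
      (EtCoh.stalk η).obj G ≅ (EtCoh.stalk (η ≫ g₀)).obj F := fun η => (stalkPullIso g₀ η).app F
  haveI hfinζ : Finite ((EtCoh.stalk ζ).obj G) := by
    haveI := hfin _ (ζ ≫ g₀)
    exact Finite.of_equiv _ (e ζ).addCommGroupIsoToAddEquiv.symm.toEquiv
  obtain ⟨W₀, hzW, hflc⟩ := exists_open_flc G t₀ hgen ζ (geomPt_default t₀) ⊤ trivial (by
    intro z _
    let ξz := geomPt z
    haveI hfz := hfin _ (ξz ≫ g₀)
    haveI hfζ := hfin _ (ζ ≫ g₀)
    refine ⟨_, inferInstance, inferInstance, ξz, geomPt_default z,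
      Finite.of_equiv _ (e ξz).addCommGroupIsoToAddEquiv.symm.toEquiv, ?_⟩
    rw [Nat.card_congr (e ξz).addCommGroupIsoToAddEquiv.toEquiv,
      Nat.card_congr (e ζ).addCommGroupIsoToAddEquiv.toEquiv]
    have hsp : (ζ ≫ g₀) default ⤳ (ξz ≫ g₀) default := by
      show g₀ (ζ default) ⤳ g₀ (ξz default)
      rw [geomPt_default, geomPt_default]
      exact (hgen.specializes (Set.mem_univ z)).map g₀.continuous
    obtain ⟨φ⟩ := Groth.Agent.Helper6.SpA.exists_hom_of_specializes (ξz ≫ g₀) (ζ ≫ g₀) hsp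
    have hm := hmono _ _ (ξz ≫ g₀) (ζ ≫ g₀) φ
    exact Nat.card_le_card_of_injective _ ((AddCommGrpCat.mono_iff_injective _).1 hm))
  obtain ⟨VX, hVX, hVW⟩ := g₀.isEmbedding.isInducing.isOpen_iff.1 W₀.2
  refine ⟨⟨VX, hVX⟩, W₀, W₀.ι ≫ g₀, inferInstance, ?_, ?_, ?_⟩
  · show x ∈ VX
    have : t₀ ∈ g₀ ⁻¹' VX := by rw [hVW]; exact hzW
    rw [← ht₀]
    exact this
  · have h1 : Set.range (W₀.ι ≫ g₀) = g₀ '' Set.range W₀.ι := by
      rw [← Set.range_comp]
      rfl
    rw [h1, Scheme.Opens.range_ι]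
    have h2 : (W₀ : Set T₀) = g₀ ⁻¹' VX := hVW.symm
    rw [h2, Set.image_preimage_eq_inter_range, hr₀]
    rfl
  · exact flc_of_iso (pullCompObj W₀.ι g₀ F) hflc

end Groth.Agent.Helper6.SpC
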