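import Mathlib
import Groth.Prelude.Def_EtShriek2
import Groth.Agent.Helper6.SpB

set_option autoImplicit false
set_option linter.style.haveILetI false
set_option linter.unusedSectionVars false
set_option linter.unusedVariables false
set_option linter.unusedSimpArgs false

universe u

open CategoryTheory CategoryTheory.Limits AlgebraicGeometry Opposite

namespace Groth.Agent.Helper6.SpD

open Groth.Agent.Helper4.EtLocRing Groth.Agent.Helper4.SubConst Groth.Agent.Helper4.StalkFin
open Groth.Agent.Helper6.SpA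
open Groth.Agent.Helper9.EtStalkExact

attribute [local instance] preservesFilteredColimits_forget_ab ab5_ab

variable {V₀ X : Scheme.{u}} (j : V₀ ⟶ X) [Etale j]
  {Ω : Type u} [Field Ω] [IsSepClosed Ω] (η : Spec (CommRingCat.of Ω) ⟶ V₀)

/-- transport of a lift along `compEtale j` -/
noncomputable def pushLift {W : V₀.Etale} (w : (Φ η).fiber.obj W) :
    (Φ (η ≫ j)).fiber.obj ((EtShriek.compEtale j).obj W) :=
  Over.homMk (ptLeft η w) (by
    show ptLeft η w ≫ W.hom ≫ j = η ≫ j
    rw [← Category.assoc, ptLeft_hom])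

lemma pushLift_map {W W' : V₀.Etale} (g : W ⟶ W') (w : (Φ η).fiber.obj W) :
    (Φ (η ≫ j)).fiber.map ((EtShriek.compEtale j).map g) (pushLift j η w) =
      pushLift j η ((Φ η).fiber.map g w) :=
  Over.OverMorphism.ext rfl

variable (P : X.Etaleᵒᵖ ⥤ AddCommGrpCat.{u + 1})

/-- the comparison of the stalk of the restriction with the stalk -/
noncomputable def cmp :
    (Φ η).presheafFiber.obj ((EtShriek.compEtale j).op ⋙ P) ⟶
      (Φ (η ≫ j)).presheafFiber.obj P :=
  (Φ η).presheafFiberDesc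
    (fun W w => (Φ (η ≫ j)).toPresheafFiber ((EtShriek.compEtale j).obj W) (pushLift j η w) P)
    (by
      intro W W' g w
      have := (Φ (η ≫ j)).toPresheafFiber_w ((EtShriek.compEtale j).map g) (pushLift j η w) P
      rw [pushLift_map] at this
      exact this)

lemma cmp_germ (W : V₀.Etale) (w : (Φ η).fiber.obj W) (s : P.obj (op ((EtShriek.compEtale j).obj W))) :
    (cmp j η P) ((Φ η).toPresheafFiber W w ((EtShriek.compEtale j).op ⋙ P) s) =
      (Φ (η ≫ j)).toPresheafFiber ((EtShriek.compEtale j).obj W) (pushLift j η w) P s := by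
  have h := (Φ η).toPresheafFiber_presheafFiberDesc (P := (EtShriek.compEtale j).op ⋙ P)
    (fun W w => (Φ (η ≫ j)).toPresheafFiber ((EtShriek.compEtale j).obj W) (pushLift j η w) P)
    (by
      intro W W' g w
      have := (Φ (η ≫ j)).toPresheafFiber_w ((EtShriek.compEtale j).map g) (pushLift j η w) P
      rw [pushLift_map] at this
      exact this) W w
  exact congrArg (fun (m : P.obj (op ((EtShriek.compEtale j).obj W)) ⟶ _) => m.hom s) h

set_option backward.isDefEq.respectTransparency.types false in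
/-- neighbourhoods of `η ≫ j` mapping to one coming from `V₀` come from `V₀` -/
lemma exists_lower {W : V₀.Etale} (w : (Φ η).fiber.obj W) {Y : X.Etale}
    (y : (Φ (η ≫ j)).fiber.obj Y) (g : Y ⟶ (EtShriek.compEtale j).obj W)
    (hy : (Φ (η ≫ j)).fiber.map g y = pushLift j η w) :
    ∃ (W' : V₀.Etale) (g' : W' ⟶ W) (w' : (Φ η).fiber.obj W')
      (i : (EtShriek.compEtale j).obj W' ⟶ Y),
      (Φ η).fiber.map g' w' = w ∧ i ≫ g = (EtShriek.compEtale j).map g' ∧
        (Φ (η ≫ j)).fiber.map i (pushLift j η w') = y := by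
  have e : g.left ≫ W.hom ≫ j = Y.hom := MorphismProperty.Over.w g
  have h1 : ptLeft (η ≫ j) y ≫ g.left = ptLeft η w := congrArg (fun m => m.left) hy
  let W' : V₀.Etale := (EtShriek.compEtaleLift j g).1
  let i : (EtShriek.compEtale j).obj W' ≅ Y := (EtShriek.compEtaleLift j g).2
  let g' : W' ⟶ W := MorphismProperty.Over.homMk g.left rfl
  let w' : (Φ η).fiber.obj W' := Over.homMk (ptLeft (η ≫ j) y) (by
    show ptLeft (η ≫ j) y ≫ g.left ≫ W.hom = η
    rw [← Category.assoc, h1]
    exact ptLeft_hom η w)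
  refine ⟨W', g', w', i.hom, ?_, ?_, ?_⟩
  · exact Over.OverMorphism.ext h1
  · apply MorphismProperty.Over.Hom.ext
    show 𝟙 _ ≫ g.left = g.left
    rw [Category.id_comp]
  · apply Over.OverMorphism.ext
    show ptLeft (η ≫ j) y ≫ 𝟙 _ = ptLeft (η ≫ j) y
    rw [Category.comp_id]


theorem cmp_injective : Function.Injective (cmp j η P) := by
  rw [injective_iff_map_eq_zero]
  intro a ha
  obtain ⟨W, w, s, rfl⟩ := (Φ η).toPresheafFiber_jointly_surjective
    (P := (EtShriek.compEtale j).op ⋙ P) a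
  rw [cmp_germ] at ha
  have ha' : (Φ (η ≫ j)).toPresheafFiber ((EtShriek.compEtale j).obj W) (pushLift j η w) P s =
      (Φ (η ≫ j)).toPresheafFiber ((EtShriek.compEtale j).obj W) (pushLift j η w) P 0 := by
    rw [ha, map_zero]
  obtain ⟨Y, f, y, hy, hf⟩ := ((Φ (η ≫ j)).toPresheafFiber_eq_iff' _ _ s 0).1 ha'
  obtain ⟨W', g', w', i, h1, h2, h3⟩ := exists_lower j η w y f hy
  have h4 := (Φ η).toPresheafFiber_w_apply g' w' ((EtShriek.compEtale j).op ⋙ P) s
  rw [h1] at h4
  rw [← h4]
  have e : ((EtShriek.compEtale j).op ⋙ P).map g'.op s = 0 := by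
    show P.map ((EtShriek.compEtale j).map g').op s = 0
    rw [← h2, op_comp, P.map_comp]
    show P.map i.op (P.map f.op s) = 0
    rw [hf, map_zero, map_zero]
  rw [e, map_zero]

theorem cmp_surjective : Function.Surjective (cmp j η P) := by
  intro b
  obtain ⟨U, u, s, rfl⟩ := (Φ (η ≫ j)).toPresheafFiber_jointly_surjective (P := P) b
  obtain ⟨Y, y, g₁, g₂, hg₁, hg₂⟩ := exists_min (Φ (η ≫ j)) u (pushLift j η (topLift η))
  obtain ⟨W', g', w', i, h1, h2, h3⟩ := exists_lower j η (topLift η) y g₂ hg₂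
  refine ⟨(Φ η).toPresheafFiber W' w' ((EtShriek.compEtale j).op ⋙ P)
    (P.map i.op (P.map g₁.op s)), ?_⟩
  rw [cmp_germ]
  have e1 := (Φ (η ≫ j)).toPresheafFiber_w_apply i (pushLift j η w') P (P.map g₁.op s)
  have e2 := (Φ (η ≫ j)).toPresheafFiber_w_apply g₁ y P s
  rw [h3] at e1
  rw [hg₁] at e2
  exact e1.trans e2

theorem cmp_bijective : Function.Bijective (cmp j η P) :=
  ⟨cmp_injective j η P, cmp_surjective j η P⟩

variable {Ω' : Type u} [Field Ω'] [IsSepClosed Ω'] (η' : Spec (CommRingCat.of Ω') ⟶ V₀)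

lemma map_toTop {W : V₀.Etale} (w : (Φ η).fiber.obj W) :
    (Φ η).fiber.map (Groth.Agent.Helper4.StalkFinB.toTop W) w = topLift η := by
  apply Over.OverMorphism.ext
  have h0 : (Groth.Agent.Helper4.StalkFinB.toTop W).left ≫ 𝟙 V₀ = W.hom :=
    MorphismProperty.Over.w (Groth.Agent.Helper4.StalkFinB.toTop W)
  have h1 : (Groth.Agent.Helper4.StalkFinB.toTop W).left = W.hom :=
    (Category.comp_id _).symm.trans h0
  show ptLeft η w ≫ (Groth.Agent.Helper4.StalkFinB.toTop W).left = η
  rw [h1]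
  exact ptLeft_hom η w

/-- a morphism of points of `X` between images of points of `V₀`, compatible with the tautological
lifts, comes from a morphism of points of `V₀` -/
theorem exists_lowerHom (φ : Φ (η' ≫ j) ⟶ Φ (η ≫ j))
    (hφ : φ.hom.app ((EtShriek.compEtale j).obj (EtCoh.top V₀)) (pushLift j η (topLift η)) =
      pushLift j η' (topLift η')) :
    ∃ ψ : Φ η' ⟶ Φ η, ∀ (W : V₀.Etale) (w : (Φ η).fiber.obj W),
      pushLift j η' (ψ.hom.app W w) = φ.hom.app ((EtShriek.compEtale j).obj W) (pushLift j η w) := by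
  have key : ∀ (W : V₀.Etale) (w : (Φ η).fiber.obj W),
      ptLeft (η' ≫ j) (φ.hom.app ((EtShriek.compEtale j).obj W) (pushLift j η w)) ≫ W.hom = η' := by
    intro W w
    let t := (EtShriek.compEtale j).map (Groth.Agent.Helper4.StalkFinB.toTop W)
    have h1 : (Φ (η' ≫ j)).fiber.map t (φ.hom.app _ (pushLift j η w)) =
        φ.hom.app _ ((Φ (η ≫ j)).fiber.map t (pushLift j η w)) :=
      (NatTrans.naturality_apply φ.hom t (pushLift j η w)).symm
    rw [pushLift_map, map_toTop, hφ] at h1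
    have h2 := congrArg (fun m => m.left) h1
    have h0 : (Groth.Agent.Helper4.StalkFinB.toTop W).left ≫ 𝟙 V₀ = W.hom :=
      MorphismProperty.Over.w (Groth.Agent.Helper4.StalkFinB.toTop W)
    have h3 : (Groth.Agent.Helper4.StalkFinB.toTop W).left = W.hom :=
      (Category.comp_id _).symm.trans h0
    rw [← h3]
    exact h2
  let τ : (Φ η).fiber ⟶ (Φ η').fiber :=
    { app := fun W => ↾(fun w => Over.homMk
        (ptLeft (η' ≫ j) (φ.hom.app ((EtShriek.compEtale j).obj W) (pushLift j η w))) (key W w))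
      naturality := by
        intro W W' g
        ext w
        apply Over.OverMorphism.ext
        have h1 : (Φ (η' ≫ j)).fiber.map ((EtShriek.compEtale j).map g)
            (φ.hom.app _ (pushLift j η w)) =
            φ.hom.app _ ((Φ (η ≫ j)).fiber.map ((EtShriek.compEtale j).map g) (pushLift j η w)) :=
          (NatTrans.naturality_apply φ.hom _ (pushLift j η w)).symm
        rw [pushLift_map] at h1
        exact (congrArg (fun m => m.left) h1).symm }
  refine ⟨⟨τ⟩, fun W w => ?_⟩
  exact Over.OverMorphism.ext rfl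

/-- the map on presheaf fibres induced by a morphism of points, on germs -/
lemma psp_germ {Y : Scheme.{u}} {Ω₁ Ω₂ : Type u} [Field Ω₁] [IsSepClosed Ω₁] [Field Ω₂]
    [IsSepClosed Ω₂] {ζ : Spec (CommRingCat.of Ω₁) ⟶ Y} {ζ' : Spec (CommRingCat.of Ω₂) ⟶ Y}
    (ψ : Φ ζ' ⟶ Φ ζ) (Q : Y.Etaleᵒᵖ ⥤ AddCommGrpCat.{u + 1}) (U : Y.Etale)
    (u : (Φ ζ).fiber.obj U) (s : Q.obj (op U)) :
    ((GrothendieckTopology.Point.Hom.presheafFiber ψ).app Q) ((Φ ζ).toPresheafFiber U u Q s) =
      (Φ ζ').toPresheafFiber U (ψ.hom.app U u) Q s := by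
  rw [GrothendieckTopology.Point.Hom.presheafFiber_app]
  have h := (Φ ζ).toPresheafFiber_presheafFiberDesc (P := Q)
    (fun Y y => (Φ ζ').toPresheafFiber Y (ψ.hom.app Y y) Q)
  exact congrArg (fun (m : Q.obj (op U) ⟶ _) => m.hom s) (h U u)

/-- the comparison of stalks commutes with the specialization maps -/
theorem cmp_sp (φ : Φ (η' ≫ j) ⟶ Φ (η ≫ j)) (ψ : Φ η' ⟶ Φ η)
    (h : ∀ (W : V₀.Etale) (w : (Φ η).fiber.obj W),
      pushLift j η' (ψ.hom.app W w) = φ.hom.app ((EtShriek.compEtale j).obj W) (pushLift j η w)) :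
    cmp j η P ≫ (GrothendieckTopology.Point.Hom.presheafFiber φ).app P =
      (GrothendieckTopology.Point.Hom.presheafFiber ψ).app ((EtShriek.compEtale j).op ⋙ P) ≫
        cmp j η' P := by
  apply (Φ η).presheafFiber_hom_ext
  intro W w
  ext s
  show ((GrothendieckTopology.Point.Hom.presheafFiber φ).app P)
      ((cmp j η P) ((Φ η).toPresheafFiber W w ((EtShriek.compEtale j).op ⋙ P) s)) =
    (cmp j η' P) (((GrothendieckTopology.Point.Hom.presheafFiber ψ).app
      ((EtShriek.compEtale j).op ⋙ P)) ((Φ η).toPresheafFiber W w ((EtShriek.compEtale j).op ⋙ P) s))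
  rw [cmp_germ, psp_germ, psp_germ, cmp_germ, h]

end Groth.Agent.Helper6.SpD
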