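import Mathlib
import Groth.Prelude.Def_EtShriek2
import Groth.Agent.Helper6.SpD
import Groth.Agent.Helper4.StalkFinB

set_option autoImplicit false
set_option linter.style.haveILetI false
set_option linter.unusedSectionVars false
set_option linter.unusedVariables false
set_option linter.unusedSimpArgs false

universe u

open CategoryTheory CategoryTheory.Limits AlgebraicGeometry Opposite

namespace Groth.Agent.Helper6.SpE

open Groth.Agent.Helper4.EtLocRing Groth.Agent.Helper4.SubConst Groth.Agent.Helper4.StalkFin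
open Groth.Agent.Helper4.ConstLoc Groth.Agent.Helper4.StalkFinB
open Groth.Agent.Helper6.SpA Groth.Agent.Helper6.SpB Groth.Agent.Helper6.SpD
open Groth.Agent.Helper9.EtStalkExact

attribute [local instance] preservesFilteredColimits_forget_ab ab5_ab

variable {Y : Scheme.{u}} {Ω Ω' : Type u} [Field Ω] [IsSepClosed Ω] [Field Ω'] [IsSepClosed Ω']
  {ζ : Spec (CommRingCat.of Ω) ⟶ Y} {ζ' : Spec (CommRingCat.of Ω') ⟶ Y}

/-- germs of a constant sheaf are germs of constants -/
lemma exists_rep_const (N : AddCommGrpCat.{u + 1}) (ζ : Spec (CommRingCat.of Ω) ⟶ Y)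
    (a : (EtCoh.stalk ζ).obj (cS Y N)) :
    ∃ (W : Y.Etale) (w : (Φ ζ).fiber.obj W) (n : N),
      (Φ ζ).toPresheafFiber W w (cS Y N).obj ((η Y N).app (op W) n) = a := by
  obtain ⟨W₀, w₀, t, rfl⟩ := (Φ ζ).toPresheafFiber_jointly_surjective (P := (cS Y N).obj) a
  obtain ⟨W', g, x', n, hx', hn⟩ := exists_const N W₀ t ((ptLeft ζ w₀) default)
  obtain ⟨w', hw', -⟩ := exists_lift_hom ζ g w₀ x' hx'
  refine ⟨W', w', n, ?_⟩
  have := (Φ ζ).toPresheafFiber_w_apply g w' (cS Y N).obj t
  rw [hw', hn] at this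
  exact this

lemma fiber_top_eq (ζ : Spec (CommRingCat.of Ω) ⟶ Y) (l : (Φ ζ).fiber.obj (EtCoh.top Y)) :
    l = topLift ζ := by
  apply Over.OverMorphism.ext
  have h1 : ptLeft ζ l ≫ 𝟙 Y = ζ := ptLeft_hom ζ l
  exact (Category.comp_id _).symm.trans h1

theorem sp_const_bijective (ψ : Φ ζ' ⟶ Φ ζ) (N : AddCommGrpCat.{u + 1}) :
    Function.Bijective (sp ψ (cS Y N)) := by
  constructor
  · rw [injective_iff_map_eq_zero]
    intro a ha
    obtain ⟨W, w, n, rfl⟩ := exists_rep_const N ζ a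
    rw [sp_germ] at ha
    have ha' : (Φ ζ').toPresheafFiber W (ψ.hom.app W w) (cS Y N).obj ((η Y N).app (op W) n) =
        (Φ ζ').toPresheafFiber W (ψ.hom.app W w) (cS Y N).obj 0 :=
      ha.trans (map_zero _).symm
    obtain ⟨Y₁, f, y₁, hy₁, hf⟩ := ((Φ ζ').toPresheafFiber_eq_iff' _ _ _ _).1 ha'
    rw [η_map, map_zero] at hf
    have hn : n = 0 := by
      apply const_injective N Y₁ ((ptLeft ζ' y₁) default)
      rw [hf, map_zero]
    rw [hn, map_zero]
    exact map_zero _
  · intro b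
    obtain ⟨W, w', n, rfl⟩ := exists_rep_const N ζ' b
    refine ⟨(Φ ζ).toPresheafFiber (EtCoh.top Y) (topLift ζ) (cS Y N).obj
      ((η Y N).app (op (EtCoh.top Y)) n), ?_⟩
    rw [sp_germ, fiber_top_eq ζ' (ψ.hom.app _ (topLift ζ))]
    have := (Φ ζ').toPresheafFiber_w_apply (toTop W) w' (cS Y N).obj
      ((η Y N).app (op (EtCoh.top Y)) n)
    rw [η_map, map_toTop] at this
    exact this.symm

end Groth.Agent.Helper6.SpE
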