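import Mathlib
import Groth.Prelude.Def_EtShriek2
import Groth.Agent.Helper6.SpE
import Groth.Agent.Helper9.EtShriekOpen
import Groth.Agent.Helper9.EtJCont
import Groth.Agent.Helper4.LcPoint

set_option autoImplicit false
set_option linter.style.haveILetI false
set_option linter.unusedSectionVars false
set_option linter.unusedVariables false
set_option linter.unusedSimpArgs false

universe u

open CategoryTheory CategoryTheory.Limits AlgebraicGeometry Opposite

namespace Groth.Agent.Helper6.SpF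

open Groth.Agent.Helper4.EtLocRing Groth.Agent.Helper4.SubConst Groth.Agent.Helper4.StalkFin
open Groth.Agent.Helper4.ConstLoc Groth.Agent.Helper4.StalkFinB
open Groth.Agent.Helper6.SpA Groth.Agent.Helper6.SpB Groth.Agent.Helper6.SpD Groth.Agent.Helper6.SpE
open Groth.Agent.Helper9.EtStalkExact

attribute [local instance] preservesFilteredColimits_forget_ab ab5_ab

variable {V₀ X : Scheme.{u}} (j : V₀ ⟶ X) [Etale j] [EtShriek.JCont j]
  {Ω Ω' : Type u} [Field Ω] [IsSepClosed Ω] [Field Ω'] [IsSepClosed Ω']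
  (η : Spec (CommRingCat.of Ω) ⟶ V₀) (η' : Spec (CommRingCat.of Ω') ⟶ V₀)

/-- the comparison of stalks, for a sheaf -/
noncomputable def cmpS (F : EtCoh.Ab X) :
    (EtCoh.stalk η).obj ((EtShriek.restrAlong j).obj F) ⟶ (EtCoh.stalk (η ≫ j)).obj F :=
  cmp j η F.obj

instance (F : EtCoh.Ab X) : IsIso (cmpS j η F) :=
  (ConcreteCategory.isIso_iff_bijective _).2 (cmp_bijective j η F.obj)

lemma cmpS_sp (F : EtCoh.Ab X) (φ : Φ (η' ≫ j) ⟶ Φ (η ≫ j)) (ψ : Φ η' ⟶ Φ η)
    (h : ∀ (W : V₀.Etale) (w : (Φ η).fiber.obj W),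
      pushLift j η' (ψ.hom.app W w) = φ.hom.app ((EtShriek.compEtale j).obj W) (pushLift j η w)) :
    cmpS j η F ≫ sp φ F = sp ψ ((EtShriek.restrAlong j).obj F) ≫ cmpS j η' F :=
  cmp_sp j η F.obj η' φ ψ h

/-- a sheaf which is constant on `V₀` has bijective specialization maps between points of `V₀` -/
theorem isIso_sp_of_restr_iso_const (F : EtCoh.Ab X) (N : AddCommGrpCat.{u + 1})
    (a : (EtShriek.restrAlong j).obj F ≅ cS V₀ N) (φ : Φ (η' ≫ j) ⟶ Φ (η ≫ j))
    (hφ : φ.hom.app ((EtShriek.compEtale j).obj (EtCoh.top V₀)) (pushLift j η (topLift η)) =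
      pushLift j η' (topLift η')) : IsIso (sp φ F) := by
  obtain ⟨ψ, hψ⟩ := exists_lowerHom j η η' φ hφ
  have h1 := cmpS_sp j η η' F φ ψ hψ
  have h2 : sp ψ ((EtShriek.restrAlong j).obj F) ≫ (EtCoh.stalk η').map a.hom =
      (EtCoh.stalk η).map a.hom ≫ sp ψ (cS V₀ N) :=
    ((GrothendieckTopology.Point.Hom.sheafFiber (A := AddCommGrpCat.{u + 1}) ψ).naturality a.hom).symm
  haveI : IsIso (sp ψ (cS V₀ N)) :=
    (ConcreteCategory.isIso_iff_bijective _).2 (sp_const_bijective ψ N)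
  have h3 : sp ψ ((EtShriek.restrAlong j).obj F) =
      (EtCoh.stalk η).map a.hom ≫ sp ψ (cS V₀ N) ≫ inv ((EtCoh.stalk η').map a.hom) := by
    rw [← Category.assoc, ← h2, Category.assoc, IsIso.hom_inv_id, Category.comp_id]
  haveI : IsIso (sp ψ ((EtShriek.restrAlong j).obj F)) := by
    rw [h3]
    infer_instance
  have h4 : sp φ F = inv (cmpS j η F) ≫ sp ψ ((EtShriek.restrAlong j).obj F) ≫ cmpS j η' F := by
    rw [← h1, IsIso.inv_hom_id_assoc]
  rw [h4]
  infer_instance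

omit [EtShriek.JCont j] in
lemma map_k_homMk :
    (Φ (η ≫ j)).fiber.map
      (MorphismProperty.Over.homMk (𝟙 V₀) (by
        show 𝟙 V₀ ≫ 𝟙 V₀ ≫ j = j
        rw [Category.id_comp, Category.id_comp]) :
        Scheme.Etale.mk j ⟶ (EtShriek.compEtale j).obj (EtCoh.top V₀))
      (Over.homMk η rfl : Over.mk (η ≫ j) ⟶ (Scheme.Etale.forget X).obj (Scheme.Etale.mk j)) =
      pushLift j η (topLift η) := by
  apply Over.OverMorphism.ext
  show η ≫ 𝟙 V₀ = η
  rw [Category.comp_id]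

/-- a sheaf which is locally constant near the image of `ξ` has bijective specialization maps to
`ξ` -/
theorem isIso_sp_of_LC {X : Scheme.{u}} (F : EtCoh.Ab X) (ξ : Spec (CommRingCat.of Ω) ⟶ X)
    (ξ' : Spec (CommRingCat.of Ω') ⟶ X) (φ : Φ ξ' ⟶ Φ ξ)
    (h : Groth.Agent.Helper4.LcPoint.LC F (ξ default)) : IsIso (sp φ F) := by
  obtain ⟨V, v₀, hv₀, N, fN, ⟨a⟩⟩ := h
  obtain ⟨v, -⟩ := exists_fiber_pt ξ V v₀ hv₀
  induction V with
  | mk V₀ j hj =>
    haveI : Etale j := hj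
    haveI : EtShriek.JCont j := Groth.Agent.Helper9.EtJCont.jCont_of_etale j
    obtain ⟨(η : Spec (CommRingCat.of Ω) ⟶ V₀), (hη : η ≫ j = ξ), rfl⟩ :=
      Over.homMk_surjective v
    subst hη
    obtain ⟨(η' : Spec (CommRingCat.of Ω') ⟶ V₀), (hη' : η' ≫ j = ξ'), hv'⟩ :=
      Over.homMk_surjective (φ.hom.app (Scheme.Etale.mk j) (Over.homMk η rfl))
    subst hη'
    let k : Scheme.Etale.mk j ⟶ (EtShriek.compEtale j).obj (EtCoh.top V₀) :=
      MorphismProperty.Over.homMk (𝟙 V₀) (by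
        show 𝟙 V₀ ≫ 𝟙 V₀ ≫ j = j
        rw [Category.id_comp, Category.id_comp])
    have hφ : φ.hom.app ((EtShriek.compEtale j).obj (EtCoh.top V₀)) (pushLift j η (topLift η)) =
        pushLift j η' (topLift η') := by
      rw [← map_k_homMk j η, ← map_k_homMk j η']
      have := NatTrans.naturality_apply φ.hom k (Over.homMk η rfl)
      rw [this]
      exact congrArg _ hv'
    exact isIso_sp_of_restr_iso_const j η η' F N
      ((Groth.Agent.Helper9.EtShriekOpen.pullIsoRestr j).symm.app F ≪≫ a) φ hφ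

end Groth.Agent.Helper6.SpF
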