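import Mathlib
import Groth.Prelude.Def_EtShriek2
import Groth.Prelude.Def_PBC
import Groth.Agent.Helper6.SpF

set_option autoImplicit false
set_option linter.style.haveILetI false
set_option linter.unusedSectionVars false
set_option linter.unusedVariables false
set_option linter.unusedSimpArgs false

universe u

open CategoryTheory CategoryTheory.Limits AlgebraicGeometry Opposite

namespace Groth.Agent.Helper6.SpG

open Groth.Agent.Helper4.EtLocRing Groth.Agent.Helper4.SubConst Groth.Agent.Helper4.StalkFin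
open Groth.Agent.Helper4.ConstLoc Groth.Agent.Helper4.StalkFinB
open Groth.Agent.Helper6.SpA Groth.Agent.Helper6.SpB Groth.Agent.Helper6.SpD Groth.Agent.Helper6.SpE
open Groth.Agent.Helper6.SpF
open Groth.Agent.Helper9.EtStalkExact

attribute [local instance] preservesFilteredColimits_forget_ab ab5_ab

variable {V₀ X : Scheme.{u}} (j : V₀ ⟶ X) [Etale j] [EtShriek.JCont j] (F : EtCoh.Ab X)
  (N : AddCommGrpCat.{u + 1}) (σ : N →+ F.obj.obj (op (Scheme.Etale.mk j)))

/-- the identification of `V₀ → X` with the image of the terminal object -/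
noncomputable def kk : (EtShriek.compEtale j).obj (EtCoh.top V₀) ⟶ Scheme.Etale.mk j :=
  MorphismProperty.Over.homMk (𝟙 V₀) rfl

/-- the restriction of `F` to `V₀` -/
noncomputable abbrev RR : EtCoh.Ab V₀ := (EtShriek.restrAlong j).obj F

/-- the sections as global sections of the restriction -/
noncomputable def σR : N →+ (RR j F).obj.obj (op (EtCoh.top V₀)) :=
  (F.obj.map (kk j).op).hom.comp σ

/-- the induced morphism from the constant sheaf -/
noncomputable def α : cS V₀ N ⟶ RR j F :=
  ⟨sheafifyLift V₀.smallEtaleTopology (φ (RR j F) N (σR j F N σ)) (RR j F).property⟩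

lemma α_η (W : V₀.Etale) (n : N) :
    (α j F N σ).hom.app (op W) ((η V₀ N).app (op W) n) =
      (RR j F).obj.map (toTop W).op (σR j F N σ n) := by
  have h : η V₀ N ≫ (α j F N σ).hom = φ (RR j F) N (σR j F N σ) :=
    toSheafify_sheafifyLift _ _ _
  have h2 := congrArg (fun t => (t.app (op W)).hom n) h
  exact h2

variable {Ω'' : Type u} [Field Ω''] [IsSepClosed Ω''] (η'' : Spec (CommRingCat.of Ω'') ⟶ V₀)

/-- the tautological lift of `η'' ≫ j` to `V₀ → X` -/
noncomputable def baseLift : (Φ (η'' ≫ j)).fiber.obj (Scheme.Etale.mk j) := Over.homMk η'' rfl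

omit [EtShriek.JCont j] in
lemma map_kk : (Φ (η'' ≫ j)).fiber.map (kk j) (pushLift j η'' (topLift η'')) = baseLift j η'' := by
  apply Over.OverMorphism.ext
  show η'' ≫ 𝟙 V₀ = η''
  rw [Category.comp_id]

/-- germs of constants -/
noncomputable def mm : N →+ (EtCoh.stalk η'').obj (cS V₀ N) :=
  ((Φ η'').toPresheafFiber (EtCoh.top V₀) (topLift η'') (cS V₀ N).obj).hom.comp
    ((η V₀ N).app (op (EtCoh.top V₀))).hom

omit [Etale j] [EtShriek.JCont j] in
lemma mm_surjective : Function.Surjective (mm N η'') := by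
  intro b
  obtain ⟨W, w, n, rfl⟩ := exists_rep_const N η'' b
  refine ⟨n, ?_⟩
  have := (Φ η'').toPresheafFiber_w_apply (toTop W) w (cS V₀ N).obj
    ((η V₀ N).app (op (EtCoh.top V₀)) n)
  rw [η_map, map_toTop] at this
  exact this.symm

lemma key (γ : N) :
    cmpS j η'' F ((EtCoh.stalk η'').map (α j F N σ) (mm N η'' γ)) =
      (Φ (η'' ≫ j)).toPresheafFiber (Scheme.Etale.mk j) (baseLift j η'') F.obj (σ γ) := by
  have e1 : (EtCoh.stalk η'').map (α j F N σ) (mm N η'' γ) =
      (Φ η'').toPresheafFiber (EtCoh.top V₀) (topLift η'') (RR j F).obj (σR j F N σ γ) := by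
    have h1 := (Φ η'').toPresheafFiber_naturality_apply (α j F N σ).hom (EtCoh.top V₀)
      (topLift η'') ((η V₀ N).app (op (EtCoh.top V₀)) γ)
    have h2 := (Φ η'').toPresheafFiber_w_apply (toTop (EtCoh.top V₀)) (topLift η'')
      (RR j F).obj (σR j F N σ γ)
    rw [map_toTop] at h2
    rw [α_η] at h1
    exact h1.trans h2
  rw [e1]
  have e2 := cmp_germ j η'' F.obj (EtCoh.top V₀) (topLift η'') (σR j F N σ γ)
  have e3 := (Φ (η'' ≫ j)).toPresheafFiber_w_apply (kk j) (pushLift j η'' (topLift η'')) F.obj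
    (σ γ)
  rw [map_kk] at e3
  exact e2.trans e3

theorem stalk_α_bijective
    (hβ : Function.Bijective (fun γ : N =>
      (Φ (η'' ≫ j)).toPresheafFiber (Scheme.Etale.mk j) (baseLift j η'') F.obj (σ γ))) :
    Function.Bijective ((EtCoh.stalk η'').map (α j F N σ)) := by
  have hc : Function.Bijective (cmpS j η'' F) := cmp_bijective j η'' F.obj
  have hm := mm_surjective N η''
  constructor
  · intro b b' hbb'
    obtain ⟨γ, rfl⟩ := hm b
    obtain ⟨γ', rfl⟩ := hm b'
    have h1 := congrArg (cmpS j η'' F) hbb'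
    rw [key, key] at h1
    rw [hβ.1 h1]
  · intro r
    obtain ⟨γ, hγ⟩ := hβ.2 (cmpS j η'' F r)
    refine ⟨mm N η'' γ, hc.1 ?_⟩
    rw [key]
    exact hγ

end Groth.Agent.Helper6.SpG
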