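import Mathlib
import Groth.Prelude.Def_EtShriek2
import Groth.Prelude.Def_PBC
import Groth.Agent.Helper6.SpG
import Groth.Agent.Helper6.ConsH
import Groth.Agent.Helper6.ConsL
import Groth.Agent.Helper6.ConsV
import Groth.Agent.Helper4.SuppC
import Groth.Agent.Helper4.ConsSerre
import Groth.Agent.Lead.ProConsLib7
import Groth.Agent.Helper9.EtStalkAlgClosed

set_option autoImplicit false
set_option linter.style.haveILetI false
set_option linter.unusedSectionVars false
set_option linter.unusedVariables false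
set_option linter.unusedSimpArgs false

universe u

open CategoryTheory CategoryTheory.Limits AlgebraicGeometry Opposite Topology

namespace Groth.Agent.Helper6.SpH

open Groth.Agent.Helper4.EtLocRing Groth.Agent.Helper4.SubConst Groth.Agent.Helper4.StalkFin
open Groth.Agent.Helper4.ConstLoc Groth.Agent.Helper4.StalkFinB Groth.Agent.Helper4.LcPoint
open Groth.Agent.Helper4.FlcPull Groth.Agent.Helper4.OverEtC
open Groth.Agent.Helper6.SpA Groth.Agent.Helper6.SpB Groth.Agent.Helper6.SpD Groth.Agent.Helper6.SpE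
open Groth.Agent.Helper6.SpF Groth.Agent.Helper6.SpG
open Groth.Agent.Helper9.EtStalkExact Groth.Agent.Helper9.EtStalkPull

attribute [local instance] preservesFilteredColimits_forget_ab ab5_ab

variable {V₀ X : Scheme.{u}} {Ω : Type u} [Field Ω] [IsSepClosed Ω]

/-- a constant sheaf with finite value is finite locally constant -/
lemma flc_cS (Y : Scheme.{u}) (N : AddCommGrpCat.{u + 1}) [Finite N] :
    EtCoh.IsFiniteLocallyConstant (cS Y N) := by
  rw [flc_iff_forall_LC]
  intro y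
  exact ⟨EtCoh.top Y, y, rfl, N, inferInstance, ⟨(EtCore.pullConstIso (homS (EtCoh.top Y))).app N⟩⟩

/-- the stalk of the kernel and cokernel vanish where the stalk map is bijective -/
lemma bijective_iff {Y : Scheme.{u}} {A B : EtCoh.Ab Y} (a : A ⟶ B)
    (ζ : Spec (CommRingCat.of Ω) ⟶ Y) :
    Function.Bijective ((EtCoh.stalk ζ).map a) ↔
      IsZero ((EtCoh.stalk ζ).obj (kernel a)) ∧ IsZero ((EtCoh.stalk ζ).obj (cokernel a)) := by
  rw [← Groth.Agent.Helper4.SuppC.injective_iff_isZero_stalk_kernel,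
    ← Groth.Agent.Helper4.SuppC.surjective_iff_isZero_stalk_cokernel]
  rfl

/-- the core: a constructible sheaf whose specialization maps to `ξ` are bijective is constant near
`ξ` -/
theorem LC_of_section_hom (j : V₀ ⟶ X) [Etale j] [IsAffine V₀] (F : EtCoh.Ab X)
    (hF : EtPBC.IsConstructible F) (ξ : Spec (CommRingCat.of Ω) ⟶ X)
    (H : ∀ (Ω' : Type u) [Field Ω'] [IsSepClosed Ω'] (ξ' : Spec (CommRingCat.of Ω') ⟶ X)
      (φ : Φ ξ' ⟶ Φ ξ), IsIso (sp φ F))
    [Finite ((EtCoh.stalk ξ).obj F)]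
    (v : (Φ ξ).fiber.obj (Scheme.Etale.mk j))
    (σ : (EtCoh.stalk ξ).obj F →+ F.obj.obj (op (Scheme.Etale.mk j)))
    (hσ : ∀ γ, (Φ ξ).toPresheafFiber (Scheme.Etale.mk j) v F.obj (σ γ) = γ) :
    LC F (ξ default) := by
  haveI : EtShriek.JCont j := Groth.Agent.Helper9.EtJCont.jCont_of_etale j
  let N : AddCommGrpCat.{u + 1} := (EtCoh.stalk ξ).obj F
  let a := α j F N σ
  have hR : EtPBC.IsConstructible (RR j F) :=
    Groth.Agent.Helper4.ConsSerre.isConstructible_of_iso
      ((Groth.Agent.Helper9.EtShriekOpen.pullIsoRestr j).app F)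
      (Groth.Agent.Helper6.ConsV.isConstructible_pull j F hF)
  have hcS : EtPBC.IsConstructible (cS V₀ N) :=
    Groth.Agent.Helper6.ConsL.isConstructible_of_flc _ (flc_cS V₀ N)
  have hK := Groth.Agent.Helper4.SuppC.isConstructible_kernel a hcS hR
  have hC := Groth.Agent.Helper4.SuppC.isConstructible_cokernel a hcS hR
  let E : Set V₀ := EtPBC.supp (kernel a) ∪ EtPBC.supp (cokernel a)
  have hE : IsConstructible E :=
    (Groth.Agent.Helper4.SuppC.isConstructible_supp _ hK).union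
      (Groth.Agent.Helper4.SuppC.isConstructible_supp _ hC)
  let v₀ : V₀ := (ptLeft ξ v) default
  -- the stalk maps at generizations of `v₀` are bijective
  have hgen : ∀ (Ω'' : Type u) [Field Ω''] [IsSepClosed Ω''] (η'' : Spec (CommRingCat.of Ω'') ⟶ V₀),
      η'' default ⤳ v₀ → Function.Bijective ((EtCoh.stalk η'').map a) := by
    intro Ω'' _ _ η'' hsp
    apply stalk_α_bijective
    obtain ⟨φ, hφ⟩ := exists_hom ξ (η'' ≫ j) (Scheme.Etale.mk j) v (baseLift j η'') hsp
    haveI := H Ω'' (η'' ≫ j) φ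
    have hb : Function.Bijective (sp φ F) := ConcreteCategory.bijective_of_isIso _
    have e : (fun γ : N => (Φ (η'' ≫ j)).toPresheafFiber (Scheme.Etale.mk j) (baseLift j η'') F.obj
        (σ γ)) = sp φ F := by
      funext γ
      rw [← hφ, ← sp_germ, hσ]
    rw [e]
    exact hb
  -- no generization of `v₀` lies in `E`
  have hE' : ∀ p ∈ E, ¬ p ⤳ v₀ := by
    rintro p hp hsp
    rcases hp with ⟨Ω'', i1, i2, η'', hη'', hnz⟩ | ⟨Ω'', i1, i2, η'', hη'', hnz⟩
    · have hd : η'' default = p := Groth.Agent.Helper4.SuppA.default_eq_of_range η'' hη''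
      have hb := hgen Ω'' η'' (hd ▸ hsp)
      exact hnz ((bijective_iff a η'').1 hb).1
    · have hd : η'' default = p := Groth.Agent.Helper4.SuppA.default_eq_of_range η'' hη''
      have hb := hgen Ω'' η'' (hd ▸ hsp)
      exact hnz ((bijective_iff a η'').1 hb).2
  have hv₀ : v₀ ∉ closure E := by
    intro hcl
    obtain ⟨z, hz, hzs⟩ := Groth.Agent.Lead.ProConsLib.exists_specializes_of_mem_closure
      (Groth.Agent.Lead.ProConsLib.pro_of_isLocallyConstructible hE.isLocallyConstructible) hcl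
    exact hE' z hz hzs
  let O : V₀.Opens := ⟨(closure E)ᶜ, isClosed_closure.isOpen_compl⟩
  have hvO : v₀ ∈ O := hv₀
  have hiso : IsIso ((EtCoh.pull O.ι).map a) := by
    apply Groth.Agent.Helper9.EtStalkAlgClosed.isIso_of_stalks
    intro Ω₁ _ _ ζ
    have nat := (stalkPullIso O.ι ζ).hom.naturality a
    have hb : Function.Bijective ((EtCoh.stalk (ζ ≫ O.ι)).map a) := by
      rw [bijective_iff]
      have hnot : (ζ ≫ O.ι) default ∉ E := fun h => (ζ default).2 (subset_closure h)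
      constructor
      · by_contra hnz
        exact hnot (Or.inl (Groth.Agent.Helper4.SuppA.mem_supp_of_stalk _ _ hnz))
      · by_contra hnz
        exact hnot (Or.inr (Groth.Agent.Helper4.SuppA.mem_supp_of_stalk _ _ hnz))
    have e : (EtCoh.stalk ζ).map ((EtCoh.pull O.ι).map a) =
        (stalkPullIso O.ι ζ).hom.app _ ≫ (EtCoh.stalk (ζ ≫ O.ι)).map a ≫
          (stalkPullIso O.ι ζ).inv.app _ := by
      rw [← Category.assoc, ← nat, Category.assoc, Iso.hom_inv_id_app, Category.comp_id]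
      rfl
    rw [e]
    have h1 : Function.Bijective ((stalkPullIso O.ι ζ).hom.app (cS V₀ N)) :=
      ConcreteCategory.bijective_of_isIso _
    have h2 : Function.Bijective ((stalkPullIso O.ι ζ).inv.app (RR j F)) :=
      ConcreteCategory.bijective_of_isIso _
    exact h2.comp (hb.comp h1)
  refine ⟨Scheme.Etale.mk (O.ι ≫ j), ⟨v₀, hvO⟩, ?_, N, inferInstance, ⟨?_⟩⟩
  · exact hom_ptLeft ξ v
  · exact (pullCompObj O.ι j F).symm ≪≫
      (EtCoh.pull O.ι).mapIso ((Groth.Agent.Helper9.EtShriekOpen.pullIsoRestr j).app F) ≪≫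
      (asIso ((EtCoh.pull O.ι).map a)).symm ≪≫ (EtCore.pullConstIso O.ι).app N

/-- a constructible sheaf all of whose specialization maps to `ξ` are bijective is constant on an
étale neighbourhood of `ξ` -/
theorem LC_of_sp_iso (F : EtCoh.Ab X) (hF : EtPBC.IsConstructible F)
    (ξ : Spec (CommRingCat.of Ω) ⟶ X)
    (H : ∀ (Ω' : Type u) [Field Ω'] [IsSepClosed Ω'] (ξ' : Spec (CommRingCat.of Ω') ⟶ X)
      (φ : Φ ξ' ⟶ Φ ξ), IsIso (sp φ F)) :
    LC F (ξ default) := by
  haveI hfin : Finite ((EtCoh.stalk ξ).obj F) :=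
    Groth.Agent.Helper6.ConsH.finite_stalk_of_isConstructible F hF ξ
  haveI : Finite ↥(St (Φ ξ) F.obj) := hfin
  obtain ⟨V₁, v₁, σ₁, hσ₁⟩ := exists_section_hom (Φ ξ) F.obj
  let p : V₁.left := (ptLeft ξ v₁) default
  obtain ⟨_, ⟨(O₁ : V₁.left.Opens), hO₁ : IsAffineOpen O₁, rfl⟩, hpO₁, -⟩ :=
    (V₁.left.isBasis_affineOpens).exists_subset_of_mem_open (Set.mem_univ p) isOpen_univ
  have hr : Set.range (ptLeft ξ v₁) ⊆ (O₁ : Set ↥V₁.left) := by
    rintro _ ⟨z, rfl⟩
    rw [Subsingleton.elim z default]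
    exact hpO₁
  obtain ⟨v, hv⟩ := exists_lift_open ξ V₁ v₁ O₁ hr
  haveI : IsAffine (O₁ : Scheme.{u}) := hO₁
  let σ : (EtCoh.stalk ξ).obj F →+ F.obj.obj (op (Scheme.Etale.mk (O₁.ι ≫ V₁.hom))) :=
    (F.obj.map (etObjHom V₁ O₁.ι).op).hom.comp σ₁
  refine LC_of_section_hom (O₁.ι ≫ V₁.hom) F hF ξ H v σ (fun γ => ?_)
  have := (Φ ξ).toPresheafFiber_w_apply (etObjHom V₁ O₁.ι) v F.obj (σ₁ γ)
  rw [hv] at this
  exact this.trans (hσ₁ γ)

end Groth.Agent.Helper6.SpH
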