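import Mathlib
import Groth.Prelude.Def_EtShriek2
import Groth.Prelude.Def_PBC
import Groth.Agent.Helper6.SpH
import Groth.Agent.Helper6.SpC

set_option autoImplicit false
set_option linter.style.haveILetI false
set_option linter.unusedSectionVars false
set_option linter.unusedVariables false
set_option linter.unusedSimpArgs false

universe u

open CategoryTheory CategoryTheory.Limits AlgebraicGeometry Opposite Topology

namespace Groth.Agent.Helper6.SpI

open Groth.Agent.Helper4.EtLocRing Groth.Agent.Helper4.LcPoint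
open Groth.Agent.Helper4.FlcPull Groth.Agent.Helper4.OverEtC
open Groth.Agent.Helper6.SpB Groth.Agent.Helper6.SpF Groth.Agent.Helper6.SpH
open Groth.Agent.Helper9.EtStalkExact

variable {X : Scheme.{u}}

/-- local constancy at a point gives finite local constancy on an open neighbourhood -/
theorem flc_near_of_LC (F : EtCoh.Ab X) (x : X) (h : LC F x) :
    ∃ U : X.Opens, x ∈ U ∧ EtCoh.IsFiniteLocallyConstant ((EtCoh.pull U.ι).obj F) := by
  obtain ⟨V, v₀, hv₀, N, fN, ⟨a⟩⟩ := h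
  let U : X.Opens := ⟨Set.range V.hom, V.hom.isOpenMap.isOpen_range⟩
  refine ⟨U, ⟨v₀, hv₀⟩, ?_⟩
  rw [flc_iff_forall_LC]
  intro u
  refine LC.pull (F := F) U.ι u ?_
  obtain ⟨v₁, hv₁⟩ : U.ι u ∈ Set.range V.hom := u.2
  exact ⟨V, v₁, hv₁, N, fN, ⟨a⟩⟩

/-- finite local constancy on an open neighbourhood gives local constancy at the point -/
theorem LC_of_flc_near (F : EtCoh.Ab X) (x : X) (U : X.Opens) (hx : x ∈ U)
    (h : EtCoh.IsFiniteLocallyConstant ((EtCoh.pull U.ι).obj F)) : LC F x := by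
  have h1 := (flc_iff_forall_LC _).1 h ⟨x, hx⟩
  exact LC.trans (Scheme.Etale.mk U.ι) ⟨x, hx⟩ h1

variable {Ω : Type u} [Field Ω] [IsSepClosed Ω]

theorem main_near (F : EtCoh.Ab X) (hF : EtPBC.IsConstructible F) (x : X)
    (ξ : Spec (CommRingCat.of Ω) ⟶ X) (hξ : Set.range ξ.base = {x}) :
    (∃ U : X.Opens, x ∈ U ∧ EtCoh.IsFiniteLocallyConstant ((EtCoh.pull U.ι).obj F)) ↔
      ∀ (Ω' : Type u) [Field Ω'] [IsSepClosed Ω'] (ξ' : Spec (CommRingCat.of Ω') ⟶ X)
        (φ : Scheme.pointSmallEtale ξ' ⟶ Scheme.pointSmallEtale ξ),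
        IsIso ((GrothendieckTopology.Point.Hom.sheafFiber (A := AddCommGrpCat.{u + 1}) φ).app F) := by
  have hd : ξ default = x := Groth.Agent.Helper4.SuppA.default_eq_of_range ξ hξ
  constructor
  · rintro ⟨U, hxU, hflc⟩ Ω' _ _ ξ' φ
    have h1 : LC F (ξ default) := by
      rw [hd]
      exact LC_of_flc_near F x U hxU hflc
    exact isIso_sp_of_LC F ξ ξ' φ h1
  · intro H
    have h1 := LC_of_sp_iso F hF ξ (fun Ω' _ _ ξ' φ => H Ω' ξ' φ)
    rw [hd] at h1
    exact flc_near_of_LC F x h1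

theorem main_global [IsLocallyNoetherian X] (F : EtCoh.Ab X)
    (hfin : ∀ (Ω : Type u) [Field Ω] [IsSepClosed Ω] (ξ : Spec (CommRingCat.of Ω) ⟶ X),
      Finite ((EtCoh.stalk ξ).obj F)) :
    EtCoh.IsFiniteLocallyConstant F ↔
      ∀ (Ω Ω' : Type u) [Field Ω] [IsSepClosed Ω] [Field Ω'] [IsSepClosed Ω']
        (ξ : Spec (CommRingCat.of Ω) ⟶ X) (ξ' : Spec (CommRingCat.of Ω') ⟶ X)
        (φ : Scheme.pointSmallEtale ξ' ⟶ Scheme.pointSmallEtale ξ),
        IsIso ((GrothendieckTopology.Point.Hom.sheafFiber (A := AddCommGrpCat.{u + 1}) φ).app F) := by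
  constructor
  · intro h Ω Ω' _ _ _ _ ξ ξ' φ
    exact isIso_sp_of_LC F ξ ξ' φ ((flc_iff_forall_LC F).1 h _)
  · intro H
    have hF : EtPBC.IsConstructible F :=
      Groth.Agent.Helper6.SpC.isConstructible_of_sp_mono F hfin
        (fun Ω Ω' _ _ _ _ ξ ξ' φ => by
          haveI := H Ω Ω' ξ ξ' φ
          infer_instance)
    rw [flc_iff_forall_LC]
    intro x
    have h1 := LC_of_sp_iso F hF (geomPt x) (fun Ω' _ _ ξ' φ => H _ Ω' (geomPt x) ξ' φ)
    rwa [geomPt_default] at h1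

end Groth.Agent.Helper6.SpI
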