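import Mathlib
import Groth.Agent.Helper4.AlgSpPtsDesc

/-!
# Helper6: universal properties of morphisms of sheaves can be tested on schemes
-/

set_option autoImplicit false
set_option linter.style.haveILetI false
set_option linter.unusedVariables false
universe u

namespace Groth.Agent.Helper6.SpUniv
open CategoryTheory Limits AlgebraicGeometry Opposite AlgSp
open Groth.Agent.Helper4.AlgSpPtsDesc

variable {S : Scheme.{u}}

/-- the base change to an étale atlas of the target -/
theorem atlas_setup {X Y : Sp S} (f : X ⟶ Y) {W W' : Sp S} (hW : IsAlgSpace W) (g : W ⟶ Y)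
    (a : W' ⟶ X) (b : W' ⟶ W) (sq' : IsPullback a b f g) :
    ∃ (U : Over S) (q : (yon S).obj U ⟶ W) (P : Sp S) (q' : P ⟶ W') (b₁ : P ⟶ (yon S).obj U),
      RepWith @Etale q ∧ RepWith @Surjective q ∧ IsPullback q' b₁ b q ∧
        IsPullback (q' ≫ a) b₁ f (q ≫ g) := by
  obtain ⟨U, q, hqe, hqs⟩ := hW.atlas
  have hpb : IsPullback (pullback.fst b q) (pullback.snd b q) b q := IsPullback.of_hasPullback _ _
  exact ⟨U, q, _, _, _, hqe, hqs, hpb, hpb.paste_horiz sq'⟩

theorem univInjective_of_scheme {X Y : Sp S} (f : X ⟶ Y)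
    (h : ∀ (Z : Over S) (g : (yon S).obj Z ⟶ Y) (P : Sp S)
      (fst : P ⟶ X) (snd : P ⟶ (yon S).obj Z), IsPullback fst snd f g →
      Function.Injective (Points.map snd)) : IsUnivInjectiveMor f := by
  intro W W' hW g a b sq'
  obtain ⟨U, q, P, q', b₁, hqe, hqs, h1, h2⟩ := atlas_setup f hW g a b sq'
  have hinj := h U _ P _ _ h2
  intro u₁ u₂ hu
  obtain ⟨w, hw⟩ := Groth.Agent.Helper4.AlgSpPts.isSurjectiveMor_of_repWith q hqs (Points.map b u₁)
  obtain ⟨p₁, hp11, hp12⟩ := exists_point_of_isPullback h1 u₁ w hw.symm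
  obtain ⟨p₂, hp21, hp22⟩ := exists_point_of_isPullback h1 u₂ w (hu ▸ hw.symm)
  have : p₁ = p₂ := hinj (hp12.trans hp22.symm)
  rw [← hp11, ← hp21, this]

theorem surjective_of_scheme {X Y : Sp S} (f : X ⟶ Y)
    (h : ∀ (Z : Over S) (g : (yon S).obj Z ⟶ Y) (P : Sp S)
      (fst : P ⟶ X) (snd : P ⟶ (yon S).obj Z), IsPullback fst snd f g →
      Function.Surjective (Points.map snd)) {W W' : Sp S} (hW : IsAlgSpace W) (g : W ⟶ Y)
    (a : W' ⟶ X) (b : W' ⟶ W) (sq' : IsPullback a b f g) : Function.Surjective (Points.map b) := by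
  obtain ⟨U, q, P, q', b₁, hqe, hqs, h1, h2⟩ := atlas_setup f hW g a b sq'
  intro w
  obtain ⟨u, rfl⟩ := Groth.Agent.Helper4.AlgSpPts.isSurjectiveMor_of_repWith q hqs w
  obtain ⟨p, rfl⟩ := h U _ P _ _ h2 u
  exact ⟨Points.map q' p, by rw [← Points.map_comp, ← Points.map_comp, h1.w]⟩

theorem univOpen_of_scheme {X Y : Sp S} (f : X ⟶ Y)
    (h : ∀ (Z : Over S) (g : (yon S).obj Z ⟶ Y) (P : Sp S)
      (fst : P ⟶ X) (snd : P ⟶ (yon S).obj Z), IsPullback fst snd f g →
      IsOpenMap (Points.map snd)) : IsUnivOpenMor f :=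
  univOpen_of_affine f (fun Z _ => h Z)

theorem univClosed_of_scheme {X Y : Sp S} (f : X ⟶ Y)
    (h : ∀ (Z : Over S) (g : (yon S).obj Z ⟶ Y) (P : Sp S)
      (fst : P ⟶ X) (snd : P ⟶ (yon S).obj Z), IsPullback fst snd f g →
      IsClosedMap (Points.map snd)) : IsUnivClosedMor f :=
  univClosed_of_affine f (fun Z _ => h Z)

theorem univSubmersive_of_scheme {X Y : Sp S} (f : X ⟶ Y)
    (h : ∀ (Z : Over S) (g : (yon S).obj Z ⟶ Y) (P : Sp S)
      (fst : P ⟶ X) (snd : P ⟶ (yon S).obj Z), IsPullback fst snd f g →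
      Topology.IsQuotientMap (Points.map snd)) : IsUnivSubmersiveMor f := by
  intro W W' hW g a b sq'
  obtain ⟨U, q, P, q', b₁, hqe, hqs, h1, h2⟩ := atlas_setup f hW g a b sq'
  have hq := h U _ P _ _ h2
  change Topology.IsQuotientMap (Points.map b)
  rw [Topology.isQuotientMap_iff]
  refine ⟨.of_isOpen_preimage_iff_isOpen fun O =>
    ⟨fun hO => ?_, fun hO => hO.preimage (Points.continuous_map b)⟩,
    surjective_of_scheme f (fun Z g P fst snd sq => (h Z g P fst snd sq).surjective) hW g a b sq'⟩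
  apply isOpen_of_isOpen_preimage q hqe hqs
  rw [← hq.isOpen_preimage]
  have : Points.map b₁ ⁻¹' (Points.map q ⁻¹' O) = Points.map q' ⁻¹' (Points.map b ⁻¹' O) := by
    ext p
    simp only [Set.mem_preimage]
    rw [← Points.map_comp, ← Points.map_comp, h1.w]
  rw [this]
  exact hO.preimage (Points.continuous_map q')

theorem univHomeo_of_scheme {X Y : Sp S} (f : X ⟶ Y)
    (h : ∀ (Z : Over S) (g : (yon S).obj Z ⟶ Y) (P : Sp S)
      (fst : P ⟶ X) (snd : P ⟶ (yon S).obj Z), IsPullback fst snd f g →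
      IsHomeomorph (Points.map snd)) : IsUnivHomeoMor f := by
  intro W W' hW g a b sq'
  refine ⟨Points.continuous_map b, ?_, ?_, ?_⟩
  · exact univOpen_of_scheme f (fun Z g P fst snd sq => (h Z g P fst snd sq).isOpenMap) hW g a b sq'
  · exact univInjective_of_scheme f (fun Z g P fst snd sq => (h Z g P fst snd sq).injective)
      hW g a b sq'
  · exact surjective_of_scheme f (fun Z g P fst snd sq => (h Z g P fst snd sq).surjective)
      hW g a b sq'

end Groth.Agent.Helper6.SpUniv
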