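import Mathlib

set_option autoImplicit false

universe u

namespace Groth.Agent.Helper6.SpecEpi

open CategoryTheory CategoryTheory.Limits AlgebraicGeometry

/-- `Spec φ` is right-cancellable when `φ` is injective and `Spec φ` is surjective on points. -/
theorem spec_cancel {R S : CommRingCat.{u}} (φ : R ⟶ S) (hinj : Function.Injective φ.hom)
    (hsurj : Function.Surjective (Spec.map φ).base) {G : Scheme.{u}} (u v : Spec R ⟶ G)
    (h : Spec.map φ ≫ u = Spec.map φ ≫ v) : u = v := by
  let ι := equalizer.ι u v
  let k : Spec S ⟶ equalizer u v := equalizer.lift (Spec.map φ) h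
  have hk : k ≫ ι = Spec.map φ := equalizer.lift_ι _ _
  have hrange : Set.range ι.base = Set.univ := by
    rw [Set.eq_univ_iff_forall]
    intro x
    obtain ⟨y, hy⟩ := hsurj x
    refine ⟨k.base y, ?_⟩
    rw [← hy, ← hk]
    rfl
  haveI : IsClosedImmersion ι := IsClosedImmersion.of_isPreimmersion ι (by
    change IsClosed (Set.range ι.base)
    rw [hrange]; exact isClosed_univ)
  have happ : Function.Injective ι.appTop := by
    have h1 : (Spec.map φ).appTop = ι.appTop ≫ k.appTop := by
      rw [← hk, Scheme.Hom.comp_appTop]
    have h2 : Function.Injective (Spec.map φ).appTop := by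
      have h3 := Scheme.ΓSpecIso_naturality φ
      have h4 : (Spec.map φ).appTop = (Scheme.ΓSpecIso R).hom ≫ φ ≫ (Scheme.ΓSpecIso S).inv := by
        rw [← Category.assoc, ← h3, Category.assoc, Iso.hom_inv_id, Category.comp_id]
      rw [h4]
      simp only [CommRingCat.hom_comp, RingHom.coe_comp]
      exact ((ConcreteCategory.bijective_of_isIso (Scheme.ΓSpecIso S).inv).1.comp hinj).comp
        (ConcreteCategory.bijective_of_isIso (Scheme.ΓSpecIso R).hom).1
    rw [h1] at h2
    simp only [CommRingCat.hom_comp, RingHom.coe_comp] at h2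
    exact h2.of_comp
  haveI : IsIso ι := IsClosedImmersion.isIso_of_injective_of_isAffine happ
  rw [← cancel_epi ι]
  exact equalizer.condition u v

end Groth.Agent.Helper6.SpecEpi
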