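import Mathlib
import Groth.Agent.S12123

/-!
# A spectral space is a cofiltered limit of finite sober T0 spaces
-/

open CategoryTheory TopologicalSpace Opposite

namespace Groth.Agent.Helper6.SpecLim

universe u

theorem quasiSober_of_finite (Y : Type*) [TopologicalSpace Y] [Finite Y] : QuasiSober Y := by
  classical
  constructor
  intro Z hZ hZc
  have hfin : Z.Finite := Set.toFinite Z
  have h1 := isIrreducible_iff_sUnion_isClosed.1 hZ
    (hfin.toFinset.image fun z => closure ({z} : Set Y))
    (by
      intro z hz
      obtain ⟨w, -, rfl⟩ := Finset.mem_image.1 hz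
      exact isClosed_closure)
    (by
      intro z hz
      refine ⟨closure {z}, ?_, subset_closure rfl⟩
      exact Finset.mem_coe.2 (Finset.mem_image.2 ⟨z, hfin.mem_toFinset.2 hz, rfl⟩))
  obtain ⟨C, hC, hZC⟩ := h1
  obtain ⟨z, hz, rfl⟩ := Finset.mem_image.1 hC
  refine ⟨z, ?_⟩
  show closure {z} = Z
  exact subset_antisymm (closure_minimal (Set.singleton_subset_iff.2 (hfin.mem_toFinset.1 hz)) hZc)
    hZC

instance : T0Space Prop := by
  rw [t0Space_iff_inseparable]
  intro p q h
  have h1 : IsOpen ({True} : Set Prop) := isOpen_singleton_true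
  have := h.mem_open_iff h1
  simp only [Set.mem_singleton_iff, eq_iff_iff, iff_true] at this
  exact propext this

variable (X : Type u) [TopologicalSpace X]

/-- The finite T0 quotient of `X` attached to a finite set of compact opens. -/
abbrev Q (S : Finset (CompactOpens X)) : Type u :=
  {p : S → Prop // ∃ x : X, ∀ U : S, p U ↔ x ∈ (U.1 : Set X)}

variable {X}

/-- the projection -/
def proj (S : Finset (CompactOpens X)) (x : X) : Q X S :=
  ⟨fun U => x ∈ (U.1 : Set X), x, fun _ => Iff.rfl⟩

theorem continuous_proj (S : Finset (CompactOpens X)) : Continuous (proj S) := by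
  apply Continuous.subtype_mk
  apply continuous_pi
  intro U
  exact continuous_Prop.2 U.1.isOpen

/-- the restriction maps -/
def res {S T : Finset (CompactOpens X)} (h : S ≤ T) (p : Q X T) : Q X S :=
  ⟨fun U => p.1 ⟨U.1, h U.2⟩, by
    obtain ⟨x, hx⟩ := p.2
    exact ⟨x, fun U => hx _⟩⟩

theorem continuous_res {S T : Finset (CompactOpens X)} (h : S ≤ T) : Continuous (res h) := by
  apply Continuous.subtype_mk
  apply continuous_pi
  intro U
  exact (continuous_apply _).comp continuous_subtype_val

theorem res_proj {S T : Finset (CompactOpens X)} (h : S ≤ T) (x : X) :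
    res h (proj T x) = proj S x := rfl

variable (X)

/-- the diagram -/
def F : (Finset (CompactOpens X))ᵒᵖ ⥤ TopCat.{u} where
  obj S := TopCat.of (Q X S.unop)
  map {S T} f := TopCat.ofHom ⟨res (leOfHom f.unop), continuous_res _⟩
  map_id S := rfl
  map_comp f g := rfl

/-- the cone -/
def cone : Limits.Cone (F X) where
  pt := TopCat.of X
  π :=
    { app := fun S => TopCat.ofHom ⟨proj S.unop, continuous_proj _⟩
      naturality := fun S T f => rfl }

variable {X}

theorem eq_of_forall_compactOpens [T0Space X] [PrespectralSpace X] {x y : X}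
    (h : ∀ U : CompactOpens X, x ∈ (U : Set X) ↔ y ∈ (U : Set X)) : x = y := by
  apply Inseparable.eq
  rw [inseparable_iff_forall_isOpen]
  have key : ∀ a b : X, (∀ U : CompactOpens X, a ∈ (U : Set X) → b ∈ (U : Set X)) →
      ∀ s : Set X, IsOpen s → a ∈ s → b ∈ s := by
    intro a b hab s hs ha
    obtain ⟨V, ⟨hV1, hV2⟩, haV, hVs⟩ :=
      (PrespectralSpace.isTopologicalBasis (X := X)).exists_subset_of_mem_open ha hs
    exact hVs (hab ⟨⟨V, hV2⟩, hV1⟩ haV)
  intro s hs
  exact ⟨key x y (fun U => (h U).1) s hs, key y x (fun U => (h U).2) s hs⟩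

theorem exists_point [SpectralSpace X] (φ : CompactOpens X → Prop)
    (hφ : ∀ S : Finset (CompactOpens X), ∃ x : X, ∀ U ∈ S, (x ∈ (U : Set X) ↔ φ U)) :
    ∃ x : X, ∀ U : CompactOpens X, x ∈ (U : Set X) ↔ φ U := by
  let C : CompactOpens X → Set (WithConstructibleTopology X) :=
    fun U => {x | x.ofTopology ∈ (U : Set X) ↔ φ U}
  have hC : ∀ U, IsClosed (C U) := by
    intro U
    have hcl := Groth.Agent.S12123.isClopen_of_compact_open U.isOpen U.isCompact
    by_cases hU : φ U
    · have : C U = (WithTopology.ofTopology : WithConstructibleTopology X → X) ⁻¹' (U : Set X) := by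
        ext x
        simp only [C, Set.mem_setOf_eq, hU, iff_true, Set.mem_preimage]
      rw [this]
      exact hcl.1
    · have : C U = ((WithTopology.ofTopology : WithConstructibleTopology X → X) ⁻¹' (U : Set X))ᶜ := by
        ext x
        simp only [C, Set.mem_setOf_eq, hU, iff_false, Set.mem_compl_iff, Set.mem_preimage]
      rw [this]
      exact hcl.2.isClosed_compl
  have hne := CompactSpace.iInter_nonempty hC (by
    intro S
    obtain ⟨x, hx⟩ := hφ S
    refine ⟨WithTopology.toTopology _ x, ?_⟩
    simp only [Set.mem_iInter]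
    intro U hU
    exact hx U hU)
  obtain ⟨x, hx⟩ := hne
  refine ⟨x.ofTopology, fun U => ?_⟩
  exact Set.mem_iInter.1 hx U

/-- the limit property -/
noncomputable def isLimit [SpectralSpace X] : Limits.IsLimit (cone X) := by
  classical
  -- data attached to a cone
  have key : ∀ (s : Limits.Cone (F X)) (z : s.pt), ∃ x : X, ∀ U : CompactOpens X,
      x ∈ (U : Set X) ↔ (s.π.app (op {U}) z).1 ⟨U, Finset.mem_singleton_self U⟩ := by
    intro s z
    apply exists_point
    intro S
    obtain ⟨x, hx⟩ := (s.π.app (op S) z).2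
    refine ⟨x, fun U hU => ?_⟩
    rw [← hx ⟨U, hU⟩]
    have hle : ({U} : Finset (CompactOpens X)) ≤ S := Finset.singleton_subset_iff.2 hU
    have hnat := s.w (homOfLE hle).op
    have := congrArg (fun f => (f z).1 ⟨U, Finset.mem_singleton_self U⟩) hnat
    have this' : (s.π.app (op S) z).1 ⟨U, hU⟩ =
        (s.π.app (op {U}) z).1 ⟨U, Finset.mem_singleton_self U⟩ := this
    exact iff_of_eq this'
  choose pt hpt using key
  have hcompat : ∀ (s : Limits.Cone (F X)) (z : s.pt) (S : Finset (CompactOpens X)) (U : S),
      (pt s z ∈ (U.1 : Set X)) ↔ (s.π.app (op S) z).1 U := by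
    intro s z S U
    rw [hpt s z U.1]
    have hle : ({U.1} : Finset (CompactOpens X)) ≤ S := Finset.singleton_subset_iff.2 U.2
    have hnat := s.w (homOfLE hle).op
    have := congrArg (fun f => (f z).1 ⟨U.1, Finset.mem_singleton_self U.1⟩) hnat
    have this' : (s.π.app (op S) z).1 U =
        (s.π.app (op {U.1}) z).1 ⟨U.1, Finset.mem_singleton_self U.1⟩ := this
    exact (iff_of_eq this').symm
  have hcont : ∀ s : Limits.Cone (F X), Continuous (pt s) := by
    intro s
    rw [(PrespectralSpace.isTopologicalBasis (X := X)).continuous_iff]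
    rintro V ⟨hV1, hV2⟩
    let U : CompactOpens X := ⟨⟨V, hV2⟩, hV1⟩
    have : pt s ⁻¹' V = {z | (s.π.app (op {U}) z).1 ⟨U, Finset.mem_singleton_self U⟩} := by
      ext z
      exact hpt s z U
    rw [this]
    have h1 : Continuous (fun z => (s.π.app (op {U}) z).1 ⟨U, Finset.mem_singleton_self U⟩) :=
      (continuous_apply _).comp (continuous_subtype_val.comp (s.π.app (op {U})).hom.continuous)
    exact continuous_Prop.1 h1
  exact
    { lift := fun s => TopCat.ofHom ⟨pt s, hcont s⟩
      fac := fun s S => by
        ext z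
        apply Subtype.ext
        funext U
        exact propext (hcompat s z S.unop U)
      uniq := fun s m hm => by
        ext z
        refine eq_of_forall_compactOpens (X := X) ?_
        intro U
        show _ ↔ pt s z ∈ (U : Set X)
        rw [hpt s z U, ← hm (op {U})]
        rfl }

end Groth.Agent.Helper6.SpecLim
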