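import Mathlib
import Groth.Prelude.Def_FibClv
import Groth.Agent.Helper6.SplitClv

set_option autoImplicit false
set_option linter.style.haveILetI false
set_option linter.unusedVariables false
set_option backward.isDefEq.respectTransparency false
set_option backward.isDefEq.respectTransparency.types false
universe v₁ v₂ u₁ u₂

namespace Groth.Agent.Helper6.SplitIso
open CategoryTheory Functor Opposite FibCat Pseudofunctor
open Groth.Agent.Helper6.SplitClv

variable {𝒮 : Type u₁} [Category.{v₁} 𝒮] {𝒳 : Type u₂} [Category.{v₂} 𝒳] {p : 𝒳 ⥤ 𝒮}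
  (K : FibCat.Cleavage p) (hK : K.IsSplitting)

/-- The pseudofunctor attached to the split cleavage. -/
noncomputable abbrev G : Pseudofunctor (LocallyDiscrete 𝒮ᵒᵖ) Cat.{v₂, u₂} := (splitF K hK).toPseudofunctor'

variable {K hK}

/-- The fibre component of an object, as an object of the fibre category. -/
def fib (X : CoGrothendieck (G K hK)) : p.Fiber X.base := X.fiber

/-- The fibre component of a morphism, as a morphism of the fibre category. -/
def hfib {X Y : CoGrothendieck (G K hK)} (f : X ⟶ Y) :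
    fib X ⟶ (K.inverseImage f.base).obj (fib Y) := f.fiber

theorem id_fiber (X : CoGrothendieck (G K hK)) :
    hfib (𝟙 X) = eqToHom (inverseImage_id_obj K hK.1 (fib X)).symm := by
  unfold hfib
  simp

theorem comp_fiber {X Y Z : CoGrothendieck (G K hK)} (f : X ⟶ Y) (g : Y ⟶ Z) :
    hfib (f ≫ g) = hfib f ≫ (K.inverseImage f.base).map (hfib g) ≫
      eqToHom (inverseImage_comp_obj K hK g.base f.base (fib Z)).symm := by
  unfold hfib
  simp
  rfl


/-- Two morphisms of `∫ᶜ` agree if their bases agree and their composites with the chosen lifts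
agree. -/
theorem hom_ext_lift {X Y : CoGrothendieck (G K hK)} (f g : X ⟶ Y) (h₁ : f.base = g.base)
    (h₂ : Fiber.fiberInclusion.map (hfib f) ≫ K.lift (fib Y).2 f.base =
      Fiber.fiberInclusion.map (hfib g) ≫ K.lift (fib Y).2 g.base) : f = g := by
  refine CoGrothendieck.Hom.ext f g h₁ ?_
  apply Fiber.hom_ext
  apply eq_of_comp_lift K (fib Y).2 f.base
  rw [Functor.map_comp, eqToHom_map, Category.assoc, ← lift_congr K (fib Y).2 h₁.symm]
  exact h₂

variable (K hK) in
/-- From the Grothendieck construction back to the total category. -/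
noncomputable def Ψ : CoGrothendieck (G K hK) ⥤ 𝒳 where
  obj X := (fib X).1
  map {X Y} f := Fiber.fiberInclusion.map (hfib f) ≫ K.lift (fib Y).2 f.base
  map_id X := by
    change Fiber.fiberInclusion.map (hfib (𝟙 X)) ≫ K.lift (fib X).2 (𝟙 X.base) = 𝟙 _
    rw [id_fiber, lift_id K hK.1 (fib X).2, eqToHom_map, eqToHom_trans, eqToHom_refl]
  map_comp {X Y Z} f g := by
    change Fiber.fiberInclusion.map (hfib (f ≫ g)) ≫ K.lift (fib Z).2 (f.base ≫ g.base) = _
    rw [comp_fiber]
    simp only [Functor.map_comp, eqToHom_map, Category.assoc]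
    have e1 := lift_comp K hK g.base f.base (fib Z).2
    have e2 := map_lift K f.base (hfib g)
    rw [← e1, reassoc_of% e2]

theorem Ψ_map {X Y : CoGrothendieck (G K hK)} (f : X ⟶ Y) :
    (Ψ K hK).map f = Fiber.fiberInclusion.map (hfib f) ≫ K.lift (fib Y).2 f.base := rfl

/-- Faithfulness of `Ψ` relative to the base. -/
theorem hom_ext_Ψ {X Y : CoGrothendieck (G K hK)} (f g : X ⟶ Y) (h₁ : f.base = g.base)
    (h₂ : (Ψ K hK).map f = (Ψ K hK).map g) : f = g :=
  hom_ext_lift f g h₁ h₂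

variable (K hK) in
/-- The object of `∫ᶜ` attached to an object of the total category. -/
def Φobj (a : 𝒳) : CoGrothendieck (G K hK) :=
  ⟨p.obj a, (Fiber.mk (rfl : p.obj a = p.obj a) : p.Fiber (p.obj a))⟩

variable (K) in
/-- The fibre part of `Φ` on morphisms. -/
noncomputable def Φfib {a b : 𝒳} (φ : a ⟶ b) :
    (Fiber.mk (rfl : p.obj a = p.obj a) : p.Fiber (p.obj a)) ⟶
      (K.inverseImage (p.map φ)).obj (Fiber.mk (rfl : p.obj b = p.obj b)) :=
  ⟨IsCartesian.map p (p.map φ) (K.lift rfl (p.map φ)) φ, inferInstance⟩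

theorem Φfib_lift {a b : 𝒳} (φ : a ⟶ b) :
    Fiber.fiberInclusion.map (Φfib K φ) ≫ K.lift rfl (p.map φ) = φ :=
  IsCartesian.fac p (p.map φ) (K.lift rfl (p.map φ)) φ

variable (K hK) in
/-- `Φ` on morphisms. -/
noncomputable def Φmap {a b : 𝒳} (φ : a ⟶ b) : Φobj K hK a ⟶ Φobj K hK b :=
  ⟨p.map φ, Φfib K φ⟩

theorem Ψ_Φmap {a b : 𝒳} (φ : a ⟶ b) : (Ψ K hK).map (Φmap K hK φ) = φ :=
  Φfib_lift φ

variable (K hK) in
/-- From the total category to the Grothendieck construction. -/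
noncomputable def Φ : 𝒳 ⥤ CoGrothendieck (G K hK) where
  obj := Φobj K hK
  map := Φmap K hK
  map_id a := by
    apply hom_ext_Ψ
    · exact p.map_id a
    · rw [Ψ_Φmap, CategoryTheory.Functor.map_id]
      rfl
  map_comp {a b c} φ ψ := by
    apply hom_ext_Ψ
    · exact p.map_comp φ ψ
    · rw [Ψ_Φmap, CategoryTheory.Functor.map_comp, Ψ_Φmap, Ψ_Φmap]

theorem Φ_comp_Ψ : Φ K hK ⋙ Ψ K hK = 𝟭 𝒳 := by
  refine CategoryTheory.Functor.ext (fun a => rfl) (fun a b φ => ?_)
  rw [eqToHom_refl, eqToHom_refl, Category.id_comp, Category.comp_id]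
  exact Ψ_Φmap φ

theorem Φ_comp_forget : Φ K hK ⋙ CoGrothendieck.forget (G K hK) = p := by
  refine CategoryTheory.Functor.ext (fun a => rfl) (fun a b φ => ?_)
  rw [eqToHom_refl, eqToHom_refl, Category.id_comp, Category.comp_id]
  rfl

theorem Φobj_eq (S : 𝒮) (a : 𝒳) (ha : p.obj a = S) :
    Φobj K hK a = ⟨S, (Fiber.mk ha : p.Fiber S)⟩ := by
  subst ha
  rfl

theorem Ψ_comp_Φ_map (S T : 𝒮) (a b : 𝒳) (ha : p.obj a = S) (hb : p.obj b = T)
    (f : (⟨S, (Fiber.mk ha : p.Fiber S)⟩ : CoGrothendieck (G K hK)) ⟶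
      ⟨T, (Fiber.mk hb : p.Fiber T)⟩) :
    Φmap K hK ((Ψ K hK).map f) = eqToHom (Φobj_eq S a ha) ≫ f ≫ eqToHom (Φobj_eq T b hb).symm := by
  subst ha
  subst hb
  rw [eqToHom_refl, eqToHom_refl, Category.id_comp, Category.comp_id]
  apply hom_ext_Ψ
  · change p.map ((Ψ K hK).map f) = f.base
    rw [Ψ_map]
    have h := IsHomLift.fac' p f.base
      (Fiber.fiberInclusion.map (hfib f) ≫ K.lift (fib (⟨p.obj b, Fiber.mk rfl⟩ :
        CoGrothendieck (G K hK))).2 f.base)
    rw [h]
    simp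
  · exact Ψ_Φmap _

theorem Ψ_comp_Φ : Ψ K hK ⋙ Φ K hK = 𝟭 _ :=
  CategoryTheory.Functor.ext (fun X => Φobj_eq X.base (fib X).1 (fib X).2)
    (fun X Y f => Ψ_comp_Φ_map X.base Y.base (fib X).1 (fib Y).1 (fib X).2 (fib Y).2 f)

end Groth.Agent.Helper6.SplitIso
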