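import Mathlib
import Groth.Agent.Helper6.StTop3

/-!
# Helper6: Noetherian properties of the space of points of an algebraic stack
-/

set_option autoImplicit false
set_option linter.style.haveILetI false
set_option linter.unusedVariables false
universe u

namespace Groth.Agent.Helper6.StNoeth
open CategoryTheory Functor FibCat Limits AlgebraicGeometry Opposite TopologicalSpace
open Groth.Agent.Helper6.StPts Groth.Agent.Helper6.StTop Groth.Agent.Helper6.ToSpace
open Groth.Agent.Helper6.DiagLft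
open AlgSp

variable {S : Scheme.{u}} {𝒳 : AlgSt.Cat S}

/-- S13020 -/
theorem noetherianSpace_points (h𝒳 : AlgSt.IsAlgStack Scheme.fppfPrecoverage 𝒳)
    (hqc : AlgSt.IsQuasiCompact 𝒳)
    (hN : AlgSt.SmoothLocally (fun T ↦ IsLocallyNoetherian T) 𝒳) :
    NoetherianSpace (AlgSt.Points 𝒳) := by
  obtain ⟨U, x, hU, hx₁, hx₂⟩ := hqc
  haveI : IsAffine U.left := hU
  haveI : IsLocallyNoetherian U.left := hN U x hx₁
  haveI : IsNoetherian U.left := {}
  obtain ⟨hc, -⟩ := ofChart_continuous_isOpenMap h𝒳 U x (repByAlgSpWith_mono smooth_le_flat hx₁)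
    (repByAlgSpWith_mono smooth_le_lfp hx₁)
  exact noetherianSpace_of_surjective (AlgSt.Points.ofChart x) hc
    (ofChart_surjective h𝒳.isStack.1 x hx₂)

/-- S13019 -/
theorem exists_noetherian_nhd (h𝒳 : AlgSt.IsAlgStack Scheme.fppfPrecoverage 𝒳)
    (hN : AlgSt.SmoothLocally (fun T ↦ IsLocallyNoetherian T) 𝒳) (x : AlgSt.Points 𝒳) :
    ∃ U : Set (AlgSt.Points 𝒳), IsOpen U ∧ x ∈ U ∧ NoetherianSpace U := by
  obtain ⟨U, a, ha₁, ha₂⟩ := h𝒳.atlas
  obtain ⟨t, rfl⟩ := ofChart_surjective h𝒳.isStack.1 a ha₂ x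
  obtain ⟨hc, ho⟩ := ofChart_continuous_isOpenMap h𝒳 U a (repByAlgSpWith_mono smooth_le_flat ha₁)
    (repByAlgSpWith_mono smooth_le_lfp ha₁)
  obtain ⟨O, hO, htO, -⟩ :=
    (Opens.isBasis_iff_nbhd.1 U.left.isBasis_affineOpens) (show t ∈ (⊤ : Opens U.left) from trivial)
  haveI : IsLocallyNoetherian U.left := hN U a ha₁
  haveI : IsNoetherianRing Γ(U.left, O) := IsLocallyNoetherian.component_noetherian ⟨O, hO⟩
  have hNO' : NoetherianSpace ↥O := noetherianSpace_of_isAffineOpen O hO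
  have hNO : NoetherianSpace ↥(O : Set U.left) := hNO'
  refine ⟨AlgSt.Points.ofChart a '' (O : Set U.left), ho _ O.isOpen, ⟨t, htO, rfl⟩, ?_⟩
  rw [noetherianSpace_set_iff] at hNO ⊢
  intro T hT
  have hT' : T = AlgSt.Points.ofChart a '' (AlgSt.Points.ofChart a ⁻¹' T ∩ (O : Set U.left)) := by
    ext y
    constructor
    · intro hy
      obtain ⟨s, hs, rfl⟩ := hT hy
      exact ⟨s, ⟨hy, hs⟩, rfl⟩
    · rintro ⟨s, ⟨hs, -⟩, rfl⟩
      exact hs
  rw [hT']
  exact (hNO _ Set.inter_subset_right).image hc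


/-- the target of an open continuous surjection from a quasi-sober, locally Noetherian space is
quasi-sober -/
theorem quasiSober_of_open_surjective {X Y : Type*} [TopologicalSpace X] [TopologicalSpace Y]
    [QuasiSober X] (hX : ∀ x : X, ∃ W : Set X, IsOpen W ∧ x ∈ W ∧ NoetherianSpace W)
    (f : X → Y) (hc : Continuous f) (ho : IsOpenMap f) (hs : Function.Surjective f) :
    QuasiSober Y := by
  refine ⟨fun {T} hT hTc => ?_⟩
  obtain ⟨y, hy⟩ := hT.nonempty
  obtain ⟨x, rfl⟩ := hs y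
  obtain ⟨W, hWo, hxW, hWN⟩ := hX x
  have hAc : IsClosed ((Subtype.val : W → X) ⁻¹' (f ⁻¹' T)) :=
    (hTc.preimage hc).preimage continuous_subtype_val
  obtain ⟨Sset, hSfin, hSc, hSirr, hA⟩ :=
    NoetherianSpace.exists_finite_set_isClosed_irreducible (α := W) hAc
  have himg : T ∩ f '' W = ⋃ s ∈ Sset, f '' (Subtype.val '' s) := by
    ext z
    simp only [Set.mem_inter_iff, Set.mem_image, Set.mem_iUnion, exists_prop]
    constructor
    · rintro ⟨hzT, w, hwW, rfl⟩
      have hw : (⟨w, hwW⟩ : W) ∈ (Subtype.val : W → X) ⁻¹' (f ⁻¹' T) := hzT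
      rw [hA] at hw
      obtain ⟨s, hsS, hws⟩ := hw
      exact ⟨s, hsS, w, ⟨⟨w, hwW⟩, hws, rfl⟩, rfl⟩
    · rintro ⟨s, hsS, w, ⟨w', hw's, rfl⟩, rfl⟩
      have hw : w' ∈ (Subtype.val : W → X) ⁻¹' (f ⁻¹' T) := by
        rw [hA]
        exact ⟨s, hsS, hw's⟩
      exact ⟨hw, w'.1, w'.2, rfl⟩
  have hdense : T ⊆ closure (T ∩ f '' W) :=
    subset_closure_inter_of_isPreirreducible_of_isOpen hT.isPreirreducible (ho _ hWo)
      ⟨f x, hy, x, hxW, rfl⟩
  rw [himg, hSfin.closure_biUnion] at hdense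
  let G : Set (Set Y) := (fun s : Set W => closure (f '' (Subtype.val '' s))) '' Sset
  have hGfin : G.Finite := hSfin.image _
  have hcov : T ⊆ ⋃₀ ↑hGfin.toFinset := by
    intro z hz
    obtain ⟨s, hsS, hzs⟩ := Set.mem_iUnion₂.1 (hdense hz)
    exact ⟨_, by simpa using ⟨s, hsS, rfl⟩, hzs⟩
  obtain ⟨Z, hZmem, hTZ⟩ := isIrreducible_iff_sUnion_isClosed.mp hT hGfin.toFinset
    (fun z hz => by
      obtain ⟨s, -, rfl⟩ := (Set.Finite.mem_toFinset hGfin).1 hz
      exact isClosed_closure) hcov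
  obtain ⟨s₀, hs₀S, rfl⟩ := (Set.Finite.mem_toFinset hGfin).1 hZmem
  have hirr : IsIrreducible ((Subtype.val : W → X) '' s₀) :=
    (hSirr s₀ hs₀S).image _ continuous_subtype_val.continuousOn
  have hsub : (Subtype.val : W → X) '' s₀ ⊆ f ⁻¹' T := by
    rintro _ ⟨w', hw', rfl⟩
    have hw : w' ∈ (Subtype.val : W → X) ⁻¹' (f ⁻¹' T) := by
      rw [hA]
      exact ⟨s₀, hs₀S, hw'⟩
    exact hw
  refine ⟨f hirr.genericPoint, ?_⟩
  have hgen : closure ({hirr.genericPoint} : Set X) = closure ((Subtype.val : W → X) '' s₀) :=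
    hirr.genericPoint_closure_eq
  have hξ : hirr.genericPoint ∈ f ⁻¹' T := by
    have h1 : hirr.genericPoint ∈ closure ((Subtype.val : W → X) '' s₀) := by
      rw [← hgen]
      exact subset_closure rfl
    exact (closure_minimal hsub (hTc.preimage hc)) h1
  change closure {f hirr.genericPoint} = T
  apply subset_antisymm
  · exact closure_minimal (Set.singleton_subset_iff.2 hξ) hTc
  · refine hTZ.trans (closure_minimal ?_ isClosed_closure)
    have h2 : f '' ((Subtype.val : W → X) '' s₀) ⊆ f '' closure {hirr.genericPoint} := by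
      rw [hgen]
      exact Set.image_mono subset_closure
    refine h2.trans ((image_closure_subset_closure_image hc).trans ?_)
    rw [Set.image_singleton]

/-- S13021 -/
theorem quasiSober_points (h𝒳 : AlgSt.IsAlgStack Scheme.fppfPrecoverage 𝒳)
    (hN : AlgSt.SmoothLocally (fun T ↦ IsLocallyNoetherian T) 𝒳) :
    QuasiSober (AlgSt.Points 𝒳) := by
  obtain ⟨U, a, ha₁, ha₂⟩ := h𝒳.atlas
  obtain ⟨hc, ho⟩ := ofChart_continuous_isOpenMap h𝒳 U a (repByAlgSpWith_mono smooth_le_flat ha₁)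
    (repByAlgSpWith_mono smooth_le_lfp ha₁)
  haveI : IsLocallyNoetherian U.left := hN U a ha₁
  refine quasiSober_of_open_surjective (fun t => ?_) _ hc ho (ofChart_surjective h𝒳.isStack.1 a ha₂)
  obtain ⟨O, hO, htO, -⟩ :=
    (Opens.isBasis_iff_nbhd.1 U.left.isBasis_affineOpens) (show t ∈ (⊤ : Opens U.left) from trivial)
  haveI : IsNoetherianRing Γ(U.left, O) := IsLocallyNoetherian.component_noetherian ⟨O, hO⟩
  have hNO' : NoetherianSpace ↥O := noetherianSpace_of_isAffineOpen O hO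
  exact ⟨(O : Set U.left), O.isOpen, htO, hNO'⟩

end Groth.Agent.Helper6.StNoeth
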