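import Mathlib
import Groth.Agent.Helper6.StTop3
import Groth.Agent.Helper6.SpUniv

/-!
# Helper6: universally open / closed / injective / submersive / homeomorphic functors of algebraic stacks
-/

set_option autoImplicit false
set_option linter.style.haveILetI false
set_option linter.unusedVariables false
universe u

namespace Groth.Agent.Helper6.StUniv
open CategoryTheory Functor FibCat Limits AlgebraicGeometry Opposite
open Groth.Agent.Helper3 Stk Groth.Agent.Helper6.OfPsh Groth.Agent.Helper6.OfPshHom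
open Groth.Agent.Helper6.FpTools Groth.Agent.Helper6.AlgStRep
open Groth.Agent.Helper6.AlgStEquiv Groth.Agent.Helper6.AlgStInv Groth.Agent.Helper6.AlgStPsh
open Groth.Agent.Helper6.DiagRep Groth.Agent.Helper6.AlgStPts Groth.Agent.Helper6.StPts
open Groth.Agent.Helper6.SmLoc Groth.Agent.Helper6.ChartOver Groth.Agent.Helper6.Descent2
open Groth.Agent.Helper6.DiagLft Groth.Agent.Helper6.ToSpace Groth.Agent.Helper6.QcChart
open Groth.Agent.Helper6.SpAtlas Groth.Agent.Helper4.SDClasses Groth.Agent.Helper6.QcMor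
open Groth.Agent.Helper6.QcMor2 Groth.Agent.Helper6.QcMor3 Groth.Agent.Helper6.AlgStBC
open Groth.Agent.Helper6.FpAlg Groth.Agent.Helper6.StTop Groth.Agent.Helper6.SpUniv
open AlgSp

variable {S : Scheme.{u}} {𝒳 𝒴 𝒵 : AlgSt.Cat S}

section Conj

variable {A A' B B' : Type*} [TopologicalSpace A] [TopologicalSpace A'] [TopologicalSpace B]
  [TopologicalSpace B']

theorem conj_eq (α : A ≃ₜ A') (β : B ≃ₜ B') (φ : A' → B') (ψ : A → B)
    (h : ∀ x, φ (α x) = β (ψ x)) : φ = β ∘ ψ ∘ α.symm := by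
  funext w
  simp only [Function.comp_apply]
  rw [← h, Homeomorph.apply_symm_apply]

theorem conj_eq' (α : A ≃ₜ A') (β : B ≃ₜ B') (φ : A' → B') (ψ : A → B)
    (h : ∀ x, φ (α x) = β (ψ x)) : ψ = β.symm ∘ φ ∘ α := by
  funext x
  simp only [Function.comp_apply]
  rw [h, Homeomorph.symm_apply_apply]

end Conj

/-- the map on points of an equivalence of algebraic stacks is a homeomorphism -/
theorem isHomeomorph_points_map_of_isEquivOver (h𝒳 : AlgSt.IsAlgStack Scheme.fppfPrecoverage 𝒳)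
    (h𝒴 : AlgSt.IsAlgStack Scheme.fppfPrecoverage 𝒴) (E : 𝒳 ⥤ᵇ 𝒴) (hE : IsEquivOver E) :
    IsHomeomorph (AlgSt.Points.map E) := by
  obtain ⟨G, hG, ⟨η⟩, ⟨ε⟩⟩ := EquivOver.symm hE
  have hGE : ∀ a, AlgSt.Points.map G (AlgSt.Points.map E a) = a := fun a => by
    rw [← points_map_comp, points_map_congr η, points_map_id]
  have hEG : ∀ b, AlgSt.Points.map E (AlgSt.Points.map G b) = b := fun b => by
    rw [← points_map_comp, points_map_congr ε, points_map_id]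
  refine ⟨continuous_points_map h𝒳.isStack.1 h𝒴 E, ?_,
    points_map_bijective_of_isEquivOver h𝒳.isStack.1 h𝒴.isStack.1 E hE⟩
  intro A hA
  have : AlgSt.Points.map E '' A = AlgSt.Points.map G ⁻¹' A := by
    ext b
    constructor
    · rintro ⟨a, ha, rfl⟩
      simpa only [Set.mem_preimage, hGE] using ha
    · intro hb
      exact ⟨AlgSt.Points.map G b, hb, hEG b⟩
  rw [this]
  exact hA.preimage (continuous_points_map h𝒴.isStack.1 h𝒳 G)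

theorem isOpenMap_points_map_chart (h𝒵 : AlgSt.IsAlgStack Scheme.fppfPrecoverage 𝒵) {V : Over S}
    (z : overCat V ⥤ᵇ 𝒵)
    (hz₁ : AlgSt.RepByAlgSpWith (AlgSp.LocP @Flat) z)
    (hz₂ : AlgSt.RepByAlgSpWith (AlgSp.LocP @LocallyOfFinitePresentation) z) :
    IsOpenMap (AlgSt.Points.map z) := by
  intro B hB
  have : AlgSt.Points.map z '' B = AlgSt.Points.ofChart z '' (chartPt V ⁻¹' B) := by
    rw [show AlgSt.Points.ofChart z = AlgSt.Points.map z ∘ chartPt V from rfl, Set.image_comp,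
      Set.image_preimage_eq _ (chartPt_bijective V).2]
  rw [this]
  exact (ofChart_continuous_isOpenMap h𝒵 V z hz₁ hz₂).2 _ (hB.preimage (chartPt_continuous V))

theorem isOpen_iff_preimage_chart (h𝒵 : AlgSt.IsAlgStack Scheme.fppfPrecoverage 𝒵) {V : Over S}
    (z : overCat V ⥤ᵇ 𝒵)
    (hz₁ : AlgSt.RepByAlgSpWith (AlgSp.LocP @Smooth) z)
    (hz₂ : AlgSt.RepByAlgSpWith AlgSp.IsSurjectiveMor z) (D : Set (AlgSt.Points 𝒵)) :
    IsOpen D ↔ IsOpen (AlgSt.Points.map z ⁻¹' D) := by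
  constructor
  · exact fun hD => hD.preimage (continuous_points_map (isFibGrpd_overCat V) h𝒵 z)
  · intro hD
    have hs : AlgSt.IsSurjective z := isSurjective_of_rep_surj (isFibGrpd_overCat V) h𝒵.isStack.1 z hz₂
    rw [← Set.image_preimage_eq D hs]
    exact isOpenMap_points_map_chart h𝒵 z (repByAlgSpWith_mono smooth_le_flat hz₁)
      (repByAlgSpWith_mono smooth_le_lfp hz₁) _ hD

theorem isClosed_iff_preimage_chart (h𝒵 : AlgSt.IsAlgStack Scheme.fppfPrecoverage 𝒵) {V : Over S}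
    (z : overCat V ⥤ᵇ 𝒵)
    (hz₁ : AlgSt.RepByAlgSpWith (AlgSp.LocP @Smooth) z)
    (hz₂ : AlgSt.RepByAlgSpWith AlgSp.IsSurjectiveMor z) (D : Set (AlgSt.Points 𝒵)) :
    IsClosed D ↔ IsClosed (AlgSt.Points.map z ⁻¹' D) := by
  rw [← isOpen_compl_iff, ← isOpen_compl_iff, isOpen_iff_preimage_chart h𝒵 z hz₁ hz₂,
    Set.preimage_compl]

variable {𝒱 : AlgSt.Cat S}

theorem preimage_image_fpFst (h𝒳 : IsFibGrpd 𝒳.p) (h𝒴 : IsFibGrpd 𝒴.p) (h𝒵 : IsFibGrpd 𝒵.p)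
    (h𝒱 : IsFibGrpd 𝒱.p) (f : 𝒳 ⥤ᵇ 𝒴) (g : 𝒵 ⥤ᵇ 𝒴) (z : 𝒱 ⥤ᵇ 𝒵)
    (C : Set (AlgSt.Points (fp g f))) :
    AlgSt.Points.map z ⁻¹' (AlgSt.Points.map (fpFst g f) '' C) =
      AlgSt.Points.map (fpFst (BasedFunctor.comp z g) f) ''
        (AlgSt.Points.map (pasteInner z g f) ⁻¹' C) :=
  preimage_image_eq_fp h𝒱 (isFibGrpd_fp g f h𝒵 h𝒳 h𝒴) h𝒵 z (fpFst g f) (pasteLeft z g f)
    (isEquivOver_pasteLeft z g f) C

theorem points_square_fpFst (f : 𝒳 ⥤ᵇ 𝒴) (g : 𝒵 ⥤ᵇ 𝒴) (z : 𝒱 ⥤ᵇ 𝒵)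
    (b : AlgSt.Points (fp (BasedFunctor.comp z g) f)) :
    AlgSt.Points.map z (AlgSt.Points.map (fpFst (BasedFunctor.comp z g) f) b) =
      AlgSt.Points.map (fpFst g f) (AlgSt.Points.map (pasteInner z g f) b) :=
  fp_points_comm z (fpFst g f) (pasteLeft z g f) b

theorem points_lift_fpFst (h𝒳 : IsFibGrpd 𝒳.p) (h𝒴 : IsFibGrpd 𝒴.p) (h𝒵 : IsFibGrpd 𝒵.p)
    (h𝒱 : IsFibGrpd 𝒱.p) (f : 𝒳 ⥤ᵇ 𝒴) (g : 𝒵 ⥤ᵇ 𝒴) (z : 𝒱 ⥤ᵇ 𝒵)
    (v : AlgSt.Points 𝒱) (a : AlgSt.Points (fp g f))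
    (h : AlgSt.Points.map z v = AlgSt.Points.map (fpFst g f) a) :
    ∃ b : AlgSt.Points (fp (BasedFunctor.comp z g) f),
      AlgSt.Points.map (fpFst (BasedFunctor.comp z g) f) b = v ∧
        AlgSt.Points.map (pasteInner z g f) b = a :=
  fp_points_exists h𝒱 (isFibGrpd_fp g f h𝒵 h𝒳 h𝒴) h𝒵 z (fpFst g f) (pasteLeft z g f)
    (isEquivOver_pasteLeft z g f) v a h


/-- the homeomorphisms comparing `fpFst ξ f` with the map of sheaves representing it -/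
theorem exists_homeo_square (h𝒳 : AlgSt.IsAlgStack Scheme.fppfPrecoverage 𝒳)
    (h𝒴 : AlgSt.IsAlgStack Scheme.fppfPrecoverage 𝒴) (f : 𝒳 ⥤ᵇ 𝒴) {V : Over S}
    (ξ : overCat V ⥤ᵇ 𝒴) (F : AlgSp.Space S) (e : AlgSt.ofSp F.obj ⥤ᵇ fp ξ f) (he : IsEquivOver e) :
    ∃ (α : AlgSp.Points F.obj ≃ₜ AlgSt.Points (fp ξ f))
      (β : AlgSp.Points ((yon S).obj V) ≃ₜ AlgSt.Points (overCat V)),
      ∀ x, AlgSt.Points.map (fpFst ξ f) (α x) =
        β (AlgSp.Points.map (AlgSt.spMapOfOver (BasedFunctor.comp e (fpFst ξ f))) x) := by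
  have hA : AlgSt.IsAlgStack Scheme.fppfPrecoverage (fp ξ f) :=
    isAlgStack_fp h𝒴.isStack h𝒴.diag (isAlgStack_overCat V) h𝒳 ξ f
  have hF : AlgSt.IsAlgStack Scheme.fppfPrecoverage (AlgSt.ofSp F.obj) :=
    (Groth.Agent.S12772.isDM_ofSp F).1
  refine ⟨(sigmaHomeo F.property).trans
    (IsHomeomorph.homeomorph _ (isHomeomorph_points_map_of_isEquivOver hF hA e he)),
    (AlgSp.Points.schemeHomeo V).symm.trans (chartHomeo V), fun x => ?_⟩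
  change AlgSt.Points.map (fpFst ξ f) (AlgSt.Points.map e (sigma F.obj x)) =
    chartPt V (AlgSp.Points.toScheme V (AlgSp.Points.map _ x))
  rw [← points_map_comp, points_map_toOver_sigma]

/-- the squares for the charts of the target -/
theorem square_of_chart (h𝒳 : AlgSt.IsAlgStack Scheme.fppfPrecoverage 𝒳)
    (h𝒴 : AlgSt.IsAlgStack Scheme.fppfPrecoverage 𝒴) (f : 𝒳 ⥤ᵇ 𝒴)
    (Q : MorphismProperty (Sp S)) (hR : AlgSt.RepByAlgSpWith (UnivSp Q) f) {V : Over S}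
    (ξ : overCat V ⥤ᵇ 𝒴) :
    ∃ (F : Sp S) (m : F ⟶ (yon S).obj V) (α : AlgSp.Points F ≃ₜ AlgSt.Points (fp ξ f))
      (β : AlgSp.Points ((yon S).obj V) ≃ₜ AlgSt.Points (overCat V)), Q m ∧
      ∀ x, AlgSt.Points.map (fpFst ξ f) (α x) = β (AlgSp.Points.map m x) := by
  obtain ⟨F, e, he, hm⟩ := hR V ξ
  obtain ⟨α, β, h⟩ := exists_homeo_square h𝒳 h𝒴 f ξ F e he
  exact ⟨F.obj, _, α, β, hm (IsAlgSpace.yon_obj V) (𝟙 _) (𝟙 _) _ IsPullback.of_id_fst, h⟩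

/-- the squares for the base changes of the representing map of sheaves to schemes -/
theorem square_of_pullback (h𝒳 : AlgSt.IsAlgStack Scheme.fppfPrecoverage 𝒳)
    (h𝒴 : AlgSt.IsAlgStack Scheme.fppfPrecoverage 𝒴) (f : 𝒳 ⥤ᵇ 𝒴) (hf : AlgSt.RepByAlgSp1 f)
    {U : Over S} (y : overCat U ⥤ᵇ 𝒴) :
    ∃ (F : AlgSp.Space S) (e : AlgSt.ofSp F.obj ⥤ᵇ fp y f) (_ : IsEquivOver e)
      (a : F.obj ⟶ (yon S).obj U),
      AlgSt.spMapOfOver (BasedFunctor.comp e (fpFst y f)) = a ∧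
      ∀ (Z : Over S) (k : (yon S).obj Z ⟶ (yon S).obj U) (P : Sp S) (fst : P ⟶ F.obj)
        (snd : P ⟶ (yon S).obj Z), IsPullback fst snd a k →
        ∃ (g : overCat Z ⥤ᵇ 𝒴) (α : AlgSp.Points P ≃ₜ AlgSt.Points (fp g f))
          (β : AlgSp.Points ((yon S).obj Z) ≃ₜ AlgSt.Points (overCat Z)),
          ∀ x, AlgSt.Points.map (fpFst g f) (α x) = β (AlgSp.Points.map snd x) := by
  obtain ⟨F, e, he⟩ := hf U y
  obtain ⟨a, ⟨θ⟩⟩ := exists_ofSpMap_iso (BasedFunctor.comp e (fpFst y f))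
  refine ⟨F, e, he, a, by rw [spMapOfOver_congr θ, spMapOfOver_ofSpMap_toOverCat], ?_⟩
  intro Z k P fst snd sq
  obtain ⟨c, rfl⟩ := (yon S).map_surjective k
  obtain ⟨E, hE, ⟨θ'⟩⟩ := pbEquiv f y c F e he a θ fst snd sq
  have hPalg : IsAlgSpace P :=
    Groth.Agent.Helper4.AlgSpPB.isAlgSpace_of_isPullback (IsAlgSpace.yon_obj U).diag F.property
      (IsAlgSpace.yon_obj Z) a _ fst snd sq
  obtain ⟨α, β, h⟩ := exists_homeo_square h𝒳 h𝒴 f (BasedFunctor.comp (AlgSt.overMap c) y)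
    ⟨P, hPalg⟩ E hE
  rw [spMapOfOver_congr θ', spMapOfOver_ofSpMap_toOverCat] at h
  exact ⟨_, α, β, h⟩


section Step2

variable (h𝒳 : AlgSt.IsAlgStack Scheme.fppfPrecoverage 𝒳)
  (h𝒴 : AlgSt.IsAlgStack Scheme.fppfPrecoverage 𝒴)
  (h𝒵 : AlgSt.IsAlgStack Scheme.fppfPrecoverage 𝒵) (f : 𝒳 ⥤ᵇ 𝒴) (g : 𝒵 ⥤ᵇ 𝒴) {V : Over S}
  (z : overCat V ⥤ᵇ 𝒵) (hz₁ : AlgSt.RepByAlgSpWith (AlgSp.LocP @Smooth) z)
  (hz₂ : AlgSt.RepByAlgSpWith AlgSp.IsSurjectiveMor z)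

include h𝒳 h𝒴 h𝒵 in
theorem continuous_pasteInner : Continuous (AlgSt.Points.map (pasteInner z g f)) :=
  continuous_points_map
    (isFibGrpd_fp _ f (isFibGrpd_overCat V) h𝒳.isStack.1 h𝒴.isStack.1)
    (isAlgStack_fp h𝒴.isStack h𝒴.diag h𝒵 h𝒳 g f) _

include h𝒳 h𝒴 h𝒵 hz₁ hz₂ in
theorem isOpenMap_fpFst_of_chart
    (h : IsOpenMap (AlgSt.Points.map (fpFst (BasedFunctor.comp z g) f))) :
    IsOpenMap (AlgSt.Points.map (fpFst g f)) := by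
  intro A hA
  rw [isOpen_iff_preimage_chart h𝒵 z hz₁ hz₂, preimage_image_fpFst h𝒳.isStack.1 h𝒴.isStack.1
    h𝒵.isStack.1 (isFibGrpd_overCat V)]
  exact h _ (hA.preimage (continuous_pasteInner h𝒳 h𝒴 h𝒵 f g z))

include h𝒳 h𝒴 h𝒵 hz₁ hz₂ in
theorem isClosedMap_fpFst_of_chart
    (h : IsClosedMap (AlgSt.Points.map (fpFst (BasedFunctor.comp z g) f))) :
    IsClosedMap (AlgSt.Points.map (fpFst g f)) := by
  intro A hA
  rw [isClosed_iff_preimage_chart h𝒵 z hz₁ hz₂, preimage_image_fpFst h𝒳.isStack.1 h𝒴.isStack.1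
    h𝒵.isStack.1 (isFibGrpd_overCat V)]
  exact h _ (hA.preimage (continuous_pasteInner h𝒳 h𝒴 h𝒵 f g z))

include h𝒳 h𝒴 h𝒵 hz₂ in
theorem injective_fpFst_of_chart
    (h : Function.Injective (AlgSt.Points.map (fpFst (BasedFunctor.comp z g) f))) :
    Function.Injective (AlgSt.Points.map (fpFst g f)) := by
  intro a a' haa
  have hs : AlgSt.IsSurjective z := isSurjective_of_rep_surj (isFibGrpd_overCat V) h𝒵.isStack.1 z hz₂
  obtain ⟨v, hv⟩ := hs (AlgSt.Points.map (fpFst g f) a)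
  obtain ⟨b, hb1, hb2⟩ := points_lift_fpFst h𝒳.isStack.1 h𝒴.isStack.1 h𝒵.isStack.1
    (isFibGrpd_overCat V) f g z v a hv
  obtain ⟨b', hb1', hb2'⟩ := points_lift_fpFst h𝒳.isStack.1 h𝒴.isStack.1 h𝒵.isStack.1
    (isFibGrpd_overCat V) f g z v a' (hv.trans haa)
  have : b = b' := h (hb1.trans hb1'.symm)
  rw [← hb2, ← hb2', this]

include h𝒵 hz₂ in
theorem surjective_fpFst_of_chart
    (h : Function.Surjective (AlgSt.Points.map (fpFst (BasedFunctor.comp z g) f))) :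
    Function.Surjective (AlgSt.Points.map (fpFst g f)) := by
  intro w
  have hs : AlgSt.IsSurjective z := isSurjective_of_rep_surj (isFibGrpd_overCat V) h𝒵.isStack.1 z hz₂
  obtain ⟨v, rfl⟩ := hs w
  obtain ⟨b, rfl⟩ := h v
  exact ⟨_, (points_square_fpFst f g z b).symm⟩

include h𝒳 h𝒴 h𝒵 hz₁ hz₂ in
theorem isQuotientMap_fpFst_of_chart
    (h : Topology.IsQuotientMap (AlgSt.Points.map (fpFst (BasedFunctor.comp z g) f))) :
    Topology.IsQuotientMap (AlgSt.Points.map (fpFst g f)) := by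
  rw [Topology.isQuotientMap_iff]
  refine ⟨.of_isOpen_preimage_iff_isOpen fun O => ⟨fun hO => ?_, fun hO => hO.preimage
    (continuous_points_map (isFibGrpd_fp g f h𝒵.isStack.1 h𝒳.isStack.1 h𝒴.isStack.1) h𝒵 _)⟩,
    surjective_fpFst_of_chart h𝒵 f g z hz₂ h.surjective⟩
  rw [isOpen_iff_preimage_chart h𝒵 z hz₁ hz₂, ← h.isOpen_preimage]
  have : AlgSt.Points.map (fpFst (BasedFunctor.comp z g) f) ⁻¹' (AlgSt.Points.map z ⁻¹' O) =
      AlgSt.Points.map (pasteInner z g f) ⁻¹' (AlgSt.Points.map (fpFst g f) ⁻¹' O) := by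
    ext b
    simp only [Set.mem_preimage]
    rw [points_square_fpFst]
  rw [this]
  exact hO.preimage (continuous_pasteInner h𝒳 h𝒴 h𝒵 f g z)

include h𝒳 h𝒴 h𝒵 hz₁ hz₂ in
theorem isHomeomorph_fpFst_of_chart
    (h : IsHomeomorph (AlgSt.Points.map (fpFst (BasedFunctor.comp z g) f))) :
    IsHomeomorph (AlgSt.Points.map (fpFst g f)) :=
  ⟨continuous_points_map (isFibGrpd_fp g f h𝒵.isStack.1 h𝒳.isStack.1 h𝒴.isStack.1) h𝒵 _,
    isOpenMap_fpFst_of_chart h𝒳 h𝒴 h𝒵 f g z hz₁ hz₂ h.isOpenMap,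
    injective_fpFst_of_chart h𝒳 h𝒴 h𝒵 f g z hz₂ h.injective,
    surjective_fpFst_of_chart h𝒵 f g z hz₂ h.surjective⟩

end Step2

/-- S12826 -/
theorem univOpen_iff (h𝒳 : AlgSt.IsAlgStack Scheme.fppfPrecoverage 𝒳)
    (h𝒴 : AlgSt.IsAlgStack Scheme.fppfPrecoverage 𝒴) (f : 𝒳 ⥤ᵇ 𝒴) (hf : AlgSt.RepByAlgSp1 f) :
    AlgSt.RepByAlgSpWith AlgSp.IsUnivOpenMor f ↔ AlgSt.IsUnivOpen Scheme.fppfPrecoverage f := by
  constructor
  · intro hR 𝒵 h𝒵 g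
    obtain ⟨V, z, hz₁, hz₂⟩ := h𝒵.atlas
    obtain ⟨F, m, α, β, hm, h⟩ := square_of_chart h𝒳 h𝒴 f _ hR (BasedFunctor.comp z g)
    apply isOpenMap_fpFst_of_chart h𝒳 h𝒴 h𝒵 f g z hz₁ hz₂
    rw [conj_eq α β _ _ h]
    exact β.isOpenMap.comp (IsOpenMap.comp hm α.symm.isOpenMap)
  · intro hQ U y
    obtain ⟨F, e, he, a, ha, H⟩ := square_of_pullback h𝒳 h𝒴 f hf y
    refine ⟨F, e, he, ?_⟩
    rw [ha]
    apply univOpen_of_scheme
    intro Z k P fst snd sq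
    obtain ⟨g, α, β, h⟩ := H Z k P fst snd sq
    rw [conj_eq' α β _ _ h]
    exact β.symm.isOpenMap.comp ((hQ (overCat Z) (isAlgStack_overCat Z) g).comp α.isOpenMap)

/-- S12828 -/
theorem univClosed_iff (h𝒳 : AlgSt.IsAlgStack Scheme.fppfPrecoverage 𝒳)
    (h𝒴 : AlgSt.IsAlgStack Scheme.fppfPrecoverage 𝒴) (f : 𝒳 ⥤ᵇ 𝒴) (hf : AlgSt.RepByAlgSp1 f) :
    AlgSt.RepByAlgSpWith AlgSp.IsUnivClosedMor f ↔ AlgSt.IsUnivClosed Scheme.fppfPrecoverage f := by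
  constructor
  · intro hR 𝒵 h𝒵 g
    obtain ⟨V, z, hz₁, hz₂⟩ := h𝒵.atlas
    obtain ⟨F, m, α, β, hm, h⟩ := square_of_chart h𝒳 h𝒴 f _ hR (BasedFunctor.comp z g)
    apply isClosedMap_fpFst_of_chart h𝒳 h𝒴 h𝒵 f g z hz₁ hz₂
    rw [conj_eq α β _ _ h]
    exact β.isClosedMap.comp (IsClosedMap.comp hm α.symm.isClosedMap)
  · intro hQ U y
    obtain ⟨F, e, he, a, ha, H⟩ := square_of_pullback h𝒳 h𝒴 f hf y
    refine ⟨F, e, he, ?_⟩
    rw [ha]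
    apply univClosed_of_scheme
    intro Z k P fst snd sq
    obtain ⟨g, α, β, h⟩ := H Z k P fst snd sq
    rw [conj_eq' α β _ _ h]
    exact β.symm.isClosedMap.comp ((hQ (overCat Z) (isAlgStack_overCat Z) g).comp α.isClosedMap)

/-- S12829 -/
theorem univInjective_iff (h𝒳 : AlgSt.IsAlgStack Scheme.fppfPrecoverage 𝒳)
    (h𝒴 : AlgSt.IsAlgStack Scheme.fppfPrecoverage 𝒴) (f : 𝒳 ⥤ᵇ 𝒴) (hf : AlgSt.RepByAlgSp1 f) :
    AlgSt.RepByAlgSpWith AlgSp.IsUnivInjectiveMor f ↔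
      AlgSt.IsUnivInjective Scheme.fppfPrecoverage f := by
  constructor
  · intro hR 𝒵 h𝒵 g
    obtain ⟨V, z, hz₁, hz₂⟩ := h𝒵.atlas
    obtain ⟨F, m, α, β, hm, h⟩ := square_of_chart h𝒳 h𝒴 f _ hR (BasedFunctor.comp z g)
    apply injective_fpFst_of_chart h𝒳 h𝒴 h𝒵 f g z hz₂
    rw [conj_eq α β _ _ h]
    exact β.injective.comp (Function.Injective.comp hm α.symm.injective)
  · intro hQ U y
    obtain ⟨F, e, he, a, ha, H⟩ := square_of_pullback h𝒳 h𝒴 f hf y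
    refine ⟨F, e, he, ?_⟩
    rw [ha]
    apply univInjective_of_scheme
    intro Z k P fst snd sq
    obtain ⟨g, α, β, h⟩ := H Z k P fst snd sq
    rw [conj_eq' α β _ _ h]
    exact β.symm.injective.comp ((hQ (overCat Z) (isAlgStack_overCat Z) g).comp α.injective)

/-- S12827 -/
theorem univSubmersive_iff (h𝒳 : AlgSt.IsAlgStack Scheme.fppfPrecoverage 𝒳)
    (h𝒴 : AlgSt.IsAlgStack Scheme.fppfPrecoverage 𝒴) (f : 𝒳 ⥤ᵇ 𝒴) (hf : AlgSt.RepByAlgSp1 f) :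
    AlgSt.RepByAlgSpWith AlgSp.IsUnivSubmersiveMor f ↔
      ∀ (𝒵 : AlgSt.Cat S), AlgSt.IsAlgStack Scheme.fppfPrecoverage 𝒵 → ∀ (g : 𝒵 ⥤ᵇ 𝒴),
        Topology.IsQuotientMap (AlgSt.Points.map (FibCat.fpFst g f)) := by
  constructor
  · intro hR 𝒵 h𝒵 g
    obtain ⟨V, z, hz₁, hz₂⟩ := h𝒵.atlas
    obtain ⟨F, m, α, β, hm, h⟩ := square_of_chart h𝒳 h𝒴 f _ hR (BasedFunctor.comp z g)
    apply isQuotientMap_fpFst_of_chart h𝒳 h𝒴 h𝒵 f g z hz₁ hz₂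
    rw [conj_eq α β _ _ h]
    exact β.isQuotientMap.comp (Topology.IsQuotientMap.comp hm α.symm.isQuotientMap)
  · intro hQ U y
    obtain ⟨F, e, he, a, ha, H⟩ := square_of_pullback h𝒳 h𝒴 f hf y
    refine ⟨F, e, he, ?_⟩
    rw [ha]
    apply univSubmersive_of_scheme
    intro Z k P fst snd sq
    obtain ⟨g, α, β, h⟩ := H Z k P fst snd sq
    rw [conj_eq' α β _ _ h]
    exact β.symm.isQuotientMap.comp ((hQ (overCat Z) (isAlgStack_overCat Z) g).comp α.isQuotientMap)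

/-- S12830 -/
theorem univHomeo_iff (h𝒳 : AlgSt.IsAlgStack Scheme.fppfPrecoverage 𝒳)
    (h𝒴 : AlgSt.IsAlgStack Scheme.fppfPrecoverage 𝒴) (f : 𝒳 ⥤ᵇ 𝒴) (hf : AlgSt.RepByAlgSp1 f) :
    AlgSt.RepByAlgSpWith AlgSp.IsUnivHomeoMor f ↔ AlgSt.IsUnivHomeo Scheme.fppfPrecoverage f := by
  constructor
  · intro hR 𝒵 h𝒵 g
    obtain ⟨V, z, hz₁, hz₂⟩ := h𝒵.atlas
    obtain ⟨F, m, α, β, hm, h⟩ := square_of_chart h𝒳 h𝒴 f _ hR (BasedFunctor.comp z g)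
    apply isHomeomorph_fpFst_of_chart h𝒳 h𝒴 h𝒵 f g z hz₁ hz₂
    rw [conj_eq α β _ _ h]
    exact β.isHomeomorph.comp (IsHomeomorph.comp hm α.symm.isHomeomorph)
  · intro hQ U y
    obtain ⟨F, e, he, a, ha, H⟩ := square_of_pullback h𝒳 h𝒴 f hf y
    refine ⟨F, e, he, ?_⟩
    rw [ha]
    apply univHomeo_of_scheme
    intro Z k P fst snd sq
    obtain ⟨g, α, β, h⟩ := H Z k P fst snd sq
    rw [conj_eq' α β _ _ h]
    exact β.symm.isHomeomorph.comp ((hQ (overCat Z) (isAlgStack_overCat Z) g).comp α.isHomeomorph)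

end Groth.Agent.Helper6.StUniv
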