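import Mathlib
import Groth.Prelude.Def_SiteCmp
import Groth.Agent.Helper6.RelocE
import Groth.Agent.Helper6.RelocF
import Groth.Agent.Helper9.EdgeC

set_option autoImplicit false
set_option linter.style.haveILetI false
set_option linter.unusedSectionVars false
set_option linter.unusedVariables false
set_option linter.unusedSimpArgs false

/-!
# Step 3 of the comparison of two topologies: general lemmas on one site with two topologies
-/

namespace Groth.Agent.Helper6.Step3A
open CategoryTheory Limits Opposite Groth.Agent.Helper1.DeltaCmp Groth.Agent.Helper1.SiteCoh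
  Groth.Agent.Helper6.RelocA Groth.Agent.Helper6.RelocD Groth.Agent.Helper6.RelocE
  Groth.Agent.Helper9.EdgeB

universe u
variable {D : Type u} [SmallCategory D] {K K' : GrothendieckTopology D} (hle : K' ≤ K)

/-- `ε` is exact on a short exact sequence whose first term has `R¹ε = 0` -/
lemma shortExact_map_eps (S : ShortComplex (Sheaf K AddCommGrpCat.{u})) (hS : S.ShortExact)
    (h1 : IsZero (((SiteCmp.epsSh hle AddCommGrpCat.{u}).rightDerived 1).obj S.X₁)) :
    (S.map (SiteCmp.epsSh hle AddCommGrpCat.{u})).ShortExact := by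
  haveI := SiteCmp.idContinuous hle
  have lesε := Groth.Agent.Helper1.Horseshoe.hasLES_rightDerived
    (SiteCmp.epsSh hle AddCommGrpCat.{u}) S hS
  have hepi : Epi ((SiteCmp.epsSh hle AddCommGrpCat.{u}).map S.g) := by
    obtain ⟨δ, w₁, w₂, h₁, h₂⟩ := lesε 0
    have hδ : δ = 0 := h1.eq_of_tgt _ _
    have h0 : Epi (((SiteCmp.epsSh hle AddCommGrpCat.{u}).rightDerived 0).map S.g) :=
      h₁.epi_f hδ
    have e := (SiteCmp.epsSh hle AddCommGrpCat.{u}).rightDerivedZeroIsoSelf
    have : (SiteCmp.epsSh hle AddCommGrpCat.{u}).map S.g =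
        e.inv.app _ ≫ ((SiteCmp.epsSh hle AddCommGrpCat.{u}).rightDerived 0).map S.g ≫
          e.hom.app _ := by
      rw [e.hom.naturality, Iso.inv_hom_id_app_assoc]
    rw [this]
    infer_instance
  haveI := hS.mono_f
  exact { exact := hS.exact.map_of_mono_of_preservesKernel _ hS.mono_f inferInstance
          mono_f := by
            show Mono ((SiteCmp.epsSh hle AddCommGrpCat.{u}).map S.f)
            infer_instance
          epi_g := hepi }

/-- dimension shifting for the vanishing of `R^q ε` -/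
lemma van_cosyzygy (S : ShortComplex (Sheaf K AddCommGrpCat.{u})) (hS : S.ShortExact)
    [Injective S.X₂] (m : ℕ) (hF : Van hle (m + 1) S.X₁) : Van hle m S.X₃ := by
  haveI := SiteCmp.idContinuous hle
  have lesε := Groth.Agent.Helper1.Horseshoe.hasLES_rightDerived
    (SiteCmp.epsSh hle AddCommGrpCat.{u}) S hS
  have hz : ∀ n, IsZero (((SiteCmp.epsSh hle AddCommGrpCat.{u}).rightDerived (n + 1)).obj S.X₂) :=
    fun n => Functor.isZero_rightDerived_obj_injective_succ _ _ _
  intro q h1 h2
  obtain ⟨q', rfl⟩ : ∃ q', q = q' + 1 := ⟨q - 1, by omega⟩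
  obtain ⟨i⟩ := nonempty_iso_succ lesε hz q'
  exact IsZero.of_iso (hF (q' + 2) (by omega) (by omega)) i

/-- if `ε(φ)` is an epimorphism then sections of the target lift `K'`-locally -/
lemma lift_of_epi_eps {A B : Sheaf K AddCommGrpCat.{u}} (φ : A ⟶ B)
    (hepi : Epi ((SiteCmp.epsSh hle AddCommGrpCat.{u}).map φ)) (U : D)
    (r : (freeFunctor K).obj U ⟶ B) :
    ∃ S ∈ K' U, ∀ ⦃V : D⦄ (g : V ⟶ U), S g →
      ∃ t : (freeFunctor K).obj V ⟶ A, t ≫ φ = (freeFunctor K).map g ≫ r := by
  haveI := SiteCmp.idContinuous hle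
  haveI : Presheaf.IsLocallySurjective K' ((SiteCmp.epsSh hle AddCommGrpCat.{u}).map φ).hom :=
    (Sheaf.isLocallySurjective_iff_epi' AddCommGrpCat.{u} _).2 hepi
  let r' : freeY K U ⟶ B := r
  let ρ : B.obj.obj (op U) := homEquiv U B r'
  refine ⟨Presheaf.imageSieve ((SiteCmp.epsSh hle AddCommGrpCat.{u}).map φ).hom (U := U) ρ,
    Presheaf.imageSieve_mem K' ((SiteCmp.epsSh hle AddCommGrpCat.{u}).map φ).hom (U := op U) ρ, ?_⟩
  rintro V g ⟨τ, hτ⟩
  let τ' : A.obj.obj (op V) := τ
  have hτ' : φ.hom.app (op V) τ' = B.obj.map g.op ρ := hτ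
  let t : freeY K V ⟶ A := (homEquiv V A).symm τ'
  have ht : t ≫ φ = freeMap K g ≫ r' := by
    apply (homEquiv V B).injective
    rw [homEquiv_comp, Equiv.apply_symm_apply, homEquiv_map]
    exact hτ'
  exact ⟨t, ht⟩

/-- locally trivial in the sense of `Helper9.EdgeB` is locally zero -/
lemma LT_iff_locZero (F : Sheaf K AddCommGrpCat.{u}) (m : ℕ) (U : D)
    (θ : Abelian.Ext.{u} ((freeFunctor K).obj U) F m) :
    LT K' (freeFunctor K) θ ↔
      LocZero K' ((Sheaf.cohomologyPresheafFunctor.{u} K m).obj F) (U := op U) θ :=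
  Iff.rfl

/-- all classes of degree `m` are locally trivial when `R^m ε = 0` -/
lemma LT_of_isZero (F : Sheaf K AddCommGrpCat.{u}) (m : ℕ)
    (hz : IsZero (((SiteCmp.epsSh hle AddCommGrpCat.{u}).rightDerived m).obj F)) (U : D)
    (θ : Abelian.Ext.{u} ((freeFunctor K).obj U) F m) : LT K' (freeFunctor K) θ :=
  (LT_iff_locZero F m U θ).2 ((isZero_Reps_iff hle m F).1 hz (op U) θ)

end Groth.Agent.Helper6.Step3A
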