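import Mathlib
import Groth.Prelude.Def_SiteCmp
import Groth.Prelude.Def_WeakSerre
import Groth.Agent.Helper6.Step3A
import Groth.Agent.Helper6.CmpInd
import Groth.Agent.Helper6.RelocC

set_option autoImplicit false
set_option linter.style.haveILetI false
set_option linter.unusedSectionVars false
set_option linter.unusedVariables false
set_option linter.unusedSimpArgs false

/-!
# Step 3 of the comparison of two topologies: the hypotheses of the abstract edge-kernel lemma
-/

namespace Groth.Agent.Helper6.Step3B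
open CategoryTheory Limits Opposite Groth.Agent.Helper1.DeltaCmp Groth.Agent.Helper1.SiteCoh
  Groth.Agent.Helper6.RelocA Groth.Agent.Helper6.RelocB Groth.Agent.Helper6.RelocD
  Groth.Agent.Helper6.RelocE Groth.Agent.Helper6.RelocF Groth.Agent.Helper6.Step3A
  Groth.Agent.Helper6.CmpInd Groth.Agent.Helper9.EdgeB

universe u
variable {C : Type u} [SmallCategory C]

section Functors

variable (T : GrothendieckTopology C) {X Y : C} (f : X ⟶ Y) [HasPullbacksAlong f]
  [(Over.pullback f).IsContinuous (T.over Y) (T.over X)]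

/-- `f_*` on `T`-sheaves: pushforward along the continuous functor `V ↦ V ×_Y X` -/
noncomputable abbrev Rp : Sheaf (T.over X) AddCommGrpCat.{u} ⥤ Sheaf (T.over Y) AddCommGrpCat.{u} :=
  CohSite.push (T.over X) (T.over Y) (Over.pullback f)

/-- the adjunction `f⁻¹ ⊣ f_*` -/
noncomputable def adjLR : pb T f ⊣ Rp T f :=
  ((Over.map f).sheafAdjunctionCocontinuous AddCommGrpCat.{u} (T.over X) (T.over Y)).ofNatIsoRight
    (pushIso (Over.mapPullbackAdj f) AddCommGrpCat.{u} (T.over X) (T.over Y))

end Functors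

variable {J J' : GrothendieckTopology C} (h : J' ≤ J) {X Y : C} (f : X ⟶ Y) [HasPullbacksAlong f]
  [(Over.pullback f).IsContinuous (J.over Y) (J.over X)]
  [(Over.pullback f).IsContinuous (J'.over Y) (J'.over X)]


lemma eps_Rp_obj (E : Sheaf (J.over X) AddCommGrpCat.{u}) :
    (epsX h Y).obj ((Rp J f).obj E) = (Rp J' f).obj ((epsX h X).obj E) := rfl

lemma eps_Rp_map {E E' : Sheaf (J.over X) AddCommGrpCat.{u}} (φ : E ⟶ E') :
    (epsX h Y).map ((Rp J f).map φ) = (Rp J' f).map ((epsX h X).map φ) := rfl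

variable (A' : ∀ X : C, ObjectProperty (Sheaf (J'.over X) AddCommGrpCat.{u}))
  [∀ X : C, WSerre.IsWeakSerre (A' X)]

/-- the class of sheaves on `X` for which the dimension shifting works -/
def Q (m : ℕ) (E : Sheaf (J.over X) AddCommGrpCat.{u}) : Prop :=
  Van (SiteCmp.over_le h X) m E ∧
    ∀ q : ℕ, 1 ≤ q → q ≤ m →
      A' Y (((Rp J' f).rightDerived q).obj ((epsX h X).obj E))

instance (E : Sheaf (J.over X) AddCommGrpCat.{u}) : Injective (SE E).X₂ :=
  inferInstanceAs (Injective (Injective.under E))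

lemma Q_succ (E : Sheaf (J.over X) AddCommGrpCat.{u}) (m : ℕ) (hE : Q h f A' (m + 1) E) :
    Q h f A' m (E₁ E) := by
  refine ⟨van_cosyzygy (SiteCmp.over_le h X) (SE E) (SE_shortExact E) m hE.1, ?_⟩
  intro q hq1 hq2
  obtain ⟨q', rfl⟩ : ∃ q', q = q' + 1 := ⟨q - 1, by omega⟩
  have h1 : IsZero (((epsX h X).rightDerived 1).obj E) := hE.1 1 le_rfl (by omega)
  have hS' := shortExact_map_eps (SiteCmp.over_le h X) (SE E) (SE_shortExact E) h1
  haveI : Injective ((epsX h X).obj (Injective.under E)) :=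
    injective_eps (SiteCmp.over_le h X) _
  have les := Groth.Agent.Helper1.Horseshoe.hasLES_rightDerived (Rp J' f)
    ((SE E).map (epsX h X)) hS'
  have hz : ∀ n, IsZero (((Rp J' f).rightDerived (n + 1)).obj ((SE E).map (epsX h X)).X₂) :=
    fun n => Functor.isZero_rightDerived_obj_injective_succ _ _
      ((epsX h X).obj (Injective.under E))
  obtain ⟨i⟩ := nonempty_iso_succ les hz q'
  exact (A' Y).prop_of_iso i.symm (hE.2 (q' + 2) (by omega) (by omega))

variable (h3 : ∀ (X : C) (F' : Sheaf (J'.over X) AddCommGrpCat.{u}), A' X F' →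
      Presheaf.IsSheaf (J.over X) F'.obj)

include h3 in
lemma coker_u (E : Sheaf (J.over X) AddCommGrpCat.{u})
    (h1 : IsZero (((epsX h X).rightDerived 1).obj E))
    (hA : A' Y (((Rp J' f).rightDerived 1).obj ((epsX h X).obj E))) :
    A' Y ((epsX h Y).obj (RQ (adjLR J f) E)) ∧
      Epi ((epsX h Y).map (qE (adjLR J f) E)) := by
  have hS' := shortExact_map_eps (SiteCmp.over_le h X) (SE E) (SE_shortExact E) h1
  haveI : Injective ((epsX h X).obj (Injective.under E)) :=
    injective_eps (SiteCmp.over_le h X) _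
  have les := Groth.Agent.Helper1.Horseshoe.hasLES_rightDerived (Rp J' f)
    ((SE E).map (epsX h X)) hS'
  have hz : IsZero (((Rp J' f).rightDerived 1).obj ((SE E).map (epsX h X)).X₂) :=
    Functor.isZero_rightDerived_obj_injective_succ _ _ ((epsX h X).obj (Injective.under E))
  obtain ⟨i₁⟩ := nonempty_iso_cokernel les hz
  let u : (Rp J f).obj (Injective.under E) ⟶ (Rp J f).obj (E₁ E) := (Rp J f).map (SE E).g
  let z := (Rp J' f).rightDerivedZeroIsoSelf
  have i₂ : cokernel (((Rp J' f).rightDerived 0).map ((epsX h X).map (SE E).g)) ≅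
      cokernel ((epsX h Y).map u) :=
    cokernel.mapIso (((Rp J' f).rightDerived 0).map ((epsX h X).map (SE E).g))
      ((Rp J' f).map ((epsX h X).map (SE E).g))
      (z.app _) (z.app _) (z.hom.naturality _)
  have hQ' : A' Y (cokernel ((epsX h Y).map u)) := (A' Y).prop_of_iso (i₁ ≪≫ i₂) hA
  have hsh := h3 Y _ hQ'
  obtain ⟨e, he⟩ := coker_lemma (SiteCmp.over_le h Y) u hsh
  have hepi := epi_eps_coker (SiteCmp.over_le h Y) u hsh
  have hu : u = pE (Rp J f) E ≫ jE (adjLR J f) E := (pE_jE (adjLR J f) E).symm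
  let c₀ : cokernel u ≅ RQ (adjLR J f) E :=
    cokernelIsoOfEq hu ≪≫ cokernelEpiComp (pE (Rp J f) E) (jE (adjLR J f) E)
  have hc₀ : cokernel.π u ≫ c₀.hom = qE (adjLR J f) E := by
    simp [c₀, cokernelEpiComp]
  constructor
  · exact (A' Y).prop_of_iso (e.symm ≪≫ (epsX h Y).mapIso c₀) hQ'
  · rw [← hc₀, Functor.map_comp]
    infer_instance

include h3 in
/-- **the hypotheses of the edge-kernel lemma hold** -/
theorem hyp_of_Q (n : ℕ) (hV : V h A' n) : ∀ (m : ℕ), m ≤ n →
    ∀ E : Sheaf (J.over X) AddCommGrpCat.{u}, Q h f A' m E →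
      Hyp (J'.over Y) (freeFunctor (J.over Y)) (adjLR J f) m E := by
  intro m
  induction m with
  | zero =>
    intro _ E _
    trivial
  | succ m ih =>
    intro hm E hE
    have h1 : IsZero (((epsX h X).rightDerived 1).obj E) := hE.1 1 le_rfl (by omega)
    have hA := hE.2 1 le_rfl (by omega)
    obtain ⟨hRQ, hepi⟩ := coker_u h f A' h3 E h1 hA
    cases m with
    | zero =>
      intro U r
      exact lift_of_epi_eps (SiteCmp.over_le h Y) (qE (adjLR J f) E) hepi U r
    | succ m =>
      refine ⟨fun U r => LT_of_isZero (SiteCmp.over_le h Y) (RQ (adjLR J f) E) (m + 1)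
        (hV Y _ hRQ (m + 1) (by omega) (by omega)) U r, ?_⟩
      exact ih (by omega) (E₁ E) (Q_succ h f A' E (m + 1) hE)

end Groth.Agent.Helper6.Step3B
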