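import Mathlib
import Groth.Prelude.Def_SiteCmp
import Groth.Prelude.Def_WeakSerre
import Groth.Agent.Helper6.Step3B

set_option autoImplicit false
set_option linter.style.haveILetI false
set_option linter.unusedSectionVars false
set_option linter.unusedVariables false
set_option linter.unusedSimpArgs false

/-!
# Step 3 of the comparison of two topologies: a class which dies on a single `P`-covering is
locally trivial for the coarser topology
-/

namespace Groth.Agent.Helper6.Step3C
open CategoryTheory Limits Opposite Groth.Agent.Helper1.DeltaCmp Groth.Agent.Helper1.SiteCoh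
  Groth.Agent.Helper6.RelocA Groth.Agent.Helper6.RelocB Groth.Agent.Helper6.RelocD
  Groth.Agent.Helper6.RelocE Groth.Agent.Helper6.RelocF Groth.Agent.Helper6.Step3A
  Groth.Agent.Helper6.Step3B Groth.Agent.Helper6.CmpInd Groth.Agent.Helper9.EdgeB
  Groth.Agent.Helper9.EdgeC

universe u
variable {C : Type u} [SmallCategory C]

section Plumbing

variable (T : GrothendieckTopology C) {X Y : C} (f : X ⟶ Y) [HasPullbacksAlong f]

/-- restriction to `C/X` is faithful when `{f}` is a covering -/
lemma faithful_pb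
    (hcov : Sieve.ofArrows (fun _ : PUnit.{u + 1} => X) (fun _ => f) ∈ T Y) :
    (pb T f).Faithful where
  map_injective {F F'} φ ψ hφψ := by
    apply Sheaf.hom_ext
    ext U : 2
    apply AddCommGrpCat.hom_ext
    apply AddMonoidHom.ext
    intro s
    have hF' := (isSheaf_iff_isSheaf_of_type _ _).1
      ((Presheaf.isSheaf_iff_isSheaf_forget (T.over Y) F'.obj (forget AddCommGrpCat.{u})).1
        F'.property)
    let W : Over Y := (Over.map f).obj ((Over.pullback f).obj U.unop)
    let c : W ⟶ U.unop := Over.homMk (pullback.fst U.unop.hom f) (by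
      simp [W, pullback.condition])
    let S : Sieve U.unop := Sieve.ofArrows (fun _ : PUnit.{u + 1} => W) (fun _ => c)
    have hS : S ∈ (T.over Y) U.unop := by
      rw [GrothendieckTopology.mem_over_iff, Sieve.overEquiv_ofArrows]
      have := cov_of_isPullback T (IsPullback.of_hasPullback U.unop.hom f) hcov
      exact this
    refine (hF'.isSeparated S hS).ext ?_
    rintro V k hk
    obtain ⟨_, a, rfl⟩ := (Sieve.mem_ofArrows_iff _ _ _).1 hk
    show F'.obj.map (a ≫ c).op (φ.hom.app U s) = F'.obj.map (a ≫ c).op (ψ.hom.app U s)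
    rw [← map_comp_apply, ← map_comp_apply]
    congr 1
    have e1 := nat_apply φ.hom (U := U) c s
    have e2 := nat_apply ψ.hom (U := U) c s
    rw [e1, e2]
    have e3 : ((pb T f).map φ).hom.app (op ((Over.pullback f).obj U.unop)) =
        ((pb T f).map ψ).hom.app (op ((Over.pullback f).obj U.unop)) := by rw [hφψ]
    exact congrArg (fun t => (ConcreteCategory.hom t) (F.obj.map c.op s)) e3

/-- restriction of the free sheaf on `U` is the free sheaf on `U ×_Y X` -/
noncomputable def ιFree :
    Over.pullback f ⋙ freeFunctor (T.over X) ≅ freeFunctor (T.over Y) ⋙ pb T f := by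
  unfold freeFunctor
  exact
    (Functor.isoWhiskerRight (Over.mapPullbackAdj f).compYonedaIso
      ((Functor.whiskeringRight _ _ _).obj AddCommGrpCat.free.{u} ⋙
        presheafToSheaf (T.over X) AddCommGrpCat.{u}) :
      Over.pullback f ⋙ yoneda ⋙ (Functor.whiskeringRight _ _ _).obj AddCommGrpCat.free.{u} ⋙
        presheafToSheaf (T.over X) AddCommGrpCat.{u} ≅ _) ≪≫
    (Functor.isoWhiskerLeft (yoneda ⋙ (Functor.whiskeringRight _ _ _).obj AddCommGrpCat.free.{u})
      ((Over.map f).pushforwardContinuousSheafificationCompatibility AddCommGrpCat.{u}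
        (T.over X) (T.over Y)) :
      _ ≅ (yoneda ⋙ (Functor.whiskeringRight _ _ _).obj AddCommGrpCat.free.{u} ⋙
        presheafToSheaf (T.over Y) AddCommGrpCat.{u}) ⋙ pb T f)

/-- the diagonal section -/
noncomputable def σ : (Over.pullback f).obj (Over.mk (𝟙 Y)) ⟶ (Over.pullback f).obj (Over.mk f) :=
  Over.homMk (pullback.lift (pullback.snd (𝟙 Y) f) (pullback.snd (𝟙 Y) f) rfl) (by
    dsimp
    exact pullback.lift_snd _ _ _)

lemma σ_comp : σ f ≫ (Over.pullback f).map (rT f) = 𝟙 _ := by
  apply Over.OverMorphism.ext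
  apply pullback.hom_ext
  · simp [σ]
    rw [pullback.lift_fst, pullback.lift_fst_assoc, ← pullback.condition, Category.comp_id]
  · simp [σ]
    rw [pullback.lift_snd, pullback.lift_snd]

/-- the induced section on restricted free sheaves -/
noncomputable def sec :
    (pb T f).obj ((freeFunctor (T.over Y)).obj (Over.mk (𝟙 Y))) ⟶
      (pb T f).obj ((freeFunctor (T.over Y)).obj (Over.mk f)) :=
  (ιFree T f).inv.app (Over.mk (𝟙 Y)) ≫ (freeFunctor (T.over X)).map (σ f) ≫
    (ιFree T f).hom.app (Over.mk f)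

lemma sec_comp :
    sec T f ≫ (pb T f).map ((freeFunctor (T.over Y)).map (rT f)) = 𝟙 _ := by
  have nat := (ιFree T f).hom.naturality (rT f)
  simp only [Functor.comp_map] at nat
  rw [sec, Category.assoc, Category.assoc, ← nat, ← Category.assoc ((freeFunctor (T.over X)).map _),
    ← Functor.map_comp, σ_comp, CategoryTheory.Functor.map_id, Category.id_comp,
    Iso.inv_hom_id_app]
  rfl

end Plumbing


section Main

variable {J J' : GrothendieckTopology C} (h : J' ≤ J) (P : MorphismProperty C)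
  (A' : ∀ X : C, ObjectProperty (Sheaf (J'.over X) AddCommGrpCat.{u}))
  [∀ X : C, WSerre.IsWeakSerre (A' X)]
  (h1 : ∀ ⦃X Y : C⦄ (f : X ⟶ Y), P f → ∀ ⦃Y' : C⦄ (g : Y' ⟶ Y),
      ∃ (W : C) (p : W ⟶ Y') (q : W ⟶ X), IsPullback p q g f ∧ P p)
  (h2 : ∀ ⦃X Y : C⦄ (f : X ⟶ Y) (F' : Sheaf (J'.over Y) AddCommGrpCat.{u}), A' Y F' →
      A' X ((CohSite.push (J'.over Y) (J'.over X) (Over.map f)).obj F'))
  (h3 : ∀ (X : C) (F' : Sheaf (J'.over X) AddCommGrpCat.{u}), A' X F' →
      Presheaf.IsSheaf (J.over X) F'.obj)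
  (h4 : ∀ ⦃X Y : C⦄ (f : X ⟶ Y)
      [((Over.map f).sheafPushforwardCocontinuous AddCommGrpCat.{u} (J'.over X)
        (J'.over Y)).Additive],
      P f → ∀ (F' : Sheaf (J'.over X) AddCommGrpCat.{u}), A' X F' → ∀ i : ℕ,
        A' Y ((((Over.map f).sheafPushforwardCocontinuous AddCommGrpCat.{u} (J'.over X)
          (J'.over Y)).rightDerived i).obj F'))

section Fixed

variable {X Y : C} (f : X ⟶ Y) [HasPullbacksAlong f]
  [(Over.pullback f).IsContinuous (J.over Y) (J.over X)]
  [(Over.pullback f).IsContinuous (J'.over Y) (J'.over X)]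

include h4 in
/-- `R^q f'_*` of a member of `A'_X` is in `A'_Y` (in terms of the continuous pushforward) -/
lemma A'_Rp (hf : P f) (F' : Sheaf (J'.over X) AddCommGrpCat.{u}) (hF' : A' X F') (q : ℕ) :
    A' Y (((Rp J' f).rightDerived q).obj F') := by
  haveI : ((Over.map f).sheafPushforwardCocontinuous AddCommGrpCat.{u} (J'.over X)
      (J'.over Y)).Additive :=
    ((Over.map f).sheafAdjunctionCocontinuous AddCommGrpCat.{u} (J'.over X)
      (J'.over Y)).right_adjoint_additive
  exact (A' Y).prop_of_iso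
    ((rightDerivedIso (pushIso (Over.mapPullbackAdj f) AddCommGrpCat.{u} (J'.over X)
      (J'.over Y)) q).app F') (h4 f hf F' hF' q)

include h2 h4 in
lemma Q_pb (hf : P f) (n : ℕ) (hV : V h A' n) (F : Sheaf (J.over Y) AddCommGrpCat.{u})
    (hF : A' Y ((epsX h Y).obj F)) : Q h f A' n ((pb J f).obj F) := by
  have hLF : A' X ((epsX h X).obj ((pb J f).obj F)) := A'pb h A' h2 f F hF
  exact ⟨fun q hq1 hq2 => hV X _ hLF q hq1 hq2,
    fun q _ _ => A'_Rp P A' h4 f hf _ hLF q⟩

include h2 h3 h4 in
lemma hypQ (hf : P f) (n : ℕ) (hV : V h A' n) (F : Sheaf (J.over Y) AddCommGrpCat.{u})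
    (hF : A' Y ((epsX h Y).obj F)) :
    HypQ (J'.over Y) (freeFunctor (J.over Y)) (adjLR J f) F n := by
  have hLF : A' X ((epsX h X).obj ((pb J f).obj F)) := A'pb h A' h2 f F hF
  have hRLF : A' Y ((epsX h Y).obj ((Rp J f).obj ((pb J f).obj F))) := by
    rw [eps_Rp_obj]
    exact (A' Y).prop_of_iso ((Rp J' f).rightDerivedZeroIsoSelf.app _)
      (A'_Rp P A' h4 f hf _ hLF 0)
  obtain ⟨hQA, hsh, hepi⟩ := A'_coker h A' h3 ((adjLR J f).unit.app F) hF hRLF
  cases n with
  | zero =>
    intro U r
    exact lift_of_epi_eps (SiteCmp.over_le h Y) (cokernel.π ((adjLR J f).unit.app F)) hepi U r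
  | succ n =>
    intro U r
    exact LT_of_isZero (SiteCmp.over_le h Y) _ (n + 1)
      (hV Y _ hQA (n + 1) (by omega) le_rfl) U r

end Fixed

include h1 h2 h3 h4 in
/-- **Step 3** -/
theorem step3 (n : ℕ) (hV : V h A' n) : Step3 h P A' n := by
  intro X Y f hf hcov G hG θ hθ
  haveI : HasPullbacksAlong f := fun g => by
    obtain ⟨W, p, q, hpq, -⟩ := h1 f hf g
    exact hpq.hasPullback
  haveI cJ : (Over.pullback f).IsContinuous (J.over Y) (J.over X) :=
    (Over.mapPullbackAdj f).isContinuous_of_isCocontinuous _ _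
  haveI cJ' : (Over.pullback f).IsContinuous (J'.over Y) (J'.over X) :=
    (Over.mapPullbackAdj f).isContinuous_of_isCocontinuous _ _
  haveI : (pb J f).Faithful := faithful_pb J f hcov
  have hyp := hyp_of_Q h f A' h3 n hV n le_rfl _ (Q_pb h P A' h2 h4 f hf n hV G hG)
  have hq := hypQ h P A' h2 h3 h4 f hf n hV G hG
  have key := Groth.Agent.Helper9.EdgeC.step3 (J'.over Y) (freeFunctor (J.over Y)) (adjLR J f) G n
    hyp hq (rT f) (sec J f) (sec_comp J f) θ hθ
  exact (LT_iff_locZero G (n + 1) (Over.mk (𝟙 Y)) θ).1 key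

end Main

end Groth.Agent.Helper6.Step3C
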