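import Mathlib
import Groth.Prelude.Def_FibCat2
import Groth.Prelude.Def_AlgSt
import Groth.Agent.Helper3.FibGrpd
import Groth.Agent.Helper6.StkFp
import Groth.Agent.Helper6.StkRel
import Groth.Agent.Helper6.StkSRel
import Groth.Agent.Helper6.StkOverT

/-!
# Helper6: relative gluing through 2-fibre products viewed over the source: if `𝒴` glues along `ι : 𝒜 ⟶ ℬ` and,
for every `y : ℬ ⟶ 𝒴`, the 2-fibre product `ℬ ×_𝒴 𝒳`, viewed as a category over `ℬ`, glues along `ι` (viewed over `ℬ`),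
then `𝒳` glues along `ι`.
-/

set_option autoImplicit false
set_option linter.style.haveILetI false
set_option linter.unusedVariables false
universe v₆ u₆ v₅ u₅ v₃ u₃ v₂ u₂ v u

namespace Groth.Agent.Helper6.StkFib
open CategoryTheory Functor FibCat Limits
open Groth.Agent.Helper3 Groth.Agent.Helper6.FpTools Groth.Agent.Helper6.StkFp
open Groth.Agent.Helper6.StkSRel

variable {C : Type u} [Category.{v} C]
variable {𝒜 : BasedCategory.{v₅, u₅} C} {ℬ : BasedCategory.{v₆, u₆} C}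
  {𝒳 : BasedCategory.{v₂, u₂} C} {𝒴 : BasedCategory.{v₃, u₃} C}
variable (ι : 𝒜 ⥤ᵇ ℬ) (j : 𝒳 ⥤ᵇ 𝒴)

/-- The 2-fibre product `ℬ ×_𝒴 𝒳` as a category over `ℬ`. -/
abbrev W (y : ℬ ⥤ᵇ 𝒴) := ov (𝒳 := ℬ) (fpFst y j).toFunctor

/-- `ι` viewed over `ℬ`. -/
abbrev ιB : src (BasedFunctor.comp ι (BasedFunctor.id ℬ)) ⥤ᵇ src (BasedFunctor.id ℬ) :=
  srcMap ι (BasedFunctor.id ℬ)

theorem restr_faithful_of_faithful [j.toFunctor.Faithful] [(Stk.restr ι 𝒴).Faithful] :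
    (Stk.restr ι 𝒳).Faithful := by
  refine ⟨fun {X X'} α₁ α₂ hα => ?_⟩
  have hα' : ∀ a : 𝒜.obj, α₁.toNatTrans.app (ι.obj a) = α₂.toNatTrans.app (ι.obj a) := fun a =>
    congrArg (fun t : BasedFunctor.comp ι X ⟶ BasedFunctor.comp ι X' => t.toNatTrans.app a) hα
  have hj : BasedCategory.whiskerRight α₁ j = BasedCategory.whiskerRight α₂ j := by
    apply (Stk.restr ι 𝒴).map_injective
    apply BasedNatTrans.homCategory.ext
    ext a
    change j.map (α₁.toNatTrans.app (ι.obj a)) = j.map (α₂.toNatTrans.app (ι.obj a))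
    rw [hα' a]
  have hj' : ∀ w : ℬ.obj, j.map (α₁.toNatTrans.app w) = j.map (α₂.toNatTrans.app w) := fun w =>
    congrArg (fun t : BasedFunctor.comp X j ⟶ BasedFunctor.comp X' j => t.toNatTrans.app w) hj
  apply BasedNatTrans.homCategory.ext
  ext w
  exact j.toFunctor.map_injective (hj' w)

theorem lift_id_of_map_eq {D : Type*} [Category D] {E : Type*} [Category E] (p : E ⥤ D) {s t : E}
    (m : s ⟶ t) (x : D) (hs : p.obj s = x) (ht : p.obj t = x)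
    (h : p.map m = eqToHom (hs.trans ht.symm)) : p.IsHomLift (𝟙 x) m := by
  subst hs
  refine IsHomLift.of_fac' p (𝟙 _) m rfl ht ?_
  rw [h]
  simp

theorem restr_full_of_fib (h𝒴 : IsFibGrpd 𝒴.p) [(Stk.restr ι 𝒴).Full]
    (H : ∀ y : ℬ ⥤ᵇ 𝒴, (Stk.restr (ιB ι) (W j y)).Full) : (Stk.restr ι 𝒳).Full := by
  refine ⟨fun {X X'} γ => ?_⟩
  change BasedFunctor.comp ι X ⟶ BasedFunctor.comp ι X' at γ
  let γj : (Stk.restr ι 𝒴).obj (BasedFunctor.comp X j) ⟶ (Stk.restr ι 𝒴).obj (BasedFunctor.comp X' j) :=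
    BasedCategory.whiskerRight γ j
  obtain ⟨β, hβ⟩ := (Stk.restr ι 𝒴).map_surjective γj
  have hβ' : ∀ a : 𝒜.obj, β.toNatTrans.app (ι.obj a) = j.map (γ.toNatTrans.app a) := fun a =>
    congrArg (fun t : (Stk.restr ι 𝒴).obj (BasedFunctor.comp X j) ⟶
      (Stk.restr ι 𝒴).obj (BasedFunctor.comp X' j) => t.toNatTrans.app a) hβ
  let y : ℬ ⥤ᵇ 𝒴 := BasedFunctor.comp X j
  let P : ℬ ⥤ᵇ fp y j := fpLift (BasedFunctor.id ℬ) X (Iso.refl _)
  let P' : ℬ ⥤ᵇ fp y j := fpLift (BasedFunctor.id ℬ) X' (StkRel.isoOfFibGrpd h𝒴 β)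
  have hw : ∀ a : 𝒜.obj, y.map ((𝟙 ι : ι ⟶ ι).toNatTrans.app a) ≫
      ((BasedFunctor.comp ι P').obj a).obj.iso.hom =
        ((BasedFunctor.comp ι P).obj a).obj.iso.hom ≫ j.map (γ.toNatTrans.app a) := by
    intro a
    change y.map (𝟙 (ι.obj a)) ≫ β.toNatTrans.app (ι.obj a) = 𝟙 _ ≫ j.map (γ.toNatTrans.app a)
    rw [hβ' a]
    exact congrArg (fun t => t ≫ j.map (γ.toNatTrans.app a)) (y.map_id (ι.obj a))
  let γ' : BasedFunctor.comp ι P ⟶ BasedFunctor.comp ι P' :=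
    fpNatTrans y j (BasedFunctor.comp ι P) (BasedFunctor.comp ι P') (𝟙 ι) γ hw
  let σ : src (BasedFunctor.id ℬ) ⥤ᵇ W j y := { toFunctor := P.toFunctor, w := rfl }
  let σ' : src (BasedFunctor.id ℬ) ⥤ᵇ W j y := { toFunctor := P'.toFunctor, w := rfl }
  have hγ' : ∀ a : 𝒜.obj, (fpFst y j).toFunctor.IsHomLift
      (𝟙 ((BasedFunctor.comp ι (BasedFunctor.id ℬ)).obj a)) (γ'.toNatTrans.app a) := fun a =>
    lift_id_of_map_eq (fpFst y j).toFunctor (γ'.toNatTrans.app a) _ rfl rfl rfl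
  let γ₀ : (Stk.restr (ιB ι) (W j y)).obj σ ⟶ (Stk.restr (ιB ι) (W j y)).obj σ' :=
    ofC (fpFst y j).toFunctor (y := BasedFunctor.comp ι (BasedFunctor.id ℬ))
      (H := BasedFunctor.comp (ιB ι) σ) (H' := BasedFunctor.comp (ιB ι) σ') γ' hγ'
  haveI := H y
  obtain ⟨δ₀, hδ₀⟩ := (Stk.restr (ιB ι) (W j y)).map_surjective γ₀
  have hδ₀' : ∀ a : 𝒜.obj, (δ₀.toNatTrans.app (ι.obj a)).hom.snd = γ.toNatTrans.app a := fun a =>
    congrArg (fun t : (Stk.restr (ιB ι) (W j y)).obj σ ⟶ (Stk.restr (ιB ι) (W j y)).obj σ' =>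
      (t.toNatTrans.app a).hom.snd) hδ₀
  let δ : P ⟶ P' := toCHom (fpFst y j).toFunctor δ₀
  let α : X ⟶ X' := BasedCategory.whiskerRight δ (fpSnd y j)
  refine ⟨α, ?_⟩
  apply BasedNatTrans.homCategory.ext
  ext a
  exact hδ₀' a

theorem restr_essSurj_of_fib [(Stk.restr ι 𝒴).EssSurj]
    (H : ∀ y : ℬ ⥤ᵇ 𝒴, (Stk.restr (ιB ι) (W j y)).EssSurj) : (Stk.restr ι 𝒳).EssSurj := by
  refine ⟨fun D => ?_⟩
  change 𝒜 ⥤ᵇ 𝒳 at D
  let Y : ℬ ⥤ᵇ 𝒴 := (Stk.restr ι 𝒴).objPreimage (BasedFunctor.comp D j)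
  let ε : BasedFunctor.comp ι Y ≅ BasedFunctor.comp D j :=
    (Stk.restr ι 𝒴).objObjPreimageIso (BasedFunctor.comp D j)
  let D' : 𝒜 ⥤ᵇ fp Y j := fpLift ι D ε
  let D₀ : src (BasedFunctor.comp ι (BasedFunctor.id ℬ)) ⥤ᵇ W j Y :=
    { toFunctor := D'.toFunctor, w := rfl }
  haveI := H Y
  let σ : src (BasedFunctor.id ℬ) ⥤ᵇ W j Y := (Stk.restr (ιB ι) (W j Y)).objPreimage D₀
  let θ : BasedFunctor.comp (ιB ι) σ ≅ D₀ := (Stk.restr (ιB ι) (W j Y)).objObjPreimageIso D₀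
  let P : ℬ ⥤ᵇ fp Y j := toC (fpFst Y j).toFunctor σ
  let θc : BasedFunctor.comp ι P ≅ D' := toCIso (fpFst Y j).toFunctor θ
  let X : ℬ ⥤ᵇ 𝒳 := BasedFunctor.comp P (fpSnd Y j)
  exact ⟨X, ⟨whiskerRightIso' θc (fpSnd Y j)⟩⟩

end Groth.Agent.Helper6.StkFib
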