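import Mathlib
import Groth.Prelude.Def_FibCat2
import Groth.Prelude.Def_AlgSt
import Groth.Agent.Helper3.FibGrpd
import Groth.Agent.Helper9.FibRep
import Groth.Agent.Helper6.StkFib
import Groth.Agent.Helper6.StkOverT

/-!
# Helper6: a stack over the slice site `C/U` glues, as a category over `C/U`, along the inclusion of a
covering sieve of `U`.
-/

set_option autoImplicit false
set_option linter.style.haveILetI false
set_option linter.unusedVariables false
universe v₃ u₃ v u

namespace Groth.Agent.Helper6.StkFibOver
open CategoryTheory Functor FibCat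
open Groth.Agent.Helper3 Groth.Agent.Helper6.StkSRel Groth.Agent.Helper6.StkOverT

variable {C : Type u} [Category.{v} C]

theorem isEquivalence_ιB_of_isStack (J : GrothendieckTopology C) {U : C} (R : Sieve U) (hR : R ∈ J U)
    {Y : Type u₃} [Category.{v₃} Y] (q : Y ⥤ Over U)
    (h : Stk.IsStack (J.over U) (BasedCategory.ofFunctor q)) :
    (Stk.restr (StkFib.ιB (Stk.sieveIncl R)) (ov (𝒳 := overCat U) q)).IsEquivalence := by
  obtain ⟨hfg, hst⟩ := h
  have hcov : R' (BasedFunctor.id (overCat U)) R ∈
      (J.over U) ((yf (BasedFunctor.id (overCat U))).obj (one U)) :=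
    J.overEquiv_symm_mem_over (one U) (R.pullback (eqToHom (hU (BasedFunctor.id (overCat U)))))
      (J.pullback_stable _ hR)
  have h1 : (Stk.resSieve (R' (BasedFunctor.id (overCat U)) R) (ov (𝒳 := overCat U) q)).IsEquivalence :=
    hst _ hcov
  exact restr_srcMap_isEquivalence (BasedFunctor.id (overCat U)) R
    (Groth.Agent.Helper9.FibRep.isFibGrpd_overCat U) (ov (𝒳 := overCat U) q) hfg h1

end Groth.Agent.Helper6.StkFibOver
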