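import Mathlib
import Groth.Prelude.Def_Hensel
import Groth.Agent.Helper1.HensStrict
import Groth.Agent.Helper1.HensStrictTransfer
import Groth.Agent.Helper1.HensElts
import Groth.Agent.Helper1.HensUniv
import Groth.Agent.Helper1.EssEtHensel

/-!
# A strict henselization of a localization `A = (R₀)_𝔭` is the filtered colimit of the pointed
étale `R₀`-algebras

`R₀` is any ring, `𝔭` a prime, `A` the localization at `𝔭`, `R` a strict henselization of `A`.
We show that `R` is exhausted by étale `R₀`-algebras `C` mapping to `R` (`exists_stage`) and that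
an element of such a `C` dying in `R` already dies in a further such algebra
(`exists_stage_of_eq_zero`).  The proof identifies `R` with helper1's `Hens R₀ (κ(R))`.
-/

set_option autoImplicit false
set_option linter.style.haveILetI false
set_option linter.unusedSectionVars false
set_option linter.unusedVariables false
set_option linter.unusedSimpArgs false
set_option linter.dupNamespace false
set_option linter.overlappingInstances false

universe u

noncomputable section

namespace Groth.Agent.Helper6.StkHA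

open IsLocalRing Polynomial Groth.Agent.Helper1.Hens Groth.Agent.Helper1

section Surj

variable {R₀ : Type u} [CommRing R₀] (𝔭 : Ideal R₀) [𝔭.IsPrime]
  (A : Type u) [CommRing A] [IsLocalRing A] [Algebra R₀ A] [IsLocalization.AtPrime A 𝔭]
  {Ω : Type u} [Field Ω] [Algebra R₀ Ω] [Algebra A Ω] [IsScalarTower R₀ A Ω]
  [Algebra (ResidueField A) Ω] [IsScalarTower A (ResidueField A) Ω]
  [Algebra.IsSeparable (ResidueField A) Ω]

include 𝔭 A in
/-- the point of `Hens R₀ Ω` is surjective when `Ω` is separable over the residue field of the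
localization of `R₀` at the kernel of `R₀ → Ω` -/
theorem γ_surjective : Function.Surjective (Hens.γ (R := R₀) (Ω := Ω)) := by
  classical
  intro ω
  have hsep : (minpoly (ResidueField A) ω).Separable := Algebra.IsSeparable.isSeparable _ ω
  have hint : IsIntegral (ResidueField A) ω := Algebra.IsSeparable.isIntegral _ ω
  have hmon : (minpoly (ResidueField A) ω).Monic := minpoly.monic hint
  obtain ⟨p, hp, -, hpm⟩ := Polynomial.lifts_and_degree_eq_and_monic
    (f := residue A) (p := minpoly (ResidueField A) ω)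
    (by
      rw [Polynomial.lifts_iff_coeff_lifts]
      intro n
      exact residue_surjective _) hmon
  have key : ∀ G : A[X], aeval ω G = aeval ω (G.map (residue A)) := by
    intro G
    rw [show residue A = algebraMap A (ResidueField A) from rfl, aeval_map_algebraMap]
  have hp0 : aeval ω p = 0 := by rw [key, hp, minpoly.aeval]
  have hp1 : aeval ω (derivative p) ≠ 0 := by
    rw [key, ← Polynomial.derivative_map, hp]
    exact hsep.aeval_derivative_ne_zero (minpoly.aeval _ ω)
  -- a common denominator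
  obtain ⟨t, ht⟩ := IsLocalization.exist_integer_multiples_of_finset 𝔭.primeCompl
    (p.coeffs : Finset A)
  set tA : A := algebraMap R₀ A (t : R₀) with htA
  have htAu : IsUnit tA := IsLocalization.map_units A t
  set tΩ : Ω := algebraMap R₀ Ω (t : R₀) with htΩ
  have htΩ' : tΩ = algebraMap A Ω tA := IsScalarTower.algebraMap_apply R₀ A Ω _
  have htΩ0 : tΩ ≠ 0 := by
    rw [htΩ']
    exact (htAu.map (algebraMap A Ω)).ne_zero
  set q : A[X] := p.scaleRoots tA with hq
  have hqm : q.Monic := (monic_scaleRoots_iff tA).2 hpm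
  have hqlift : q ∈ Polynomial.lifts (algebraMap R₀ A) := by
    rw [Polynomial.lifts_iff_coeff_lifts]
    intro i
    rw [hq, coeff_scaleRoots]
    by_cases hi : i < p.natDegree
    · by_cases hc : p.coeff i = 0
      · rw [hc, zero_mul]
        exact ⟨0, map_zero _⟩
      · have hmem : p.coeff i ∈ (p.coeffs : Finset A) := by
          rw [Polynomial.mem_coeffs_iff]
          exact ⟨i, Polynomial.mem_support_iff.2 hc, rfl⟩
        obtain ⟨b, hb⟩ := ht _ hmem
        obtain ⟨k, hk⟩ : ∃ k, p.natDegree - i = k + 1 := ⟨p.natDegree - i - 1, by omega⟩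
        refine ⟨b * (t : R₀) ^ k, ?_⟩
        rw [map_mul, map_pow, hb, hk, pow_succ, Algebra.smul_def, ← htA]
        ring
    · by_cases hi' : i = p.natDegree
      · subst hi'
        rw [Nat.sub_self, pow_zero, mul_one, Polynomial.coeff_natDegree, hpm.leadingCoeff]
        exact ⟨1, map_one _⟩
      · have : p.natDegree < i := by omega
        rw [Polynomial.coeff_eq_zero_of_natDegree_lt this, zero_mul]
        exact ⟨0, map_zero _⟩
  obtain ⟨q₀, hq₀, -, hq₀m⟩ := Polynomial.lifts_and_degree_eq_and_monic hqlift hqm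
  -- polynomials over `Ω`
  set P : Polynomial Ω := p.map (algebraMap A Ω) with hP
  have hPm : P.Monic := hpm.map _
  have hQ : q₀.map (algebraMap R₀ Ω) = P.scaleRoots tΩ := by
    rw [IsScalarTower.algebraMap_eq R₀ A Ω, ← Polynomial.map_map, hq₀, hq, hP, htΩ']
    exact map_scaleRoots p tA (algebraMap A Ω) (by
      rw [hpm.leadingCoeff, map_one]
      exact one_ne_zero)
  have hP0 : P.eval ω = 0 := by
    rw [hP, Polynomial.eval_map_algebraMap]
    exact hp0
  have hP1 : (derivative P).eval ω ≠ 0 := by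
    rw [hP, Polynomial.derivative_map, Polynomial.eval_map_algebraMap]
    exact hp1
  have hmult : ¬ 1 < P.rootMultiplicity ω := by
    rw [Polynomial.one_lt_rootMultiplicity_iff_isRoot hPm.ne_zero]
    exact fun h => hP1 h.2
  set ω' : Ω := tΩ * ω with hω'
  have hmult' : (P.scaleRoots tΩ).rootMultiplicity ω' = P.rootMultiplicity ω :=
    rootMultiplicity_scaleRoots P (IsUnit.mk0 tΩ htΩ0).isRegular.left
  have hQm : (P.scaleRoots tΩ).Monic := (monic_scaleRoots_iff tΩ).2 hPm
  have h0 : aeval ω' q₀ = 0 := by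
    rw [← Polynomial.eval_map_algebraMap, hQ, hω', scaleRoots_eval_mul, hP0, mul_zero]
  have h1 : aeval ω' (derivative q₀) ≠ 0 := by
    intro h
    apply hmult
    rw [← hmult', Polynomial.one_lt_rootMultiplicity_iff_isRoot hQm.ne_zero]
    refine ⟨?_, ?_⟩
    · rw [IsRoot, ← hQ, Polynomial.eval_map_algebraMap]
      exact h0
    · rw [IsRoot, ← hQ, Polynomial.derivative_map, Polynomial.eval_map_algebraMap]
      exact h
  obtain ⟨z, hz⟩ := Hens.exists_γ_eq ω' q₀ hq₀m h0 h1
  have htu : IsUnit (algebraMap R₀ (Hens R₀ Ω) (t : R₀)) := by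
    rw [Hens.isUnit_iff, Hens.γ_algebraMap]
    exact htΩ0
  refine ⟨z * ↑htu.unit⁻¹, ?_⟩
  have h3 : Hens.γ (↑htu.unit⁻¹ : Hens R₀ Ω) * tΩ = 1 := by
    rw [htΩ, ← Hens.γ_algebraMap (Ω := Ω) (t : R₀), ← map_mul]
    have : (↑htu.unit⁻¹ : Hens R₀ Ω) * algebraMap R₀ (Hens R₀ Ω) (t : R₀) = 1 :=
      IsUnit.val_inv_mul htu
    rw [this, map_one]
  rw [map_mul, hz, hω']
  calc tΩ * ω * Hens.γ (↑htu.unit⁻¹ : Hens R₀ Ω)
      = (Hens.γ (↑htu.unit⁻¹ : Hens R₀ Ω) * tΩ) * ω := by ring
    _ = ω := by rw [h3, one_mul]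

end Surj

section Main

variable (R₀ : Type u) [CommRing R₀] (𝔭 : Ideal R₀) [𝔭.IsPrime]
  (A : Type u) [CommRing A] [IsLocalRing A] [Algebra R₀ A] [IsLocalization.AtPrime A 𝔭]
  (R : Type u) [CommRing R] [IsLocalRing R] [Algebra A R] [IsLocalHom (algebraMap A R)]
  [hS : Hensel.IsStrictHenselization A R] [Algebra R₀ R] [IsScalarTower R₀ A R]

/-- the model: helper1's limit of pointed étale `R₀`-algebras -/
abbrev H₀ : Type u := Hens R₀ (ResidueField R)

lemma algebraMap_residue (r : R₀) :
    algebraMap R₀ (ResidueField R) r = residue R (algebraMap A R (algebraMap R₀ A r)) := by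
  rw [← IsScalarTower.algebraMap_apply R₀ A R]
  rfl

include 𝔭 A in
lemma isUnit_algebraMap_H₀ (y : 𝔭.primeCompl) : IsUnit (algebraMap R₀ (H₀ R₀ R) (y : R₀)) := by
  rw [Hens.isUnit_iff, Hens.γ_algebraMap, algebraMap_residue R₀ A R]
  have h1 : IsUnit (algebraMap R₀ A (y : R₀)) := IsLocalization.map_units A y
  exact ((h1.map (algebraMap A R)).map (residue R)).ne_zero

/-- the structure map `A → H₀` -/
def fA : A →+* H₀ R₀ R :=
  IsLocalization.lift (M := 𝔭.primeCompl) (g := algebraMap R₀ (H₀ R₀ R)) (isUnit_algebraMap_H₀ R₀ 𝔭 A R)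

lemma fA_algebraMap (r : R₀) : fA R₀ 𝔭 A R (algebraMap R₀ A r) = algebraMap R₀ (H₀ R₀ R) r :=
  IsLocalization.lift_eq _ r

lemma γ_fA (a : A) : Hens.γ (fA R₀ 𝔭 A R a) = residue R (algebraMap A R a) := by
  have : (Hens.γ (R := R₀) (Ω := ResidueField R)).toRingHom.comp (fA R₀ 𝔭 A R) =
      (residue R).comp (algebraMap A R) := by
    apply IsLocalization.ringHom_ext 𝔭.primeCompl
    ext r
    show Hens.γ (fA R₀ 𝔭 A R (algebraMap R₀ A r)) = residue R (algebraMap A R (algebraMap R₀ A r))
    rw [fA_algebraMap, Hens.γ_algebraMap, algebraMap_residue R₀ A R]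
  exact congr($this a)

instance isLocalHom_fA : IsLocalHom (fA R₀ 𝔭 A R) := by
  constructor
  intro a ha
  rw [Hens.isUnit_iff, γ_fA] at ha
  have h1 : IsUnit (algebraMap A R a) := by
    by_contra h
    exact ha ((residue_eq_zero_iff _).2 ((mem_maximalIdeal _).2 h))
  exact isUnit_of_map_unit (algebraMap A R) a h1

instance isLocalHom_γ : IsLocalHom (Hens.γ (R := R₀) (Ω := ResidueField R)).toRingHom := by
  constructor
  intro z hz
  rw [Hens.isUnit_iff]
  exact hz.ne_zero

/-- the residue field of `H₀` is that of `R` -/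
def resEquiv : ResidueField (H₀ R₀ R) ≃+* ResidueField R :=
  RingEquiv.ofBijective
    (IsLocalRing.ResidueField.lift (Hens.γ (R := R₀) (Ω := ResidueField R)).toRingHom)
    ⟨RingHom.injective _, fun ω => by
      obtain ⟨z, rfl⟩ := γ_surjective 𝔭 A (Ω := ResidueField R) ω
      exact ⟨residue _ z, IsLocalRing.ResidueField.lift_residue_apply _ z⟩⟩

lemma resEquiv_residue (z : H₀ R₀ R) : resEquiv R₀ 𝔭 A R (residue _ z) = Hens.γ z :=
  IsLocalRing.ResidueField.lift_residue_apply
    (Hens.γ (R := R₀) (Ω := ResidueField R)).toRingHom z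

variable [HenselianLocalRing R]

/-- the comparison map -/
def α : H₀ R₀ R →ₐ[R₀] R :=
  Hens.lift (T := R) (RingHom.id (ResidueField R)) (fun r => rfl)

lemma residue_α (z : H₀ R₀ R) : residue R (α R₀ R z) = Hens.γ z :=
  Hens.residue_lift (T := R) (RingHom.id (ResidueField R)) (fun r => rfl) z

lemma α_fA (a : A) : α R₀ R (fA R₀ 𝔭 A R a) = algebraMap A R a := by
  have : (α R₀ R).toRingHom.comp (fA R₀ 𝔭 A R) = algebraMap A R := by
    apply IsLocalization.ringHom_ext 𝔭.primeCompl
    ext r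
    show α R₀ R (fA R₀ 𝔭 A R (algebraMap R₀ A r)) = algebraMap A R (algebraMap R₀ A r)
    rw [fA_algebraMap, AlgHom.commutes, IsScalarTower.algebraMap_apply R₀ A R]
  exact congr($this a)

include 𝔭 A hS in
theorem bijective_α : Function.Bijective (α R₀ R) := by
  let ρ := resEquiv R₀ 𝔭 A R
  have c1 : ρ.symm.toRingHom.comp (ResidueField.map (algebraMap A R)) =
      ResidueField.map (fA R₀ 𝔭 A R) := by
    apply Ideal.Quotient.ringHom_ext
    ext a
    show ρ.symm (residue R (algebraMap A R a)) = residue (H₀ R₀ R) (fA R₀ 𝔭 A R a)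
    rw [RingEquiv.symm_apply_eq, resEquiv_residue, γ_fA]
  have h1 := hS.universal (H₀ R₀ R) (fA R₀ 𝔭 A R) ρ.symm.toRingHom c1
  have h3 := hS.universal R (algebraMap A R) (RingHom.id _) (by ext; rfl)
  let g := h1.choose
  have hg : g.comp (algebraMap A R) = fA R₀ 𝔭 A R := h1.choose_spec.1.1
  have hgr : ∀ x, residue (H₀ R₀ R) (g x) = ρ.symm (residue R x) := h1.choose_spec.1.2
  have e1 : (α R₀ R).toRingHom.comp g = RingHom.id R := by
    refine h3.unique ⟨?_, fun x => ?_⟩ ⟨rfl, fun x => rfl⟩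
    · rw [RingHom.comp_assoc, hg]
      ext a
      exact α_fA R₀ 𝔭 A R a
    · show residue R (α R₀ R (g x)) = residue R x
      rw [residue_α, ← resEquiv_residue R₀ 𝔭 A R, hgr]
      exact ρ.apply_symm_apply _
  -- the other composite, via the universal property of `H₀`
  have hτ' : ∀ r, ρ.symm.toRingHom (algebraMap R₀ (ResidueField R) r) =
      residue (H₀ R₀ R) (algebraMap R₀ (H₀ R₀ R) r) := by
    intro r
    show ρ.symm _ = _
    rw [RingEquiv.symm_apply_eq, resEquiv_residue, Hens.γ_algebraMap]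
  let ga : H₀ R₀ R →ₐ[R₀] H₀ R₀ R :=
    { g.comp (α R₀ R).toRingHom with
      commutes' := fun r => by
        show g (α R₀ R (algebraMap R₀ (H₀ R₀ R) r)) = algebraMap R₀ (H₀ R₀ R) r
        rw [AlgHom.commutes, IsScalarTower.algebraMap_apply R₀ A R,
          show g (algebraMap A R (algebraMap R₀ A r)) = (g.comp (algebraMap A R)) (algebraMap R₀ A r)
            from rfl, hg, fA_algebraMap] }
  have e2a : ga = Hens.lift (T := H₀ R₀ R) ρ.symm.toRingHom hτ' :=
    Hens.lift_unique _ hτ' ga (fun z => by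
      show residue (H₀ R₀ R) (g (α R₀ R z)) = ρ.symm (Hens.γ z)
      rw [hgr, residue_α])
  have e2b : AlgHom.id R₀ (H₀ R₀ R) = Hens.lift (T := H₀ R₀ R) ρ.symm.toRingHom hτ' :=
    Hens.lift_unique _ hτ' _ (fun z => by
      show residue (H₀ R₀ R) z = ρ.symm (Hens.γ z)
      rw [← resEquiv_residue R₀ 𝔭 A R]
      exact (ρ.symm_apply_apply _).symm)
  have e2 : ∀ z, g (α R₀ R z) = z := fun z => congr($(e2a.trans e2b.symm) z)
  refine ⟨fun x y h => ?_, fun r => ⟨g r, congr($e1 r)⟩⟩
  rw [← e2 x, ← e2 y, h]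

include 𝔭 A hS in
/-- every element of `R` comes from an étale `R₀`-algebra mapping to `R` -/
theorem exists_stage (r : R) :
    ∃ (C : Type u) (_ : CommRing C) (_ : Algebra R₀ C) (_ : Algebra.Etale R₀ C)
      (ρ : C →ₐ[R₀] R) (c : C), ρ c = r := by
  obtain ⟨z, rfl⟩ := (bijective_α R₀ 𝔭 A R).2 r
  obtain ⟨C, _, _, _, γ, c, rfl⟩ := Hens.exists_ι_eq z
  exact ⟨C, inferInstance, inferInstance, inferInstance, (α R₀ R).comp (Hens.ι γ), c, rfl⟩

/-- rigidity of maps from étale algebras to the local ring `R` -/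
theorem stage_ext {C : Type u} [CommRing C] [Algebra R₀ C] [Algebra.Etale R₀ C]
    (ρ ρ' : C →ₐ[R₀] R) (h : ∀ c, residue R (ρ c) = residue R (ρ' c)) : ρ = ρ' :=
  EssEt.algHom_eq_of_residue_eq ρ ρ' h

/-- Hensel lifting -/
theorem exists_lift {C : Type u} [CommRing C] [Algebra R₀ C] [Algebra.Etale R₀ C]
    (γ : C →ₐ[R₀] ResidueField R) : ∃ ρ : C →ₐ[R₀] R, ∀ c, residue R (ρ c) = γ c :=
  EssEt.exists_lift_of_etale γ

include 𝔭 A hS in
/-- an element of an étale `R₀`-algebra over `R` dying in `R` dies in a further étale algebra -/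
theorem exists_stage_of_eq_zero {C : Type u} [CommRing C] [Algebra R₀ C] [Algebra.Etale R₀ C]
    (ρ : C →ₐ[R₀] R) (c : C) (hc : ρ c = 0) :
    ∃ (D : Type u) (_ : CommRing D) (_ : Algebra R₀ D) (_ : Algebra.Etale R₀ D)
      (ρ' : D →ₐ[R₀] R) (φ : C →ₐ[R₀] D), ρ'.comp φ = ρ ∧ φ c = 0 := by
  let γ : C →ₐ[R₀] ResidueField R := (IsScalarTower.toAlgHom R₀ R (ResidueField R)).comp ρ
  have hγ : ∀ x, γ x = residue R (ρ x) := fun _ => rfl
  have h1 : (α R₀ R).comp (Hens.ι γ) = ρ :=
    stage_ext R₀ R _ _ (fun x => by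
      show residue R (α R₀ R (Hens.ι γ x)) = _
      rw [residue_α, Hens.γ_ι, hγ])
  have h2 : Hens.ι γ c = 0 := by
    apply (bijective_α R₀ 𝔭 A R).1
    rw [map_zero, ← hc, ← h1]
    rfl
  obtain ⟨D, _, _, _, δ, φ, hφ, hφc⟩ := Hens.exists_of_ι_eq_zero γ c h2
  refine ⟨D, inferInstance, inferInstance, inferInstance, (α R₀ R).comp (Hens.ι δ), φ, ?_, hφc⟩
  apply stage_ext R₀ R
  intro x
  show residue R (α R₀ R (Hens.ι δ (φ x))) = residue R (ρ x)
  rw [residue_α, Hens.γ_ι, hφ, hγ]

end Main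

end Groth.Agent.Helper6.StkHA
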