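import Mathlib
import Groth.Prelude.Def_Hens2
import Groth.Prelude.Def_EtBase
import Groth.Agent.Helper3.SmoothLift
import Groth.Agent.Helper6.StkHA

/-!
# The strict localization as the limit of the affine étale neighbourhoods of the geometric point

`S` is a scheme, `s` a point, `R` a strict henselization of `O_{S,s}`, `ξ : Spec κ(R) ⟶ S` the
attached geometric point.  Every étale neighbourhood `(U, u)` of `ξ` receives a unique morphism
`lam : Spec R ⟶ U` over `S` lifting `u`; for a suitable directed system of affine étale neighbourhoods,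
initial among all neighbourhoods, `Spec R` is the limit of the system.
-/

set_option autoImplicit false
set_option linter.style.haveILetI false
set_option linter.unusedSectionVars false
set_option linter.unusedVariables false
set_option linter.unusedSimpArgs false
set_option linter.dupNamespace false
set_option linter.overlappingInstances false

universe u

noncomputable section

namespace Groth.Agent.Helper6.StkHB

open CategoryTheory CategoryTheory.Limits AlgebraicGeometry Opposite IsLocalRing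

section Lift

variable (R : Type u) [CommRing R] [IsLocalRing R]

/-- the closed point of the spectrum of a local ring, as a morphism -/
abbrev cl : Spec (CommRingCat.of (ResidueField R)) ⟶ Spec (CommRingCat.of R) :=
  Spec.map (CommRingCat.ofHom (residue R))

variable {R}

/-- two liftings to an étale scheme of a morphism from a local scheme which agree at the closed
point are equal -/
theorem lift_unique {U S : Scheme.{u}} (g : U ⟶ S) [Etale g]
    (l l' : Spec (CommRingCat.of R) ⟶ U) (h : l ≫ g = l' ≫ g)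
    (hcl : cl R ≫ l = cl R ≫ l') : l = l' := by
  haveI : IsOpenImmersion (pullback.diagonal g) := inferInstance
  let p : Spec (CommRingCat.of R) ⟶ pullback g g := pullback.lift l l' h
  have hp1 : p ≫ pullback.fst g g = l := pullback.lift_fst _ _ _
  have hp2 : p ≫ pullback.snd g g = l' := pullback.lift_snd _ _ _
  have hclp : cl R ≫ p = (cl R ≫ l) ≫ pullback.diagonal g := by
    apply pullback.hom_ext
    · rw [Category.assoc, hp1, Category.assoc, pullback.diagonal_fst, Category.comp_id]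
    · rw [Category.assoc, hp2, Category.assoc, pullback.diagonal_snd, Category.comp_id, hcl]
  have hmem : p (closedPoint R) ∈ (pullback.diagonal g).opensRange := by
    have e : closedPoint R = (cl R) (closedPoint (ResidueField R)) :=
      (IsLocalRing.comap_closedPoint (residue R)).symm
    rw [e, ← Scheme.Hom.comp_apply, hclp, Scheme.Hom.comp_apply]
    exact ⟨_, rfl⟩
  have htop : p ⁻¹ᵁ (pullback.diagonal g).opensRange = ⊤ :=
    Scheme.preimage_eq_top_of_closedPoint_mem p hmem
  have hrange : Set.range p ⊆ Set.range (pullback.diagonal g) := by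
    rintro _ ⟨x, rfl⟩
    have : x ∈ p ⁻¹ᵁ (pullback.diagonal g).opensRange := by rw [htop]; trivial
    exact this
  let q := IsOpenImmersion.lift (pullback.diagonal g) p hrange
  have hq : q ≫ pullback.diagonal g = p := IsOpenImmersion.lift_fac _ _ _
  have h1 : q = l := by
    have := congrArg (· ≫ pullback.fst g g) hq
    simpa [hp1] using this
  have h2 : q = l' := by
    have := congrArg (· ≫ pullback.snd g g) hq
    simpa [hp2] using this
  exact h1.symm.trans h2

/-- existence of liftings over a henselian local ring -/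
theorem exists_lift [HenselianLocalRing R] {U S : Scheme.{u}} (g : U ⟶ S) [Etale g]
    (σ : Spec (CommRingCat.of R) ⟶ S) (u₀ : Spec (CommRingCat.of (ResidueField R)) ⟶ U)
    (h₀ : u₀ ≫ g = cl R ≫ σ) :
    ∃ l : Spec (CommRingCat.of R) ⟶ U, l ≫ g = σ ∧ cl R ≫ l = u₀ := by
  let v₀ : Spec (CommRingCat.of (ResidueField R)) ⟶ pullback g σ := pullback.lift u₀ (cl R) h₀
  haveI : Smooth (pullback.snd g σ) := inferInstance
  obtain ⟨τ, hτ1, hτ2⟩ := Groth.Agent.Helper3.SmoothLift.exists_section R (pullback.snd g σ) v₀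
    (pullback.lift_snd _ _ _)
  refine ⟨τ ≫ pullback.fst g σ, ?_, ?_⟩
  · rw [Category.assoc, pullback.condition, ← Category.assoc, hτ1, Category.id_comp]
  · rw [← Category.assoc, hτ2]
    exact pullback.lift_fst _ _ _

end Lift

section Setup

variable (S : Scheme.{u}) (s : S) (R : Type u) [CommRing R] [IsLocalRing R]
  [Algebra (S.presheaf.stalk s) R] [IsLocalHom (algebraMap (S.presheaf.stalk s) R)]
  [hS : Hensel.IsStrictHenselization (S.presheaf.stalk s) R] [IsSepClosed (ResidueField R)]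

/-- the category of étale neighbourhoods of the geometric point -/
abbrev E : Type (u + 1) := (Scheme.pointSmallEtale (Hens2.geomPt S s R)).fiber.Elements

variable {S s R}

lemma pt_hom (x : E S s R) : x.2.left ≫ x.1.hom = Hens2.geomPt S s R := Over.w x.2

lemma pt_map {x y : E S s R} (h : x ⟶ y) : x.2.left ≫ h.1.left = y.2.left :=
  congrArg (fun t => t.left) h.2

instance (x : E S s R) : Etale x.1.hom := x.1.prop

include hS in
lemma exists_lam (x : E S s R) :
    ∃ l : Spec (CommRingCat.of R) ⟶ x.1.left, l ≫ x.1.hom = Hens2.specOf S s R ∧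
      cl R ≫ l = x.2.left := by
  haveI : HenselianLocalRing R := Hensel.IsStrictHenselization.henselian (R := S.presheaf.stalk s)
  exact exists_lift x.1.hom (Hens2.specOf S s R) x.2.left (pt_hom x)

/-- the canonical morphism from the strict localization to an étale neighbourhood of the
geometric point -/
def lam (x : E S s R) : Spec (CommRingCat.of R) ⟶ x.1.left := (exists_lam x).choose

lemma lam_hom (x : E S s R) : lam x ≫ x.1.hom = Hens2.specOf S s R := (exists_lam x).choose_spec.1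

lemma cl_lam (x : E S s R) : cl R ≫ lam x = x.2.left := (exists_lam x).choose_spec.2

lemma lam_unique (x : E S s R) (l : Spec (CommRingCat.of R) ⟶ x.1.left)
    (h1 : l ≫ x.1.hom = Hens2.specOf S s R) (h2 : cl R ≫ l = x.2.left) : l = lam x :=
  lift_unique x.1.hom l (lam x) (h1.trans (lam_hom x).symm) (h2.trans (cl_lam x).symm)

lemma lam_map {x y : E S s R} (h : x ⟶ y) : lam x ≫ h.1.left = lam y := by
  apply lam_unique
  · rw [Category.assoc]
    have : h.1.left ≫ y.1.hom = x.1.hom := MorphismProperty.Over.w h.1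
    rw [this, lam_hom]
  · rw [← Category.assoc, cl_lam]
    exact pt_map h

end Setup

section Affine

variable {S : Scheme.{u}} {s : S} {R : Type u} [CommRing R] [IsLocalRing R]
  [Algebra (S.presheaf.stalk s) R] [IsLocalHom (algebraMap (S.presheaf.stalk s) R)]
  [hS : Hensel.IsStrictHenselization (S.presheaf.stalk s) R] [IsSepClosed (ResidueField R)]
  {V₀ : S.Opens} (hV₀ : IsAffineOpen V₀) (hs : s ∈ V₀)

/-- the structure map `Γ(S, V₀) ⟶ R` -/
def toR : Γ(S, V₀) ⟶ CommRingCat.of R :=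
  S.presheaf.germ V₀ s hs ≫ CommRingCat.ofHom (algebraMap (S.presheaf.stalk s) R)

include hV₀ in
lemma specOf_eq : Hens2.specOf S s R = Spec.map (toR (R := R) hs) ≫ hV₀.fromSpec := by
  unfold toR
  rw [Spec.map_comp, Category.assoc]
  show _ ≫ S.fromSpecStalk s = _
  rw [← hV₀.fromSpecStalk_eq_fromSpecStalk hs]
  rfl

/-- a morphism from an affine scheme to `S` landing in the affine open `V₀`, in terms of rings -/
lemma isoSpec_inv_comp {U : Scheme.{u}} [IsAffine U] (g : U ⟶ S) (hg : g ⁻¹ᵁ V₀ = ⊤) :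
    U.isoSpec.inv ≫ g = Spec.map (g.appLE V₀ ⊤ (by rw [hg])) ≫ hV₀.fromSpec := by
  rw [IsAffineOpen.SpecMap_appLE_fromSpec g hV₀ (isAffineOpen_top U), IsAffineOpen.fromSpec_top]

variable (V₀) in
/-- the affine neighbourhoods lying over `V₀` -/
def P : ObjectProperty (E S s R) := fun x => IsAffine x.1.left ∧ x.1.hom ⁻¹ᵁ V₀ = ⊤

/-- the structure map of the ring of an affine neighbourhood over `V₀` -/
def strMap (x : E S s R) (hx : P V₀ x) : Γ(S, V₀) ⟶ Γ(x.1.left, ⊤) :=
  x.1.hom.appLE V₀ ⊤ (by rw [hx.2])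

/-- the ring map corresponding to `lam` -/
def rho (x : E S s R) [IsAffine x.1.left] : Γ(x.1.left, ⊤) ⟶ CommRingCat.of R :=
  Spec.preimage (lam x ≫ x.1.left.isoSpec.hom)

lemma map_rho (x : E S s R) [IsAffine x.1.left] :
    Spec.map (rho x) = lam x ≫ x.1.left.isoSpec.hom := Spec.map_preimage _

lemma map_rho_inv (x : E S s R) [IsAffine x.1.left] :
    Spec.map (rho x) ≫ x.1.left.isoSpec.inv = lam x := by
  rw [map_rho, Category.assoc, Iso.hom_inv_id, Category.comp_id]

include hV₀ in
lemma strMap_rho (x : E S s R) (hx : P V₀ x) :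
    haveI := hx.1
    strMap x hx ≫ rho x = toR hs := by
  haveI := hx.1
  apply Spec.map_injective
  haveI : IsOpenImmersion hV₀.fromSpec := hV₀.isOpenImmersion_fromSpec
  rw [← cancel_mono hV₀.fromSpec, Spec.map_comp, Category.assoc]
  have h1 : x.1.left.isoSpec.inv ≫ x.1.hom = Spec.map (strMap x hx) ≫ hV₀.fromSpec :=
    isoSpec_inv_comp (U := x.1.left) hV₀ x.1.hom hx.2
  rw [← h1, ← Category.assoc, map_rho_inv, lam_hom, specOf_eq hV₀ hs]

lemma rho_map {x y : E S s R} [IsAffine x.1.left] [IsAffine y.1.left] (h : x ⟶ y) :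
    h.1.left.appTop ≫ rho x = rho y := by
  apply Spec.map_injective
  rw [Spec.map_comp, map_rho, map_rho, Category.assoc, Scheme.isoSpec_hom_naturality,
    ← Category.assoc, lam_map]

section Stage

variable {C : CommRingCat.{u}} (φ : Γ(S, V₀) ⟶ C) (hφ : φ.hom.Etale) (ρ : C ⟶ CommRingCat.of R)
  (hρ : φ ≫ ρ = toR hs)

include hφ in
lemma etale_stage : Etale (Spec.map φ ≫ hV₀.fromSpec) := by
  haveI : IsOpenImmersion hV₀.fromSpec := hV₀.isOpenImmersion_fromSpec
  haveI : Etale (Spec.map φ) := HasRingHomProperty.Spec_iff.mpr hφ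
  infer_instance

/-- the étale neighbourhood attached to an étale `Γ(S, V₀)`-algebra with a map to `R` -/
def yOf : E S s R :=
  haveI := etale_stage hV₀ φ hφ
  ⟨Scheme.Etale.mk (Spec.map φ ≫ hV₀.fromSpec),
    Over.homMk (cl R ≫ Spec.map ρ) (by
      show (cl R ≫ Spec.map ρ) ≫ (Spec.map φ ≫ hV₀.fromSpec) = cl R ≫ Hens2.specOf S s R
      rw [specOf_eq hV₀ hs, ← hρ, Spec.map_comp]
      simp only [Category.assoc])⟩

lemma yOf_left : (yOf hV₀ hs φ hφ ρ hρ).1.left = Spec C := rfl

lemma yOf_hom : (yOf hV₀ hs φ hφ ρ hρ).1.hom = Spec.map φ ≫ hV₀.fromSpec := rfl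

lemma yOf_pt : (yOf hV₀ hs φ hφ ρ hρ).2.left = cl R ≫ Spec.map ρ := rfl

lemma lam_yOf : lam (yOf hV₀ hs φ hφ ρ hρ) = Spec.map ρ := by
  symm
  refine lam_unique (yOf hV₀ hs φ hφ ρ hρ) (Spec.map ρ) ?_ rfl
  show Spec.map ρ ≫ (Spec.map φ ≫ hV₀.fromSpec) = _
  rw [specOf_eq hV₀ hs, ← hρ, Spec.map_comp, Category.assoc]

end Stage

end Affine

section Affine2

variable {S : Scheme.{u}} {s : S} {R : Type u} [CommRing R] [IsLocalRing R]
  [Algebra (S.presheaf.stalk s) R] [IsLocalHom (algebraMap (S.presheaf.stalk s) R)]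
  [hS : Hensel.IsStrictHenselization (S.presheaf.stalk s) R] [IsSepClosed (ResidueField R)]
  {V₀ : S.Opens} (hV₀ : IsAffineOpen V₀) (hs : s ∈ V₀)

include hV₀ hs in
lemma exists_P (x : E S s R) : ∃ y : E S s R, P V₀ y ∧ Nonempty (y ⟶ x) := by
  let Y : Scheme.{u} := x.1.left
  let f : Y ⟶ S := x.1.hom
  let y : Spec (.of (ResidueField R)) ⟶ Y := x.2.left
  have hy : y ≫ f = Hens2.geomPt S s R := pt_hom x
  have hpt : y default ∈ f ⁻¹ᵁ V₀ := by
    show f (y default) ∈ V₀
    rw [← Scheme.Hom.comp_apply, hy]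
    show (cl R ≫ Hens2.specOf S s R) default ∈ V₀
    rw [specOf_eq hV₀ hs, ← Category.assoc, Scheme.Hom.comp_apply]
    have := hV₀.range_fromSpec
    rw [← SetLike.mem_coe, ← this]
    exact ⟨_, rfl⟩
  obtain ⟨R', j, _, hj, hjW⟩ := Scheme.exists_affine_mem_range_and_range_subset (x := y default)
    (U := f ⁻¹ᵁ V₀) hpt
  let y' : Spec (.of (ResidueField R)) ⟶ Spec R' := IsOpenImmersion.lift j y (by
    rintro _ ⟨a, rfl⟩
    rwa [Subsingleton.elim a default])
  have hy' : y' ≫ j = y := IsOpenImmersion.lift_fac _ _ _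
  haveI : Etale f := x.1.prop
  haveI : Etale (j ≫ f) := inferInstance
  refine ⟨⟨Scheme.Etale.mk (j ≫ f), Over.homMk y' ?_⟩, ⟨?_, ?_⟩, ⟨⟨MorphismProperty.Over.homMk j rfl trivial, ?_⟩⟩⟩
  · show y' ≫ (j ≫ f) = _
    rw [← Category.assoc, hy', hy]
    rfl
  · show IsAffine (Spec R')
    infer_instance
  · show (j ≫ f) ⁻¹ᵁ V₀ = ⊤
    ext z
    simp only [TopologicalSpace.Opens.coe_top, Set.mem_univ, iff_true]
    exact hjW ⟨z, rfl⟩
  · apply Over.OverMorphism.ext
    exact hy'

end Affine2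

section Index

variable {S : Scheme.{u}} {s : S} {R : Type u} [CommRing R] [IsLocalRing R]
  [Algebra (S.presheaf.stalk s) R] [IsLocalHom (algebraMap (S.presheaf.stalk s) R)]
  [hS : Hensel.IsStrictHenselization (S.presheaf.stalk s) R] [IsSepClosed (ResidueField R)]
  {V₀ : S.Opens} (hV₀ : IsAffineOpen V₀) (hs : s ∈ V₀)

include hV₀ hs in
theorem exists_index : ∃ (α : Type u) (_ : PartialOrder α) (_ : IsDirected α (· ≤ ·))
    (_ : Nonempty α) (N : αᵒᵖ ⥤ E S s R), N.Initial ∧ ∀ a, P V₀ (N.obj a) := by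
  let ι : (P (s := s) (R := R) V₀).FullSubcategory ⥤ E S s R := (P V₀).ι
  haveI : IsCofiltered (E S s R) := (Scheme.pointSmallEtale (Hens2.geomPt S s R)).isCofiltered
  have hex : ∀ d : E S s R, ∃ c : (P (s := s) (R := R) V₀).FullSubcategory,
      Nonempty (ι.obj c ⟶ d) := fun d => by
    obtain ⟨y, hy, ⟨f⟩⟩ := exists_P hV₀ hs d
    exact ⟨⟨y, hy⟩, ⟨f⟩⟩
  haveI : IsCofiltered (P (s := s) (R := R) V₀).FullSubcategory :=
    IsCofiltered.of_exists_of_isCofiltered_of_fullyFaithful ι hex
  haveI : ι.Initial := Functor.initial_of_exists_of_isCofiltered_of_fullyFaithful ι hex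
  haveI : InitiallySmall.{u} (E S s R) :=
    (Scheme.pointSmallEtale (Hens2.geomPt S s R)).initiallySmall
  haveI : InitiallySmall.{u} (P (s := s) (R := R) V₀).FullSubcategory := by
    obtain ⟨t, ht, hts⟩ := InitiallySmall.exists_small_weakly_initial_set.{u} (E S s R)
    choose c hc using hex
    let t' : Set (P (s := s) (R := R) V₀).FullSubcategory := Set.range (fun j : t => c j.1)
    haveI : Small.{u} t' := small_range _
    refine initiallySmall_of_small_weakly_initial_set t' (fun i => ?_)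
    obtain ⟨j, hj, ⟨f⟩⟩ := hts (ι.obj i)
    obtain ⟨g⟩ := hc j
    exact ⟨c j, ⟨⟨j, hj⟩, rfl⟩, ⟨ι.preimage (g ≫ f)⟩⟩
  obtain ⟨D, _, _, F, hF⟩ := InitiallySmall.exists_of_isCofiltered.{u}
    (P (s := s) (R := R) V₀).FullSubcategory
  obtain ⟨α, _, _, _, Φ, hΦ⟩ := IsFiltered.exists_directed Dᵒᵖ
  haveI : Φ.Final := hΦ
  haveI : F.Initial := hF
  refine ⟨α, inferInstance, inferInstance, inferInstance, Φ.leftOp ⋙ F ⋙ ι, ?_, fun a => ?_⟩
  · infer_instance
  · exact (F.obj (Φ.leftOp.obj a)).2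

end Index

lemma appTop_toU {U : Scheme.{u}} [IsAffine U] {B : CommRingCat.{u}} (ψ : Γ(U, ⊤) ⟶ B) :
    (Spec.map ψ ≫ U.isoSpec.inv).appTop = ψ ≫ (Scheme.ΓSpecIso B).inv := by
  apply Spec.map_injective
  have h := Scheme.isoSpec_inv_naturality (Spec.map ψ ≫ U.isoSpec.inv)
  rw [← cancel_mono U.isoSpec.inv, h, Scheme.isoSpec_Spec_inv, Spec.map_comp, Category.assoc]

section Colim

variable {S : Scheme.{u}} {s : S} {R : Type u} [CommRing R] [IsLocalRing R]
  [Algebra (S.presheaf.stalk s) R] [IsLocalHom (algebraMap (S.presheaf.stalk s) R)]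
  [hS : Hensel.IsStrictHenselization (S.presheaf.stalk s) R] [IsSepClosed (ResidueField R)]
  {V₀ : S.Opens} (hV₀ : IsAffineOpen V₀) (hs : s ∈ V₀)

include hV₀ hs hS in
/-- every element of `R` comes from an affine étale neighbourhood over `V₀` -/
theorem exists_yOf (r : R) : ∃ (C : CommRingCat.{u}) (φ : Γ(S, V₀) ⟶ C) (hφ : φ.hom.Etale)
    (ρ : C ⟶ CommRingCat.of R) (hρ : φ ≫ ρ = toR hs) (c : C), ρ c = r := by
  letI : Algebra Γ(S, V₀) (S.presheaf.stalk s) := (S.presheaf.germ V₀ s hs).hom.toAlgebra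
  haveI : IsLocalization.AtPrime (S.presheaf.stalk s) (hV₀.primeIdealOf ⟨s, hs⟩).asIdeal :=
    hV₀.isLocalization_stalk ⟨s, hs⟩
  letI : Algebra Γ(S, V₀) R := (toR (R := R) hs).hom.toAlgebra
  haveI : IsScalarTower Γ(S, V₀) (S.presheaf.stalk s) R := .of_algebraMap_eq (fun _ => rfl)
  haveI : HenselianLocalRing R := Hensel.IsStrictHenselization.henselian (R := S.presheaf.stalk s)
  obtain ⟨C, _, _, _, ρ, c, hc⟩ := StkHA.exists_stage Γ(S, V₀)
    (hV₀.primeIdealOf ⟨s, hs⟩).asIdeal (S.presheaf.stalk s) R r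
  refine ⟨CommRingCat.of C, CommRingCat.ofHom (algebraMap Γ(S, V₀) C),
    RingHom.etale_algebraMap.mpr inferInstance, CommRingCat.ofHom ρ.toRingHom, ?_, c, hc⟩
  ext x
  exact ρ.commutes x

include hV₀ hs hS in
/-- an element of the ring of an affine neighbourhood over `V₀` dying in `R` dies on a smaller
neighbourhood -/
theorem exists_kill (x : E S s R) (hx : P V₀ x) (c : Γ(x.1.left, ⊤))
    (hc : (haveI := hx.1; rho x) c = 0) :
    ∃ (y : E S s R) (m : y ⟶ x), m.1.left.appTop c = 0 := by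
  haveI := hx.1
  letI : Algebra Γ(S, V₀) (S.presheaf.stalk s) := (S.presheaf.germ V₀ s hs).hom.toAlgebra
  haveI : IsLocalization.AtPrime (S.presheaf.stalk s) (hV₀.primeIdealOf ⟨s, hs⟩).asIdeal :=
    hV₀.isLocalization_stalk ⟨s, hs⟩
  letI : Algebra Γ(S, V₀) R := (toR (R := R) hs).hom.toAlgebra
  haveI : IsScalarTower Γ(S, V₀) (S.presheaf.stalk s) R := .of_algebraMap_eq (fun _ => rfl)
  haveI : HenselianLocalRing R := Hensel.IsStrictHenselization.henselian (R := S.presheaf.stalk s)
  letI : Algebra Γ(S, V₀) Γ(x.1.left, ⊤) := (strMap x hx).hom.toAlgebra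
  haveI : Algebra.Etale Γ(S, V₀) Γ(x.1.left, ⊤) := by
    apply RingHom.etale_algebraMap.mp
    exact HasRingHomProperty.appLE (P := @Etale) x.1.hom x.1.prop ⟨V₀, hV₀⟩
      ⟨⊤, isAffineOpen_top x.1.left⟩ _
  let ρA : Γ(x.1.left, ⊤) →ₐ[Γ(S, V₀)] R :=
    { (rho x).hom with
      commutes' := fun r => by
        have := strMap_rho hV₀ hs x hx
        exact congr($(this).hom r) }
  obtain ⟨D, _, _, _, ρ', φ', hφ', hφ'c⟩ := StkHA.exists_stage_of_eq_zero Γ(S, V₀)
    (hV₀.primeIdealOf ⟨s, hs⟩).asIdeal (S.presheaf.stalk s) R ρA c hc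
  have hρ : CommRingCat.ofHom (algebraMap Γ(S, V₀) D) ≫ CommRingCat.ofHom ρ'.toRingHom =
      toR hs := by
    ext r
    exact ρ'.commutes r
  let y : E S s R := yOf hV₀ hs (CommRingCat.ofHom (algebraMap Γ(S, V₀) D))
    (RingHom.etale_algebraMap.mpr inferInstance) (CommRingCat.ofHom ρ'.toRingHom) hρ
  let φc : Γ(x.1.left, ⊤) ⟶ CommRingCat.of D := CommRingCat.ofHom φ'.toRingHom
  have hφc1 : strMap x hx ≫ φc = CommRingCat.ofHom (algebraMap Γ(S, V₀) D) := by
    ext r
    exact φ'.commutes r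
  have hφc2 : φc ≫ CommRingCat.ofHom ρ'.toRingHom = rho x := by
    ext r
    exact congr($hφ' r)
  let ml : y.1.left ⟶ x.1.left := Spec.map φc ≫ x.1.left.isoSpec.inv
  have hml : ml ≫ x.1.hom = y.1.hom := by
    show (Spec.map φc ≫ x.1.left.isoSpec.inv) ≫ x.1.hom =
      Spec.map (CommRingCat.ofHom (algebraMap Γ(S, V₀) D)) ≫ hV₀.fromSpec
    have h1 : x.1.left.isoSpec.inv ≫ x.1.hom = Spec.map (strMap x hx) ≫ hV₀.fromSpec :=
      isoSpec_inv_comp (U := x.1.left) hV₀ x.1.hom hx.2
    rw [Category.assoc, h1, ← Category.assoc, ← Spec.map_comp, hφc1]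
  refine ⟨y, ⟨MorphismProperty.Over.homMk ml hml trivial, ?_⟩, ?_⟩
  · apply Over.OverMorphism.ext
    show (cl R ≫ Spec.map (CommRingCat.ofHom ρ'.toRingHom)) ≫ ml = x.2.left
    rw [Category.assoc, ← cl_lam x, ← map_rho_inv x, ← hφc2, Spec.map_comp, Category.assoc]
    rfl
  · show ml.appTop c = 0
    have h2 : ml.appTop = φc ≫ (Scheme.ΓSpecIso (CommRingCat.of D)).inv := appTop_toU φc
    rw [h2]
    show (Scheme.ΓSpecIso (CommRingCat.of D)).inv (φ' c) = 0
    rw [hφ'c, map_zero]

end Colim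

section System

variable {S : Scheme.{u}} {s : S} {R : Type u} [CommRing R] [IsLocalRing R]
  [Algebra (S.presheaf.stalk s) R] [IsLocalHom (algebraMap (S.presheaf.stalk s) R)]
  [hS : Hensel.IsStrictHenselization (S.presheaf.stalk s) R] [IsSepClosed (ResidueField R)]
  {V₀ : S.Opens} (hV₀ : IsAffineOpen V₀) (hs : s ∈ V₀)
  {α : Type u} [PartialOrder α] [IsDirected α (· ≤ ·)] [Nonempty α]
  (N : αᵒᵖ ⥤ E S s R)

/-- the diagram of schemes underlying a system of neighbourhoods -/
def Dg : αᵒᵖ ⥤ Scheme.{u} :=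
  N ⋙ CategoryOfElements.π _ ⋙ Scheme.Etale.forget S ⋙ Over.forget S

lemma Dg_obj (a : αᵒᵖ) : (Dg N).obj a = (N.obj a).1.left := rfl

lemma Dg_map {a b : αᵒᵖ} (f : a ⟶ b) : (Dg N).map f = (N.map f).1.left := rfl

/-- the cone from the strict localization -/
def coneS : Cone (Dg N) where
  pt := Spec (CommRingCat.of R)
  π :=
    { app := fun a => lam (N.obj a)
      naturality := fun a b f => by
        dsimp
        rw [Category.id_comp]
        exact (lam_map (N.map f)).symm }

/-- the diagram of rings -/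
def Dr : α ⥤ CommRingCat.{u} where
  obj a := Γ((Dg N).obj (op a), ⊤)
  map f := ((Dg N).map f.op).appTop
  map_id a := by
    rw [op_id, CategoryTheory.Functor.map_id]
    rfl
  map_comp f g := by
    rw [op_comp, CategoryTheory.Functor.map_comp, Scheme.Hom.comp_appTop]

variable (hP : ∀ a, IsAffine (N.obj a).1.left)

/-- the cocone of rings -/
def tR : Cocone (Dr N) where
  pt := CommRingCat.of R
  ι :=
    { app := fun a => haveI := hP (op a); rho (N.obj (op a))
      naturality := fun a b f => by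
        haveI := hP (op a)
        haveI := hP (op b)
        dsimp
        rw [Category.comp_id]
        exact rho_map (N.map f.op) }

include hV₀ hs hS in
/-- `R` is the colimit of the rings of the neighbourhoods of an initial system of affine
neighbourhoods over `V₀` -/
theorem tR_isColimit [N.Initial] (hPP : ∀ a, P V₀ (N.obj a)) :
    Nonempty (IsColimit (tR N (fun a => (hPP a).1))) := by
  have : ReflectsFilteredColimits (forget CommRingCat.{u}) :=
    ⟨fun _ ↦ reflectsColimitsOfShape_of_reflectsIsomorphisms⟩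
  obtain ⟨hN1, hN2⟩ := (Functor.initial_iff_of_isCofiltered N).1 inferInstance
  refine ⟨(ReflectsColimit.reflects (F := forget _)
    (Types.FilteredColimit.isColimitOf' _ _ ?_ ?_)).some⟩
  · intro (r : R)
    obtain ⟨C, φ, hφ, ρ, hρ, c, hc⟩ := exists_yOf hV₀ hs r
    obtain ⟨a, ⟨h⟩⟩ := hN1 (yOf hV₀ hs φ hφ ρ hρ)
    haveI := (hPP a).1
    have h1 : lam (N.obj a) ≫ h.1.left = Spec.map ρ := (lam_map h).trans (lam_yOf hV₀ hs φ hφ ρ hρ)
    let χ : C ⟶ Γ((N.obj a).1.left, ⊤) := Spec.preimage ((N.obj a).1.left.isoSpec.inv ≫ h.1.left)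
    have hχ : Spec.map χ = (N.obj a).1.left.isoSpec.inv ≫ h.1.left := Spec.map_preimage _
    have h2 : χ ≫ rho (N.obj a) = ρ := by
      apply Spec.map_injective
      rw [Spec.map_comp, hχ]
      exact ((Category.assoc _ _ _).symm.trans
        (congrArg (· ≫ h.1.left) (map_rho_inv (N.obj a)))).trans h1
    refine ⟨a.unop, χ c, ?_⟩
    rw [← hc, ← h2]
    rfl
  · intro a (x : (Dr N).obj a) (y : (Dr N).obj a) hxy
    haveI := (hPP (op a)).1
    have hxy' : rho (N.obj (op a)) x = rho (N.obj (op a)) y := hxy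
    have hc : rho (N.obj (op a)) (x - y) = 0 :=
      (map_sub (rho (N.obj (op a))).hom x y).trans (sub_eq_zero.2 hxy')
    obtain ⟨z, m, hm⟩ := exists_kill hV₀ hs (N.obj (op a)) (hPP (op a)) (x - y) hc
    obtain ⟨b, ⟨h'⟩⟩ := hN1 z
    let b' : αᵒᵖ := IsCofiltered.min (op a) b
    let t₁ : b' ⟶ op a := IsCofiltered.minToLeft _ _
    let t₂ : b' ⟶ b := IsCofiltered.minToRight _ _
    obtain ⟨b'', t, ht⟩ := hN2 (N.map t₁) (N.map t₂ ≫ h' ≫ m)
    refine ⟨b''.unop, (t ≫ t₁).unop, ?_⟩
    have h3 : (N.map (t ≫ t₁)).1.left = (N.map t ≫ N.map t₂ ≫ h').1.left ≫ m.1.left := by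
      rw [CategoryTheory.Functor.map_comp, ht]
      rfl
    have h4 : ((Dr N).map (t ≫ t₁).unop).hom (x - y) = 0 := by
      show ((N.map (t ≫ t₁)).1.left).appTop (x - y) = 0
      rw [h3, Scheme.Hom.comp_appTop]
      show ((N.map t ≫ N.map t₂ ≫ h').1.left).appTop (m.1.left.appTop (x - y)) = 0
      rw [hm, map_zero]
    have h5 := map_sub ((Dr N).map (t ≫ t₁).unop).hom x y
    rw [h4] at h5
    exact (sub_eq_zero.1 h5.symm)

include hV₀ hs hS in
/-- the strict localization is the limit of an initial system of affine neighbourhoods over `V₀` -/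
theorem coneS_isLimit [N.Initial] (hPP : ∀ a, P V₀ (N.obj a)) :
    Nonempty (IsLimit (coneS N)) := by
  obtain ⟨htR⟩ := tR_isColimit hV₀ hs N hPP
  haveI : ∀ a, IsAffine ((Dg N).obj a) := fun a => (hPP a).1
  let e : Dg N ≅ (Dr N).op ⋙ Scheme.Spec :=
    NatIso.ofComponents (fun a => ((Dg N).obj a).isoSpec)
      (fun f => (Scheme.isoSpec_hom_naturality ((Dg N).map f)).symm)
  have h1 : IsLimit (Scheme.Spec.mapCone (tR N (fun a => (hPP a).1)).op) :=
    isLimitOfPreserves Scheme.Spec htR.op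
  refine ⟨(IsLimit.postcomposeHomEquiv e (coneS N)) (h1.ofIsoLimit (Cone.ext (Iso.refl _) ?_))⟩
  intro a
  haveI := (hPP a).1
  show Spec.map (rho (N.obj a)) = 𝟙 _ ≫ lam (N.obj a) ≫ (N.obj a).1.left.isoSpec.hom
  rw [Category.id_comp, map_rho]

end System

section Main

variable (S : Scheme.{u}) (s : S) (R : Type u) [CommRing R] [IsLocalRing R]
  [Algebra (S.presheaf.stalk s) R] [IsLocalHom (algebraMap (S.presheaf.stalk s) R)]
  [hS : Hensel.IsStrictHenselization (S.presheaf.stalk s) R] [IsSepClosed (ResidueField R)]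

include hS in
/-- a directed system of affine étale neighbourhoods of the geometric point of the strict
localization, initial among all neighbourhoods, whose limit is the strict localization -/
theorem exists_system : ∃ (α : Type u) (_ : PartialOrder α) (_ : IsDirected α (· ≤ ·))
    (_ : Nonempty α) (N : αᵒᵖ ⥤ E S s R), N.Initial ∧ (∀ a, IsAffine (N.obj a).1.left) ∧
      Nonempty (IsLimit (coneS N)) := by
  obtain ⟨V₀, hV₀, hs, -⟩ := exists_isAffineOpen_mem_and_subset (x := s) (U := ⊤) trivial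
  obtain ⟨α, _, _, _, N, hN, hPP⟩ := exists_index (R := R) hV₀ hs
  haveI := hN
  exact ⟨α, inferInstance, inferInstance, inferInstance, N, hN, fun a => (hPP a).1,
    coneS_isLimit hV₀ hs N hPP⟩

end Main
end Groth.Agent.Helper6.StkHB
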