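import Mathlib
import Groth.Prelude.Def_Hens2
import Groth.Prelude.Def_EtBase
import Groth.Agent.Helper6.StkHB
import Groth.Agent.Helper6.LimCohA

/-!
# Base change of the system of étale neighbourhoods of the strict localization

For `f : X ⟶ S`, the fibre product `X ×_S Spec R` is the limit of the `X ×_S U`, `U` running over
an initial system of affine étale neighbourhoods of the geometric point.
-/

set_option autoImplicit false
set_option linter.style.haveILetI false
set_option linter.unusedSectionVars false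
set_option linter.unusedVariables false
set_option linter.unusedSimpArgs false
set_option linter.dupNamespace false
set_option linter.overlappingInstances false

universe u

noncomputable section

namespace Groth.Agent.Helper6.StkHC

open CategoryTheory CategoryTheory.Limits AlgebraicGeometry Opposite IsLocalRing
open Groth.Agent.Helper6.StkHB Groth.Agent.Helper6.LimCohA

variable {X S : Scheme.{u}} (f : X ⟶ S) {s : S} {R : Type u} [CommRing R] [IsLocalRing R]
  [Algebra (S.presheaf.stalk s) R] [IsLocalHom (algebraMap (S.presheaf.stalk s) R)]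
  [hS : Hensel.IsStrictHenselization (S.presheaf.stalk s) R] [IsSepClosed (ResidueField R)]
  {α : Type u} [PartialOrder α] [IsDirected α (· ≤ ·)] [Nonempty α]
  (N : αᵒᵖ ⥤ E S s R)

/-- the neighbourhood `U_a`, as an object of the small étale site -/
abbrev Ua (a : αᵒᵖ) : S.Etale := (N.obj a).1

/-- the underlying scheme of the neighbourhood -/
abbrev Us (a : αᵒᵖ) : Scheme.{u} := (N.obj a).1.left

/-- its structure morphism -/
abbrev uh (a : αᵒᵖ) : Us N a ⟶ S := (N.obj a).1.hom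

/-- the transition morphisms -/
abbrev ut {a b : αᵒᵖ} (h : a ⟶ b) : Us N a ⟶ Us N b := (N.map h).1.left

/-- the morphisms from the strict localization -/
abbrev lm (a : αᵒᵖ) : Spec (CommRingCat.of R) ⟶ Us N a := lam (N.obj a)

lemma ut_uh {a b : αᵒᵖ} (h : a ⟶ b) : ut N h ≫ uh N b = uh N a :=
  MorphismProperty.Over.w (N.map h).1

lemma lm_uh (a : αᵒᵖ) : lm N a ≫ uh N a = Hens2.specOf S s R := lam_hom (N.obj a)

lemma lm_ut {a b : αᵒᵖ} (h : a ⟶ b) : lm N a ≫ ut N h = lm N b := lam_map (N.map h)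

/-- the system `X ×_S U_a` -/
def Xs : αᵒᵖ ⥤ Scheme.{u} :=
  N ⋙ CategoryOfElements.π _ ⋙ EtCoh.bc f ⋙ Scheme.Etale.forget X ⋙ Over.forget X

/-- the scheme `X ×_S U_a` -/
abbrev Xa (a : αᵒᵖ) : Scheme.{u} := pullback (uh N a) f

lemma Xs_obj (a : αᵒᵖ) : (Xs f N).obj a = Xa f N a := rfl

/-- the projection to the neighbourhood -/
abbrev pa (a : αᵒᵖ) : Xa f N a ⟶ Us N a := pullback.fst (uh N a) f

/-- the étale morphism `X ×_S U_a ⟶ X` -/
abbrev jm (a : αᵒᵖ) : Xa f N a ⟶ X := pullback.snd (uh N a) f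

/-- the transition morphisms of the system -/
abbrev xt {a b : αᵒᵖ} (h : a ⟶ b) : Xa f N a ⟶ Xa f N b := (Xs f N).map h

instance (a : αᵒᵖ) : Etale (jm f N a) := ((EtCoh.bc f).obj (Ua N a)).prop

lemma pa_uh (a : αᵒᵖ) : pa f N a ≫ uh N a = jm f N a ≫ f := pullback.condition

lemma xt_jm {a b : αᵒᵖ} (h : a ⟶ b) : xt f N h ≫ jm f N b = jm f N a :=
  hom_w ((EtCoh.bc f).map (N.map h).1)

lemma xt_pa {a b : αᵒᵖ} (h : a ⟶ b) : xt f N h ≫ pa f N b = pa f N a ≫ ut N h :=
  bcMap_prj f (N.map h).1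

/-- the limit scheme `X ×_S Spec R` -/
abbrev Xb : Scheme.{u} := pullback f (Hens2.specOf S s R)

variable (s R) in
/-- the projection to `X` -/
abbrev gm : Xb f (s := s) (R := R) ⟶ X := pullback.fst f (Hens2.specOf S s R)

variable (s R) in
/-- the projection to the strict localization -/
abbrev fb : Xb f (s := s) (R := R) ⟶ Spec (CommRingCat.of R) :=
  pullback.snd f (Hens2.specOf S s R)

lemma gm_f : gm f s R ≫ f = fb f s R ≫ Hens2.specOf S s R := pullback.condition

/-- the projection `X ×_S Spec R ⟶ X ×_S U_a` -/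
def pmx (a : αᵒᵖ) : Xb f (s := s) (R := R) ⟶ Xa f N a :=
  pullback.lift (fb f s R ≫ lm N a) (gm f s R)
    ((Category.assoc _ _ _).trans ((congrArg (fb f s R ≫ ·) (lm_uh N a)).trans (gm_f f).symm))

lemma pmx_pa (a : αᵒᵖ) : pmx f N a ≫ pa f N a = fb f s R ≫ lm N a := pullback.lift_fst _ _ _

lemma pmx_jm (a : αᵒᵖ) : pmx f N a ≫ jm f N a = gm f s R := pullback.lift_snd _ _ _

lemma pmx_xt {a b : αᵒᵖ} (h : a ⟶ b) : pmx f N a ≫ xt f N h = pmx f N b := by
  apply pullback.hom_ext
  · calc (pmx f N a ≫ xt f N h) ≫ pa f N b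
        = pmx f N a ≫ (xt f N h ≫ pa f N b) := Category.assoc _ _ _
      _ = pmx f N a ≫ (pa f N a ≫ ut N h) := congrArg (pmx f N a ≫ ·) (xt_pa f N h)
      _ = (pmx f N a ≫ pa f N a) ≫ ut N h := (Category.assoc _ _ _).symm
      _ = (fb f s R ≫ lm N a) ≫ ut N h := congrArg (· ≫ ut N h) (pmx_pa f N a)
      _ = fb f s R ≫ (lm N a ≫ ut N h) := Category.assoc _ _ _
      _ = fb f s R ≫ lm N b := congrArg (fb f s R ≫ ·) (lm_ut N h)
      _ = pmx f N b ≫ pa f N b := (pmx_pa f N b).symm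
  · calc (pmx f N a ≫ xt f N h) ≫ jm f N b
        = pmx f N a ≫ (xt f N h ≫ jm f N b) := Category.assoc _ _ _
      _ = pmx f N a ≫ jm f N a := congrArg (pmx f N a ≫ ·) (xt_jm f N h)
      _ = gm f s R := pmx_jm f N a
      _ = pmx f N b ≫ jm f N b := (pmx_jm f N b).symm

/-- the cone with vertex `X ×_S Spec R` -/
def coneX : Cone (Xs f N) where
  pt := Xb f (s := s) (R := R)
  π :=
    { app := fun a => pmx f N a
      naturality := fun a b h => (Category.id_comp _).trans (pmx_xt f N h).symm }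

lemma coneX_π (a : αᵒᵖ) : (coneX f N).π.app a = pmx f N a := rfl

/-- the components of a cone over the system -/
abbrev ca (c : Cone (Xs f N)) (a : αᵒᵖ) : c.pt ⟶ Xa f N a := c.π.app a

lemma ca_xt (c : Cone (Xs f N)) {a b : αᵒᵖ} (h : a ⟶ b) : ca f N c a ≫ xt f N h = ca f N c b :=
  c.w h

/-- the induced cone over the system of neighbourhoods -/
def coneDown (c : Cone (Xs f N)) : Cone (Dg N) where
  pt := c.pt
  π :=
    { app := fun a => ca f N c a ≫ pa f N a
      naturality := fun a b h => by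
        refine (Category.id_comp _).trans ?_
        calc ca f N c b ≫ pa f N b
            = (ca f N c a ≫ xt f N h) ≫ pa f N b := congrArg (· ≫ pa f N b) (ca_xt f N c h).symm
          _ = ca f N c a ≫ (xt f N h ≫ pa f N b) := Category.assoc _ _ _
          _ = ca f N c a ≫ (pa f N a ≫ ut N h) := congrArg (ca f N c a ≫ ·) (xt_pa f N h)
          _ = (ca f N c a ≫ pa f N a) ≫ ut N h := (Category.assoc _ _ _).symm }

lemma cone_jm_eq (c : Cone (Xs f N)) (a b : αᵒᵖ) :
    ca f N c a ≫ jm f N a = ca f N c b ≫ jm f N b := by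
  let m : αᵒᵖ := IsCofiltered.min a b
  have h1 : ca f N c m ≫ jm f N m = ca f N c a ≫ jm f N a :=
    calc ca f N c m ≫ jm f N m
        = ca f N c m ≫ (xt f N (IsCofiltered.minToLeft a b) ≫ jm f N a) :=
          congrArg (ca f N c m ≫ ·) (xt_jm f N _).symm
      _ = (ca f N c m ≫ xt f N (IsCofiltered.minToLeft a b)) ≫ jm f N a :=
          (Category.assoc _ _ _).symm
      _ = ca f N c a ≫ jm f N a := congrArg (· ≫ jm f N a) (ca_xt f N c _)
  have h2 : ca f N c m ≫ jm f N m = ca f N c b ≫ jm f N b :=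
    calc ca f N c m ≫ jm f N m
        = ca f N c m ≫ (xt f N (IsCofiltered.minToRight a b) ≫ jm f N b) :=
          congrArg (ca f N c m ≫ ·) (xt_jm f N _).symm
      _ = (ca f N c m ≫ xt f N (IsCofiltered.minToRight a b)) ≫ jm f N b :=
          (Category.assoc _ _ _).symm
      _ = ca f N c b ≫ jm f N b := congrArg (· ≫ jm f N b) (ca_xt f N c _)
  exact h1.symm.trans h2

/-- `X ×_S Spec R` is the limit of the `X ×_S U_a` -/
def coneX_isLimit (hlim : IsLimit (coneS N)) : IsLimit (coneX f N) := by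
  let a₀ : αᵒᵖ := op (Classical.arbitrary α)
  let ℓ : ∀ c : Cone (Xs f N), c.pt ⟶ Spec (CommRingCat.of R) := fun c =>
    hlim.lift (coneDown f N c)
  have hfac : ∀ (c : Cone (Xs f N)) (a : αᵒᵖ), ℓ c ≫ lm N a = ca f N c a ≫ pa f N a :=
    fun c a => hlim.fac (coneDown f N c) a
  have hcond : ∀ c : Cone (Xs f N), (ca f N c a₀ ≫ jm f N a₀) ≫ f =
      ℓ c ≫ Hens2.specOf S s R := by
    intro c
    calc (ca f N c a₀ ≫ jm f N a₀) ≫ f
        = ca f N c a₀ ≫ (jm f N a₀ ≫ f) := Category.assoc _ _ _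
      _ = ca f N c a₀ ≫ (pa f N a₀ ≫ uh N a₀) := congrArg (ca f N c a₀ ≫ ·) (pa_uh f N a₀).symm
      _ = (ca f N c a₀ ≫ pa f N a₀) ≫ uh N a₀ := (Category.assoc _ _ _).symm
      _ = (ℓ c ≫ lm N a₀) ≫ uh N a₀ := congrArg (· ≫ uh N a₀) (hfac c a₀).symm
      _ = ℓ c ≫ (lm N a₀ ≫ uh N a₀) := Category.assoc _ _ _
      _ = ℓ c ≫ Hens2.specOf S s R := congrArg (ℓ c ≫ ·) (lm_uh N a₀)
  let L : ∀ c : Cone (Xs f N), c.pt ⟶ Xb f (s := s) (R := R) := fun c =>
    pullback.lift (ca f N c a₀ ≫ jm f N a₀) (ℓ c) (hcond c)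
  have hL1 : ∀ c, L c ≫ gm f s R = ca f N c a₀ ≫ jm f N a₀ := fun c => pullback.lift_fst _ _ _
  have hL2 : ∀ c, L c ≫ fb f s R = ℓ c := fun c => pullback.lift_snd _ _ _
  refine
    { lift := L
      fac := fun c a => ?_
      uniq := fun c m hm => ?_ }
  · apply pullback.hom_ext
    · calc (L c ≫ pmx f N a) ≫ pa f N a
          = L c ≫ (pmx f N a ≫ pa f N a) := Category.assoc _ _ _
        _ = L c ≫ (fb f s R ≫ lm N a) := congrArg (L c ≫ ·) (pmx_pa f N a)
        _ = (L c ≫ fb f s R) ≫ lm N a := (Category.assoc _ _ _).symm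
        _ = ℓ c ≫ lm N a := congrArg (· ≫ lm N a) (hL2 c)
        _ = ca f N c a ≫ pa f N a := hfac c a
    · calc (L c ≫ pmx f N a) ≫ jm f N a
          = L c ≫ (pmx f N a ≫ jm f N a) := Category.assoc _ _ _
        _ = L c ≫ gm f s R := congrArg (L c ≫ ·) (pmx_jm f N a)
        _ = ca f N c a₀ ≫ jm f N a₀ := hL1 c
        _ = ca f N c a ≫ jm f N a := cone_jm_eq f N c a₀ a
  · have hm' : ∀ a, m ≫ pmx f N a = ca f N c a := hm
    change c.pt ⟶ Xb f (s := s) (R := R) at m
    apply pullback.hom_ext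
    · show m ≫ gm f s R = L c ≫ gm f s R
      calc m ≫ gm f s R
          = m ≫ (pmx f N a₀ ≫ jm f N a₀) := congrArg (m ≫ ·) (pmx_jm f N a₀).symm
        _ = (m ≫ pmx f N a₀) ≫ jm f N a₀ := (Category.assoc _ _ _).symm
        _ = ca f N c a₀ ≫ jm f N a₀ := congrArg (· ≫ jm f N a₀) (hm' a₀)
        _ = L c ≫ gm f s R := (hL1 c).symm
    · refine Eq.trans ?_ (hL2 c).symm
      apply hlim.uniq (coneDown f N c)
      intro a
      calc (m ≫ fb f s R) ≫ lm N a
          = m ≫ (fb f s R ≫ lm N a) := Category.assoc _ _ _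
        _ = m ≫ (pmx f N a ≫ pa f N a) := congrArg (m ≫ ·) (pmx_pa f N a).symm
        _ = (m ≫ pmx f N a) ≫ pa f N a := (Category.assoc _ _ _).symm
        _ = ca f N c a ≫ pa f N a := congrArg (· ≫ pa f N a) (hm' a)

/-- the transition maps are affine -/
lemma isAffineHom_Xs_map (hAff : ∀ a, IsAffine (N.obj a).1.left) {a b : αᵒᵖ} (h : a ⟶ b) :
    IsAffineHom ((Xs f N).map h) := by
  haveI : IsAffine (Us N a) := hAff a
  haveI : IsAffine (Us N b) := hAff b
  have h1 : IsAffineHom (ut N h) := inferInstance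
  exact MorphismProperty.of_isPullback (P := @IsAffineHom)
    (EtCoh.isPullback_bc_map f (N.map h).1).flip h1

lemma compactSpace_pullback {A B C : Scheme.{u}} (a : A ⟶ C) (b : B ⟶ C) [QuasiCompact b]
    [CompactSpace A] : CompactSpace ↥(pullback a b) :=
  QuasiCompact.compactSpace_of_compactSpace (pullback.fst a b)

lemma quasiSeparatedSpace_pullback {A B C : Scheme.{u}} (a : A ⟶ C) (b : B ⟶ C)
    [QuasiSeparated b] [QuasiSeparatedSpace A] : QuasiSeparatedSpace ↥(pullback a b) :=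
  quasiSeparatedSpace_of_quasiSeparated (pullback.fst a b)

lemma compactSpace_Xs [QuasiCompact f] (hAff : ∀ a, IsAffine (N.obj a).1.left) (a : αᵒᵖ) :
    CompactSpace ↥((Xs f N).obj a) := by
  haveI : IsAffine (Us N a) := hAff a
  haveI : CompactSpace ↥(Us N a) := inferInstance
  exact compactSpace_pullback (uh N a) f

lemma quasiSeparatedSpace_Xs [QuasiSeparated f] (hAff : ∀ a, IsAffine (N.obj a).1.left)
    (a : αᵒᵖ) : QuasiSeparatedSpace ↥((Xs f N).obj a) := by
  haveI : IsAffine (Us N a) := hAff a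
  haveI : QuasiSeparatedSpace ↥(Us N a) := inferInstance
  exact quasiSeparatedSpace_pullback (uh N a) f

end Groth.Agent.Helper6.StkHC
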