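import Mathlib
import Groth.Prelude.Def_EtBase
import Groth.Prelude.Def_EtCore
import Groth.Prelude.Def_EtLim
import Groth.Agent.Helper6.LimCohS
import Groth.Agent.Helper6.LimCohQ
import Groth.Agent.Helper6.LimCohI
import Groth.Agent.Helper6.LimCohZ
import Groth.Agent.Helper9.EtShriekOpen
import Groth.Agent.Helper9.EtJCont

/-!
# The limit theorem for the inverse images of a sheaf on a scheme under the inverse system

`Xs` is an inverse system of schemes over a scheme `X` (structure morphisms `j i`), with a cone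
`c` whose vertex maps to `X` by `g`.  For an abelian sheaf `F` on `X`, the sheaves `(j i)⁻¹ F` form
a system in direct image form whose colimit is `g⁻¹ F`; hence the limit theorem applies.
-/

set_option autoImplicit false
set_option linter.style.haveILetI false
set_option linter.unusedSectionVars false
set_option linter.unusedVariables false
set_option linter.unusedSimpArgs false
set_option linter.dupNamespace false
set_option linter.overlappingInstances false

universe u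

noncomputable section

namespace Groth.Agent.Helper6.StkHD

open CategoryTheory CategoryTheory.Limits AlgebraicGeometry Opposite
open Groth.Agent.Helper6.LimCohA Groth.Agent.Helper6.LimCohB Groth.Agent.Helper6.LimCohL
  Groth.Agent.Helper6.LimCohS Groth.Agent.Helper6.LimCohP Groth.Agent.Helper6.LimCohQ
  Groth.Agent.Helper9.EtShriekOpen

section Sys

variable {ι : Type u} [Preorder ι] (Xs : ιᵒᵖ ⥤ Scheme.{u}) (c : Cone Xs) {X : Scheme.{u}}
  (j : ∀ i : ι, Xs.obj (op i) ⟶ X) (hj : ∀ {i k : ι} (h : i ≤ k), fm Xs h ≫ j i = j k)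
  (g : c.pt ⟶ X) (hg : ∀ i, pm Xs c i ≫ j i = g) (F : EtCoh.Ab X)

/-- the system of the inverse images of `F` -/
@[reducible] def rrSys : PSys Xs where
  F i := (EtCoh.pull (j i)).obj F
  r {i k} h := rr F (j i) (fm Xs h) (j k) (hj h)
  coc {i k l} hik hkl :=
    rr_cocycle F (j i) (fm Xs hik) (fm Xs hkl) (j k) (fm Xs (hik.trans hkl)) (j l) (hj hik)
      (fm_comp Xs hik hkl) (hj (hik.trans hkl)) (hj hkl)

/-- the cone with vertex the inverse image of `F` on the limit -/
@[reducible] def rrCone : PCone c (rrSys Xs j hj F) where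
  pt := (EtCoh.pull g).obj F
  ρ i := rr F (j i) (pm Xs c i) g (hg i)
  coc {i k} h :=
    rr_cocycle F (j i) (fm Xs h) (pm Xs c k) (j k) (pm Xs c i) g (hj h) (pm_comp Xs c h) (hg i)
      (hg k)

instance isIso_adjL_rr {Y X₁ X₂ : Scheme.{u}} (F₀ : EtCoh.Ab Y) (f₁ : X₁ ⟶ Y) (f₂ : X₂ ⟶ X₁)
    (f₁₂ : X₂ ⟶ Y) (w : f₂ ≫ f₁ = f₁₂) : IsIso (adjL f₂ (rr F₀ f₁ f₂ f₁₂ w)) := by
  rw [adjL_rr]
  infer_instance

variable [IsDirected ι (· ≤ ·)] [Nonempty ι]

theorem rrCone_isColim : (rrCone Xs c j hj g hg F).IsColim := by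
  intro D
  let S := rrSys Xs j hj F
  let C := rrCone Xs c j hj g hg F
  let ν : ∀ i : ι, C.pt ⟶ D.pt := fun i =>
    inv (adjL (pm Xs c i) (C.ρ i)) ≫ adjL (pm Xs c i) (D.ρ i)
  have hν : ∀ i, C.ρ i ≫ (EtCoh.push (pm Xs c i)).map (ν i) = D.ρ i := by
    intro i
    have h1 : adjL (pm Xs c i) (C.ρ i ≫ (EtCoh.push (pm Xs c i)).map (ν i)) =
        adjL (pm Xs c i) (D.ρ i) := by
      rw [adjL_comp]
      exact IsIso.hom_inv_id_assoc _ _
    have h2 := congrArg (adjR (pm Xs c i)) h1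
    rwa [adjR_adjL, adjR_adjL] at h2
  have huniq : ∀ i (ν' : C.pt ⟶ D.pt),
      C.ρ i ≫ (EtCoh.push (pm Xs c i)).map ν' = D.ρ i → ν' = ν i := by
    intro i ν' h
    have h1 := congrArg (adjL (pm Xs c i)) h
    rw [adjL_comp] at h1
    show ν' = inv (adjL (pm Xs c i) (C.ρ i)) ≫ adjL (pm Xs c i) (D.ρ i)
    rw [← h1, IsIso.inv_hom_id_assoc]
  have hmono : ∀ {i k : ι} (h : i ≤ k), ν k = ν i := by
    intro i k h
    apply huniq i
    have hD := D.coc h
    have hC := C.coc h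
    unfold Cocycle at hD hC
    have h1 : (C.ρ i ≫ (EtCoh.push (pm Xs c i)).map (ν k)) ≫
        pk (fm Xs h) (pm Xs c k) (pm Xs c i) (pm_comp Xs c h) D.pt =
        D.ρ i ≫ pk (fm Xs h) (pm Xs c k) (pm Xs c i) (pm_comp Xs c h) D.pt := by
      calc (C.ρ i ≫ (EtCoh.push (pm Xs c i)).map (ν k)) ≫
            pk (fm Xs h) (pm Xs c k) (pm Xs c i) (pm_comp Xs c h) D.pt
          = C.ρ i ≫ ((EtCoh.push (pm Xs c i)).map (ν k) ≫
              pk (fm Xs h) (pm Xs c k) (pm Xs c i) (pm_comp Xs c h) D.pt) := Category.assoc _ _ _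
        _ = C.ρ i ≫ (pk (fm Xs h) (pm Xs c k) (pm Xs c i) (pm_comp Xs c h) C.pt ≫
              (EtCoh.push (fm Xs h)).map ((EtCoh.push (pm Xs c k)).map (ν k))) :=
            congrArg (C.ρ i ≫ ·) (pk_naturality _ _ _ _ (ν k))
        _ = (C.ρ i ≫ pk (fm Xs h) (pm Xs c k) (pm Xs c i) (pm_comp Xs c h) C.pt) ≫
              (EtCoh.push (fm Xs h)).map ((EtCoh.push (pm Xs c k)).map (ν k)) :=
            (Category.assoc _ _ _).symm
        _ = (S.r h ≫ (EtCoh.push (fm Xs h)).map (C.ρ k)) ≫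
              (EtCoh.push (fm Xs h)).map ((EtCoh.push (pm Xs c k)).map (ν k)) :=
            congrArg (· ≫ (EtCoh.push (fm Xs h)).map ((EtCoh.push (pm Xs c k)).map (ν k))) hC.symm
        _ = S.r h ≫ ((EtCoh.push (fm Xs h)).map (C.ρ k) ≫
              (EtCoh.push (fm Xs h)).map ((EtCoh.push (pm Xs c k)).map (ν k))) :=
            Category.assoc _ _ _
        _ = S.r h ≫ (EtCoh.push (fm Xs h)).map (C.ρ k ≫ (EtCoh.push (pm Xs c k)).map (ν k)) :=
            congrArg (S.r h ≫ ·) ((EtCoh.push (fm Xs h)).map_comp _ _).symm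
        _ = S.r h ≫ (EtCoh.push (fm Xs h)).map (D.ρ k) := by rw [hν k]
        _ = D.ρ i ≫ pk (fm Xs h) (pm Xs c k) (pm Xs c i) (pm_comp Xs c h) D.pt := hD
    exact (cancel_mono _).1 h1
  obtain ⟨i₀⟩ := ‹Nonempty ι›
  refine ⟨ν i₀, fun i => ?_, fun ν' hν' => huniq i₀ ν' (hν' i₀)⟩
  obtain ⟨k, h1, h2⟩ := exists_ge_ge i₀ i
  rw [← hmono h1, hmono h2]
  exact hν i

end Sys


section Limit

variable {ι : Type u} [Preorder ι] [IsDirected ι (· ≤ ·)] [Nonempty ι]
  (Xs : ιᵒᵖ ⥤ Scheme.{u}) (c : Cone Xs) {X : Scheme.{u}}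
  (j : ∀ i : ι, Xs.obj (op i) ⟶ X) (hj : ∀ {i k : ι} (h : i ≤ k), fm Xs h ≫ j i = j k)
  (g : c.pt ⟶ X) (hg : ∀ i, pm Xs c i ≫ j i = g) (F : EtCoh.Ab X)
  [∀ i, PreservesFiniteLimits (EtCoh.pull (pm Xs c i))]
  [∀ {i k : ι} (h : i ≤ k), PreservesFiniteLimits (EtCoh.pull (fm Xs h))]

/-- the limit theorem for the inverse images of a sheaf on `X` -/
theorem rr_limit (haff : ∀ ⦃a b : ιᵒᵖ⦄ (h : a ⟶ b), IsAffineHom (Xs.map h))
    (hqc : ∀ i : ι, CompactSpace (Xs.obj (op i)))
    (hqs : ∀ i : ι, QuasiSeparatedSpace (Xs.obj (op i))) (hc : IsLimit c) (n : ℕ) :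
    (∀ ξ : EtCoh.H c.pt ((EtCoh.pull g).obj F) n,
      ∃ (i : ι) (ξi : EtCoh.H (Xs.obj (op i)) ((EtCoh.pull (j i)).obj F) n),
        θ (rrSys Xs j hj F) (rrCone Xs c j hj g hg F) i n ξi = ξ) ∧
    (∀ (i : ι) (ξi : EtCoh.H (Xs.obj (op i)) ((EtCoh.pull (j i)).obj F) n),
      θ (rrSys Xs j hj F) (rrCone Xs c j hj g hg F) i n ξi = 0 →
        ∃ (k : ι) (h : i ≤ k), τ (rrSys Xs j hj F) h n ξi = 0) :=
  main (c := c) (Groth.Agent.Helper6.LimCohI.geo Xs haff c hc) hqc hqs n
    (rrSys Xs j hj F) (rrCone Xs c j hj g hg F) (rrCone_isColim Xs c j hj g hg F)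

end Limit

section Unit

variable {Y X₁ X₂ : Scheme.{u}} (F₀ : EtCoh.Ab Y)

/-- the units of the inverse image adjunctions are compatible with the canonical morphisms -/
lemma cocycle_unit_rr (f₁ : X₁ ⟶ Y) (f₂ : X₂ ⟶ X₁) (f₁₂ : X₂ ⟶ Y) (w : f₂ ≫ f₁ = f₁₂) :
    Cocycle f₁ f₂ f₁₂ w ((EtCoh.pullPushAdj f₁).unit.app F₀) (rr F₀ f₁ f₂ f₁₂ w)
      ((EtCoh.pullPushAdj f₁₂).unit.app F₀) := by
  unfold Cocycle
  have h := adjR_adjL f₁ ((EtCoh.pullPushAdj f₁₂).unit.app F₀ ≫
    pk f₁ f₂ f₁₂ w ((EtCoh.pull f₁₂).obj F₀))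
  rw [Groth.Agent.Helper6.LimCohM.adjR_eq] at h
  exact h

end Unit

section K

variable {X : Scheme.{u}} (W : X.Etale) (F : EtCoh.Ab X)

instance : Etale (W.hom : W.left ⟶ X) := W.prop

instance : EtShriek.JCont (W.hom : W.left ⟶ X) := Groth.Agent.Helper9.EtJCont.jCont_of_etale _

/-- the comparison from sections of `F` over `W` to global sections of the inverse image of `F`
on `W` -/
def wK : F.obj.obj (op W) ⟶ ((EtCoh.pull W.hom).obj F).obj.obj (op (EtCoh.top W.left)) :=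
  res W.hom ((EtCoh.pullPushAdj W.hom).unit.app F) (V := W) (V' := EtCoh.top W.left) (𝟙 W.left)
    (by simp)

set_option backward.isDefEq.respectTransparency false in
lemma sheafAdj_unit_app_hom_app {U : Scheme.{u}} (j : U ⟶ X) [Etale j] [EtShriek.JCont j]
    (V : X.Etale) :
    (((sheafAdj j).unit.app F).hom).app (op V) = F.obj.map ((siteAdj j).counit.app V).op := by
  dsimp [sheafAdj]
  simp

/-- the morphism `(W ⟶ W ⟶ X) ⟶ W` underlying the comparison -/
def qK : (EtShriek.compEtale W.hom).obj (EtCoh.top W.left) ⟶ W :=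
  (EtShriek.compEtale W.hom).map (lift W.hom (V := W) (W := EtCoh.top W.left) (𝟙 W.left) (by simp)) ≫
    (siteAdj W.hom).counit.app W

lemma qK_left : (qK W).left = 𝟙 W.left := by
  have h1 : ((siteAdj W.hom).counit.app W).left = pullback.fst W.hom W.hom := by simp [siteAdj]
  show (lift W.hom (V := W) (W := EtCoh.top W.left) (𝟙 W.left) (by simp)).left ≫
    ((siteAdj W.hom).counit.app W).left = 𝟙 _
  rw [h1]
  exact lift_prj _ _ _

instance isIso_qK : IsIso (qK W) := by
  let e : (EtShriek.compEtale W.hom).obj (EtCoh.top W.left) ≅ W :=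
    MorphismProperty.Over.isoMk (Iso.refl W.left) (by simp)
  have he : e.hom = qK W := by
    apply MorphismProperty.Over.Hom.ext
    exact (qK_left W).symm
  rw [← he]
  infer_instance

lemma wK_comp :
    wK W F ≫ ((pullIsoRestr W.hom).hom.app F).hom.app (op (EtCoh.top W.left)) =
      F.obj.map (qK W).op := by
  let ι := (pullIsoRestr W.hom).hom.app F
  let l := lift W.hom (V := W) (W := EtCoh.top W.left) (𝟙 W.left) (by simp)
  have e1 : (EtCoh.pullPushAdj W.hom).unit.app F ≫ (EtCoh.push W.hom).map ι =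
      (sheafAdj W.hom).unit.app F := Adjunction.unit_leftAdjointUniq_hom_app _ _ F
  have e2 : rapp W.hom ((EtCoh.pullPushAdj W.hom).unit.app F) W ≫
      ι.hom.app (op ((EtCoh.bc W.hom).obj W)) = F.obj.map ((siteAdj W.hom).counit.app W).op := by
    have := congrArg (fun t => t.hom.app (op W)) e1
    exact this.trans (sheafAdj_unit_app_hom_app F W.hom W)
  have e3 : ((EtCoh.pull W.hom).obj F).obj.map l.op ≫ ι.hom.app (op (EtCoh.top W.left)) =
      ι.hom.app (op ((EtCoh.bc W.hom).obj W)) ≫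
        F.obj.map ((EtShriek.compEtale W.hom).map l).op := ι.hom.naturality l.op
  calc wK W F ≫ ι.hom.app (op (EtCoh.top W.left))
      = rapp W.hom ((EtCoh.pullPushAdj W.hom).unit.app F) W ≫
          (((EtCoh.pull W.hom).obj F).obj.map l.op ≫ ι.hom.app (op (EtCoh.top W.left))) :=
        Category.assoc _ _ _
    _ = rapp W.hom ((EtCoh.pullPushAdj W.hom).unit.app F) W ≫
          (ι.hom.app (op ((EtCoh.bc W.hom).obj W)) ≫
            F.obj.map ((EtShriek.compEtale W.hom).map l).op) :=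
        congrArg (rapp W.hom ((EtCoh.pullPushAdj W.hom).unit.app F) W ≫ ·) e3
    _ = (rapp W.hom ((EtCoh.pullPushAdj W.hom).unit.app F) W ≫
          ι.hom.app (op ((EtCoh.bc W.hom).obj W))) ≫
            F.obj.map ((EtShriek.compEtale W.hom).map l).op := (Category.assoc _ _ _).symm
    _ = F.obj.map ((siteAdj W.hom).counit.app W).op ≫
          F.obj.map ((EtShriek.compEtale W.hom).map l).op :=
        congrArg (· ≫ F.obj.map ((EtShriek.compEtale W.hom).map l).op) e2
    _ = F.obj.map (qK W).op := by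
        rw [← F.obj.map_comp, ← op_comp]
        rfl

instance isIso_wK : IsIso (wK W F) := by
  haveI : IsIso (qK W).op := inferInstance
  have i1 : IsIso (F.obj.map (qK W).op) := Functor.map_isIso _ _
  have i2 : IsIso (((pullIsoRestr W.hom).hom.app F).hom.app (op (EtCoh.top W.left))) := by
    have : IsIso ((pullIsoRestr W.hom).hom.app F) := inferInstance
    have h2 : IsIso ((sheafToPresheaf _ _).map ((pullIsoRestr W.hom).hom.app F)) := inferInstance
    exact (NatIso.isIso_app_of_isIso ((sheafToPresheaf _ _).map ((pullIsoRestr W.hom).hom.app F)) _)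
  have h := wK_comp W F
  exact @IsIso.of_isIso_fac_right _ _ _ _ _ _ _ _ i2 i1 h

end K

end Groth.Agent.Helper6.StkHD
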