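import Mathlib
import Groth.Prelude.Def_EtBase
import Groth.Prelude.Def_EtCore
import Groth.Prelude.Def_Hens2
import Groth.Agent.Helper1.DeltaFunctor2
import Groth.Agent.Helper1.DeltaComp
import Groth.Agent.Helper9.CechEdgeB
import Groth.Agent.Helper9.EtStalkExact
import Groth.Agent.Helper9.EtPushInj
import Groth.Agent.Helper6.StkHC
import Groth.Agent.Helper6.StkHD

/-!
# The comparison morphism from the stalk of a direct image to the sections on the
fibre over the strict henselization, and étale cohomology as a δ-functor.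
-/

set_option autoImplicit false
set_option linter.unusedSimpArgs false
set_option linter.dupNamespace false
set_option linter.overlappingInstances false
set_option linter.style.haveILetI false
set_option linter.unusedSectionVars false
set_option linter.unusedVariables false
universe u
open CategoryTheory CategoryTheory.Limits AlgebraicGeometry Opposite IsLocalRing
open Groth.Agent.Helper1.DeltaFun
open Groth.Agent.Helper6.StkHB Groth.Agent.Helper6.StkHC Groth.Agent.Helper6.StkHD
open Groth.Agent.Helper6.LimCohA Groth.Agent.Helper6.LimCohB Groth.Agent.Helper6.LimCohL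
  Groth.Agent.Helper6.LimCohP

noncomputable section
namespace Groth.Agent.Helper6.StkHE

section HDelta

variable (Y : Scheme.{u})

/-- the constant sheaf `ℤ` -/
abbrev ZZ : EtCoh.Ab Y :=
  (constantSheaf Y.smallEtaleTopology AddCommGrpCat.{u + 1}).obj (AddCommGrpCat.of (ULift.{u + 1} ℤ))

/-- cohomology is the `Ext` functor out of the constant sheaf -/
def hfIso (n : ℕ) : EtCoh.HF Y n ≅ Abelian.extFunctorObj (ZZ Y) n :=
  NatIso.ofComponents (fun F => Iso.refl _) (fun f => by
    ext x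
    rfl)

/-- étale cohomology as a δ-functor -/
def hDelta : DeltaFunctor (EtCoh.Ab Y) AddCommGrpCat.{u + 1} :=
  (Groth.Agent.Helper9.CechEdgeB.extDeltaM.{u + 1} (ZZ Y)).ofIso (fun n => EtCoh.HF Y n)
    (fun n => hfIso Y n)

lemma hDelta_T (n : ℕ) : (hDelta Y).T n = EtCoh.HF Y n := rfl

end HDelta

section Sys

variable {X S : Scheme.{u}} (f : X ⟶ S)
  {s : S} {R : Type u} [CommRing R] [IsLocalRing R]
  [Algebra (S.presheaf.stalk s) R] [IsLocalHom (algebraMap (S.presheaf.stalk s) R)]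
  [hS : Hensel.IsStrictHenselization (S.presheaf.stalk s) R] [IsSepClosed (ResidueField R)]
  {α : Type u} [PartialOrder α] [IsDirected α (· ≤ ·)] [Nonempty α]
  (N : αᵒᵖ ⥤ E S s R)

/-- the structure morphisms `X ×_S U_a ⟶ X`, indexed by `α` -/
abbrev jj (i : α) : (Xs f N).obj (op i) ⟶ X := jm f N (op i)

lemma jj_fm {i k : α} (h : i ≤ k) : fm (Xs f N) h ≫ jj f N i = jj f N k :=
  xt_jm f N (homOfLE h).op

lemma pm_jj (i : α) : pm (Xs f N) (coneX f N) i ≫ jj f N i = gm f s R := pmx_jm f N (op i)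

variable [QuasiCompact f] [QuasiSeparated f]
  (hAff : ∀ a, IsAffine (N.obj a).1.left) (hlim : IsLimit (coneS N))

include hAff hlim in
/-- cohomology of `X ×_S Spec R` with coefficients in the inverse image of an injective sheaf
vanishes in positive degrees -/
theorem subsingleton_H_pull_injective (I : EtCoh.Ab X) [Injective I] (n : ℕ) :
    Subsingleton (EtCoh.H (Xb f (s := s) (R := R)) ((EtCoh.pull (gm f s R)).obj I) (n + 1)) := by
  obtain ⟨h1, -⟩ := rr_limit (Xs f N) (coneX f N) (jj f N) (fun h => jj_fm f N h) (gm f s R)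
    (pm_jj f N) I (fun a b h => isAffineHom_Xs_map f N hAff h)
    (fun i => compactSpace_Xs f N hAff (op i)) (fun i => quasiSeparatedSpace_Xs f N hAff (op i))
    (coneX_isLimit f N hlim) (n + 1)
  have hzero : ∀ ξ : EtCoh.H (Xb f (s := s) (R := R)) ((EtCoh.pull (gm f s R)).obj I) (n + 1),
      ξ = 0 := by
    intro ξ
    obtain ⟨i, ξi, hi⟩ := h1 ξ
    haveI : Etale (jj f N i) := inferInstanceAs (Etale (jm f N (op i)))
    haveI : Injective ((EtCoh.pull (jj f N i)).obj I) :=
      Groth.Agent.Helper9.EtPushInj.injective_pull_of_etale (jj f N i) I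
    have : ξi = 0 := Abelian.Ext.eq_zero_of_injective ξi
    rw [← hi, this, map_zero]
    rfl
  exact ⟨fun a b => (hzero a).trans (hzero b).symm⟩

end Sys

section Zero

variable {X S : Scheme.{u}} (f : X ⟶ S)
  {s : S} {R : Type u} [CommRing R] [IsLocalRing R]
  [Algebra (S.presheaf.stalk s) R] [IsLocalHom (algebraMap (S.presheaf.stalk s) R)]
  [hS : Hensel.IsStrictHenselization (S.presheaf.stalk s) R] [IsSepClosed (ResidueField R)]

/-- the morphism `X ×_S Spec R ⟶ X ×_S U` attached to a neighbourhood of the geometric point -/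
def ell (x : E S s R) : Xb f (s := s) (R := R) ⟶ ((EtCoh.bc f).obj x.1).left :=
  pullback.lift (fb f s R ≫ lam x) (gm f s R)
    ((Category.assoc _ _ _).trans ((congrArg (fb f s R ≫ ·) (lam_hom x)).trans (gm_f f).symm))

lemma ell_prj (x : E S s R) : ell f x ≫ prj f x.1 = fb f s R ≫ lam x := pullback.lift_fst _ _ _

lemma ell_hom (x : E S s R) : ell f x ≫ ((EtCoh.bc f).obj x.1).hom = gm f s R :=
  pullback.lift_snd _ _ _

lemma ell_map {x y : E S s R} (h : x ⟶ y) : ell f x ≫ ((EtCoh.bc f).map h.1).left = ell f y := by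
  apply pullback.hom_ext
  · calc (ell f x ≫ ((EtCoh.bc f).map h.1).left) ≫ prj f y.1
        = ell f x ≫ (((EtCoh.bc f).map h.1).left ≫ prj f y.1) := Category.assoc _ _ _
      _ = ell f x ≫ (prj f x.1 ≫ h.1.left) := congrArg (ell f x ≫ ·) (bcMap_prj f h.1)
      _ = (ell f x ≫ prj f x.1) ≫ h.1.left := (Category.assoc _ _ _).symm
      _ = (fb f s R ≫ lam x) ≫ h.1.left := congrArg (· ≫ h.1.left) (ell_prj f x)
      _ = fb f s R ≫ (lam x ≫ h.1.left) := Category.assoc _ _ _
      _ = fb f s R ≫ lam y := congrArg (fb f s R ≫ ·) (lam_map h)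
      _ = ell f y ≫ prj f y.1 := (ell_prj f y).symm
  · calc (ell f x ≫ ((EtCoh.bc f).map h.1).left) ≫ ((EtCoh.bc f).obj y.1).hom
        = ell f x ≫ (((EtCoh.bc f).map h.1).left ≫ ((EtCoh.bc f).obj y.1).hom) :=
          Category.assoc _ _ _
      _ = ell f x ≫ ((EtCoh.bc f).obj x.1).hom :=
          congrArg (ell f x ≫ ·) (hom_w ((EtCoh.bc f).map h.1))
      _ = gm f s R := ell_hom f x
      _ = ell f y ≫ ((EtCoh.bc f).obj y.1).hom := (ell_hom f y).symm

lemma ell_w (x : E S s R) :
    ell f x ≫ ((EtCoh.bc f).obj x.1).hom = (EtCoh.top (Xb f (s := s) (R := R))).hom ≫ gm f s R :=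
  (ell_hom f x).trans (Category.id_comp _).symm

/-- the comparison morphism on the sections over a neighbourhood -/
def phi (F : EtCoh.Ab X) (x : E S s R) :
    F.obj.obj (op ((EtCoh.bc f).obj x.1)) ⟶
      ((EtCoh.pull (gm f s R)).obj F).obj.obj (op (EtCoh.top (Xb f (s := s) (R := R)))) :=
  res (gm f s R) ((EtCoh.pullPushAdj (gm f s R)).unit.app F) (V := (EtCoh.bc f).obj x.1)
    (V' := EtCoh.top (Xb f (s := s) (R := R))) (ell f x) (ell_w f x)

lemma phi_map (F : EtCoh.Ab X) {x y : E S s R} (h : x ⟶ y) :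
    F.obj.map ((EtCoh.bc f).map h.1).op ≫ phi f F x = phi f F y := by
  unfold phi
  rw [map_res]
  exact res_congr _ _ (ell_map f h) _

lemma phi_nat {F F' : EtCoh.Ab X} (ψ : F ⟶ F') (x : E S s R) :
    ψ.hom.app (op ((EtCoh.bc f).obj x.1)) ≫ phi f F' x =
      phi f F x ≫ ((EtCoh.pull (gm f s R)).map ψ).hom.app
        (op (EtCoh.top (Xb f (s := s) (R := R)))) := by
  have hu : ψ ≫ (EtCoh.pullPushAdj (gm f s R)).unit.app F' =
      (EtCoh.pullPushAdj (gm f s R)).unit.app F ≫
        (EtCoh.push (gm f s R)).map ((EtCoh.pull (gm f s R)).map ψ) :=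
    (EtCoh.pullPushAdj (gm f s R)).unit.naturality ψ
  unfold phi res
  rw [← Category.assoc, ← rapp_comp, hu, rapp_comp_push, Category.assoc, Category.assoc]
  congr 1
  exact (((EtCoh.pull (gm f s R)).map ψ).hom.naturality _).symm

/-- the comparison morphism from the stalk of the direct image to the global sections of the
inverse image on `X ×_S Spec R` -/
def thetaApp (F : EtCoh.Ab X) :
    (EtCoh.stalk (Hens2.geomPt S s R)).obj ((EtCoh.push f).obj F) ⟶
      (EtCore.gsec (Xb f (s := s) (R := R))).obj ((EtCoh.pull (gm f s R)).obj F) :=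
  (Scheme.pointSmallEtale (Hens2.geomPt S s R)).presheafFiberDesc
    (P := ((EtCoh.push f).obj F).obj) (fun U u => phi f F ⟨U, u⟩)
    (fun U U' h u => phi_map f F (x := ⟨U, u⟩)
      (y := ⟨U', (Scheme.pointSmallEtale (Hens2.geomPt S s R)).fiber.map h u⟩) ⟨h, rfl⟩)

lemma toFiber_thetaApp (F : EtCoh.Ab X) (x : E S s R) :
    (Scheme.pointSmallEtale (Hens2.geomPt S s R)).toPresheafFiber x.1 x.2
      ((EtCoh.push f).obj F).obj ≫ thetaApp f F = phi f F x :=
  (Scheme.pointSmallEtale (Hens2.geomPt S s R)).toPresheafFiber_presheafFiberDesc _ _ x.1 x.2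

variable (s R) in
/-- the comparison, as a natural transformation -/
def theta : EtCoh.push f ⋙ EtCoh.stalk (Hens2.geomPt S s R) ⟶
    EtCoh.pull (gm f s R) ⋙ EtCore.gsec (Xb f (s := s) (R := R)) where
  app F := thetaApp f F
  naturality F F' ψ := by
    apply (Scheme.pointSmallEtale (Hens2.geomPt S s R)).presheafFiber_hom_ext
    intro U u
    have h1 : (Scheme.pointSmallEtale (Hens2.geomPt S s R)).toPresheafFiber U u
        ((EtCoh.push f).obj F).obj ≫ (EtCoh.stalk (Hens2.geomPt S s R)).map ((EtCoh.push f).map ψ) =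
        ((EtCoh.push f).map ψ).hom.app (op U) ≫
          (Scheme.pointSmallEtale (Hens2.geomPt S s R)).toPresheafFiber U u
            ((EtCoh.push f).obj F').obj :=
      (Scheme.pointSmallEtale (Hens2.geomPt S s R)).toPresheafFiber_naturality
        ((EtCoh.push f).map ψ).hom U u
    let tF := (Scheme.pointSmallEtale (Hens2.geomPt S s R)).toPresheafFiber U u
      ((EtCoh.push f).obj F).obj
    let tF' := (Scheme.pointSmallEtale (Hens2.geomPt S s R)).toPresheafFiber U u
      ((EtCoh.push f).obj F').obj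
    let sm := (EtCoh.stalk (Hens2.geomPt S s R)).map ((EtCoh.push f).map ψ)
    let pt := ((EtCoh.pull (gm f s R)).map ψ).hom.app (op (EtCoh.top (Xb f (s := s) (R := R))))
    let ψU : ((EtCoh.push f).obj F).obj.obj (op U) ⟶ ((EtCoh.push f).obj F').obj.obj (op U) :=
      ((EtCoh.push f).map ψ).hom.app (op U)
    let ph : ((EtCoh.push f).obj F).obj.obj (op U) ⟶
        ((EtCoh.pull (gm f s R)).obj F).obj.obj (op (EtCoh.top (Xb f (s := s) (R := R)))) :=
      phi f F ⟨U, u⟩
    let ph' : ((EtCoh.push f).obj F').obj.obj (op U) ⟶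
        ((EtCoh.pull (gm f s R)).obj F').obj.obj (op (EtCoh.top (Xb f (s := s) (R := R)))) :=
      phi f F' ⟨U, u⟩
    have hn : ψU ≫ ph' = ph ≫ pt := phi_nat f ψ ⟨U, u⟩
    have ht : tF ≫ thetaApp f F = ph := toFiber_thetaApp f F ⟨U, u⟩
    have ht' : tF' ≫ thetaApp f F' = ph' := toFiber_thetaApp f F' ⟨U, u⟩
    have h1' : tF ≫ sm = ψU ≫ tF' := h1
    show tF ≫ (sm ≫ thetaApp f F') = tF ≫ (thetaApp f F ≫ pt)
    calc tF ≫ (sm ≫ thetaApp f F')
        = (tF ≫ sm) ≫ thetaApp f F' := (Category.assoc _ _ _).symm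
      _ = (ψU ≫ tF') ≫ thetaApp f F' := congrArg (· ≫ thetaApp f F') h1'
      _ = ψU ≫ (tF' ≫ thetaApp f F') := Category.assoc _ _ _
      _ = ψU ≫ ph' := congrArg (ψU ≫ ·) ht'
      _ = ph ≫ pt := hn
      _ = (tF ≫ thetaApp f F) ≫ pt := congrArg (· ≫ pt) ht.symm
      _ = tF ≫ (thetaApp f F ≫ pt) := Category.assoc _ _ _

end Zero

section Top

variable {Y Y' : Scheme.{u}} (f' : Y' ⟶ Y)

lemma top_w : f' ≫ (EtCoh.top Y).hom = (EtCoh.top Y').hom ≫ f' :=
  (Category.comp_id _).trans (Category.id_comp _).symm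

lemma bcTopIso_inv :
    (EtCore.bcTopIso f').inv = lift f' (V := EtCoh.top Y) (W := EtCoh.top Y') f' (top_w f') :=
  (EtCore.bcTopIsTerminal f').hom_ext _ _

lemma rapp_top {F : EtCoh.Ab Y} {M : EtCoh.Ab Y'} (r : F ⟶ (EtCoh.push f').obj M) :
    rapp f' r (EtCoh.top Y) ≫ M.obj.map (EtCore.bcTopIso f').inv.op =
      res f' r (V := EtCoh.top Y) (V' := EtCoh.top Y') f' (top_w f') := by
  unfold res
  rw [bcTopIso_inv]

/-- the degree zero part of `Tm`, in terms of `res` -/
lemma equiv₀_Tm' [PreservesFiniteLimits (EtCoh.pull f')] {F : EtCoh.Ab Y} {M : EtCoh.Ab Y'}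
    (r : F ⟶ (EtCoh.push f').obj M) (x : EtCoh.H Y F 0) :
    Sheaf.H.equiv₀ M (EtCore.topIsTerminal Y') (Tm f' r 0 x) =
      res f' r (V := EtCoh.top Y) (V' := EtCoh.top Y') f' (top_w f')
        (Sheaf.H.equiv₀ F (EtCore.topIsTerminal Y) x) := by
  rw [equiv₀_Tm, ← rapp_top]
  rfl

end Top

section Key

variable {X S : Scheme.{u}} (f : X ⟶ S)
  {s : S} {R : Type u} [CommRing R] [IsLocalRing R]
  [Algebra (S.presheaf.stalk s) R] [IsLocalHom (algebraMap (S.presheaf.stalk s) R)]
  [hS : Hensel.IsStrictHenselization (S.presheaf.stalk s) R] [IsSepClosed (ResidueField R)]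
  {α : Type u} [PartialOrder α] [IsDirected α (· ≤ ·)] [Nonempty α]
  (N : αᵒᵖ ⥤ E S s R) (F : EtCoh.Ab X)

/-- the object `X ×_S U_i` of the small étale site of `X` -/
abbrev Bi (i : α) : X.Etale := (EtCoh.bc f).obj (Ua N (op i))

/-- the system of sheaves -/
abbrev SS : PSys (Xs f N) := rrSys (Xs f N) (jj f N) (fun h => jj_fm f N h) F

/-- the cone of sheaves -/
abbrev CC : PCone (coneX f N) (SS f N F) :=
  rrCone (Xs f N) (coneX f N) (jj f N) (fun h => jj_fm f N h) (gm f s R) (pm_jj f N) F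

lemma wK_theta (i : α) :
    wK (Bi f N i) F ≫ res (pm (Xs f N) (coneX f N) i) ((CC f N F).ρ i)
      (V := EtCoh.top ((Xs f N).obj (op i))) (V' := EtCoh.top (Xb f (s := s) (R := R)))
      (pm (Xs f N) (coneX f N) i) (top_w _) = phi f F (N.obj (op i)) := by
  have hc := cocycle_unit_rr F (jj f N i) (pm (Xs f N) (coneX f N) i) (gm f s R) (pm_jj f N i)
  unfold wK phi
  refine (res_res hc _ _ _ _).trans ?_
  exact res_congr _ _ (Category.comp_id _) _

lemma key_theta (i : α) (t : F.obj.obj (op (Bi f N i))) :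
    Sheaf.H.equiv₀ ((EtCoh.pull (gm f s R)).obj F) (EtCore.topIsTerminal _)
      (θ (SS f N F) (CC f N F) i 0
        ((Sheaf.H.equiv₀ ((EtCoh.pull (jj f N i)).obj F) (EtCore.topIsTerminal _)).symm
          (wK (Bi f N i) F t))) = phi f F (N.obj (op i)) t := by
  refine (equiv₀_Tm' (pm (Xs f N) (coneX f N) i) ((CC f N F).ρ i) _).trans ?_
  rw [AddEquiv.apply_symm_apply, ← wK_theta]
  rfl

/-- the transition morphism `X ×_S U_k ⟶ X ×_S U_i` in the small étale site of `X` -/
abbrev gik {i k : α} (h : i ≤ k) : Bi f N k ⟶ Bi f N i :=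
  (EtCoh.bc f).map (N.map (homOfLE h).op).1

lemma gik_left {i k : α} (h : i ≤ k) : (gik f N h).left = fm (Xs f N) h := rfl

lemma wK_tau {i k : α} (h : i ≤ k) :
    wK (Bi f N i) F ≫ res (fm (Xs f N) h) ((SS f N F).r h)
      (V := EtCoh.top ((Xs f N).obj (op i))) (V' := EtCoh.top ((Xs f N).obj (op k)))
      (fm (Xs f N) h) (top_w _) = F.obj.map (gik f N h).op ≫ wK (Bi f N k) F := by
  have hc := cocycle_unit_rr F (jj f N i) (fm (Xs f N) h) (jj f N k) (jj_fm f N h)
  unfold wK
  refine (res_res hc _ _ _ _).trans ?_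
  refine Eq.trans ?_ (map_res _ _ (gik f N h) _ _).symm
  exact res_congr _ _ ((Category.comp_id _).trans (Category.id_comp _).symm) _

lemma key_tau {i k : α} (h : i ≤ k) (t : F.obj.obj (op (Bi f N i))) :
    Sheaf.H.equiv₀ ((EtCoh.pull (jj f N k)).obj F) (EtCore.topIsTerminal _)
      (τ (SS f N F) h 0
        ((Sheaf.H.equiv₀ ((EtCoh.pull (jj f N i)).obj F) (EtCore.topIsTerminal _)).symm
          (wK (Bi f N i) F t))) = wK (Bi f N k) F (F.obj.map (gik f N h).op t) := by
  refine (equiv₀_Tm' (fm (Xs f N) h) ((SS f N F).r h) _).trans ?_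
  rw [AddEquiv.apply_symm_apply]
  exact ConcreteCategory.congr_hom (wK_tau f N F h) t

end Key

end Groth.Agent.Helper6.StkHE
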