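import Mathlib
import Groth.Agent.Helper6.StkHE

/-!
# The stalk of a higher direct image at a geometric point is the cohomology of the fibre
over the strict henselization (as functors of the sheaf)
-/

set_option autoImplicit false
set_option linter.style.haveILetI false
set_option linter.unusedSectionVars false
set_option linter.unusedVariables false
set_option linter.unusedSimpArgs false
set_option linter.dupNamespace false
set_option linter.overlappingInstances false
universe u
open CategoryTheory CategoryTheory.Limits AlgebraicGeometry Opposite IsLocalRing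
open Groth.Agent.Helper1.DeltaFun
open Groth.Agent.Helper6.StkHB Groth.Agent.Helper6.StkHC Groth.Agent.Helper6.StkHD
  Groth.Agent.Helper6.StkHE
open Groth.Agent.Helper6.LimCohA Groth.Agent.Helper6.LimCohB Groth.Agent.Helper6.LimCohL
  Groth.Agent.Helper6.LimCohP

noncomputable section
namespace Groth.Agent.Helper6.StkHF

section Bij

variable {X S : Scheme.{u}} (f : X ⟶ S)
  {s : S} {R : Type u} [CommRing R] [IsLocalRing R]
  [Algebra (S.presheaf.stalk s) R] [IsLocalHom (algebraMap (S.presheaf.stalk s) R)]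
  [hS : Hensel.IsStrictHenselization (S.presheaf.stalk s) R] [IsSepClosed (ResidueField R)]
  {α : Type u} [PartialOrder α] [IsDirected α (· ≤ ·)] [Nonempty α]
  (N : αᵒᵖ ⥤ E S s R) (F : EtCoh.Ab X)
  [QuasiCompact f] [QuasiSeparated f]
  (hAff : ∀ a, IsAffine (N.obj a).1.left) (hlim : IsLimit (coneS N))

attribute [local instance] Groth.Agent.Helper9.EtStalkExact.preservesFilteredColimits_forget_ab
  Groth.Agent.Helper9.EtStalkExact.ab5_ab

include hAff hlim in
theorem thetaApp_surjective : Function.Surjective (thetaApp f F (s := s) (R := R)) := by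
  intro t
  obtain ⟨h1, -⟩ := rr_limit (Xs f N) (coneX f N) (jj f N) (fun h => jj_fm f N h) (gm f s R)
    (pm_jj f N) F (fun a b h => isAffineHom_Xs_map f N hAff h)
    (fun i => compactSpace_Xs f N hAff (op i)) (fun i => quasiSeparatedSpace_Xs f N hAff (op i))
    (coneX_isLimit f N hlim) 0
  obtain ⟨i, ξi, hi⟩ := h1 ((Sheaf.H.equiv₀ ((EtCoh.pull (gm f s R)).obj F)
    (EtCore.topIsTerminal _)).symm t)
  let e_i := Sheaf.H.equiv₀ ((EtCoh.pull (jj f N i)).obj F) (EtCore.topIsTerminal _)
  let t' : F.obj.obj (op (Bi f N i)) := inv (wK (Bi f N i) F) (e_i ξi)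
  have ht' : wK (Bi f N i) F t' = e_i ξi :=
    ConcreteCategory.congr_hom (IsIso.inv_hom_id (wK (Bi f N i) F)) (e_i ξi)
  have hk := key_theta f N F i t'
  rw [ht', AddEquiv.symm_apply_apply, hi, AddEquiv.apply_symm_apply] at hk
  refine ⟨(Scheme.pointSmallEtale (Hens2.geomPt S s R)).toPresheafFiber (N.obj (op i)).1
    (N.obj (op i)).2 ((EtCoh.push f).obj F).obj t', ?_⟩
  have := ConcreteCategory.congr_hom (toFiber_thetaApp f F (N.obj (op i))) t'
  exact this.trans hk.symm

include hAff hlim in
theorem thetaApp_injective (hN : N.Initial) :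
    Function.Injective (thetaApp f F (s := s) (R := R)) := by
  rw [injective_iff_map_eq_zero]
  intro z hz
  obtain ⟨U, u, s₀, rfl⟩ :=
    (Scheme.pointSmallEtale (Hens2.geomPt S s R)).toPresheafFiber_jointly_surjective z
  obtain ⟨a, ⟨g⟩⟩ := ((Functor.initial_iff_of_isCofiltered N).1 hN).1 ⟨U, u⟩
  obtain ⟨i⟩ := a
  let Φ := Scheme.pointSmallEtale (Hens2.geomPt S s R)
  let P := ((EtCoh.push f).obj F).obj
  let s₁ : F.obj.obj (op (Bi f N i)) := P.map g.1.op s₀
  have hz1 : Φ.toPresheafFiber U u P s₀ =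
      Φ.toPresheafFiber (N.obj (op i)).1 (N.obj (op i)).2 P s₁ := by
    have h := Φ.toPresheafFiber_w_apply g.1 (N.obj (op i)).2 P s₀
    rw [g.2] at h
    exact h.symm
  have hphi : phi f F (N.obj (op i)) s₁ = 0 := by
    have := ConcreteCategory.congr_hom (toFiber_thetaApp f F (N.obj (op i))) s₁
    refine this.symm.trans ?_
    exact (congrArg (thetaApp f F (s := s) (R := R)) hz1).symm.trans hz
  obtain ⟨-, h2⟩ := rr_limit (Xs f N) (coneX f N) (jj f N) (fun h => jj_fm f N h) (gm f s R)
    (pm_jj f N) F (fun a b h => isAffineHom_Xs_map f N hAff h)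
    (fun i => compactSpace_Xs f N hAff (op i)) (fun i => quasiSeparatedSpace_Xs f N hAff (op i))
    (coneX_isLimit f N hlim) 0
  let e_i := Sheaf.H.equiv₀ ((EtCoh.pull (jj f N i)).obj F) (EtCore.topIsTerminal _)
  have hth : θ (SS f N F) (CC f N F) i 0 (e_i.symm (wK (Bi f N i) F s₁)) = 0 := by
    have hk := key_theta f N F i s₁
    rw [hphi] at hk
    exact (AddEquiv.map_eq_zero_iff _).1 hk
  obtain ⟨k, hik, hτ⟩ := h2 i _ hth
  have hw : wK (Bi f N k) F (F.obj.map (gik f N hik).op s₁) = 0 := by
    have hk := key_tau f N F hik s₁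
    rw [← hk]
    exact (AddEquiv.map_eq_zero_iff _).2 hτ
  have hs2 : F.obj.map (gik f N hik).op s₁ = 0 := by
    have h := congrArg (inv (wK (Bi f N k) F)) hw
    rw [map_zero] at h
    rw [← h]
    exact (ConcreteCategory.congr_hom (IsIso.hom_inv_id (wK (Bi f N k) F)) _).symm
  have hz2 : Φ.toPresheafFiber (N.obj (op i)).1 (N.obj (op i)).2 P s₁ =
      Φ.toPresheafFiber (N.obj (op k)).1 (N.obj (op k)).2 P
        (F.obj.map (gik f N hik).op s₁) := by
    have h := Φ.toPresheafFiber_w_apply (N.map (homOfLE hik).op).1 (N.obj (op k)).2 P s₁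
    rw [(N.map (homOfLE hik).op).2] at h
    exact h.symm
  refine hz1.trans (hz2.trans ?_)
  exact (congrArg (Φ.toPresheafFiber (N.obj (op k)).1 (N.obj (op k)).2 P) hs2).trans (map_zero _)

include hAff hlim in
theorem isIso_thetaApp (hN : N.Initial) : IsIso (thetaApp f F (s := s) (R := R)) :=
  (ConcreteCategory.isIso_iff_bijective _).2
    ⟨thetaApp_injective f N F hAff hlim hN, thetaApp_surjective f N F hAff hlim⟩

end Bij

section Main

variable {X S : Scheme.{u}} (f : X ⟶ S) [QuasiCompact f] [QuasiSeparated f]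
  (s : S) (R : Type u) [CommRing R] [IsLocalRing R]
  [Algebra (S.presheaf.stalk s) R] [IsLocalHom (algebraMap (S.presheaf.stalk s) R)]
  [hS : Hensel.IsStrictHenselization (S.presheaf.stalk s) R] [IsSepClosed (ResidueField R)]

/-- degree zero cohomology is the global sections functor -/
def h0Iso (Y : Scheme.{u}) : EtCoh.HF Y 0 ≅ EtCore.gsec Y :=
  NatIso.ofComponents (fun M => (Sheaf.H.equiv₀ M (EtCore.topIsTerminal Y)).toAddCommGrpIso)
    (fun {M M'} φ => by
      ext x
      exact (Sheaf.H.equiv₀_naturality (EtCore.topIsTerminal Y) φ x).symm)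

theorem isIso_theta : IsIso (theta f s R) := by
  obtain ⟨α, _, _, _, N, hN, hAff, ⟨hlim⟩⟩ := exists_system S s R
  haveI : ∀ F, IsIso ((theta f s R).app F) := fun F => isIso_thetaApp f N F hAff hlim hN
  exact NatIso.isIso_of_isIso_app _

attribute [local instance] Groth.Agent.Helper9.EtStalkExact.preservesFilteredColimits_forget_ab
  Groth.Agent.Helper9.EtStalkExact.ab5_ab

/-- the stalks of the higher direct images, as a δ-functor -/
def T₁ : DeltaFunctor (EtCoh.Ab X) AddCommGrpCat.{u + 1} :=
  (rightDerivedDelta (EtCoh.push f)).postcomp (EtCoh.stalk (Hens2.geomPt S s R))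

/-- the cohomology of the inverse image on `X ×_S Spec R`, as a δ-functor -/
def T₂ : DeltaFunctor (EtCoh.Ab X) AddCommGrpCat.{u + 1} :=
  (hDelta (Xb f (s := s) (R := R))).precomp (EtCoh.pull (gm f s R))
    (fun _ hS => hS.map_of_exact _)

theorem T₁_effaceable : (T₁ f s R).Effaceable := by
  intro I _ n
  show IsZero ((EtCoh.stalk (Hens2.geomPt S s R)).obj
    (((rightDerivedDelta (EtCoh.push f)).T (n + 1)).obj I))
  exact Functor.map_isZero (EtCoh.stalk (Hens2.geomPt S s R))
    (rightDerivedDelta_effaceable (EtCoh.push f) I n)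

theorem T₂_effaceable : (T₂ f s R).Effaceable := by
  intro I _ n
  obtain ⟨α, _, _, _, N, hN, hAff, ⟨hlim⟩⟩ := exists_system S s R
  haveI := subsingleton_H_pull_injective f N hAff hlim I n
  show IsZero (AddCommGrpCat.of
    (EtCoh.H (Xb f (s := s) (R := R)) ((EtCoh.pull (gm f s R)).obj I) (n + 1)))
  exact AddCommGrpCat.isZero_of_subsingleton _

theorem main (n : ℕ) :
    Nonempty (EtCoh.Rpush f n ⋙ EtCoh.stalk (Hens2.geomPt S s R) ≅
      EtCoh.pull (gm f s R) ⋙ EtCoh.HF (Xb f (s := s) (R := R)) n) := by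
  haveI := isIso_theta f s R
  let e0 : (T₁ f s R).T 0 ≅ (T₂ f s R).T 0 :=
    Functor.isoWhiskerRight (EtCoh.push f).rightDerivedZeroIsoSelf
        (EtCoh.stalk (Hens2.geomPt S s R)) ≪≫
      asIso (theta f s R) ≪≫
      (Functor.isoWhiskerLeft (EtCoh.pull (gm f s R)) (h0Iso (Xb f (s := s) (R := R)))).symm
  exact nonempty_iso_of_effaceable (T₁ f s R) (T₂ f s R) (T₁_effaceable f s R)
    (T₂_effaceable f s R) e0 n

end Main

end Groth.Agent.Helper6.StkHF
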