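import Mathlib
import Groth.Prelude.Def_FibCat2
import Groth.Prelude.Def_AlgSt
import Groth.Agent.Helper3.FibGrpd
import Groth.Agent.Helper6.StkGlue
import Groth.Agent.Helper6.StkLocal
import Groth.Agent.Helper6.StkPull

/-!
# Helper6: refining a sieve: if `S ≤ R`, restriction `sieveCat R ⟶ sieveCat S` is fully faithful on
functors to a category fibred in groupoids provided the pulled back sieves `f^* S` (`f ∈ R`) are
prestack-sieves.
-/

set_option autoImplicit false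
set_option linter.style.haveILetI false
set_option linter.unusedVariables false
universe v u

namespace Groth.Agent.Helper6.StkRefine
open CategoryTheory Functor FibCat
open Groth.Agent.Helper3 Groth.Agent.Helper6

section Plain
variable {D : Type*} [Category D]

theorem diamond {s' X₀ X Xc Y₀ Y Yc T' : D} (ν : s' ⟶ Xc) (A₀ : Xc ⟶ X₀) (A₁ : Xc ⟶ X)
    (B₀ : Yc ⟶ Y₀) (B₁ : Yc ⟶ Y) (γc : Xc ⟶ Yc) (γ₀ : X₀ ⟶ Y₀) (γ₁ : X ⟶ Y) (K₀ : Y₀ ⟶ T')
    (K : Y ⟶ T') (n₀ : A₀ ≫ γ₀ = γc ≫ B₀) (n₁ : A₁ ≫ γ₁ = γc ≫ B₁) (e : B₀ ≫ K₀ = B₁ ≫ K) :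
    (ν ≫ A₀) ≫ γ₀ ≫ K₀ = (ν ≫ A₁) ≫ γ₁ ≫ K := by
  simp only [Category.assoc]
  rw [← Category.assoc A₀, n₀, ← Category.assoc A₁, n₁, Category.assoc, Category.assoc, e]

theorem natsq {s X₀ Xa Xa' Y₀ Ya Ya' : D} (μ₀ : s ⟶ X₀) (K : X₀ ⟶ Xa) (Φ : Xa ⟶ Xa')
    (αa ξ : Xa ⟶ Ya) (αa' : Xa' ⟶ Ya') (γ₀ : X₀ ⟶ Y₀) (K' : Y₀ ⟶ Ya) (Φ' : Ya ⟶ Ya')
    (hξ : ξ ≫ Φ' = Φ ≫ αa') (h1 : (K ≫ Φ) ≫ αa' = γ₀ ≫ (K' ≫ Φ')) (h2 : K ≫ αa = γ₀ ≫ K') :
    ((μ₀ ≫ K) ≫ ξ) ≫ Φ' = ((μ₀ ≫ K) ≫ αa) ≫ Φ' := by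
  simp only [Category.assoc] at h1 ⊢
  rw [hξ, h1, ← Category.assoc K αa, h2, Category.assoc]

theorem five {s x y z w : D} (μ : s ⟶ x) (Gk : x ⟶ y) (αa βa : y ⟶ z) (αb βb : x ⟶ w)
    (G'k : w ⟶ z) (n1 : Gk ≫ αa = αb ≫ G'k) (n2 : Gk ≫ βa = βb ≫ G'k) (h : αb = βb) :
    (μ ≫ Gk) ≫ αa = (μ ≫ Gk) ≫ βa := by
  rw [Category.assoc, Category.assoc, n1, n2, h]

end Plain

variable {C : Type u} [Category.{v} C]

section Lifts
variable {E : Type*} [Category E] (p : E ⥤ C)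

theorem lift_comp_right {a b c : E} {S T : C} (f : S ⟶ T) (φ : a ⟶ b) (hφ : p.IsHomLift f φ)
    (ψ : b ⟶ c) (hψ : p.IsHomLift (𝟙 T) ψ) : p.IsHomLift f (φ ≫ ψ) := by
  haveI := hφ
  haveI := hψ
  infer_instance

theorem lift_comp_left {a b c : E} {S T : C} (f : S ⟶ T) (ψ : b ⟶ c) (hψ : p.IsHomLift f ψ)
    (φ : a ⟶ b) (hφ : p.IsHomLift (𝟙 S) φ) : p.IsHomLift f (φ ≫ ψ) := by
  haveI := hφ
  haveI := hψ
  infer_instance

theorem lift_comp {a b c : E} {R S T : C} (f : R ⟶ S) (g : S ⟶ T) (φ : a ⟶ b) (ψ : b ⟶ c)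
    (hφ : p.IsHomLift f φ) (hψ : p.IsHomLift g ψ) : p.IsHomLift (f ≫ g) (φ ≫ ψ) := by
  haveI := hφ
  haveI := hψ
  infer_instance

/-- Any morphism followed by a morphism over an identity lies over some morphism into the base
object. -/
theorem exists_lift_comp {s' s t : E} (χ : s' ⟶ s) (μ₀ : s ⟶ t) {W : C}
    (hμ : p.IsHomLift (𝟙 W) μ₀) : ∃ y : p.obj s' ⟶ W, p.IsHomLift y (χ ≫ μ₀) := by
  haveI := hμ
  have pW : p.obj s = W := IsHomLift.domain_eq p (𝟙 W) μ₀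
  subst pW
  exact ⟨p.map χ, inferInstance⟩

end Lifts

variable {𝒳 : BasedCategory.{v, max u v} C}

/-- The inclusion of sieve categories for `S ≤ R`. -/
def jF {U : C} {S R : Sieve U} (h : S ≤ R) : Stk.sieveCat S ⥤ᵇ Stk.sieveCat R where
  toFunctor := ObjectProperty.ιOfLE (fun X hX => h _ hX)
  w := rfl

theorem map_lift {U : C} {R : Sieve U} (G : Stk.sieveCat R ⥤ᵇ 𝒳) {a b : R.arrows.category}
    (k : a ⟶ b) : 𝒳.p.IsHomLift k.hom.left (G.toFunctor.map k) := by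
  have h0 : (Stk.sieveCat R).p.IsHomLift k.hom.left k :=
    Functor.IsHomLift.map (p := (Stk.sieveCat R).p) k
  exact @BasedFunctor.preserves_isHomLift _ _ _ _ G _ _ _ _ k.hom.left k h0

section Main

variable {U : C} {S R : Sieve U} (hSR : S ≤ R)

/-- The object of `sieveCat S` attached to a member of the pulled back sieve. -/
def b₀ (a : R.arrows.category) {W : C} (g : W ⟶ a.obj.left) (hg : S (g ≫ a.obj.hom)) :
    S.arrows.category := ⟨Over.mk (g ≫ a.obj.hom), hg⟩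

/-- The canonical morphism `b₀ ⟶ a`. -/
def k₀ (a : R.arrows.category) {W : C} (g : W ⟶ a.obj.left) (hg : S (g ≫ a.obj.hom)) :
    (jF hSR).toFunctor.obj (b₀ a g hg) ⟶ a :=
  ObjectProperty.homMk (Over.homMk g rfl)

theorem restr_jF_faithful (h𝒳 : IsFibGrpd 𝒳.p)
    (hR : ∀ ⦃V : C⦄ (f : V ⟶ U), R f → Stk.IsPrestackFor (S.pullback f) 𝒳) :
    (Stk.restr (jF hSR) 𝒳).Faithful := by
  refine ⟨fun {G G'} α β hαβ => ?_⟩
  have hb : ∀ b : S.arrows.category,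
      α.toNatTrans.app ((jF hSR).toFunctor.obj b) = β.toNatTrans.app ((jF hSR).toFunctor.obj b) :=
    fun b => congrArg (fun t : BasedFunctor.comp (jF hSR) G ⟶ BasedFunctor.comp (jF hSR) G' =>
      t.toNatTrans.app b) hαβ
  apply BasedNatTrans.homCategory.ext
  apply NatTrans.ext
  funext a
  let a' : R.arrows.category := a
  haveI : (Stk.resSieve (S.pullback a'.obj.hom) 𝒳).Faithful := (hR a'.obj.hom a'.property).2
  haveI hγ : 𝒳.p.IsHomLift (𝟙 a'.obj.left) (α.toNatTrans.app a) := α.isHomLift' a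
  haveI hδ : 𝒳.p.IsHomLift (𝟙 a'.obj.left) (β.toNatTrans.app a) := β.isHomLift' a
  refine StkLocal.hom_ext_of_locally h𝒳 (S.pullback a'.obj.hom) (G.w_obj a) _ _ ?_
  intro W g hg s ψ hψ
  obtain ⟨μ, hμ1, hμ2⟩ := StkGlue.exists_factor h𝒳 g (G.toFunctor.map (k₀ hSR a' g hg))
    (map_lift G (k₀ hSR a' g hg)) ψ hψ
  subst hμ2
  exact five μ _ _ _ _ _ _ (α.toNatTrans.naturality (k₀ hSR a' g hg))
    (β.toNatTrans.naturality (k₀ hSR a' g hg)) (hb (b₀ a' g hg))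

theorem restr_jF_full (h𝒳 : IsFibGrpd 𝒳.p)
    (hR : ∀ ⦃V : C⦄ (f : V ⟶ U), R f → Stk.IsPrestackFor (S.pullback f) 𝒳) :
    (Stk.restr (jF hSR) 𝒳).Full := by
  refine ⟨fun {G G'} γ => ?_⟩
  change BasedFunctor.comp (jF hSR) G ⟶ BasedFunctor.comp (jF hSR) G' at γ
  have key : ∀ a : R.arrows.category, ∃ αa : G.toFunctor.obj a ⟶ G'.toFunctor.obj a,
      𝒳.p.IsHomLift (𝟙 a.obj.left) αa ∧
      ∀ (b : S.arrows.category) (k : (jF hSR).toFunctor.obj b ⟶ a),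
        G.toFunctor.map k ≫ αa = γ.toNatTrans.app b ≫ G'.toFunctor.map k := by
    intro a
    haveI : (Stk.resSieve (S.pullback a.obj.hom) 𝒳).Full := (hR a.obj.hom a.property).1
    let P : ∀ s : 𝒳.obj, (s ⟶ G.toFunctor.obj a) → (s ⟶ G'.toFunctor.obj a) → Prop :=
      fun s ψ m => ∀ (s' : 𝒳.obj) (χ : s' ⟶ s) (b : S.arrows.category)
        (k : (jF hSR).toFunctor.obj b ⟶ a) (W₁ : C) (h : W₁ ⟶ b.obj.left)
        (μ : s' ⟶ G.toFunctor.obj ((jF hSR).toFunctor.obj b)),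
        𝒳.p.IsHomLift h μ → μ ≫ G.toFunctor.map k = χ ≫ ψ →
        χ ≫ m = μ ≫ γ.toNatTrans.app b ≫ G'.toFunctor.map k
    have hex : ∀ ⦃W : C⦄ (g : W ⟶ a.obj.left), (S.pullback a.obj.hom) g → ∀ (s : 𝒳.obj)
        (ψ : s ⟶ G.toFunctor.obj a), 𝒳.p.IsHomLift g ψ →
        ∃ m : s ⟶ G'.toFunctor.obj a, 𝒳.p.IsHomLift g m ∧ P s ψ m := by
      intro W g hg s ψ hψ
      obtain ⟨μ₀, hμ1, hμ2⟩ := StkGlue.exists_factor h𝒳 g (G.toFunctor.map (k₀ hSR a g hg))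
        (map_lift G (k₀ hSR a g hg)) ψ hψ
      have hγ0 : 𝒳.p.IsHomLift (𝟙 W) (γ.toNatTrans.app (b₀ a g hg)) := γ.isHomLift' (b₀ a g hg)
      refine ⟨μ₀ ≫ γ.toNatTrans.app (b₀ a g hg) ≫ G'.toFunctor.map (k₀ hSR a g hg), ?_, ?_⟩
      · exact lift_comp_left 𝒳.p g _ (lift_comp_left 𝒳.p g _ (map_lift G' (k₀ hSR a g hg)) _ hγ0) _ hμ1
      · intro s' χ b k W₁ h μ hμ hcomm
        have pW₁ : 𝒳.p.obj s' = W₁ := by
          haveI := hμ
          exact IsHomLift.domain_eq 𝒳.p h μ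
        subst pW₁
        obtain ⟨y, hy⟩ := exists_lift_comp 𝒳.p χ μ₀ hμ1
        -- the two composites agree, so the base morphisms agree
        have hyk : y ≫ g = h ≫ k.hom.left := by
          have l1 : 𝒳.p.IsHomLift (y ≫ g) ((χ ≫ μ₀) ≫ G.toFunctor.map (k₀ hSR a g hg)) :=
            lift_comp 𝒳.p y g _ _ hy (map_lift G (k₀ hSR a g hg))
          have l2 : 𝒳.p.IsHomLift (h ≫ k.hom.left) (μ ≫ G.toFunctor.map k) :=
            lift_comp 𝒳.p h k.hom.left _ _ hμ (map_lift G k)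
          have e : (χ ≫ μ₀) ≫ G.toFunctor.map (k₀ hSR a g hg) = μ ≫ G.toFunctor.map k := by
            rw [Category.assoc, hμ2, hcomm]
          rw [e] at l1
          exact StkPull.base_eq 𝒳.p _ _ _ l1 l2
        have hcS : S ((y ≫ g) ≫ a.obj.hom) := by
          rw [Category.assoc]
          exact S.downward_closed hg y
        let c : S.arrows.category := ⟨Over.mk ((y ≫ g) ≫ a.obj.hom), hcS⟩
        let c₀ : c ⟶ b₀ a g hg := ObjectProperty.homMk (Over.homMk y (Category.assoc _ _ _).symm)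
        have hw : h ≫ b.obj.hom = (y ≫ g) ≫ a.obj.hom :=
          (congrArg (fun z => h ≫ z) (Over.w k.hom).symm).trans
            ((Category.assoc _ _ _).symm.trans (congrArg (fun z => z ≫ a.obj.hom) hyk.symm))
        let c₁ : c ⟶ b := ObjectProperty.homMk (Over.homMk h hw)
        have hsq : (jF hSR).toFunctor.map c₀ ≫ k₀ hSR a g hg = (jF hSR).toFunctor.map c₁ ≫ k := by
          apply ObjectProperty.hom_ext
          apply Over.OverMorphism.ext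
          exact hyk
        obtain ⟨ν, hν1, hν2⟩ := StkGlue.exists_factor h𝒳 y
          (G.toFunctor.map ((jF hSR).toFunctor.map c₀)) (map_lift G ((jF hSR).toFunctor.map c₀)) (χ ≫ μ₀) hy
        have hν3 : ν ≫ G.toFunctor.map ((jF hSR).toFunctor.map c₁) = μ := by
          refine StkPull.map_ext 𝒳.p h𝒳 k.hom.left h (G.toFunctor.map k) (map_lift G k) _ _
            (lift_comp_left 𝒳.p h _ (map_lift G ((jF hSR).toFunctor.map c₁)) _ hν1) hμ ?_
          exact ((Category.assoc _ _ _).trans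
            (congrArg (fun z => ν ≫ z) (G.toFunctor.map_comp _ _).symm)).trans
            ((congrArg (fun z => ν ≫ G.toFunctor.map z) hsq.symm).trans
            (((congrArg (fun z => ν ≫ z) (G.toFunctor.map_comp _ _)).trans
              (Category.assoc _ _ _).symm).trans
            ((congrArg (fun z => z ≫ G.toFunctor.map (k₀ hSR a g hg)) hν2).trans
            ((Category.assoc _ _ _).trans ((congrArg (fun z => χ ≫ z) hμ2).trans hcomm.symm)))))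
        subst hν3
        have e' : G'.toFunctor.map ((jF hSR).toFunctor.map c₀) ≫ G'.toFunctor.map (k₀ hSR a g hg) =
            G'.toFunctor.map ((jF hSR).toFunctor.map c₁) ≫ G'.toFunctor.map k :=
          (G'.toFunctor.map_comp _ _).symm.trans
            ((congrArg G'.toFunctor.map hsq).trans (G'.toFunctor.map_comp _ _))
        have d := diamond ν (G.toFunctor.map ((jF hSR).toFunctor.map c₀))
          (G.toFunctor.map ((jF hSR).toFunctor.map c₁))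
          (G'.toFunctor.map ((jF hSR).toFunctor.map c₀))
          (G'.toFunctor.map ((jF hSR).toFunctor.map c₁)) (γ.toNatTrans.app c)
          (γ.toNatTrans.app (b₀ a g hg)) (γ.toNatTrans.app b) (G'.toFunctor.map (k₀ hSR a g hg))
          (G'.toFunctor.map k) (γ.toNatTrans.naturality c₀) (γ.toNatTrans.naturality c₁) e'
        refine Eq.trans ?_ d
        exact (Category.assoc _ _ _).symm.trans (congrArg (fun z => z ≫ _) hν2.symm)
    have huniq : ∀ ⦃W : C⦄ (g : W ⟶ a.obj.left), (S.pullback a.obj.hom) g → ∀ (s : 𝒳.obj)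
        (ψ : s ⟶ G.toFunctor.obj a) (m m' : s ⟶ G'.toFunctor.obj a),
        𝒳.p.IsHomLift g ψ → 𝒳.p.IsHomLift g m → 𝒳.p.IsHomLift g m' → P s ψ m → P s ψ m' →
        m = m' := by
      intro W g hg s ψ m m' hψ hm hm' hP hP'
      obtain ⟨μ₀, hμ1, hμ2⟩ := StkGlue.exists_factor h𝒳 g (G.toFunctor.map (k₀ hSR a g hg))
        (map_lift G (k₀ hSR a g hg)) ψ hψ
      have e1 := hP s (𝟙 s) (b₀ a g hg) (k₀ hSR a g hg) W (𝟙 W) μ₀ hμ1
        (hμ2.trans (Category.id_comp ψ).symm)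
      have e2 := hP' s (𝟙 s) (b₀ a g hg) (k₀ hSR a g hg) W (𝟙 W) μ₀ hμ1
        (hμ2.trans (Category.id_comp ψ).symm)
      exact (Category.id_comp m).symm.trans (e1.trans (e2.symm.trans (Category.id_comp m')))
    have hstab : ∀ (s s₁ : 𝒳.obj) (χ₁ : s₁ ⟶ s) (ψ : s ⟶ G.toFunctor.obj a)
        (m : s ⟶ G'.toFunctor.obj a), P s ψ m → P s₁ (χ₁ ≫ ψ) (χ₁ ≫ m) := by
      intro s s₁ χ₁ ψ m hP s' χ b k W₁ h μ hμ hcomm
      have := hP s' (χ ≫ χ₁) b k W₁ h μ hμ (hcomm.trans (Category.assoc _ _ _).symm)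
      exact (Category.assoc _ _ _).symm.trans this
    obtain ⟨αa, hαa1, hαa2⟩ := StkGlue.exists_hom_of_locally h𝒳 (S.pullback a.obj.hom)
      (G.w_obj a) (G'.w_obj a) P hex huniq hstab
    refine ⟨αa, hαa1, fun b k => ?_⟩
    have hk : (S.pullback a.obj.hom) k.hom.left := by
      change S (k.hom.left ≫ a.obj.hom)
      have := Over.w k.hom
      rw [this]
      exact b.property
    have := hαa2 k.hom.left hk (G.toFunctor.obj ((jF hSR).toFunctor.obj b)) (G.toFunctor.map k)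
      (map_lift G k) _ (𝟙 _) b k b.obj.left (𝟙 _) (𝟙 _)
      (IsHomLift.id (G.w_obj ((jF hSR).toFunctor.obj b))) rfl
    exact (Category.id_comp _).symm.trans (this.trans (Category.id_comp _))
  choose α hα1 hα2 using key
  have hnat : ∀ {a a' : R.arrows.category} (φ : a ⟶ a'),
      G.toFunctor.map φ ≫ α a' = α a ≫ G'.toFunctor.map φ := by
    intro a a' φ
    obtain ⟨ξ, hξ1, hξ2⟩ := StkGlue.exists_factor h𝒳 φ.hom.left (G'.toFunctor.map φ)
      (map_lift G' φ) (G.toFunctor.map φ ≫ α a')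
      (lift_comp_right 𝒳.p φ.hom.left _ (map_lift G φ) _ (hα1 a'))
    haveI : (Stk.resSieve (S.pullback a.obj.hom) 𝒳).Faithful := (hR a.obj.hom a.property).2
    haveI := hξ1
    haveI := hα1 a
    have hξα : ξ = α a := by
      refine StkLocal.hom_ext_of_locally h𝒳 (S.pullback a.obj.hom) (G.w_obj a) _ _ ?_
      intro W g hg s ψ hψ
      obtain ⟨μ₀, hμ1, hμ2⟩ := StkGlue.exists_factor h𝒳 g (G.toFunctor.map (k₀ hSR a g hg))
        (map_lift G (k₀ hSR a g hg)) ψ hψ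
      refine StkPull.map_ext 𝒳.p h𝒳 φ.hom.left g (G'.toFunctor.map φ) (map_lift G' φ) _ _
        (lift_comp_right 𝒳.p g _ hψ _ hξ1) (lift_comp_right 𝒳.p g _ hψ _ (hα1 a)) ?_
      subst hμ2
      refine natsq μ₀ _ _ _ _ _ (γ.toNatTrans.app (b₀ a g hg)) (G'.toFunctor.map (k₀ hSR a g hg))
        _ hξ2 ?_ (hα2 a (b₀ a g hg) (k₀ hSR a g hg))
      have := hα2 a' (b₀ a g hg) (k₀ hSR a g hg ≫ φ)
      exact (congrArg (fun z => z ≫ α a') (G.toFunctor.map_comp _ _).symm).trans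
        (this.trans (congrArg (fun z => γ.toNatTrans.app (b₀ a g hg) ≫ z)
          (G'.toFunctor.map_comp _ _)))
    rw [← hξ2, hξα]
  let αN : G ⟶ G' :=
    { app := α
      naturality := fun _ _ φ => hnat φ
      isHomLift' := hα1 }
  refine ⟨αN, ?_⟩
  apply BasedNatTrans.homCategory.ext
  apply NatTrans.ext
  funext b
  change α ((jF hSR).toFunctor.obj b) = γ.toNatTrans.app b
  have h := hα2 ((jF hSR).toFunctor.obj b) b (𝟙 _)
  have e1 : G.toFunctor.map (𝟙 ((jF hSR).toFunctor.obj b)) ≫ α ((jF hSR).toFunctor.obj b) =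
      α ((jF hSR).toFunctor.obj b) :=
    (congrArg (fun z => z ≫ α ((jF hSR).toFunctor.obj b)) (G.toFunctor.map_id _)).trans
      (Category.id_comp _)
  have e2 : γ.toNatTrans.app b ≫ G'.toFunctor.map (𝟙 ((jF hSR).toFunctor.obj b)) =
      γ.toNatTrans.app b :=
    (congrArg (fun z => γ.toNatTrans.app b ≫ z) (G'.toFunctor.map_id _)).trans
      (Category.comp_id _)
  exact e1.symm.trans (h.trans e2)

end Main

theorem isStackFor_of_le {U : C} {S R : Sieve U} (hSR : S ≤ R) (h𝒳 : IsFibGrpd 𝒳.p)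
    (hS : Stk.IsStackFor S 𝒳)
    (hR : ∀ ⦃V : C⦄ (f : V ⟶ U), R f → Stk.IsPrestackFor (S.pullback f) 𝒳) :
    Stk.IsStackFor R 𝒳 := by
  haveI hfaith := restr_jF_faithful hSR h𝒳 hR
  haveI hfull := restr_jF_full hSR h𝒳 hR
  have e : Stk.resSieve R 𝒳 ⋙ Stk.restr (jF hSR) 𝒳 = Stk.resSieve S 𝒳 := rfl
  haveI hcomp : (Stk.resSieve R 𝒳 ⋙ Stk.restr (jF hSR) 𝒳).IsEquivalence := by
    rw [e]
    exact hS
  haveI hess : (Stk.restr (jF hSR) 𝒳).EssSurj :=
    ⟨fun Z => ⟨(Stk.resSieve R 𝒳).obj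
      ((Stk.resSieve R 𝒳 ⋙ Stk.restr (jF hSR) 𝒳).objPreimage Z),
      ⟨(Stk.resSieve R 𝒳 ⋙ Stk.restr (jF hSR) 𝒳).objObjPreimageIso Z⟩⟩⟩
  haveI : (Stk.restr (jF hSR) 𝒳).IsEquivalence := { }
  show (Stk.resSieve R 𝒳).IsEquivalence
  exact Functor.isEquivalence_of_comp_right (Stk.resSieve R 𝒳) (Stk.restr (jF hSR) 𝒳)

end Groth.Agent.Helper6.StkRefine
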