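import Mathlib
import Groth.Prelude.Def_FibCat2
import Groth.Prelude.Def_AlgSt
import Groth.Agent.Helper3.FibGrpd
import Groth.Agent.Helper6.StkPull
import Groth.Agent.Helper6.StkRel
import Groth.Agent.Helper6.StkRefine

/-!
# Helper6: restriction of functors into a category fibred in groupoids along a functor `ι : 𝒜 ⟶ ℬ`
over the base whose comma categories `b ↓ ι` are connected and "simply connected for the fibres".
-/

set_option autoImplicit false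
set_option linter.style.haveILetI false
set_option linter.unusedVariables false
universe v₆ u₆ v₅ u₅ v₃ u₃ v u

namespace Groth.Agent.Helper6.StkKan
open CategoryTheory Functor FibCat
open Groth.Agent.Helper3 Groth.Agent.Helper6 Groth.Agent.Helper6.StkRefine

variable {D : Type u} [Category.{v} D]

section Plain
variable {E : Type*} [Category E]

theorem sq_fwd {X Y Z X' Y' Z' : E} (αb : X ⟶ X') (Tk : X ⟶ Y) (Tm : Y ⟶ Z) (T'k : X' ⟶ Y')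
    (T'm : Y' ⟶ Z') (γa : Y ⟶ Y') (γa' : Z ⟶ Z') (nat : Tm ≫ γa' = γa ≫ T'm)
    (h : αb ≫ T'k = Tk ≫ γa) : αb ≫ (T'k ≫ T'm) = (Tk ≫ Tm) ≫ γa' := by
  rw [← Category.assoc, h, Category.assoc, Category.assoc, nat]

theorem sq_bwd {X Y Z X' Y' Z' : E} (αb : X ⟶ X') (Tk : X ⟶ Y) (Tm : Y ⟶ Z) (T'k : X' ⟶ Y')
    (T'm : Y' ⟶ Z') (γa : Y ⟶ Y') (γa' : Z ⟶ Z') (nat : Tm ≫ γa' = γa ≫ T'm)
    (h : αb ≫ (T'k ≫ T'm) = (Tk ≫ Tm) ≫ γa') : (αb ≫ T'k) ≫ T'm = (Tk ≫ γa) ≫ T'm := by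
  rw [Category.assoc, h, Category.assoc, Category.assoc, nat]

end Plain

theorem lift_id_congr {E : Type*} [Category E] (p : E ⥤ D) {S S' : D} (h : S = S') {x y : E}
    (e : x ⟶ y) (he : p.IsHomLift (𝟙 S) e) : p.IsHomLift (𝟙 S') e := by
  subst h
  exact he

variable {𝒜 : BasedCategory.{v₅, u₅} D} {ℬ : BasedCategory.{v₆, u₆} D}
  {𝒮 : BasedCategory.{v₃, u₃} D}

theorem lift_T (T : ℬ ⥤ᵇ 𝒮) {b b' : ℬ.obj} (l : b ⟶ b') :
    𝒮.p.IsHomLift (ℬ.p.map l) (T.map l) := inferInstance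

theorem lift_σ (ι : 𝒜 ⥤ᵇ ℬ) (σ : 𝒜 ⥤ᵇ 𝒮) {a a' : 𝒜.obj} (m : a ⟶ a') :
    𝒮.p.IsHomLift (ℬ.p.map (ι.map m)) (σ.map m) := by
  haveI h1 : 𝒜.p.IsHomLift (ℬ.p.map (ι.map m)) m :=
    BasedFunctor.isHomLift_map ι (ℬ.p.map (ι.map m)) m
  infer_instance

theorem conn_induct (ι : 𝒜 ⥤ᵇ ℬ) (b : ℬ.obj)
    (hc : IsPreconnected (StructuredArrow b ι.toFunctor))
    (P : ∀ a : 𝒜.obj, (b ⟶ ι.obj a) → Prop)
    (hP : ∀ (a a' : 𝒜.obj) (k : b ⟶ ι.obj a) (m : a ⟶ a'), P a k ↔ P a' (k ≫ ι.map m))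
    {a₀ : 𝒜.obj} (k₀ : b ⟶ ι.obj a₀) (h0 : P a₀ k₀) : ∀ (a : 𝒜.obj) (k : b ⟶ ι.obj a), P a k := by
  intro a k
  haveI := hc
  have := induct_on_objects (J := StructuredArrow b ι.toFunctor) {x | P x.right x.hom}
    (j₀ := StructuredArrow.mk k₀) h0 ?_ (StructuredArrow.mk k)
  · exact this
  · intro j₁ j₂ m
    have w := StructuredArrow.w m
    change P j₁.right j₁.hom ↔ P j₂.right j₂.hom
    rw [← w]
    exact hP _ _ _ _

theorem restr_faithful (h𝒮 : IsFibGrpd 𝒮.p) (ι : 𝒜 ⥤ᵇ ℬ)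
    (Hne : ∀ b : ℬ.obj, ∃ a : 𝒜.obj, Nonempty (b ⟶ ι.obj a)) : (Stk.restr ι 𝒮).Faithful := by
  refine ⟨fun {T T'} α β hαβ => ?_⟩
  have ha : ∀ a : 𝒜.obj, α.toNatTrans.app (ι.obj a) = β.toNatTrans.app (ι.obj a) := fun a =>
    congrArg (fun t : BasedFunctor.comp ι T ⟶ BasedFunctor.comp ι T' => t.toNatTrans.app a) hαβ
  apply BasedNatTrans.homCategory.ext
  apply NatTrans.ext
  funext b
  obtain ⟨a, ⟨k⟩⟩ := Hne b
  refine StkPull.map_ext 𝒮.p h𝒮 (ℬ.p.map k) (𝟙 _) (T'.map k) (lift_T T' k) _ _ (α.isHomLift' b)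
    (β.isHomLift' b) ?_
  calc α.toNatTrans.app b ≫ T'.map k = T.map k ≫ α.toNatTrans.app (ι.obj a) :=
        (α.toNatTrans.naturality k).symm
    _ = T.map k ≫ β.toNatTrans.app (ι.obj a) := by rw [ha a]
    _ = β.toNatTrans.app b ≫ T'.map k := β.toNatTrans.naturality k

theorem restr_full (h𝒮 : IsFibGrpd 𝒮.p) (ι : 𝒜 ⥤ᵇ ℬ)
    (Hc : ∀ b : ℬ.obj, IsConnected (StructuredArrow b ι.toFunctor)) : (Stk.restr ι 𝒮).Full := by
  refine ⟨fun {T T'} γ => ?_⟩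
  change BasedFunctor.comp ι T ⟶ BasedFunctor.comp ι T' at γ
  obtain ⟨g, hγ, gnat, hg⟩ : ∃ g : ∀ a : 𝒜.obj, T.obj (ι.obj a) ⟶ T'.obj (ι.obj a),
      (∀ a : 𝒜.obj, 𝒮.p.IsHomLift (𝟙 (ℬ.p.obj (ι.obj a))) (g a)) ∧
      (∀ (a a' : 𝒜.obj) (m : a ⟶ a'), T.map (ι.map m) ≫ g a' = g a ≫ T'.map (ι.map m)) ∧
      (∀ a : 𝒜.obj, g a = γ.toNatTrans.app a) :=
    ⟨fun a => γ.toNatTrans.app a,
      fun a => lift_id_congr 𝒮.p (ι.w_obj a).symm _ (γ.isHomLift' a),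
      fun a a' m => γ.toNatTrans.naturality m, fun _ => rfl⟩
  have hcand : ∀ (b : ℬ.obj) (a : 𝒜.obj) (k : b ⟶ ι.obj a), ∃ αb : T.obj b ⟶ T'.obj b,
      𝒮.p.IsHomLift (𝟙 (ℬ.p.obj b)) αb ∧ αb ≫ T'.map k = T.map k ≫ g a := by
    intro b a k
    exact StkPull.exists_map 𝒮.p h𝒮 (ℬ.p.map k) (𝟙 _) (ℬ.p.map k) (Category.id_comp _).symm
      (T'.map k) (lift_T T' k) (T.map k ≫ g a)
      (lift_comp_right 𝒮.p (ℬ.p.map k) _ (lift_T T k) _ (hγ a))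
  choose cand hcand1 hcand2 using hcand
  have hall : ∀ (b : ℬ.obj) (a₀ : 𝒜.obj) (k₀ : b ⟶ ι.obj a₀) (a : 𝒜.obj) (k : b ⟶ ι.obj a),
      cand b a₀ k₀ ≫ T'.map k = T.map k ≫ g a := by
    intro b a₀ k₀
    refine conn_induct ι b (Hc b).toIsPreconnected
      (fun a k => cand b a₀ k₀ ≫ T'.map k = T.map k ≫ g a) ?_ k₀ (hcand2 b a₀ k₀)
    intro a a' k m
    have nat := gnat a a' m
    constructor
    · intro h
      have := sq_fwd (cand b a₀ k₀) (T.map k) (T.map (ι.map m)) (T'.map k) (T'.map (ι.map m))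
        (g a) (g a') nat h
      rw [T.toFunctor.map_comp, T'.toFunctor.map_comp]
      exact this
    · intro h
      rw [T.toFunctor.map_comp, T'.toFunctor.map_comp] at h
      have := sq_bwd (cand b a₀ k₀) (T.map k) (T.map (ι.map m)) (T'.map k) (T'.map (ι.map m))
        (g a) (g a') nat h
      exact StkPull.map_ext 𝒮.p h𝒮 (ℬ.p.map (ι.map m)) (ℬ.p.map k) (T'.map (ι.map m))
        (lift_T T' _) _ _ (lift_comp_left 𝒮.p (ℬ.p.map k) _ (lift_T T' k) _ (hcand1 b a₀ k₀))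
        (lift_comp_right 𝒮.p (ℬ.p.map k) _ (lift_T T k) _ (hγ a)) this
  have hne : ∀ b : ℬ.obj, ∃ a : 𝒜.obj, Nonempty (b ⟶ ι.obj a) := fun b => by
    obtain ⟨x⟩ := (Hc b).is_nonempty
    exact ⟨x.right, ⟨x.hom⟩⟩
  choose a₀ hk₀ using hne
  let k₀ : ∀ b, b ⟶ ι.obj (a₀ b) := fun b => (hk₀ b).some
  let αN : T ⟶ T' :=
    { app := fun b => cand b (a₀ b) (k₀ b)
      naturality := by
        intro b' b l
        refine StkPull.map_ext 𝒮.p h𝒮 (ℬ.p.map (k₀ b)) (ℬ.p.map l) (T'.map (k₀ b)) (lift_T T' _)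
          _ _ (lift_comp_right 𝒮.p (ℬ.p.map l) _ (lift_T T l) _ (hcand1 b _ _))
          (lift_comp_left 𝒮.p (ℬ.p.map l) _ (lift_T T' l) _ (hcand1 b' _ _)) ?_
        have e1 := hall b (a₀ b) (k₀ b) (a₀ b) (k₀ b)
        have e2 := hall b' (a₀ b') (k₀ b') (a₀ b) (l ≫ k₀ b)
        rw [T.toFunctor.map_comp, T'.toFunctor.map_comp] at e2
        rw [Category.assoc, e1, Category.assoc, e2, Category.assoc]
      isHomLift' := fun b => hcand1 b _ _ }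
  refine ⟨αN, ?_⟩
  apply BasedNatTrans.homCategory.ext
  apply NatTrans.ext
  funext a
  change cand (ι.obj a) (a₀ (ι.obj a)) (k₀ (ι.obj a)) = γ.toNatTrans.app a
  have := hall (ι.obj a) (a₀ (ι.obj a)) (k₀ (ι.obj a)) a (𝟙 _)
  rw [T.toFunctor.map_id, T'.toFunctor.map_id, Category.id_comp, Category.comp_id] at this
  exact this.trans (hg a)

theorem exists_family (h𝒮 : IsFibGrpd 𝒮.p) (ι : 𝒜 ⥤ᵇ ℬ) (σ : 𝒜 ⥤ᵇ 𝒮) (b : ℬ.obj)
    (H3 : ∀ (Φ : StructuredArrow b ι.toFunctor ⥤ 𝒮.p.Fiber (ℬ.p.obj b)),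
      ∃ t, Nonempty ((Functor.const _).obj t ⟶ Φ)) :
    ∃ (t : 𝒮.obj) (ht : 𝒮.p.obj t = ℬ.p.obj b)
      (lam : ∀ a : 𝒜.obj, (b ⟶ ι.obj a) → (t ⟶ σ.obj a)),
      (∀ a k, 𝒮.p.IsHomLift (ℬ.p.map k) (lam a k)) ∧
      (∀ (a a' : 𝒜.obj) (k : b ⟶ ι.obj a) (m : a ⟶ a'),
        lam a k ≫ σ.map m = lam a' (k ≫ ι.map m)) := by
  have hL : ∀ x : StructuredArrow b ι.toFunctor, ∃ (L : 𝒮.obj) (ℓ : L ⟶ σ.obj x.right),
      𝒮.p.IsHomLift (ℬ.p.map x.hom) ℓ := fun x =>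
    FibGrpd.exists_lift' h𝒮 ((σ.w_obj x.right).trans (ι.w_obj x.right).symm) (ℬ.p.map x.hom)
  choose L ℓ hℓ using hL
  have hLo : ∀ x, 𝒮.p.obj (L x) = ℬ.p.obj b := fun x => by
    haveI := hℓ x
    exact IsHomLift.domain_eq 𝒮.p (ℬ.p.map x.hom) (ℓ x)
  have hμ : ∀ (x y : StructuredArrow b ι.toFunctor) (m : x ⟶ y), ∃ μ : L x ⟶ L y,
      𝒮.p.IsHomLift (𝟙 (ℬ.p.obj b)) μ ∧ μ ≫ ℓ y = ℓ x ≫ σ.map m.right := by
    intro x y m
    have hcomp : 𝒮.p.IsHomLift (ℬ.p.map y.hom) (ℓ x ≫ σ.map m.right) := by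
      have := lift_comp 𝒮.p _ _ _ _ (hℓ x) (lift_σ ι σ m.right)
      rw [← ℬ.p.map_comp] at this
      have w := StructuredArrow.w m
      rw [← w]
      exact this
    exact StkPull.exists_map 𝒮.p h𝒮 (ℬ.p.map y.hom) (𝟙 _) (ℬ.p.map y.hom)
      (Category.id_comp _).symm (ℓ y) (hℓ y) _ hcomp
  choose μ hμ1 hμ2 using hμ
  have huniq : ∀ (x y : StructuredArrow b ι.toFunctor) (m : x ⟶ y) (ν : L x ⟶ L y),
      𝒮.p.IsHomLift (𝟙 (ℬ.p.obj b)) ν → ν ≫ ℓ y = ℓ x ≫ σ.map m.right → ν = μ x y m :=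
    fun x y m ν h1 h2 => StkPull.map_ext 𝒮.p h𝒮 (ℬ.p.map y.hom) (𝟙 _) (ℓ y) (hℓ y) _ _ h1
      (hμ1 x y m) (h2.trans (hμ2 x y m).symm)
  let Φ : StructuredArrow b ι.toFunctor ⥤ 𝒮.p.Fiber (ℬ.p.obj b) :=
    { obj := fun x => ⟨L x, hLo x⟩
      map := fun {x y} m => ⟨μ x y m, hμ1 x y m⟩
      map_id := fun x => by
        apply Subtype.ext
        symm
        refine huniq x x (𝟙 x) (𝟙 (L x)) (IsHomLift.id (hLo x)) ?_
        have : σ.map (𝟙 x : x ⟶ x).right = 𝟙 _ := σ.toFunctor.map_id _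
        rw [this, Category.id_comp, Category.comp_id]
      map_comp := fun {x y z} m m' => by
        apply Subtype.ext
        symm
        refine huniq x z (m ≫ m') (μ x y m ≫ μ y z m') ?_ ?_
        · exact lift_comp_right 𝒮.p (𝟙 _) _ (hμ1 x y m) _ (hμ1 y z m')
        · have : σ.map (m ≫ m').right = σ.map m.right ≫ σ.map m'.right := σ.toFunctor.map_comp _ _
          rw [this, Category.assoc, hμ2 y z m', ← Category.assoc, hμ2 x y m, Category.assoc] }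
  obtain ⟨t, ⟨θ⟩⟩ := H3 Φ
  refine ⟨t.1, t.2, fun a k => (θ.app (StructuredArrow.mk k)).1 ≫ ℓ (StructuredArrow.mk k), ?_, ?_⟩
  · intro a k
    exact lift_comp_left 𝒮.p (ℬ.p.map k) _ (hℓ (StructuredArrow.mk k)) _
      (θ.app (StructuredArrow.mk k)).2
  · intro a a' k m
    let mm : StructuredArrow.mk k ⟶ StructuredArrow.mk (k ≫ ι.toFunctor.map m) :=
      StructuredArrow.homMk m rfl
    have nat := θ.naturality mm
    have nat1 : (θ.app (StructuredArrow.mk (k ≫ ι.toFunctor.map m))).1 =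
        (θ.app (StructuredArrow.mk k)).1 ≫ μ _ _ mm := by
      have h := congrArg Subtype.val nat
      exact (Category.id_comp _).symm.trans h
    calc ((θ.app (StructuredArrow.mk k)).1 ≫ ℓ (StructuredArrow.mk k)) ≫ σ.map m
        = (θ.app (StructuredArrow.mk k)).1 ≫ (ℓ (StructuredArrow.mk k) ≫ σ.map mm.right) :=
          Category.assoc _ _ _
      _ = (θ.app (StructuredArrow.mk k)).1 ≫ (μ _ _ mm ≫ ℓ _) := by rw [hμ2]
      _ = ((θ.app (StructuredArrow.mk k)).1 ≫ μ _ _ mm) ≫ ℓ _ := (Category.assoc _ _ _).symm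
      _ = (θ.app (StructuredArrow.mk (k ≫ ι.toFunctor.map m))).1 ≫ ℓ _ := by rw [← nat1]

theorem restr_essSurj (h𝒮 : IsFibGrpd 𝒮.p) (ι : 𝒜 ⥤ᵇ ℬ)
    (Hc : ∀ b : ℬ.obj, IsConnected (StructuredArrow b ι.toFunctor))
    (H3 : ∀ (b : ℬ.obj) (Φ : StructuredArrow b ι.toFunctor ⥤ 𝒮.p.Fiber (ℬ.p.obj b)),
      ∃ t, Nonempty ((Functor.const _).obj t ⟶ Φ)) : (Stk.restr ι 𝒮).EssSurj := by
  refine ⟨fun σ => ?_⟩
  change 𝒜 ⥤ᵇ 𝒮 at σ
  have hfam := fun b => exists_family h𝒮 ι σ b (H3 b)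
  choose t ht lam hl1 hl2 using hfam
  have hne : ∀ b : ℬ.obj, ∃ a : 𝒜.obj, Nonempty (b ⟶ ι.obj a) := fun b => by
    obtain ⟨x⟩ := (Hc b).is_nonempty
    exact ⟨x.right, ⟨x.hom⟩⟩
  choose a₀ hk₀ using hne
  let k₀ : ∀ b, b ⟶ ι.obj (a₀ b) := fun b => (hk₀ b).some
  have hM : ∀ (b' b : ℬ.obj) (l : b' ⟶ b), ∃ M : t b' ⟶ t b, 𝒮.p.IsHomLift (ℬ.p.map l) M ∧
      ∀ (a : 𝒜.obj) (k : b ⟶ ι.obj a), M ≫ lam b a k = lam b' a (l ≫ k) := by
    intro b' b l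
    obtain ⟨M, hM1, hM2⟩ := StkPull.exists_map 𝒮.p h𝒮 (ℬ.p.map (k₀ b)) (ℬ.p.map l)
      (ℬ.p.map (l ≫ k₀ b)) (ℬ.p.map_comp _ _) (lam b (a₀ b) (k₀ b)) (hl1 b _ _)
      (lam b' (a₀ b) (l ≫ k₀ b)) (hl1 b' _ _)
    refine ⟨M, hM1, ?_⟩
    refine conn_induct ι b (Hc b).toIsPreconnected
      (fun a k => M ≫ lam b a k = lam b' a (l ≫ k)) ?_ (k₀ b) hM2
    intro a a' k m
    constructor
    · intro h
      calc M ≫ lam b a' (k ≫ ι.map m) = M ≫ lam b a k ≫ σ.map m := by rw [hl2]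
        _ = (M ≫ lam b a k) ≫ σ.map m := (Category.assoc _ _ _).symm
        _ = lam b' a (l ≫ k) ≫ σ.map m := by rw [h]
        _ = lam b' a' ((l ≫ k) ≫ ι.map m) := hl2 b' a a' (l ≫ k) m
        _ = lam b' a' (l ≫ k ≫ ι.map m) := by rw [Category.assoc]
    · intro h
      have e : (M ≫ lam b a k) ≫ σ.map m = lam b' a (l ≫ k) ≫ σ.map m := by
        calc (M ≫ lam b a k) ≫ σ.map m = M ≫ lam b a k ≫ σ.map m := Category.assoc _ _ _
          _ = M ≫ lam b a' (k ≫ ι.map m) := by rw [hl2]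
          _ = lam b' a' (l ≫ k ≫ ι.map m) := h
          _ = lam b' a' ((l ≫ k) ≫ ι.map m) := by rw [Category.assoc]
          _ = lam b' a (l ≫ k) ≫ σ.map m := (hl2 b' a a' (l ≫ k) m).symm
      have hl : 𝒮.p.IsHomLift (ℬ.p.map (l ≫ k)) (M ≫ lam b a k) := by
        have := lift_comp 𝒮.p _ _ _ _ hM1 (hl1 b a k)
        rwa [← ℬ.p.map_comp] at this
      exact StkPull.map_ext 𝒮.p h𝒮 (ℬ.p.map (ι.map m)) (ℬ.p.map (l ≫ k)) (σ.map m)
        (lift_σ ι σ m) _ _ hl (hl1 b' a (l ≫ k)) e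
  choose M hM1 hM2 using hM
  have huniq : ∀ (b' b : ℬ.obj) (l : b' ⟶ b) (N : t b' ⟶ t b), 𝒮.p.IsHomLift (ℬ.p.map l) N →
      N ≫ lam b (a₀ b) (k₀ b) = lam b' (a₀ b) (l ≫ k₀ b) → N = M b' b l := fun b' b l N h1 h2 =>
    StkPull.map_ext 𝒮.p h𝒮 (ℬ.p.map (k₀ b)) (ℬ.p.map l) (lam b (a₀ b) (k₀ b)) (hl1 b _ _) _ _ h1
      (hM1 b' b l) (h2.trans (hM2 b' b l _ _).symm)
  let τf : ℬ.obj ⥤ 𝒮.obj :=
    { obj := t
      map := fun {b' b} l => M b' b l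
      map_id := fun b => by
        symm
        apply huniq
        · rw [ℬ.p.map_id]
          exact IsHomLift.id (ht b)
        · rw [Category.id_comp, Category.id_comp]
      map_comp := fun {b'' b' b} l' l => by
        symm
        apply huniq
        · rw [ℬ.p.map_comp]
          exact lift_comp 𝒮.p _ _ _ _ (hM1 _ _ l') (hM1 _ _ l)
        · rw [Category.assoc, hM2 b' b l, hM2 b'' b' l', Category.assoc] }
  let τ : ℬ ⥤ᵇ 𝒮 :=
    { toFunctor := τf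
      w := by
        refine CategoryTheory.Functor.ext (fun b => ht b) (fun b' b l => ?_)
        haveI := hM1 b' b l
        exact IsHomLift.fac' 𝒮.p (ℬ.p.map l) (M b' b l) }
  let E : (Stk.restr ι 𝒮).obj τ ⟶ σ :=
    { app := fun a => lam (ι.obj a) a (𝟙 _)
      naturality := by
        intro a a' m
        change M (ι.obj a) (ι.obj a') (ι.map m) ≫ lam (ι.obj a') a' (𝟙 _) =
          lam (ι.obj a) a (𝟙 _) ≫ σ.map m
        rw [hM2, hl2, Category.comp_id, Category.id_comp]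
      isHomLift' := fun a => by
        have := hl1 (ι.obj a) a (𝟙 _)
        rw [ℬ.p.map_id] at this
        exact lift_id_congr 𝒮.p (ι.w_obj a) _ this }
  exact ⟨τ, ⟨StkRel.isoOfFibGrpd h𝒮 E⟩⟩

/-- The Kan-extension lemma: restriction along `ι` is an equivalence on functors into a category
fibred in groupoids when all comma categories `b ↓ ι` are connected and every functor from them to a
fibre admits a cone. -/
theorem restr_isEquivalence (h𝒮 : IsFibGrpd 𝒮.p) (ι : 𝒜 ⥤ᵇ ℬ)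
    (Hc : ∀ b : ℬ.obj, IsConnected (StructuredArrow b ι.toFunctor))
    (H3 : ∀ (b : ℬ.obj) (Φ : StructuredArrow b ι.toFunctor ⥤ 𝒮.p.Fiber (ℬ.p.obj b)),
      ∃ t, Nonempty ((Functor.const _).obj t ⟶ Φ)) : (Stk.restr ι 𝒮).IsEquivalence := by
  have hne : ∀ b : ℬ.obj, ∃ a : 𝒜.obj, Nonempty (b ⟶ ι.obj a) := fun b => by
    obtain ⟨x⟩ := (Hc b).is_nonempty
    exact ⟨x.right, ⟨x.hom⟩⟩
  exact { faithful := restr_faithful h𝒮 ι hne
          full := restr_full h𝒮 ι Hc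
          essSurj := restr_essSurj h𝒮 ι Hc H3 }

end Groth.Agent.Helper6.StkKan
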