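import Mathlib
import Groth.Prelude.Def_FibCat2
import Groth.Prelude.Def_AlgSt
import Groth.Prelude.Def_W4c2modmodulilectNerve
import Groth.Agent.Helper3.FibGrpd
import Groth.Agent.Helper6.StkKan

/-!
# Helper6: consequences of "contractible nerve (tested against groupoids)"
-/

set_option autoImplicit false
set_option linter.style.haveILetI false
set_option linter.unusedVariables false
universe w vJ uJ vG uG

namespace Groth.Agent.Helper6.StkKanC
open CategoryTheory Functor W4c2modmodulilect

variable {J : Type uJ} [Category.{vJ} J]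

theorem isConnected_of_contractible
    (hJ : HasContractibleNerve.{max uJ w, max uJ w} J) : IsConnected J := by
  obtain ⟨hne, hG⟩ := hJ
  haveI := hne
  haveI : IsPreconnected J := by
    refine IsPreconnected.of_constant_of_preserves_morphisms (fun {α} F hF j j' => ?_)
    let Fun : J ⥤ Discrete (ULift.{w} α) :=
      { obj := fun j => ⟨⟨F j⟩⟩
        map := fun {j₁ j₂} f => eqToHom (by rw [hF f])
        map_id := fun _ => Subsingleton.elim _ _
        map_comp := fun _ _ => Subsingleton.elim _ _ }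
    haveI : (Functor.const J : Discrete (ULift.{w} α) ⥤ J ⥤ Discrete (ULift.{w} α)).IsEquivalence :=
      hG (Discrete (ULift.{w} α))
    obtain ⟨d, ⟨e⟩⟩ := Functor.EssSurj.mem_essImage
      (F := (Functor.const J : Discrete (ULift.{w} α) ⥤ J ⥤ Discrete (ULift.{w} α))) Fun
    have h1 : d.as = ⟨F j⟩ := Discrete.eq_of_hom (e.hom.app j)
    have h2 : d.as = ⟨F j'⟩ := Discrete.eq_of_hom (e.hom.app j')
    exact congrArg ULift.down (h1.symm.trans h2)
  exact {}

theorem exists_cone_of_contractible {G : Type uG} [Category.{vG} G] [IsGroupoid G]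
    (hJ : HasContractibleNerve.{max w vG uG, max w vG uG} J) (Φ : J ⥤ G) :
    ∃ t : G, Nonempty ((Functor.const J).obj t ⟶ Φ) := by
  obtain ⟨hne, hG⟩ := hJ
  haveI : IsGroupoid (AsSmall.{w} G) :=
    ⟨fun {X Y} f => ⟨⟨⟨inv f.down⟩, ULift.ext _ _ (IsIso.hom_inv_id f.down),
      ULift.ext _ _ (IsIso.inv_hom_id f.down)⟩⟩⟩
  letI : Groupoid (AsSmall.{w} G) := Groupoid.ofIsGroupoid
  haveI : (Functor.const J : AsSmall.{w} G ⥤ J ⥤ AsSmall.{w} G).IsEquivalence :=
    hG (AsSmall.{w} G)
  obtain ⟨g', ⟨e⟩⟩ := Functor.EssSurj.mem_essImage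
    (F := (Functor.const J : AsSmall.{w} G ⥤ J ⥤ AsSmall.{w} G)) (Φ ⋙ AsSmall.up)
  refine ⟨ULift.down g', ⟨{ app := fun j => ULift.down (e.hom.app j), naturality := ?_ }⟩⟩
  intro j j' f
  have h := congrArg ULift.down (e.hom.naturality f)
  exact h

end Groth.Agent.Helper6.StkKanC
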