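import Mathlib
import Groth.Prelude.Def_FibCat2
import Groth.Prelude.Def_AlgSt
import Groth.Prelude.Def_W4c2modmodulilectNerve
import Groth.Agent.Helper6.StkKanC

/-!
# Helper6: for a fibred functor `f : C ⥤ D`, connectedness and existence of cones on the comma
categories `Y ↓ f` follow from the same properties of the fibres `f⁻¹(Y)`.
-/

set_option autoImplicit false
set_option linter.style.haveILetI false
set_option linter.unusedVariables false
universe w vG uG v₁ v₂ u₁ u₂

namespace Groth.Agent.Helper6.StkKanF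
open CategoryTheory Functor

variable {C : Type u₁} [Category.{v₁} C] {D : Type u₂} [Category.{v₂} D] (f : C ⥤ D)
  [f.IsFibered] (Y : D)

/-- The chosen inverse image of `c` along `k : Y ⟶ f c`, as an object of the fibre. -/
noncomputable def R (x : StructuredArrow Y f) : f.Fiber Y :=
  ⟨IsPreFibered.pullbackObj (p := f) (rfl : f.obj x.right = f.obj x.right) x.hom,
    IsPreFibered.pullbackObj_proj _ _⟩

/-- The chosen cartesian morphism. -/
noncomputable def ℓ (x : StructuredArrow Y f) : (R f Y x).1 ⟶ x.right :=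
  IsPreFibered.pullbackMap (p := f) (rfl : f.obj x.right = f.obj x.right) x.hom

instance (x : StructuredArrow Y f) : f.IsCartesian x.hom (ℓ f Y x) :=
  IsPreFibered.pullbackMap.IsCartesian (p := f) (rfl : f.obj x.right = f.obj x.right) x.hom

/-- The inclusion of the fibre into the comma category. -/
def iF : f.Fiber Y ⥤ StructuredArrow Y f where
  obj z := StructuredArrow.mk (eqToHom z.2.symm)
  map {z z'} φ := StructuredArrow.homMk φ.1 (by
    haveI := φ.2
    have := IsHomLift.fac' f (𝟙 Y) φ.1
    simp [this])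
  map_id z := by
    apply StructuredArrow.hom_ext
    rfl
  map_comp φ ψ := by
    apply StructuredArrow.hom_ext
    rfl

/-- The canonical morphism `i (k^* c) ⟶ (c, k)`. -/
noncomputable def ε (x : StructuredArrow Y f) : (iF f Y).obj (R f Y x) ⟶ x :=
  StructuredArrow.homMk (ℓ f Y x) (by
    have := IsHomLift.fac f x.hom (ℓ f Y x)
    simp only [eqToHom_refl, Category.comp_id] at this
    exact this.symm)

theorem isConnected_structuredArrow (h : IsConnected (f.Fiber Y)) :
    IsConnected (StructuredArrow Y f) := by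
  haveI := h
  haveI : Nonempty (StructuredArrow Y f) := ⟨(iF f Y).obj (Classical.arbitrary _)⟩
  haveI : IsPreconnected (StructuredArrow Y f) := by
    refine IsPreconnected.of_constant_of_preserves_morphisms (fun {α} F hF x x' => ?_)
    have h1 : ∀ x, F x = F ((iF f Y).obj (R f Y x)) := fun x => (hF (ε f Y x)).symm
    have h2 : ∀ z z' : f.Fiber Y, F ((iF f Y).obj z) = F ((iF f Y).obj z') :=
      constant_of_preserves_morphisms (fun z => F ((iF f Y).obj z))
        (fun z z' φ => hF ((iF f Y).map φ))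
    rw [h1 x, h1 x']
    exact h2 _ _
  exact {}

theorem exists_cone_structuredArrow {G : Type uG} [Category.{vG} G]
    (H : ∀ Ψ : f.Fiber Y ⥤ G, ∃ t : G, Nonempty ((Functor.const _).obj t ⟶ Ψ))
    (Φ : StructuredArrow Y f ⥤ G) : ∃ t : G, Nonempty ((Functor.const _).obj t ⟶ Φ) := by
  obtain ⟨t, ⟨θ⟩⟩ := H (iF f Y ⋙ Φ)
  refine ⟨t, ⟨{ app := fun x => θ.app (R f Y x) ≫ Φ.map (ε f Y x), naturality := ?_ }⟩⟩
  intro x y m
  -- the induced morphism of inverse images
  have hw : x.hom ≫ f.map m.right = y.hom := StructuredArrow.w m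
  haveI hl : f.IsHomLift y.hom (ℓ f Y x ≫ m.right) := by
    rw [← hw]
    infer_instance
  let ρ : R f Y x ⟶ R f Y y :=
    ⟨IsCartesian.map f y.hom (ℓ f Y y) (ℓ f Y x ≫ m.right), inferInstance⟩
  have hρ : (iF f Y).map ρ ≫ ε f Y y = ε f Y x ≫ m := by
    apply StructuredArrow.hom_ext
    exact IsCartesian.fac f y.hom (ℓ f Y y) (ℓ f Y x ≫ m.right)
  have nat := θ.naturality ρ
  have nat' : θ.app (R f Y y) = θ.app (R f Y x) ≫ Φ.map ((iF f Y).map ρ) :=
    (Category.id_comp _).symm.trans nat
  change 𝟙 t ≫ θ.app (R f Y y) ≫ Φ.map (ε f Y y) = (θ.app (R f Y x) ≫ Φ.map (ε f Y x)) ≫ Φ.map m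
  rw [Category.id_comp, nat', Category.assoc, Category.assoc, ← Φ.map_comp, ← Φ.map_comp, hρ]

end Groth.Agent.Helper6.StkKanF
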