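import Mathlib
import Groth.Prelude.Def_FibCat2
import Groth.Prelude.Def_AlgSt
import Groth.Agent.Helper3.FibGrpd
import Groth.Agent.Helper6.StkPull
import Groth.Agent.Helper6.StkFib
import Groth.Agent.Helper6.StkRel
import Groth.Agent.S12807

/-!
# Helper6: the pullback `u ⊡ 𝒮.p` of a category over `D` along `u : C ⥤ D`, as a category over `C`;
functors `𝒜 ⟶ u ⊡ 𝒮.p` over `C` are the same as functors `𝒜 ⟶ 𝒮` over `D`.
-/

set_option autoImplicit false
set_option linter.style.haveILetI false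
set_option linter.unusedVariables false
universe v₅ u₅ v₄ u₄ v₃ u₃ v₂ u₂ v u

namespace Groth.Agent.Helper6.StkUp
open CategoryTheory Functor FibCat Limits
open Groth.Agent.Helper3 Groth.Agent.Helper6

variable {C : Type u} [Category.{v} C] {D : Type u₂} [Category.{v₂} D] (u : C ⥤ D)
  (𝒮 : BasedCategory.{v₃, u₃} D)

/-- The pullback of `𝒮` along `u`, as a category over `C`. -/
abbrev pb := BasedCategory.ofFunctor (CategoricalPullback.π₁ u 𝒮.p)

/-- A category over `C` viewed over `D` along `u`. -/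
abbrev push (𝒜 : BasedCategory.{v₄, u₄} C) : BasedCategory.{v₄, u₄} D :=
  BasedCategory.ofFunctor (𝒜.p ⋙ u)

theorem isFibGrpd_pb (h𝒮 : IsFibGrpd 𝒮.p) : IsFibGrpd (CategoricalPullback.π₁ u 𝒮.p) := by
  haveI : 𝒮.p.IsFibered := FibGrpd.isFibered h𝒮
  haveI : (CategoricalPullback.π₁ u 𝒮.p).IsFibered := Groth.Agent.S12807.result u 𝒮
  apply FibGrpd.of_isFibered_of_isGroupoid
  intro V
  refine ⟨fun {X Y} f => ?_⟩
  haveI := f.2
  have h := IsHomLift.fac' (CategoricalPullback.π₁ u 𝒮.p) (𝟙 V) f.1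
  haveI : IsIso ((CategoricalPullback.π₁ u 𝒮.p).map f.1) := by
    rw [h]
    infer_instance
  have h1 : IsIso (CategoricalPullback.Hom.fst f.1) := this
  have hw := CategoricalPullback.Hom.w f.1
  haveI : IsIso (𝒮.p.map (CategoricalPullback.Hom.snd f.1)) := by
    have e : 𝒮.p.map (CategoricalPullback.Hom.snd f.1) =
        X.1.iso.inv ≫ u.map (CategoricalPullback.Hom.fst f.1) ≫ Y.1.iso.hom := by
      rw [hw, Iso.inv_hom_id_assoc]
    rw [e]
    infer_instance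
  have h2 : IsIso (CategoricalPullback.Hom.snd f.1) :=
    FibGrpd.isIso_of_lift_iso h𝒮 (𝒮.p.map (CategoricalPullback.Hom.snd f.1)) _
  haveI : IsIso f.1 := (CategoricalPullback.isIso_iff u 𝒮.p f.1).2 ⟨h1, h2⟩
  refine ⟨⟨⟨inv f.1, inferInstance⟩, ?_, ?_⟩⟩
  · apply Functor.Fiber.hom_ext
    exact IsIso.hom_inv_id f.1
  · apply Functor.Fiber.hom_ext
    exact IsIso.inv_hom_id f.1

section PushMap

variable {𝒜 : BasedCategory.{v₄, u₄} C} {ℬ : BasedCategory.{v₅, u₅} C}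

/-- A functor over `C` viewed over `D`. -/
def pushMap (ι : 𝒜 ⥤ᵇ ℬ) : push u 𝒜 ⥤ᵇ push u ℬ where
  toFunctor := ι.toFunctor
  w := congrArg (fun F : 𝒜.obj ⥤ C => F ⋙ u) ι.w

end PushMap

section Sharp

variable {u 𝒮} {𝒜 : BasedCategory.{v₄, u₄} C}

theorem wobj (T : push u 𝒜 ⥤ᵇ 𝒮) (a : 𝒜.obj) : u.obj (𝒜.p.obj a) = 𝒮.p.obj (T.obj a) :=
  (T.w_obj a).symm

theorem wmap (T : push u 𝒜 ⥤ᵇ 𝒮) {a a' : 𝒜.obj} (m : a ⟶ a') :
    𝒮.p.map (T.map m) = eqToHom (wobj T a).symm ≫ u.map (𝒜.p.map m) ≫ eqToHom (wobj T a') :=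
  Functor.congr_hom T.w m

theorem sharp_w (T : push u 𝒜 ⥤ᵇ 𝒮) {a a' : 𝒜.obj} (m : a ⟶ a') :
    u.map (𝒜.p.map m) ≫ eqToHom (wobj T a') = eqToHom (wobj T a) ≫ 𝒮.p.map (T.map m) := by
  rw [wmap T m, eqToHom_trans_assoc, eqToHom_refl, Category.id_comp]

/-- The object of the pullback attached to `T` at `a`. -/
def sharpObj (T : push u 𝒜 ⥤ᵇ 𝒮) (a : 𝒜.obj) : CategoricalPullback u 𝒮.p :=
  ⟨𝒜.p.obj a, T.obj a, eqToIso (wobj T a)⟩

/-- The functor to the pullback attached to a functor over `D`. -/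
def sharpFun (T : push u 𝒜 ⥤ᵇ 𝒮) : 𝒜.obj ⥤ CategoricalPullback u 𝒮.p where
  obj := sharpObj T
  map {a a'} m := ⟨𝒜.p.map m, T.map m, sharp_w T m⟩
  map_id a := CategoricalPullback.hom_ext (𝒜.p.map_id a) (T.map_id a)
  map_comp f g := CategoricalPullback.hom_ext (𝒜.p.map_comp f g) (T.map_comp f g)

/-- The functor over `C` to the pullback attached to a functor over `D`. -/
def sharp (T : push u 𝒜 ⥤ᵇ 𝒮) : 𝒜 ⥤ᵇ pb u 𝒮 where
  toFunctor := sharpFun T
  w := rfl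

theorem amap {T T' : push u 𝒜 ⥤ᵇ 𝒮} (α : T ⟶ T') (a : 𝒜.obj) :
    𝒮.p.map (α.toNatTrans.app a) = eqToHom ((wobj T a).symm.trans (wobj T' a)) := by
  haveI := α.isHomLift' a
  have h := IsHomLift.fac' 𝒮.p (𝟙 ((push u 𝒜).p.obj a)) (α.toNatTrans.app a)
  rw [h, Category.id_comp, eqToHom_trans]

theorem sharpMap_w {T T' : push u 𝒜 ⥤ᵇ 𝒮} (α : T ⟶ T') (a : 𝒜.obj) :
    u.map (𝟙 (𝒜.p.obj a)) ≫ eqToHom (wobj T' a) =
      eqToHom (wobj T a) ≫ 𝒮.p.map (α.toNatTrans.app a) := by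
  rw [amap α a, u.map_id, Category.id_comp, eqToHom_trans]

def sharpMap {T T' : push u 𝒜 ⥤ᵇ 𝒮} (α : T ⟶ T') : sharp T ⟶ sharp T' where
  toNatTrans :=
    { app := fun a => ⟨𝟙 (𝒜.p.obj a), α.toNatTrans.app a, sharpMap_w α a⟩
      naturality := fun {a a'} m => CategoricalPullback.hom_ext
        ((Category.comp_id (𝒜.p.map m)).trans (Category.id_comp (𝒜.p.map m)).symm)
        (α.toNatTrans.naturality m) }
  isHomLift' := fun a => IsHomLift.map (CategoricalPullback.π₁ u 𝒮.p)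
    (⟨𝟙 (𝒜.p.obj a), α.toNatTrans.app a, sharpMap_w α a⟩ : sharpObj T a ⟶ sharpObj T' a)

variable (u 𝒮 𝒜) in
/-- Functors over `D` to `𝒮` versus functors over `C` to the pullback. -/
def Ψ : (push u 𝒜 ⥤ᵇ 𝒮) ⥤ (𝒜 ⥤ᵇ pb u 𝒮) where
  obj := sharp
  map := sharpMap
  map_id T := by
    apply BasedNatTrans.homCategory.ext
    ext a
    exact CategoricalPullback.hom_ext rfl rfl
  map_comp α β := by
    apply BasedNatTrans.homCategory.ext
    ext a
    exact CategoricalPullback.hom_ext (Category.comp_id (𝟙 (𝒜.p.obj a))).symm rfl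

theorem Ψ_faithful : (Ψ u 𝒮 𝒜).Faithful where
  map_injective {T T'} α β h := by
    apply BasedNatTrans.homCategory.ext
    ext a
    exact congrArg (fun t : sharp T ⟶ sharp T' =>
      CategoricalPullback.Hom.snd (t.toNatTrans.app a)) h

theorem map_snd {x y : CategoricalPullback u 𝒮.p} (f : x ⟶ y) :
    𝒮.p.map f.snd = x.iso.inv ≫ u.map f.fst ≫ y.iso.hom := by
  rw [f.w, Iso.inv_hom_id_assoc]

theorem full_aux (T T' : push u 𝒜 ⥤ᵇ 𝒮) (a : 𝒜.obj) (g : 𝒜.p.obj a ⟶ 𝒜.p.obj a)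
    (hg : g = 𝟙 (𝒜.p.obj a)) :
    eqToHom (wobj T a).symm ≫ u.map g ≫ eqToHom (wobj T' a) =
      eqToHom ((wobj T a).symm.trans (wobj T' a)) := by
  subst hg
  rw [u.map_id, Category.id_comp, eqToHom_trans]

theorem Ψ_full : (Ψ u 𝒮 𝒜).Full where
  map_surjective {T T'} β := by
    have hfst : ∀ a : 𝒜.obj, CategoricalPullback.Hom.fst (β.toNatTrans.app a) = 𝟙 (𝒜.p.obj a) :=
      fun a => by
        haveI : (CategoricalPullback.π₁ u 𝒮.p).IsHomLift (𝟙 (𝒜.p.obj a)) (β.toNatTrans.app a) :=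
          β.isHomLift' a
        have h := IsHomLift.fac' (CategoricalPullback.π₁ u 𝒮.p) (𝟙 (𝒜.p.obj a))
          (β.toNatTrans.app a)
        have h' : CategoricalPullback.Hom.fst (β.toNatTrans.app a) =
            eqToHom rfl ≫ 𝟙 (𝒜.p.obj a) ≫ eqToHom rfl := h
        rw [h', eqToHom_refl, Category.id_comp, Category.id_comp]
    have hsnd : ∀ a : 𝒜.obj, 𝒮.p.map (CategoricalPullback.Hom.snd (β.toNatTrans.app a)) =
        eqToHom ((wobj T a).symm.trans (wobj T' a)) := fun a =>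
      (map_snd (β.toNatTrans.app a)).trans (full_aux T T' a _ (hfst a))
    refine ⟨⟨{ app := fun a => CategoricalPullback.Hom.snd (β.toNatTrans.app a)
               naturality := fun {a a'} m => congrArg
                (fun t : (sharp T).toFunctor.obj a ⟶ (sharp T').toFunctor.obj a' =>
                  CategoricalPullback.Hom.snd t) (β.toNatTrans.naturality m) }, fun a => ?_⟩, ?_⟩
    · exact StkFib.lift_id_of_map_eq 𝒮.p _ _ (wobj T a).symm (wobj T' a).symm (hsnd a)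
    · apply BasedNatTrans.homCategory.ext
      ext a
      exact CategoricalPullback.hom_ext (hfst a).symm rfl

theorem hw_aux (x : CategoricalPullback u 𝒮.p) (c : C) (hx : c = x.fst) (s : 𝒮.obj)
    (hs : u.obj c = 𝒮.p.obj s) (ψ : s ⟶ x.snd)
    (hψ : 𝒮.p.map ψ = eqToHom hs.symm ≫ eqToHom (congrArg u.obj hx) ≫ x.iso.hom) :
    u.map (eqToHom hx) ≫ x.iso.hom = eqToHom hs ≫ 𝒮.p.map ψ := by
  rw [hψ, eqToHom_map, eqToHom_trans_assoc, eqToHom_refl, Category.id_comp]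

theorem xfst (X : 𝒜 ⥤ᵇ pb u 𝒮) (a : 𝒜.obj) :
    𝒜.p.obj a = CategoricalPullback.fst (X.obj a) := (X.w_obj a).symm

theorem xmapfst (X : 𝒜 ⥤ᵇ pb u 𝒮) {a a' : 𝒜.obj} (m : a ⟶ a') :
    CategoricalPullback.Hom.fst (X.map m) =
      eqToHom (xfst X a).symm ≫ 𝒜.p.map m ≫ eqToHom (xfst X a') :=
  Functor.congr_hom X.w m

theorem θ_nat (X : 𝒜 ⥤ᵇ pb u 𝒮) {a a' : 𝒜.obj} (m : a ⟶ a') :
    u.map (𝒜.p.map m) ≫ eqToHom (congrArg u.obj (xfst X a')) ≫
        (CategoricalPullback.iso (X.obj a')).hom =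
      (eqToHom (congrArg u.obj (xfst X a)) ≫ (CategoricalPullback.iso (X.obj a)).hom) ≫
        𝒮.p.map (CategoricalPullback.Hom.snd (X.map m)) := by
  have hw := CategoricalPullback.Hom.w (X.map m)
  simp only [xmapfst X m, Functor.map_comp, eqToHom_map, Category.assoc] at hw
  rw [Category.assoc, ← hw, eqToHom_trans_assoc, eqToHom_refl, Category.id_comp]

/-- The natural transformation along which the second component is pulled back. -/
def θ (X : 𝒜 ⥤ᵇ pb u 𝒮) :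
    (push u 𝒜).p ⟶ (X.toFunctor ⋙ CategoricalPullback.π₂ u 𝒮.p) ⋙ 𝒮.p where
  app a := eqToHom (congrArg u.obj (xfst X a)) ≫ (CategoricalPullback.iso (X.obj a)).hom
  naturality {a a'} m := θ_nat X m

theorem Ψ_essSurj (h𝒮 : IsFibGrpd 𝒮.p) : (Ψ u 𝒮 𝒜).EssSurj where
  mem_essImage X := by
    obtain ⟨D', φ, hφ⟩ := StkPull.exists_pull (𝒜 := push u 𝒜) h𝒮
      (X.toFunctor ⋙ CategoricalPullback.π₂ u 𝒮.p)
      ((X.toFunctor ⋙ CategoricalPullback.π₂ u 𝒮.p) ⋙ 𝒮.p)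
      (fun g => IsHomLift.map 𝒮.p ((X.toFunctor ⋙ CategoricalPullback.π₂ u 𝒮.p).map g)) (θ X)
    have hφ' : ∀ a : 𝒜.obj, 𝒮.p.map (φ.app a) = eqToHom (wobj D' a).symm ≫
        (eqToHom (congrArg u.obj (xfst X a)) ≫ (CategoricalPullback.iso (X.obj a)).hom) :=
      fun a => by
        haveI := hφ a
        have h := IsHomLift.fac' 𝒮.p ((θ X).app a) (φ.app a)
        refine h.trans ?_
        have e : (θ X).app a ≫ eqToHom
            (IsHomLift.codomain_eq 𝒮.p ((θ X).app a) (φ.app a)).symm = (θ X).app a := by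
          simp
        rw [e]
        rfl
    have hw : ∀ a : 𝒜.obj, u.map (eqToHom (xfst X a)) ≫ (CategoricalPullback.iso (X.obj a)).hom =
        eqToHom (wobj D' a) ≫ 𝒮.p.map (φ.app a) := fun a =>
      hw_aux (X.obj a) (𝒜.p.obj a) (xfst X a) (D'.obj a) (wobj D' a) (φ.app a) (hφ' a)
    have hn1 : ∀ {a a' : 𝒜.obj} (m : a ⟶ a'), 𝒜.p.map m ≫ eqToHom (xfst X a') =
        eqToHom (xfst X a) ≫ CategoricalPullback.Hom.fst (X.map m) := fun {a a'} m => by
      rw [xmapfst X m, eqToHom_trans_assoc, eqToHom_refl, Category.id_comp]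
    let η : sharp D' ⟶ X :=
      { toNatTrans :=
          { app := fun a => (⟨eqToHom (xfst X a), φ.app a, hw a⟩ : sharpObj D' a ⟶ X.obj a)
            naturality := fun {a a'} m => CategoricalPullback.hom_ext (hn1 m) (φ.naturality m) }
        isHomLift' := fun a => StkFib.lift_id_of_map_eq (CategoricalPullback.π₁ u 𝒮.p)
          (⟨eqToHom (xfst X a), φ.app a, hw a⟩ : sharpObj D' a ⟶ X.obj a) (𝒜.p.obj a) rfl
          (xfst X a).symm rfl }
    exact ⟨D', ⟨StkRel.isoOfFibGrpd (isFibGrpd_pb u 𝒮 h𝒮) η⟩⟩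

theorem Ψ_isEquivalence (h𝒮 : IsFibGrpd 𝒮.p) : (Ψ u 𝒮 𝒜).IsEquivalence :=
  { faithful := Ψ_faithful
    full := Ψ_full
    essSurj := Ψ_essSurj h𝒮 }

end Sharp

end Groth.Agent.Helper6.StkUp
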