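import Mathlib

/-!
# Helper6: categories with weak binary products are connected and every functor from them to a
groupoid admits a cone; weak products in comma categories `b ↓ Over.post u` and in their
sieve versions.
-/

set_option autoImplicit false
set_option linter.style.haveILetI false
set_option linter.unusedVariables false
universe v₂ u₂ v u

namespace Groth.Agent.Helper6.StkWP
open CategoryTheory Functor Limits

section Generic

/-- Weak binary products. -/
def WP (P : Type*) [Category P] : Prop :=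
  ∀ x y : P, ∃ (z : P) (π₁ : z ⟶ x) (π₂ : z ⟶ y), ∀ (w : P) (n₁ : w ⟶ x) (n₂ : w ⟶ y),
    ∃ t : w ⟶ z, t ≫ π₁ = n₁ ∧ t ≫ π₂ = n₂

variable {P : Type*} [Category P]

theorem isConnected_of_wp [Nonempty P] (h : WP P) : IsConnected P := by
  haveI : IsPreconnected P :=
    IsPreconnected.of_constant_of_preserves_morphisms (fun {α} F hF x y => by
      obtain ⟨z, π₁, π₂, -⟩ := h x y
      exact (hF π₁).symm.trans (hF π₂))
  exact {}

theorem exists_cone_of_wp [hne : Nonempty P] (h : WP P) {G : Type*} [Category G] [IsGroupoid G]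
    (Φ : P ⥤ G) : ∃ t : G, Nonempty ((Functor.const P).obj t ⟶ Φ) := by
  obtain ⟨x₀⟩ := hne
  choose z π₁ π₂ hz using h x₀
  refine ⟨Φ.obj x₀, ⟨{ app := fun x => inv (Φ.map (π₁ x)) ≫ Φ.map (π₂ x), naturality := ?_ }⟩⟩
  intro x y m
  obtain ⟨t, ht1, ht2⟩ := hz y (z x) (π₁ x) (π₂ x ≫ m)
  change 𝟙 _ ≫ inv (Φ.map (π₁ y)) ≫ Φ.map (π₂ y) =
    (inv (Φ.map (π₁ x)) ≫ Φ.map (π₂ x)) ≫ Φ.map m
  have e1 : Φ.map (π₁ x) = Φ.map t ≫ Φ.map (π₁ y) := by rw [← Φ.map_comp, ht1]
  have e2 : Φ.map (π₂ x) ≫ Φ.map m = Φ.map t ≫ Φ.map (π₂ y) := by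
    rw [← Φ.map_comp, ← Φ.map_comp, ht2]
  rw [Category.id_comp, Category.assoc, e2]
  simp only [e1, IsIso.inv_comp, Category.assoc, IsIso.inv_hom_id_assoc]

/-- Weak products in a comma category `b ↓ F` from weak products in the source that are "preserved"
by `F` as seen from `b`. -/
theorem wp_structuredArrow {𝒜 : Type*} [Category 𝒜] {ℬ : Type*} [Category ℬ] (F : 𝒜 ⥤ ℬ) (b : ℬ)
    (Q : 𝒜 → 𝒜 → 𝒜) (q₁ : ∀ a a', Q a a' ⟶ a) (q₂ : ∀ a a', Q a a' ⟶ a')
    (hlift : ∀ (a a' c : 𝒜) (n₁ : c ⟶ a) (n₂ : c ⟶ a'),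
      ∃ t : c ⟶ Q a a', t ≫ q₁ a a' = n₁ ∧ t ≫ q₂ a a' = n₂)
    (hdata : ∀ (a a' : 𝒜) (k : b ⟶ F.obj a) (k' : b ⟶ F.obj a'),
      ∃ k'' : b ⟶ F.obj (Q a a'), k'' ≫ F.map (q₁ a a') = k ∧ k'' ≫ F.map (q₂ a a') = k')
    (hext : ∀ (a a' : 𝒜) (m m' : b ⟶ F.obj (Q a a')),
      m ≫ F.map (q₁ a a') = m' ≫ F.map (q₁ a a') →
      m ≫ F.map (q₂ a a') = m' ≫ F.map (q₂ a a') → m = m') :
    WP (StructuredArrow b F) := by
  intro x y
  obtain ⟨k'', hk1, hk2⟩ := hdata x.right y.right x.hom y.hom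
  refine ⟨StructuredArrow.mk k'', StructuredArrow.homMk (q₁ x.right y.right) hk1,
    StructuredArrow.homMk (q₂ x.right y.right) hk2, ?_⟩
  intro w n₁ n₂
  obtain ⟨t, ht1, ht2⟩ := hlift x.right y.right w.right n₁.right n₂.right
  have hw : w.hom ≫ F.map t = k'' := by
    apply hext
    · rw [Category.assoc, ← Functor.map_comp, ht1, hk1]
      exact StructuredArrow.w n₁
    · rw [Category.assoc, ← Functor.map_comp, ht2, hk2]
      exact StructuredArrow.w n₂
  refine ⟨StructuredArrow.homMk t hw, ?_, ?_⟩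
  · apply StructuredArrow.hom_ext
    exact ht1
  · apply StructuredArrow.hom_ext
    exact ht2

end Generic

section Over

variable {C : Type u} [Category.{v} C] {D : Type u₂} [Category.{v₂} D] [HasPullbacks C]
  (u : C ⥤ D) [PreservesLimitsOfShape WalkingCospan u] {U : C}

/-- The product of two objects of `Over U` (via the pullback). -/
noncomputable def P2 (a a' : Over U) : Over U := Over.mk (pullback.fst a.hom a'.hom ≫ a.hom)

noncomputable def p₁ (a a' : Over U) : P2 a a' ⟶ a := Over.homMk (pullback.fst a.hom a'.hom) rfl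

noncomputable def p₂ (a a' : Over U) : P2 a a' ⟶ a' :=
  Over.homMk (pullback.snd a.hom a'.hom) pullback.condition.symm

theorem prodLift (a a' c : Over U) (n₁ : c ⟶ a) (n₂ : c ⟶ a') :
    ∃ t : c ⟶ P2 a a', t ≫ p₁ a a' = n₁ ∧ t ≫ p₂ a a' = n₂ := by
  refine ⟨Over.homMk (pullback.lift n₁.left n₂.left (by rw [Over.w, Over.w])) ?_, ?_, ?_⟩
  · change pullback.lift n₁.left n₂.left _ ≫ pullback.fst a.hom a'.hom ≫ a.hom = c.hom
    rw [pullback.lift_fst_assoc, Over.w]
  · apply Over.OverMorphism.ext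
    change pullback.lift n₁.left n₂.left _ ≫ pullback.fst a.hom a'.hom = n₁.left
    exact pullback.lift_fst _ _ _
  · apply Over.OverMorphism.ext
    change pullback.lift n₁.left n₂.left _ ≫ pullback.snd a.hom a'.hom = n₂.left
    exact pullback.lift_snd _ _ _

theorem isPB (a a' : Over U) : IsPullback (u.map (pullback.fst a.hom a'.hom))
    (u.map (pullback.snd a.hom a'.hom)) (u.map a.hom) (u.map a'.hom) :=
  (IsPullback.of_hasPullback a.hom a'.hom).map u

theorem prodData (a a' : Over U) (b : Over (u.obj U)) (k : b ⟶ (Over.post u).obj a)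
    (k' : b ⟶ (Over.post u).obj a') :
    ∃ k'' : b ⟶ (Over.post u).obj (P2 a a'),
      k'' ≫ (Over.post u).map (p₁ a a') = k ∧ k'' ≫ (Over.post u).map (p₂ a a') = k' := by
  have H := isPB u a a'
  obtain ⟨kl, hkl, hk⟩ : ∃ kl : b.left ⟶ u.obj a.left, kl = k.left ∧ kl ≫ u.map a.hom = b.hom :=
    ⟨k.left, rfl, Over.w k⟩
  obtain ⟨kl', hkl', hk'⟩ : ∃ kl' : b.left ⟶ u.obj a'.left,
      kl' = k'.left ∧ kl' ≫ u.map a'.hom = b.hom := ⟨k'.left, rfl, Over.w k'⟩
  have hc : kl ≫ u.map a.hom = kl' ≫ u.map a'.hom := hk.trans hk'.symm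
  have h1 : H.lift kl kl' hc ≫ u.map (pullback.fst a.hom a'.hom ≫ a.hom) = b.hom := by
    rw [u.map_comp, H.lift_fst_assoc, hk]
  refine ⟨Over.homMk (H.lift kl kl' hc) h1, ?_, ?_⟩
  · apply Over.OverMorphism.ext
    exact (H.lift_fst kl kl' hc).trans hkl
  · apply Over.OverMorphism.ext
    exact (H.lift_snd kl kl' hc).trans hkl'

theorem prodExt (a a' : Over U) (b : Over (u.obj U)) (m m' : b ⟶ (Over.post u).obj (P2 a a'))
    (h₁ : m ≫ (Over.post u).map (p₁ a a') = m' ≫ (Over.post u).map (p₁ a a'))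
    (h₂ : m ≫ (Over.post u).map (p₂ a a') = m' ≫ (Over.post u).map (p₂ a a')) : m = m' := by
  apply Over.OverMorphism.ext
  have H := isPB u a a'
  obtain ⟨ml, hml⟩ : ∃ ml : b.left ⟶ u.obj (pullback a.hom a'.hom), ml = m.left := ⟨m.left, rfl⟩
  obtain ⟨ml', hml'⟩ : ∃ ml' : b.left ⟶ u.obj (pullback a.hom a'.hom), ml' = m'.left :=
    ⟨m'.left, rfl⟩
  have e1 : ml ≫ u.map (pullback.fst a.hom a'.hom) = ml' ≫ u.map (pullback.fst a.hom a'.hom) := by
    subst hml hml'
    exact congrArg (fun z => z.left) h₁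
  have e2 : ml ≫ u.map (pullback.snd a.hom a'.hom) = ml' ≫ u.map (pullback.snd a.hom a'.hom) := by
    subst hml hml'
    exact congrArg (fun z => z.left) h₂
  have e : ml = ml' := H.hom_ext e1 e2
  exact hml.symm.trans (e.trans hml')

theorem wp_post (b : Over (u.obj U)) : WP (StructuredArrow b (Over.post (X := U) u)) :=
  wp_structuredArrow (Over.post (X := U) u) b P2 p₁ p₂ prodLift (fun a a' => prodData u a a' b)
    (fun a a' => prodExt u a a' b)

theorem nonempty_post (b : Over (u.obj U)) :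
    Nonempty (StructuredArrow b (Over.post (X := U) u)) := by
  have h : b.hom ≫ u.map (𝟙 U) = b.hom := by rw [u.map_id, Category.comp_id]
  exact ⟨StructuredArrow.mk (Y := Over.mk (𝟙 U)) (Over.homMk b.hom h)⟩

end Over

section SieveVersion

variable {C : Type u} [Category.{v} C] {D : Type u₂} [Category.{v₂} D] [HasPullbacks C]
  (u : C ⥤ D) [PreservesLimitsOfShape WalkingCospan u] {U : C} (R : Sieve U)

/-- The functor from (the category of) a sieve to its pushforward along `u`. -/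
def ρRf : R.arrows.category ⥤ (R.functorPushforward u).arrows.category :=
  ObjectProperty.lift _ (ObjectProperty.ι _ ⋙ Over.post u)
    (fun a => ⟨a.obj.left, a.obj.hom, 𝟙 _, a.property, (Category.id_comp _).symm⟩)

noncomputable def PR (x y : R.arrows.category) : R.arrows.category :=
  ⟨P2 x.obj y.obj, R.downward_closed x.property _⟩

noncomputable def p₁R (x y : R.arrows.category) : PR R x y ⟶ x := ObjectProperty.homMk (p₁ x.obj y.obj)

noncomputable def p₂R (x y : R.arrows.category) : PR R x y ⟶ y := ObjectProperty.homMk (p₂ x.obj y.obj)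

theorem wp_ρRf (b : (R.functorPushforward u).arrows.category) :
    WP (StructuredArrow b (ρRf u R)) := by
  refine wp_structuredArrow (ρRf u R) b (PR R) (p₁R R) (p₂R R) ?_ ?_ ?_
  · intro a a' c n₁ n₂
    obtain ⟨t, ht1, ht2⟩ := prodLift a.obj a'.obj c.obj n₁.hom n₂.hom
    refine ⟨ObjectProperty.homMk t, ?_, ?_⟩
    · apply ObjectProperty.hom_ext
      exact ht1
    · apply ObjectProperty.hom_ext
      exact ht2
  · intro a a' k k'
    obtain ⟨k'', hk1, hk2⟩ := prodData u a.obj a'.obj b.obj k.hom k'.hom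
    refine ⟨ObjectProperty.homMk k'', ?_, ?_⟩
    · apply ObjectProperty.hom_ext
      exact hk1
    · apply ObjectProperty.hom_ext
      exact hk2
  · intro a a' m m' h₁ h₂
    apply ObjectProperty.hom_ext
    exact prodExt u a.obj a'.obj b.obj m.hom m'.hom
      (congrArg (fun z => z.hom) h₁) (congrArg (fun z => z.hom) h₂)

theorem nonempty_ρRf (b : (R.functorPushforward u).arrows.category) :
    Nonempty (StructuredArrow b (ρRf u R)) := by
  obtain ⟨Z, g, h, hg, e⟩ := b.property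
  exact ⟨StructuredArrow.mk (Y := (⟨Over.mk g, hg⟩ : R.arrows.category))
    (ObjectProperty.homMk (Over.homMk h e.symm))⟩

end SieveVersion

end Groth.Agent.Helper6.StkWP
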