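import Mathlib
import Groth.Prelude.Def_FibCat2
import Groth.Prelude.Def_AlgSt
import Groth.Agent.Helper3.FibGrpd
import Groth.Agent.Helper6.StkKan
import Groth.Agent.Helper6.StkWP
import Groth.Agent.Helper6.StkUp

/-!
# Helper6: the pullback of a stack along a cover-preserving functor preserving pullbacks is a stack.
-/

set_option autoImplicit false
set_option linter.style.haveILetI false
set_option linter.unusedVariables false
universe v₃ u₃ v₂ u₂ v u

namespace Groth.Agent.Helper6.StkUp2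
open CategoryTheory Functor FibCat Limits
open Groth.Agent.Helper3 Groth.Agent.Helper6 Groth.Agent.Helper6.StkUp

variable {C : Type u} [Category.{v} C] {D : Type u₂} [Category.{v₂} D] [HasPullbacks C]
  (u : C ⥤ D) [PreservesLimitsOfShape WalkingCospan u]

/-- `C/U ⟶ D/u(U)` over `D`. -/
def ρ (U : C) : push u (overCat U) ⥤ᵇ overCat (u.obj U) where
  toFunctor := Over.post u
  w := rfl

/-- A sieve to its pushforward, over `D`. -/
def ρR {U : C} (R : Sieve U) :
    push u (Stk.sieveCat R) ⥤ᵇ Stk.sieveCat (R.functorPushforward u) where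
  toFunctor := StkWP.ρRf u R
  w := rfl

variable (𝒮 : BasedCategory.{v₃, u₃} D)

theorem restr_ρ_isEquivalence (h𝒮 : IsFibGrpd 𝒮.p) (U : C) :
    (Stk.restr (ρ u U) 𝒮).IsEquivalence := by
  apply StkKan.restr_isEquivalence h𝒮 (ρ u U)
  · intro b
    change Over (u.obj U) at b
    haveI : Nonempty (StructuredArrow b (Over.post (X := U) u)) := StkWP.nonempty_post u b
    have H : IsConnected (StructuredArrow b (Over.post (X := U) u)) :=
      StkWP.isConnected_of_wp (StkWP.wp_post u b)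
    exact H
  · intro b Φ
    change Over (u.obj U) at b
    haveI : Nonempty (StructuredArrow b (Over.post (X := U) u)) := StkWP.nonempty_post u b
    haveI : IsGroupoid (𝒮.p.Fiber b.left) := FibGrpd.isGroupoid_fiber h𝒮 _
    have H : ∀ Φ' : StructuredArrow b (Over.post (X := U) u) ⥤ 𝒮.p.Fiber b.left,
        ∃ t, Nonempty ((Functor.const _).obj t ⟶ Φ') := fun Φ' =>
      StkWP.exists_cone_of_wp (StkWP.wp_post u b) Φ'
    exact H Φ

theorem restr_ρR_isEquivalence (h𝒮 : IsFibGrpd 𝒮.p) {U : C} (R : Sieve U) :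
    (Stk.restr (ρR u R) 𝒮).IsEquivalence := by
  apply StkKan.restr_isEquivalence h𝒮 (ρR u R)
  · intro b
    change (R.functorPushforward u).arrows.category at b
    haveI : Nonempty (StructuredArrow b (StkWP.ρRf u R)) := StkWP.nonempty_ρRf u R b
    have H : IsConnected (StructuredArrow b (StkWP.ρRf u R)) :=
      StkWP.isConnected_of_wp (StkWP.wp_ρRf u R b)
    exact H
  · intro b Φ
    change (R.functorPushforward u).arrows.category at b
    haveI : Nonempty (StructuredArrow b (StkWP.ρRf u R)) := StkWP.nonempty_ρRf u R b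
    haveI : IsGroupoid (𝒮.p.Fiber b.obj.left) := FibGrpd.isGroupoid_fiber h𝒮 _
    have H : ∀ Φ' : StructuredArrow b (StkWP.ρRf u R) ⥤ 𝒮.p.Fiber b.obj.left,
        ∃ t, Nonempty ((Functor.const _).obj t ⟶ Φ') := fun Φ' =>
      StkWP.exists_cone_of_wp (StkWP.wp_ρRf u R b) Φ'
    exact H Φ

theorem isStack_pb (J : GrothendieckTopology C) (K : GrothendieckTopology D)
    (hu : CoverPreserving J K u) (h𝒮 : Stk.IsStack K 𝒮) : Stk.IsStack J (pb u 𝒮) := by
  obtain ⟨hfib, hst⟩ := h𝒮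
  refine ⟨isFibGrpd_pb u 𝒮 hfib, ?_⟩
  intro U R hR
  have hR' : R.functorPushforward u ∈ K (u.obj U) := hu.cover_preserve hR
  haveI h1 : (Stk.resSieve (R.functorPushforward u) 𝒮).IsEquivalence := hst _ hR'
  haveI h2 : (Stk.restr (ρ u U) 𝒮).IsEquivalence := restr_ρ_isEquivalence u 𝒮 hfib U
  haveI h3 : (Stk.restr (ρR u R) 𝒮).IsEquivalence := restr_ρR_isEquivalence u 𝒮 hfib R
  have e1 : Stk.restr (ρ u U) 𝒮 ⋙ Stk.restr (pushMap u (Stk.sieveIncl R)) 𝒮 =
      Stk.resSieve (R.functorPushforward u) 𝒮 ⋙ Stk.restr (ρR u R) 𝒮 := rfl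
  haveI h4 : (Stk.restr (ρ u U) 𝒮 ⋙
      Stk.restr (pushMap u (Stk.sieveIncl R)) 𝒮).IsEquivalence := by
    rw [e1]
    infer_instance
  haveI h5 : (Stk.restr (pushMap u (Stk.sieveIncl R)) 𝒮).IsEquivalence :=
    Functor.isEquivalence_of_comp_left (Stk.restr (ρ u U) 𝒮) _
  haveI h6 : (Ψ u 𝒮 (overCat U)).IsEquivalence := Ψ_isEquivalence hfib
  haveI h7 : (Ψ u 𝒮 (Stk.sieveCat R)).IsEquivalence := Ψ_isEquivalence hfib
  have e2 : Stk.restr (pushMap u (Stk.sieveIncl R)) 𝒮 ⋙ Ψ u 𝒮 (Stk.sieveCat R) =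
      Ψ u 𝒮 (overCat U) ⋙ Stk.resSieve R (pb u 𝒮) := rfl
  haveI h8 : (Ψ u 𝒮 (overCat U) ⋙ Stk.resSieve R (pb u 𝒮)).IsEquivalence := by
    rw [← e2]
    infer_instance
  exact Functor.isEquivalence_of_comp_left (Ψ u 𝒮 (overCat U)) _

end Groth.Agent.Helper6.StkUp2
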