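import Mathlib
import Groth.Prelude.Def_FibClv
import Groth.Agent.Helper6.SplitClv

/-!
# Helper6: strictification of a fibred category: the category of "formal inverse images"
`(f : U ⟶ V, y over V)` with morphisms those of the inverse images, and its canonical splitting.
-/

set_option autoImplicit false
set_option linter.style.haveILetI false
set_option linter.unusedVariables false
set_option backward.isDefEq.respectTransparency false
set_option backward.isDefEq.respectTransparency.types false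
universe v₁ v₂ u₁ u₂

namespace Groth.Agent.Helper6.Strictify
open CategoryTheory Functor Opposite FibCat
open Groth.Agent.Helper6.SplitClv

variable {𝒮 : Type u₁} [Category.{v₁} 𝒮] {𝒳 : Type u₂} [Category.{v₂} 𝒳]

/-- Formal inverse images. -/
structure Ob (p : 𝒳 ⥤ 𝒮) where
  src : 𝒮
  tgt : 𝒮
  f : src ⟶ tgt
  y : 𝒳
  hy : p.obj y = tgt

variable {p : 𝒳 ⥤ 𝒮} (K : FibCat.Cleavage p)

/-- The actual inverse image. -/
def ob (o : Ob p) : 𝒳 := K.obj o.hy o.f

theorem ob_proj (o : Ob p) : p.obj (ob K o) = o.src := K.obj_proj o.hy o.f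

/-- Formal pullback. -/
def Ob.pull (o : Ob p) {R : 𝒮} (h : R ⟶ o.src) : Ob p := ⟨R, o.tgt, h ≫ o.f, o.y, o.hy⟩

theorem pull_eqToHom_aux (src tgt : 𝒮) (f : src ⟶ tgt) (y : 𝒳) (hy : p.obj y = tgt) {R : 𝒮}
    (e : R = src) : (Ob.mk src tgt f y hy).pull (eqToHom e) = ⟨src, tgt, f, y, hy⟩ := by
  subst e
  simp [Ob.pull]

theorem pull_eqToHom (o : Ob p) {R : 𝒮} (e : R = o.src) : o.pull (eqToHom e) = o :=
  pull_eqToHom_aux o.src o.tgt o.f o.y o.hy e

theorem pull_pull (o : Ob p) {R R' : 𝒮} (h : R ⟶ o.src) (h' : R' ⟶ R) :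
    (o.pull h).pull h' = o.pull (h' ≫ h) := by
  simp [Ob.pull]

theorem pull_congr (o : Ob p) {R : 𝒮} {h h' : R ⟶ o.src} (e : h = h') : o.pull h = o.pull h' := by
  subst e
  rfl

section Tr

variable [p.IsFibered]

/-- The transition morphism between inverse images. -/
noncomputable def tr (o : Ob p) {R : 𝒮} (h : R ⟶ o.src) : ob K (o.pull h) ⟶ ob K o :=
  IsStronglyCartesian.map p o.f (K.lift o.hy o.f) (rfl : h ≫ o.f = h ≫ o.f)
    (K.lift o.hy (h ≫ o.f))

instance tr_isHomLift (o : Ob p) {R : 𝒮} (h : R ⟶ o.src) : p.IsHomLift h (tr K o h) := by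
  unfold tr
  infer_instance

theorem tr_fac (o : Ob p) {R : 𝒮} (h : R ⟶ o.src) :
    tr K o h ≫ K.lift o.hy o.f = K.lift o.hy (h ≫ o.f) :=
  IsStronglyCartesian.fac p o.f (K.lift o.hy o.f) rfl (K.lift o.hy (h ≫ o.f))

theorem tr_ext (o : Ob p) {R : 𝒮} (h : R ⟶ o.src) {a' : 𝒳} (ψ ψ' : a' ⟶ ob K o)
    [p.IsHomLift h ψ] [p.IsHomLift h ψ']
    (e : ψ ≫ K.lift o.hy o.f = ψ' ≫ K.lift o.hy o.f) : ψ = ψ' :=
  IsStronglyCartesian.ext p o.f (K.lift o.hy o.f) h e

instance tr_cart (o : Ob p) {R : 𝒮} (h : R ⟶ o.src) : p.IsStronglyCartesian h (tr K o h) := by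
  haveI : p.IsStronglyCartesian (h ≫ o.f) (tr K o h ≫ K.lift o.hy o.f) := by
    rw [tr_fac]
    infer_instance
  exact IsStronglyCartesian.of_comp p (f := h) (g := o.f) (φ := tr K o h) (ψ := K.lift o.hy o.f)

theorem tr_eqToHom_aux (src tgt : 𝒮) (f : src ⟶ tgt) (y : 𝒳) (hy : p.obj y = tgt) {R : 𝒮}
    (e : R = src) : tr K ⟨src, tgt, f, y, hy⟩ (eqToHom e) =
      eqToHom (congrArg (ob K) (pull_eqToHom ⟨src, tgt, f, y, hy⟩ e)) := by
  subst e
  haveI : p.IsHomLift (eqToHom (rfl : R = R))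
      (eqToHom (congrArg (ob K) (pull_eqToHom ⟨R, tgt, f, y, hy⟩ rfl))) :=
    IsHomLift.eqToHom_codomain_lift_id _ (ob_proj K _)
  apply tr_ext K ⟨R, tgt, f, y, hy⟩ (eqToHom rfl)
  rw [tr_fac]
  exact lift_congr K hy (Category.id_comp f)

theorem tr_eqToHom (o : Ob p) {R : 𝒮} (e : R = o.src) :
    tr K o (eqToHom e) = eqToHom (congrArg (ob K) (pull_eqToHom o e)) :=
  tr_eqToHom_aux K o.src o.tgt o.f o.y o.hy e

theorem tr_of_eq (o : Ob p) {R : 𝒮} (h : R ⟶ o.src) (e : R = o.src) (hh : h = eqToHom e) :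
    tr K o h = eqToHom (congrArg (ob K) ((pull_congr o hh).trans (pull_eqToHom o e))) := by
  subst hh
  exact tr_eqToHom K o e

theorem tr_comp (o : Ob p) {R R' : 𝒮} (h : R ⟶ o.src) (h' : R' ⟶ R) (k : R' ⟶ o.src)
    (hk : k = h' ≫ h) :
    ∃ e : (o.pull h).pull h' = o.pull k,
      tr K (o.pull h) h' ≫ tr K o h = eqToHom (congrArg (ob K) e) ≫ tr K o k := by
  subst hk
  refine ⟨pull_pull o h h', ?_⟩
  haveI i1 : p.IsHomLift h' (tr K (o.pull h) h') := tr_isHomLift K (o.pull h) h'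
  haveI i2 : p.IsHomLift h (tr K o h) := tr_isHomLift K o h
  haveI i3 : p.IsHomLift (h' ≫ h) (tr K o (h' ≫ h)) := tr_isHomLift K o (h' ≫ h)
  haveI i4 : p.IsHomLift (h' ≫ h) (tr K (o.pull h) h' ≫ tr K o h) :=
    IsHomLift.comp p h' h (tr K (o.pull h) h') (tr K o h)
  haveI i5 : p.IsHomLift (h' ≫ h)
      (eqToHom (congrArg (ob K) (pull_pull o h h')) ≫ tr K o (h' ≫ h)) := inferInstance
  apply tr_ext K o (h' ≫ h)
  rw [Category.assoc, tr_fac, Category.assoc, tr_fac]
  exact (tr_fac K (o.pull h) h').trans (lift_congr K o.hy (Category.assoc h' h o.f).symm)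

end Tr

/-- The strictified total category. -/
abbrev St := InducedCategory 𝒳 (ob K)

/-- Its projection to the base. -/
def q : St K ⥤ 𝒮 := inducedFunctor (ob K) ⋙ p

theorem eqToHom_hom {o o' : St K} (h : o = o') :
    (eqToHom h : o ⟶ o').hom = eqToHom (congrArg (ob K) h) := by
  subst h
  rfl

theorem isHomLift_q {R S : 𝒮} (g : R ⟶ S) {o o' : St K} (φ : o ⟶ o') [p.IsHomLift g φ.hom] :
    (q K).IsHomLift g φ :=
  IsHomLift.of_fac' (q K) g φ (IsHomLift.domain_eq p g φ.hom) (IsHomLift.codomain_eq p g φ.hom)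
    (IsHomLift.fac' p g φ.hom)

theorem isHomLift_hom {R S : 𝒮} (g : R ⟶ S) {o o' : St K} (φ : o ⟶ o') [(q K).IsHomLift g φ] :
    p.IsHomLift g φ.hom :=
  IsHomLift.of_fac' p g φ.hom (IsHomLift.domain_eq (q K) g φ) (IsHomLift.codomain_eq (q K) g φ)
    (IsHomLift.fac' (q K) g φ)

theorem isCartesian_q {R S : 𝒮} (g : R ⟶ S) {o o' : St K} (φ : o ⟶ o')
    [hφ : p.IsCartesian g φ.hom] :
    (q K).IsCartesian g φ := by
  haveI := isHomLift_q K g φ
  refine { universal_property := fun {a'} φ' hφ' => ?_ }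
  haveI := isHomLift_hom K g φ'
  refine ⟨InducedCategory.homMk (IsCartesian.map p g φ.hom φ'.hom), ⟨?_, ?_⟩, ?_⟩
  · haveI : p.IsHomLift (𝟙 R) (InducedCategory.homMk (F := ob K) (X := a') (Y := o)
        (IsCartesian.map p g φ.hom φ'.hom)).hom := by
      change p.IsHomLift (𝟙 R) (IsCartesian.map p g φ.hom φ'.hom)
      infer_instance
    exact isHomLift_q K (𝟙 R) _
  · apply InducedCategory.hom_ext
    exact IsCartesian.fac p g φ.hom φ'.hom
  · rintro χ ⟨hχ, hχ'⟩
    apply InducedCategory.hom_ext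
    haveI := isHomLift_hom K (𝟙 R) χ
    exact IsCartesian.map_uniq p g φ.hom φ'.hom χ.hom (congrArg InducedCategory.Hom.hom hχ')

section Clv

variable [p.IsFibered]

theorem src_eq {S : 𝒮} {a : St K} (ha : (q K).obj a = S) : S = Ob.src a :=
  ha.symm.trans (ob_proj K a)

/-- The canonical cleavage of the strictification. -/
noncomputable def clv : Cleavage (q K) where
  obj {R S a} ha g := Ob.pull a (g ≫ eqToHom (src_eq K ha))
  lift {R S a} ha g := InducedCategory.homMk (tr K a (g ≫ eqToHom (src_eq K ha)))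
  isCartesian {R S a} ha g := by
    haveI : p.IsCartesian (g ≫ eqToHom (src_eq K ha)) (tr K a (g ≫ eqToHom (src_eq K ha))) :=
      inferInstance
    haveI : p.IsCartesian g (tr K a (g ≫ eqToHom (src_eq K ha))) :=
      Cleavage.isCartesian_of_comp_eqToHom g (src_eq K ha) _
    exact isCartesian_q K g (InducedCategory.homMk (tr K a (g ≫ eqToHom (src_eq K ha))))
      (hφ := this)

theorem clv_isSplitting : (clv K).IsSplitting := by
  refine ⟨fun S a ha => ?_, fun S T U f g a ha => ?_⟩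
  · have e := src_eq K ha
    have hh : 𝟙 S ≫ eqToHom e = eqToHom e := Category.id_comp _
    refine ⟨(pull_congr a hh).trans (pull_eqToHom a e), ?_⟩
    apply InducedCategory.hom_ext
    rw [eqToHom_hom]
    exact tr_of_eq K a _ e hh
  · obtain ⟨e, he⟩ := tr_comp K a (f ≫ eqToHom (src_eq K ha))
      (g ≫ eqToHom (src_eq K ((clv K).obj_proj ha f))) ((g ≫ f) ≫ eqToHom (src_eq K ha))
      (by simp)
    refine ⟨e, ?_⟩
    apply InducedCategory.hom_ext
    rw [InducedCategory.comp_hom, InducedCategory.comp_hom, eqToHom_hom]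
    exact he

end Clv

end Groth.Agent.Helper6.Strictify
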