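import Mathlib
import Groth.Prelude.Def_FibCat2
import Groth.Prelude.Def_FibClv
import Groth.Agent.Helper3.FibGrpd
import Groth.Agent.Helper3.EquivOver
import Groth.Agent.Helper6.SplitIsoFib
import Groth.Agent.Helper6.Strictify
import Groth.Agent.Helper6.StkTools

/-!
# Helper6: every fibred category is equivalent over the base to the Grothendieck construction of a
strict functor to `Cat`.
-/

set_option autoImplicit false
set_option linter.style.haveILetI false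
set_option linter.unusedVariables false
set_option backward.isDefEq.respectTransparency false
set_option backward.isDefEq.respectTransparency.types false
universe v u

namespace Groth.Agent.Helper6.StrictEquiv
open CategoryTheory Functor Opposite FibCat
open Groth.Agent.Helper3 Groth.Agent.Helper6

variable {C : Type u} [Category.{v} C] (𝒳 : BasedCategory.{v, max u v} C) [𝒳.p.IsFibered]

/-- A chosen cleavage. -/
noncomputable abbrev K₀ : Cleavage 𝒳.p := Cleavage.ofIsPreFibered 𝒳.p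

/-- The strictification, as a category over `C`. -/
noncomputable abbrev Xs : BasedCategory.{v, max u v} C :=
  BasedCategory.ofFunctor (Strictify.q (K₀ 𝒳))

/-- The comparison functor from the strictification. -/
noncomputable def E' : Xs 𝒳 ⥤ᵇ 𝒳 where
  toFunctor := inducedFunctor (Strictify.ob (K₀ 𝒳))
  w := rfl

theorem isEquivOver_E' : IsEquivOver (E' 𝒳) := by
  haveI : (E' 𝒳).toFunctor.Full := InducedCategory.full _
  haveI : (E' 𝒳).toFunctor.Faithful := InducedCategory.faithful _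
  apply EquivOver.isEquivOver_of
  intro y
  let x : Strictify.Ob 𝒳.p := ⟨𝒳.p.obj y, 𝒳.p.obj y, 𝟙 _, y, rfl⟩
  haveI : IsIso ((K₀ 𝒳).lift (rfl : 𝒳.p.obj y = 𝒳.p.obj y) (𝟙 (𝒳.p.obj y))) :=
    IsStronglyCartesian.isIso_of_base_isIso 𝒳.p (𝟙 (𝒳.p.obj y))
      ((K₀ 𝒳).lift (rfl : 𝒳.p.obj y = 𝒳.p.obj y) (𝟙 (𝒳.p.obj y)))
  have hl : 𝒳.p.IsHomLift (𝟙 (𝒳.p.obj y))
      ((K₀ 𝒳).lift (rfl : 𝒳.p.obj y = 𝒳.p.obj y) (𝟙 (𝒳.p.obj y))) := inferInstance
  exact ⟨x, asIso ((K₀ 𝒳).lift (rfl : 𝒳.p.obj y = 𝒳.p.obj y) (𝟙 (𝒳.p.obj y))), hl⟩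

/-- The strict functor. -/
noncomputable abbrev Fs : Cᵒᵖ ⥤ Cat.{v, max u v} :=
  SplitClv.splitF (Strictify.clv (K₀ 𝒳)) (Strictify.clv_isSplitting (K₀ 𝒳))

/-- The isomorphism of the strictification with the Grothendieck construction, over `C`. -/
noncomputable def Φb : Xs 𝒳 ⥤ᵇ BasedCategory.ofFunctor
    (Pseudofunctor.CoGrothendieck.forget (Fs 𝒳).toPseudofunctor') where
  toFunctor := SplitIso.Φ (Strictify.clv (K₀ 𝒳)) (Strictify.clv_isSplitting (K₀ 𝒳))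
  w := SplitIso.Φ_comp_forget

theorem Φb_isEquivalence : (Φb 𝒳).toFunctor.IsEquivalence :=
  (CategoryTheory.Equivalence.mk (SplitIso.Φ (Strictify.clv (K₀ 𝒳)) (Strictify.clv_isSplitting (K₀ 𝒳)))
    (SplitIso.Ψ (Strictify.clv (K₀ 𝒳)) (Strictify.clv_isSplitting (K₀ 𝒳)))
    (eqToIso SplitIso.Φ_comp_Ψ.symm) (eqToIso SplitIso.Ψ_comp_Φ)).isEquivalence_functor

theorem exists_E : ∃ E : 𝒳 ⥤ᵇ BasedCategory.ofFunctor
    (Pseudofunctor.CoGrothendieck.forget (Fs 𝒳).toPseudofunctor'), FibCat.IsEquivOver E := by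
  obtain ⟨G₀, hG₀, -, -⟩ := EquivOver.symm (isEquivOver_E' 𝒳)
  haveI := EquivOver.isEquivalence hG₀
  haveI := Φb_isEquivalence 𝒳
  haveI : (BasedFunctor.comp G₀ (Φb 𝒳)).toFunctor.IsEquivalence :=
    inferInstanceAs ((G₀.toFunctor ⋙ (Φb 𝒳).toFunctor).IsEquivalence)
  exact ⟨BasedFunctor.comp G₀ (Φb 𝒳), EquivOver.isEquivOver_of_isEquivalence _⟩

theorem strict_fibered : ∃ (F : Cᵒᵖ ⥤ Cat.{v, max u v})
    (E : 𝒳 ⥤ᵇ BasedCategory.ofFunctor (Pseudofunctor.CoGrothendieck.forget F.toPseudofunctor')),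
    FibCat.IsEquivOver E := by
  obtain ⟨E, hE⟩ := exists_E 𝒳
  exact ⟨Fs 𝒳, E, hE⟩

theorem isGroupoid_Fs (h : IsFibGrpd 𝒳.p) (U : Cᵒᵖ) : IsGroupoid ((Fs 𝒳).obj U) := by
  have h' : IsFibGrpd (Xs 𝒳).p := StkTools.isFibGrpd_of_isEquivOver (E' 𝒳) (isEquivOver_E' 𝒳) h
  exact FibGrpd.isGroupoid_fiber h' U.unop

end Groth.Agent.Helper6.StrictEquiv

namespace Groth.Agent.Helper6.StrictEquiv
open CategoryTheory Functor Opposite FibCat
open Groth.Agent.Helper3 Groth.Agent.Helper6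

variable {C : Type u} [Category.{v} C] (𝒳 : BasedCategory.{v, max u v} C)

theorem strict_grpd (h : IsFibGrpd 𝒳.p) : ∃ (F : Cᵒᵖ ⥤ Cat.{v, max u v})
    (_ : ∀ U : Cᵒᵖ, IsGroupoid (F.obj U))
    (E : 𝒳 ⥤ᵇ BasedCategory.ofFunctor (Pseudofunctor.CoGrothendieck.forget F.toPseudofunctor')),
    FibCat.IsEquivOver E := by
  haveI : 𝒳.p.IsFibered := FibGrpd.isFibered h
  obtain ⟨E, hE⟩ := exists_E 𝒳
  exact ⟨Fs 𝒳, isGroupoid_Fs 𝒳 h, E, hE⟩

end Groth.Agent.Helper6.StrictEquiv
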