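import Groth.Agent.Helper6.WDivGlob
import Groth.Agent.Helper6.HasseBuild
import Groth.Agent.Helper5.WrClassical2
import Groth.Agent.Helper5.FFSep2
import Groth.Agent.Helper5.FFAut2

set_option autoImplicit false
set_option linter.style.haveILetI false

/-!
# The Stöhr–Voloch bound for the number of strong fixed points
-/

namespace Groth.Agent.Helper6.StrongBound

open FunFld LocRes
open Groth.Agent.Helper5 Groth.Agent.Helper5.Wr
open scoped IntermediateField

universe u v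
variable {k : Type u} {K : Type v} [Field k] [Field K] [Algebra k K]

theorem sum_le_of_bounds {a g : ℕ} (J : Fin (a + g) → ℕ)
    (h1 : ∀ l : Fin (a + g), (l : ℕ) < a → J l ≤ l) (h2 : ∀ l : Fin (a + g), J l ≤ l + g) :
    2 * ∑ l, J l ≤ (a + g) * (a + g - 1) + 2 * g ^ 2 := by
  let c : ℕ → ℕ := fun i => if i < a then 0 else g
  have hle : ∀ l : Fin (a + g), J l ≤ (l : ℕ) + c l := by
    intro l
    by_cases hl : (l : ℕ) < a
    · simp only [c, if_pos hl, add_zero]; exact h1 l hl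
    · simp only [c, if_neg hl]; exact h2 l
  have hs1 : ∑ l : Fin (a + g), ((l : ℕ) + c l) = ∑ i ∈ Finset.range (a + g), (i + c i) :=
    Fin.sum_univ_eq_sum_range (fun i => i + c i) (a + g)
  have hs2 : ∑ i ∈ Finset.range (a + g), c i = g * g := by
    rw [Finset.sum_range_add]
    have e1 : ∑ x ∈ Finset.range a, c x = 0 :=
      Finset.sum_eq_zero (fun x hx => by
        simp only [c]; rw [if_pos (Finset.mem_range.mp hx)])
    have e2 : ∑ x ∈ Finset.range g, c (a + x) = g * g := by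
      rw [Finset.sum_congr rfl (fun x _ => (by
        simp only [c]; rw [if_neg (by omega)] : c (a + x) = g))]
      simp
    rw [e1, e2, zero_add]
  have hs3 := Finset.sum_range_id_mul_two (a + g)
  have h4 := Finset.sum_le_sum (fun l (_ : l ∈ Finset.univ) => hle l)
  rw [hs1, Finset.sum_add_distrib, hs2] at h4
  rw [sq]
  linarith

theorem sum_ge_of_strictMono {n : ℕ} (J : Fin n → ℕ) (hJ : StrictMono J) :
    n * (n - 1) ≤ 2 * ∑ l, J l := by
  have h := add_le_of_strictMono J hJ 0 (fun _ => Nat.zero_le _)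
  have h1 : ∑ l : Fin n, (l : ℕ) = ∑ i ∈ Finset.range n, i :=
    Fin.sum_univ_eq_sum_range (fun i => i) n
  have h2 := Finset.sum_range_id_mul_two n
  have h3 : ∑ l : Fin n, (l : ℕ) ≤ ∑ l, J l :=
    Finset.sum_le_sum (fun l _ => by have := h l; omega)
  rw [h1] at h3
  linarith

theorem strictMono_add_le {n : ℕ} (f : Fin n → ℕ) (hf : StrictMono f) (a b : Fin n)
    (hab : a ≤ b) : f a + ((b : ℕ) - a) ≤ f b := by
  have key : ∀ d : ℕ, ∀ b : Fin n, (b : ℕ) = a + d → f a + d ≤ f b := by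
    intro d
    induction d with
    | zero =>
      intro b hb
      have : b = a := Fin.ext (by simpa using hb)
      rw [this]; simp
    | succ d ih =>
      intro b hb
      have hc : (a : ℕ) + d < n := by have := b.2; omega
      have h1 := ih ⟨a + d, hc⟩ rfl
      have h2 : f ⟨a + d, hc⟩ < f b := hf (Fin.lt_def.mpr (by simp only []; omega))
      omega
  have h1 : (a : ℕ) ≤ b := Fin.le_def.mp hab
  exact key ((b : ℕ) - a) b (by omega)

theorem ord_le_zero_of_mem_L_single (hK : IsFunctionField k K) (P : Place k K) (hP : P.deg = 1)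
    (m : ℤ) {h : K} (h0 : h ≠ 0) (hL : h ∈ L (Finsupp.single P m : Divisor k K)) :
    P.ord h ≤ 0 := by
  by_contra hpos
  push Not at hpos
  have hmem : h ∈ L (Finsupp.single P (-1 : ℤ) : Divisor k K) := by
    rw [FF.mem_L_iff_ord _ h0] at hL ⊢
    intro Q
    by_cases hQ : Q = P
    · subst hQ
      rw [Finsupp.single_eq_same]
      omega
    · have := hL Q
      rw [Finsupp.single_eq_of_ne hQ] at this ⊢
      exact this
  have hbot := FF.L_eq_bot_of_deg_neg hK (Finsupp.single P (-1 : ℤ) : Divisor k K)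
    (by rw [FF.deg_single, hP]; norm_num)
  rw [hbot, Submodule.mem_bot] at hmem
  exact h0 hmem

theorem exists_mem_L_single_ord_eq (hK : IsFunctionField k K) (P : Place k K) (hP : P.deg = 1)
    (m : ℕ) (hm : 2 * genus k K ≤ m) :
    ∃ x : K, x ≠ 0 ∧ x ∈ L (Finsupp.single P (m : ℤ) : Divisor k K) ∧ P.ord x = -(m : ℤ) := by
  classical
  rw [← FF.not_isGap_iff]
  intro hgap
  have h1 := FF.ell_single_step hK P hP m
  rw [if_pos hgap, add_zero] at h1
  have h2 := FF.ell_eq_of_deg_ge hK (Finsupp.single P (m : ℤ) : Divisor k K)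
    (by rw [FF.deg_single, hP]; push_cast; omega)
  have h3 := FF.ell_eq_of_deg_ge hK (Finsupp.single P ((m : ℤ) - 1) : Divisor k K)
    (by rw [FF.deg_single, hP]; push_cast; omega)
  rw [FF.deg_single, hP] at h2 h3
  rw [h1] at h2
  push_cast at h2 h3
  omega

/-- the `τ`-orders of the complete linear system `|(a + 2g) P₀|` at a strong fixed point `P₀` -/
theorem two_mul_sum_orders_le [IsAlgClosed k] (hK : IsFunctionField k K) (τ : K →ₐ[k] K)
    (P₀ : Place k K) (hstrong : IsStrongFixedPt τ P₀) {a : ℕ} (ha : 0 < a)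
    (φ : Fin (a + genus k K + 1) → K) (hφ : LinearIndependent k φ)
    (hspan : Submodule.span k (Set.range φ) =
      L (Finsupp.single P₀ ((a + 2 * genus k K : ℕ) : ℤ) : Divisor k K))
    {s : K} {H : K →ₐ[k] PowerSeries K} (hH : IsHasseFamily s H)
    (J : Fin (a + genus k K) → ℕ) (hJ : IsOrders K (hcol τ H φ) J) :
    2 * ∑ l, J l ≤ (a + genus k K) * (a + genus k K - 1) + 2 * genus k K ^ 2 := by
  have hP := FF.deg_eq_one_of_isAlgClosed hK P₀
  have hn : 0 < a + genus k K := by omega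
  obtain ⟨t, Ht, ht, hHt⟩ := exists_isHasseFamily_local hK P₀ hP hH
  have hφ0 : ∀ i, φ i ≠ 0 := fun i => hφ.ne_zero i
  obtain ⟨y, hy, heff, hnorm⟩ := exists_normalizer (k := k) P₀ φ hφ0
  have hψ := linearIndependent_smul φ hφ y hy
  have hJψ : IsOrders K (hcol τ Ht (y • φ)) J := by
    rw [(smul_change τ hHt φ y hy).1 J, (var_change hK τ hH hHt φ).1 J]
    exact hJ
  obtain ⟨J', hJ'⟩ := exists_isOrdersAt hK P₀ hP (y • φ) hψ heff hnorm ht hHt
  have hpos := one_le_ordersAt hK P₀ hP (y • φ) hnorm ht hHt J' hJ'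
  have hle := orders_add_le_of_strong hK P₀ hP τ hstrong hn (y • φ) hψ heff hnorm ht hHt J hJψ
    J' hJ'
  have hchar := (adapted_basis hK P₀ hP (y • φ) hψ heff hnorm ht hHt J' hJ').2
  obtain ⟨m, hm⟩ : ∃ m : ℕ, m = a + 2 * genus k K := ⟨_, rfl⟩
  rw [← hm] at hspan
  have hmemψ : ∀ x ∈ L (Finsupp.single P₀ (m : ℤ) : Divisor k K),
      y * x ∈ Submodule.span k (Set.range (y • φ)) := by
    intro x hx
    rw [mem_span_smul_iff y hy, ← mul_assoc, inv_mul_cancel₀ hy, one_mul, hspan]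
    exact hx
  have hspan_le : ∀ f ∈ Submodule.span k (Set.range (y • φ)), P₀.1 f ≤ 1 := by
    intro f hf
    obtain ⟨b, rfl⟩ := (Submodule.mem_span_range_iff_exists_fun k).mp hf
    exact val_sum_smul_le_one P₀ _ b (y • φ) hnorm
  have hyinv : y⁻¹ ∈ L (Finsupp.single P₀ (m : ℤ) : Divisor k K) := by
    have := (mem_span_smul_iff y hy φ 1).mp heff
    rwa [mul_one, hspan] at this
  have hordinv : P₀.ord y + P₀.ord y⁻¹ = 0 := by
    rw [← FF.ord_mul P₀ hy (inv_ne_zero hy), mul_inv_cancel₀ hy, FF.ord_one]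
  have hordy : P₀.ord y = m := by
    apply le_antisymm
    · have h1 := (FF.mem_L_iff_ord _ (inv_ne_zero hy)).mp hyinv P₀
      rw [Finsupp.single_eq_same] at h1
      omega
    · obtain ⟨x, hx0, hxL, hxo⟩ := exists_mem_L_single_ord_eq hK P₀ hP m (by omega)
      have h1 := hspan_le _ (hmemψ x hxL)
      rw [← FF.ord_nonneg_iff P₀ (mul_ne_zero hy hx0), FF.ord_mul P₀ hy hx0, hxo] at h1
      omega
  have hJ'le : ∀ l, J' l ≤ m := by
    intro l
    obtain ⟨f, hf, hfv⟩ := (hchar (J' l)).mp (Or.inr ⟨l, rfl⟩)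
    have hf0 : f ≠ 0 := by
      rintro rfl
      rw [map_zero] at hfv
      exact WithZero.exp_ne_zero hfv.symm
    have hh : y⁻¹ * f ∈ L (Finsupp.single P₀ (m : ℤ) : Divisor k K) := by
      rw [← hspan]; exact (mem_span_smul_iff y hy φ f).mp hf
    have hh0 : y⁻¹ * f ≠ 0 := mul_ne_zero (inv_ne_zero hy) hf0
    have h1 := ord_le_zero_of_mem_L_single hK P₀ hP _ hh0 hh
    rw [FF.ord_mul P₀ (inv_ne_zero hy) hf0] at h1
    have h2 := FF.ord_eq_of_val_eq P₀ hfv
    omega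
  have hD : ∀ j : ℕ, 1 ≤ j → j ≤ a → ∃ l, J' l = j := by
    intro j hj1 hja
    obtain ⟨x, hx0, hxL, hxo⟩ := exists_mem_L_single_ord_eq hK P₀ hP (m - j) (by omega)
    have hxL' : x ∈ L (Finsupp.single P₀ (m : ℤ) : Divisor k K) :=
      FF.L_mono (FF.single_mono P₀ (by omega)) hxL
    have hval : P₀.1 (y * x) = WithZero.exp (-(j : ℤ)) := by
      rw [FF.val_eq_exp_neg_ord P₀ (mul_ne_zero hy hx0), FF.ord_mul P₀ hy hx0, hordy, hxo]
      congr 2
      omega
    rcases (hchar j).mpr ⟨y * x, hmemψ x hxL', hval⟩ with h0 | ⟨l, hl⟩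
    · omega
    · exact ⟨l, hl⟩
  have hEi : ∀ i : ℕ, ∀ hi : i < a + genus k K, i < a → J' ⟨i, hi⟩ = i + 1 := by
    intro i
    induction i using Nat.strong_induction_on with
    | _ i ih =>
      intro hi hia
      obtain ⟨l', hl'⟩ := hD (i + 1) (by omega) (by omega)
      rcases lt_trichotomy (l' : ℕ) i with h | h | h
      · have h1 := ih l' h l'.2 (by omega)
        have h2 : J' l' = (l' : ℕ) + 1 := h1
        omega
      · have h1 : l' = ⟨i, hi⟩ := Fin.ext h
        rw [← h1]; exact hl'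
      · have h1 : J' ⟨i, hi⟩ < J' l' := hJ'.1 (Fin.lt_def.mpr h)
        have h2 := strictMono_add_le J' hJ'.1 ⟨0, hn⟩ ⟨i, hi⟩ (Fin.le_def.mpr (Nat.zero_le _))
        have h3 := hpos ⟨0, hn⟩
        simp only [Nat.sub_zero] at h2
        omega
  apply sum_le_of_bounds J
  · intro l hl
    have h1 := hle l
    have h2 : J' l = (l : ℕ) + 1 := hEi l l.2 hl
    have h3 := hpos ⟨0, hn⟩
    omega
  · intro l
    have h1 := hle l
    have h3 := hpos ⟨0, hn⟩
    have h4 := strictMono_add_le J' hJ'.1 l ⟨a + genus k K - 1, by omega⟩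
      (Fin.le_def.mpr (by have := l.2; simp only []; omega))
    have h5 := hJ'le ⟨a + genus k K - 1, by omega⟩
    simp only [] at h4
    have := l.2
    omega

/-- the count of strong fixed points, integral form -/
theorem strong_count_le [IsAlgClosed k] (hK : IsFunctionField k K) (τ : K →ₐ[k] K) {a : ℕ}
    (ha : 0 < a) (P₀ : Place k K) (hP₀ : IsStrongFixedPt τ P₀) :
    {P : Place k K | IsStrongFixedPt τ P}.Finite ∧
    ((a + genus k K : ℕ) : ℤ) * (Set.ncard {P : Place k K | IsStrongFixedPt τ P} : ℤ) ≤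
      (((a + genus k K : ℕ) : ℤ) + (Module.finrank τ.fieldRange K : ℤ)) *
          ((a + 2 * genus k K : ℕ) : ℤ) +
        ((genus k K : ℤ) - 1) * (((a + genus k K : ℕ) : ℤ) * (((a + genus k K : ℕ) : ℤ) - 1) +
          2 * (genus k K : ℤ) ^ 2) := by
  classical
  have hg := FF.isGeometric_of_perfectField k K hK
  obtain ⟨s, hs, hsep⟩ := FF.exists_separating hK hg
  haveI := hsep
  haveI := FF.finiteDimensional_adjoin hK hs
  obtain ⟨H, hH⟩ := HasseBuild.exists_isHasseFamily s hs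
  have hP := FF.deg_eq_one_of_isAlgClosed hK P₀
  obtain ⟨D, hD⟩ : ∃ D : Divisor k K, D = Finsupp.single P₀ ((a + 2 * genus k K : ℕ) : ℤ) :=
    ⟨_, rfl⟩
  have hdegD : D.deg = ((a + 2 * genus k K : ℕ) : ℤ) := by
    rw [hD, FF.deg_single, hP]; simp
  have hell : (ell D : ℤ) = D.deg + 1 - genus k K :=
    FF.ell_eq_of_deg_ge hK D (by rw [hdegD]; push_cast; omega)
  have hfr : Module.finrank k (L D) = a + genus k K + 1 := by
    have h1 : (ell D : ℤ) = ((a + genus k K + 1 : ℕ) : ℤ) := by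
      rw [hell, hdegD]; push_cast; ring
    exact_mod_cast h1
  haveI : FiniteDimensional k (L D) := FF.finiteDimensional_L hK D
  let b := Module.finBasisOfFinrankEq k (L D) hfr
  let φ : Fin (a + genus k K + 1) → K := fun i => (b i : K)
  have hφ : LinearIndependent k φ :=
    b.linearIndependent.map' (L D).subtype (Submodule.ker_subtype _)
  have hspan : Submodule.span k (Set.range φ) = L D := by
    have h1 : Set.range φ = (L D).subtype '' Set.range b := by
      rw [← Set.range_comp]; rfl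
    rw [h1, ← Submodule.map_span, b.span_eq, Submodule.map_top, Submodule.range_subtype]
  obtain ⟨J, hJ, -⟩ := exists_isOrders_det_ne_zero hK hH φ hφ τ
  let Φ : Place k K → (K →ₐ[k] LaurentSeries k) := fun P =>
    Ex.Φ P (FF.deg_eq_one_of_isAlgClosed hK P) (Classical.choose_spec (FF.exists_uniformizer P))
  have hΦ : ∀ P : Place k K, IsExpansionAt P.1 (Φ P) := fun P => Ex.isExpansionAt_Φ P _ _
  obtain ⟨hfin, hcount⟩ := WDivGlob.strong_finite_and_le hK (by omega : 0 < a + genus k K)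
    φ hφ τ hH J hJ Φ hΦ
  refine ⟨hfin, ?_⟩
  rw [WDivGlob.deg_wDiv hK φ τ hH J Φ hΦ] at hcount
  have hM : (mapDiv k φ).deg ≤ ((a + 2 * genus k K : ℕ) : ℤ) := by
    rw [← hdegD]
    apply FF.deg_mono
    intro Q
    rw [mapDiv_apply_le_iff hK φ (fun i => hφ.ne_zero i) Q (D Q), hspan]
    intro f hf
    exact hf Q
  have hup := two_mul_sum_orders_le hK τ P₀ hP₀ ha φ hφ (hD ▸ hspan) hH J hJ
  have hlo := sum_ge_of_strictMono J hJ.1
  have hn1 : 1 ≤ a + genus k K := by omega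
  have hupZ : 2 * ∑ l, (J l : ℤ) ≤ ((a + genus k K : ℕ) : ℤ) * (((a + genus k K : ℕ) : ℤ) - 1) +
      2 * (genus k K : ℤ) ^ 2 := by
    have h1 : ((2 * ∑ l, J l : ℕ) : ℤ) ≤
        (((a + genus k K) * (a + genus k K - 1) + 2 * genus k K ^ 2 : ℕ) : ℤ) := by
      exact_mod_cast hup
    rw [Nat.cast_add, Nat.cast_mul, Nat.cast_mul, Nat.cast_sub hn1] at h1
    push_cast at h1 ⊢
    linarith
  have hloZ : ((a + genus k K : ℕ) : ℤ) * (((a + genus k K : ℕ) : ℤ) - 1) ≤
      2 * ∑ l, (J l : ℤ) := by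
    have h1 : (((a + genus k K) * (a + genus k K - 1) : ℕ) : ℤ) ≤ ((2 * ∑ l, J l : ℕ) : ℤ) := by
      exact_mod_cast hlo
    rw [Nat.cast_mul, Nat.cast_sub hn1] at h1
    push_cast at h1 ⊢
    linarith
  obtain ⟨S, hS⟩ : ∃ S : ℤ, S = ∑ l, (J l : ℤ) := ⟨_, rfl⟩
  obtain ⟨M, hMd⟩ : ∃ M : ℤ, M = (mapDiv k φ).deg := ⟨_, rfl⟩
  obtain ⟨nz, hnz⟩ : ∃ nz : ℤ, nz = ((a + genus k K : ℕ) : ℤ) := ⟨_, rfl⟩
  obtain ⟨dz, hdz⟩ : ∃ dz : ℤ, dz = (Module.finrank τ.fieldRange K : ℤ) := ⟨_, rfl⟩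
  obtain ⟨mz, hmz⟩ : ∃ mz : ℤ, mz = ((a + 2 * genus k K : ℕ) : ℤ) := ⟨_, rfl⟩
  obtain ⟨gz, hgz⟩ : ∃ gz : ℤ, gz = (genus k K : ℤ) := ⟨_, rfl⟩
  rw [← hS, ← hnz, ← hgz] at hupZ
  rw [← hS, ← hnz] at hloZ
  rw [← hS, ← hMd, ← hnz, ← hdz, ← hgz] at hcount
  rw [← hMd, ← hmz] at hM
  rw [← hnz, ← hdz, ← hmz, ← hgz]
  have hdz0 : 0 ≤ dz := by rw [hdz]; positivity
  have hnz0 : 0 ≤ nz := by rw [hnz]; positivity
  have hgz0 : 0 ≤ gz := by rw [hgz]; positivity
  have h_a : (dz + nz) * M ≤ (dz + nz) * mz := mul_le_mul_of_nonneg_left hM (by linarith)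
  have h_b : (2 * gz - 2) * S ≤ (gz - 1) * (nz * (nz - 1) + 2 * gz ^ 2) := by
    have e : (2 * gz - 2) * S = (gz - 1) * (2 * S) := by ring
    rw [e]
    rcases eq_or_lt_of_le hgz0 with h0 | h1
    · rw [← h0]
      linarith
    · exact mul_le_mul_of_nonneg_left hupZ (by omega)
  linarith

theorem real_bound (N d a g : ℝ) (ha : 0 < a) (hg : 0 ≤ g)
    (h : (a + g) * N ≤ ((a + g) + d) * (a + 2 * g) +
      (g - 1) * ((a + g) * ((a + g) - 1) + 2 * g ^ 2)) :
    N ≤ 1 + d + ((a + g) + d / (a + g)) * g + 2 * g ^ 2 * (g - 1) / (a + g) := by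
  have hn : 0 < a + g := by linarith
  have key : (a + g) * N ≤
      (a + g) * (1 + d + ((a + g) + d / (a + g)) * g + 2 * g ^ 2 * (g - 1) / (a + g)) := by
    have e : (a + g) * (1 + d + ((a + g) + d / (a + g)) * g + 2 * g ^ 2 * (g - 1) / (a + g)) =
        ((a + g) + d) * (a + 2 * g) + (g - 1) * ((a + g) * ((a + g) - 1) + 2 * g ^ 2) := by
      field_simp
      ring
    rw [e]; exact h
  exact le_of_mul_le_mul_left key hn

theorem real_nonneg (d a : ℝ) (g : ℕ) (ha : 0 < a) (hd : 0 ≤ d) :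
    (0 : ℝ) ≤ 1 + d + ((a + g) + d / (a + g)) * g + 2 * (g : ℝ) ^ 2 * ((g : ℝ) - 1) / (a + g) := by
  rcases Nat.eq_zero_or_pos g with h0 | h1
  · subst h0
    simp
    linarith
  · have hg1 : (0 : ℝ) ≤ (g : ℝ) - 1 := by
      have : (1 : ℝ) ≤ g := by exact_mod_cast h1
      linarith
    have h2 : (0 : ℝ) ≤ 2 * (g : ℝ) ^ 2 * ((g : ℝ) - 1) / (a + g) :=
      div_nonneg (mul_nonneg (by positivity) hg1) (by positivity)
    have h3 : (0 : ℝ) ≤ ((a + g) + d / (a + g)) * g := by positivity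
    linarith

end Groth.Agent.Helper6.StrongBound
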