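import Mathlib
import Groth.Prelude.Def_EtBase
import Groth.Prelude.Def_EtCore
import Groth.Agent.Helper6.ConstUnitB
import Groth.Agent.Helper9.EtSepClosedSections
import Groth.Agent.Helper9.EtStalkFamily

set_option autoImplicit false
set_option linter.style.haveILetI false
set_option linter.unusedSectionVars false
set_option linter.unusedVariables false
set_option linter.unusedSimpArgs false

/-!
# Abelian étale sheaves on the spectrum of a separably closed field are constant
-/

universe u

open CategoryTheory CategoryTheory.Limits Opposite AlgebraicGeometry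

namespace Groth.Agent.Helper6.SubmA

open Groth.Agent.Helper4.ConstLoc Groth.Agent.Helper6.ConstUnitA Groth.Agent.Helper6.ConstUnitB
  Groth.Agent.Helper9.EtStrictHensSect Groth.Agent.Helper9.EtStalkExact

variable (k : Type u) [Field k] [IsSepClosed k]

attribute [local instance] preservesFilteredColimits_forget_ab ab5_ab

/-- the unit of the constant sheaf adjunction is bijective over a connected base -/
theorem bijective_unit_of_connected (Y : Scheme.{u}) [ConnectedSpace Y]
    (N : AddCommGrpCat.{u + 1}) :
    Function.Bijective ((EtCore.constAdj Y).unit.app N).hom := by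
  have : PreconnectedSpace (EtCoh.top Y).left := inferInstanceAs (PreconnectedSpace Y)
  constructor
  · intro n n' h
    rw [unit_constAdj, unit_constAdj] at h
    obtain ⟨y⟩ := (inferInstance : Nonempty Y)
    exact const_injective N (EtCoh.top Y) y n n' h
  · intro t
    obtain ⟨n, hn⟩ := exists_const_of_preconnected N (EtCoh.top Y) t
    exact ⟨n, (unit_constAdj N n).trans hn.symm⟩

set_option backward.isDefEq.respectTransparency.types false in
theorem isIso_counit (H : EtCoh.Ab (Spec (CommRingCat.of k))) :
    IsIso ((EtCore.constAdj (Spec (CommRingCat.of k))).counit.app H) := by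
  let X : Scheme.{u} := Spec (CommRingCat.of k)
  let ε : cS X ((EtCore.gsec X).obj H) ⟶ H := (EtCore.constAdj X).counit.app H
  show IsIso ε
  let Φ := Scheme.pointSmallEtale (xbar k)
  let P₁ : X.Etaleᵒᵖ ⥤ AddCommGrpCat.{u + 1} := (cS X ((EtCore.gsec X).obj H)).obj
  -- global sections of `ε` are bijective
  have htri := (EtCore.constAdj X).right_triangle_components H
  have hu := bijective_unit_of_connected X ((EtCore.gsec X).obj H)
  have hinv : ∀ m, (ε.hom.app (op (EtCoh.top X))).hom
      (((EtCore.constAdj X).unit.app ((EtCore.gsec X).obj H)).hom m) = m := by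
    intro m
    have := ConcreteCategory.congr_hom htri m
    exact this
  have hΓ : Function.Bijective (ε.hom.app (op (EtCoh.top X))).hom := by
    constructor
    · intro a b hab
      obtain ⟨a', rfl⟩ := hu.2 a
      obtain ⟨b', rfl⟩ := hu.2 b
      rw [hinv a', hinv b'] at hab
      rw [hab]
    · intro m
      exact ⟨_, hinv m⟩
  -- stalk of `ε` is bijective
  have hst : Function.Bijective ((EtCoh.stalk (xbar k)).map ε) := by
    have g1 := bijective_toPresheafFiber k P₁
    have g2 := bijective_toPresheafFiber k H.obj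
    have hnat : ∀ s : P₁.obj (op (EtCoh.top X)),
        (EtCoh.stalk (xbar k)).map ε (Φ.toPresheafFiber (EtCoh.top X) (l₀ k) P₁ s) =
        Φ.toPresheafFiber (EtCoh.top X) (l₀ k) H.obj ((ε.hom.app (op (EtCoh.top X))).hom s) := by
      intro s
      exact Φ.toPresheafFiber_naturality_apply ε.hom _ (l₀ k) s
    constructor
    · intro a b hab
      obtain ⟨a', rfl⟩ := g1.2 a
      obtain ⟨b', rfl⟩ := g1.2 b
      rw [hnat, hnat] at hab
      have := hΓ.1 (g2.1 hab)
      rw [this]
    · intro c
      obtain ⟨c', rfl⟩ := g2.2 c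
      obtain ⟨s, hs⟩ := hΓ.2 c'
      refine ⟨Φ.toPresheafFiber (EtCoh.top X) (l₀ k) P₁ s, ?_⟩
      rw [hnat, hs]
  have hpt : ∀ x : X, ∃ (Ω : Type u) (_ : Field Ω) (_ : IsSepClosed Ω)
      (ξ : Spec (CommRingCat.of Ω) ⟶ X), ξ default = x ∧
      Function.Bijective ((EtCoh.stalk ξ).map ε) := by
    intro x
    exact ⟨_, inferInstance, inferInstance, xbar k, Subsingleton.elim _ _, hst⟩
  have hmono : Mono ε := by
    apply Groth.Agent.Helper9.EtStalkFamily.mono_of_family
    intro x
    obtain ⟨Ω, i1, i2, ξ, hξ, h⟩ := hpt x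
    exact ⟨Ω, i1, i2, ξ, hξ, h.1⟩
  have hepi : Epi ε := by
    apply Groth.Agent.Helper9.EtStalkFamily.epi_of_family
    intro x
    obtain ⟨Ω, i1, i2, ξ, hξ, h⟩ := hpt x
    exact ⟨Ω, i1, i2, ξ, hξ, h.2⟩
  exact isIso_of_mono_of_epi ε

/-- every abelian sheaf on the spectrum of a separably closed field is constant -/
theorem exists_iso_const (H : EtCoh.Ab (Spec (CommRingCat.of k))) :
    ∃ N : AddCommGrpCat.{u + 1}, Nonempty (H ≅ cS (Spec (CommRingCat.of k)) N) := by
  have := isIso_counit k H
  exact ⟨_, ⟨(asIso ((EtCore.constAdj (Spec (CommRingCat.of k))).counit.app H)).symm⟩⟩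

end Groth.Agent.Helper6.SubmA
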