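import Groth.Agent.Helper6.SubmA

set_option autoImplicit false
set_option linter.style.haveILetI false
set_option linter.unusedSectionVars false
set_option linter.unusedVariables false
set_option linter.unusedSimpArgs false

/-!
# The inverse image of a sheaf on a geometric fibre is constant
-/

universe u

open CategoryTheory CategoryTheory.Limits Opposite AlgebraicGeometry

namespace Groth.Agent.Helper6.SubmB

open Groth.Agent.Helper4.ConstLoc

/-- if `i ≫ f` factors through the spectrum of a separably closed field, then `i⁻¹ f⁻¹ F` is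
constant -/
theorem exists_iso_const_of_fac {X S C : Scheme.{u}} (f : X ⟶ S) (i : C ⟶ X)
    (Ω : Type u) [Field Ω] [IsSepClosed Ω] (sb : Spec (CommRingCat.of Ω) ⟶ S)
    (c : C ⟶ Spec (CommRingCat.of Ω)) (hfac : i ≫ f = c ≫ sb) (F : EtCoh.Ab S) :
    ∃ N : AddCommGrpCat.{u + 1},
      Nonempty ((EtCoh.pull i).obj ((EtCoh.pull f).obj F) ≅ cS C N) := by
  obtain ⟨N, ⟨e⟩⟩ := SubmA.exists_iso_const Ω ((EtCoh.pull sb).obj F)
  refine ⟨N, ⟨?_⟩⟩
  exact (EtCore.pullComp i f).symm.app F ≪≫ (EtCore.pullCongr hfac).app F ≪≫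
    (EtCore.pullComp c sb).app F ≪≫ (EtCoh.pull c).mapIso e ≪≫ (EtCore.pullConstIso c).app N

end Groth.Agent.Helper6.SubmB
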