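import Mathlib
import Groth.Prelude.Def_EtBase
import Groth.Prelude.Def_BigSite
import Groth.Agent.Helper9.PropAInt

set_option autoImplicit false
set_option linter.style.haveILetI false
set_option linter.unusedSectionVars false
set_option linter.unusedVariables false
set_option linter.unusedSimpArgs false

/-!
# Étale neighbourhoods along an integral universally injective morphism

For `f : X ⟶ Y` integral and universally injective, every étale neighbourhood of a point of `X`
is dominated by the base change of an étale neighbourhood of its image in `Y`.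
-/

universe u

open CategoryTheory CategoryTheory.Limits Opposite AlgebraicGeometry

namespace Groth.Agent.Helper6.UHomA

/-- topological shrinking along a closed injective map -/
theorem exists_open_preimage_le {P V : Scheme.{u}} (p : P ⟶ V) (hcl : IsClosedMap p)
    (hinj : Function.Injective p) (W : P.Opens) (w : P) (hw : w ∈ W) :
    ∃ V' : V.Opens, p w ∈ V' ∧ p ⁻¹ᵁ V' ≤ W := by
  refine ⟨⟨(p '' ((W : Set P)ᶜ))ᶜ, (hcl _ W.isOpen.isClosed_compl).isOpen_compl⟩, ?_, ?_⟩
  · rintro ⟨z, hz, hzw⟩
    exact hz (hinj hzw ▸ hw)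
  · intro t ht
    by_contra hcon
    exact ht ⟨t, hcon, rfl⟩

variable {X Y : Scheme.{u}} (f : X ⟶ Y)

set_option backward.isDefEq.respectTransparency.types false in
/-- **Key lemma**: an étale neighbourhood of a point of `X` is dominated by the base change of an
étale `Y`-scheme. -/
theorem key1 [IsIntegralHom f] [UniversallyInjective f] (U : X.Etale) (x : U.left) :
    ∃ (V : Y.Etale) (h : (EtCoh.bc f).obj V ⟶ U), x ∈ Set.range h.left := by
  have hUet : Etale U.hom := U.prop
  obtain ⟨V₀, v₀, hv₀, W, hWcl, h, hh, ⟨z, hz⟩⟩ :=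
    Groth.Agent.Helper9.LocalG.propA_of_isIntegralHom f U.left U.hom x
  -- the projection to `V₀`
  let p : pullback f v₀ ⟶ V₀ := pullback.snd f v₀
  have hpint : IsIntegralHom p := inferInstanceAs (IsIntegralHom (pullback.snd f v₀))
  have hpinj : UniversallyInjective p :=
    MorphismProperty.pullback_snd (P := @UniversallyInjective) f v₀ inferInstance
  have hzW : W.ι z ∈ W := by
    rw [← SetLike.mem_coe, ← Scheme.Opens.range_ι]; exact ⟨z, rfl⟩
  obtain ⟨V', hV'z, hV'W⟩ := exists_open_preimage_le p p.isClosedMap p.injective W (W.ι z) hzW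
  have : Etale (V'.ι ≫ v₀) := inferInstance
  let V : Y.Etale := Scheme.Etale.mk (V'.ι ≫ v₀)
  -- the comparison map to `pullback f v₀`
  let k : pullback (V'.ι ≫ v₀) f ⟶ pullback f v₀ :=
    pullback.lift (pullback.snd _ _) (pullback.fst _ _ ≫ V'.ι)
      (by rw [Category.assoc, pullback.condition])
  have hk1 : k ≫ pullback.fst f v₀ = pullback.snd _ _ := pullback.lift_fst _ _ _
  have hk2 : k ≫ p = pullback.fst _ _ ≫ V'.ι := pullback.lift_snd _ _ _
  have hkW : Set.range k ⊆ Set.range W.ι := by
    rintro _ ⟨t, rfl⟩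
    rw [Scheme.Opens.range_ι]
    apply hV'W
    show p (k t) ∈ V'
    rw [← Scheme.Hom.comp_apply, hk2, Scheme.Hom.comp_apply, ← SetLike.mem_coe,
      ← Scheme.Opens.range_ι]
    exact ⟨_, rfl⟩
  let k' : pullback (V'.ι ≫ v₀) f ⟶ W.toScheme := IsOpenImmersion.lift W.ι k hkW
  have hk' : k' ≫ W.ι = k := IsOpenImmersion.lift_fac W.ι k hkW
  have hover : (k' ≫ h) ≫ U.hom = pullback.snd (V'.ι ≫ v₀) f := by
    rw [Category.assoc, hh, ← Category.assoc, hk', hk1]
  refine ⟨V, MorphismProperty.Over.homMk (k' ≫ h) hover trivial, ?_⟩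
  -- the point
  have hisP : IsPullback k (pullback.fst (V'.ι ≫ v₀) f) p V'.ι := by
    have hbig : IsPullback (pullback.snd (V'.ι ≫ v₀) f) (pullback.fst (V'.ι ≫ v₀) f) f
        (V'.ι ≫ v₀) := (IsPullback.of_hasPullback (V'.ι ≫ v₀) f).flip
    have hright : IsPullback (pullback.fst f v₀) p f v₀ := IsPullback.of_hasPullback f v₀
    rw [← hk1] at hbig
    exact IsPullback.of_right hbig hk2 hright
  obtain ⟨a, ha⟩ : ∃ a : V', V'.ι a = p (W.ι z) := by
    have : p (W.ι z) ∈ Set.range V'.ι := by rw [Scheme.Opens.range_ι]; exact hV'z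
    exact this
  obtain ⟨t₀, ht1, ht2⟩ := Scheme.Pullback.exists_preimage_pullback (f := p) (g := V'.ι)
    (W.ι z) a ha.symm
  let t : ↥(pullback (V'.ι ≫ v₀) f) := hisP.isoPullback.inv t₀
  have ht1 : k t = W.ι z := by
    show k (hisP.isoPullback.inv t₀) = _
    rw [← Scheme.Hom.comp_apply, IsPullback.isoPullback_inv_fst]
    exact ht1
  refine ⟨t, ?_⟩
  show (k' ≫ h) t = x
  rw [Scheme.Hom.comp_apply]
  have : k' t = z := by
    apply W.ι.injective
    rw [← Scheme.Hom.comp_apply, hk', ht1]
  rw [this, hz]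

set_option backward.isDefEq.respectTransparency.types false in
/-- relative key lemma -/
theorem key2 [IsIntegralHom f] [UniversallyInjective f] (U : Y.Etale) (V : X.Etale)
    (g : V ⟶ (EtCoh.bc f).obj U) (v : V.left) :
    ∃ (U' : Y.Etale) (g' : U' ⟶ U) (h : (EtCoh.bc f).obj U' ⟶ V),
      v ∈ Set.range h.left ∧ h ≫ g = (EtCoh.bc f).map g' := by
  let iU : pullback U.hom f ⟶ U.left := pullback.fst U.hom f
  have hiUint : IsIntegralHom iU :=
    MorphismProperty.pullback_fst (P := @IsIntegralHom) U.hom f inferInstance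
  have hiUinj : UniversallyInjective iU :=
    MorphismProperty.pullback_fst (P := @UniversallyInjective) U.hom f inferInstance
  have : AlgebraicGeometry.Etale g.left := inferInstance
  let gl : V.left ⟶ pullback U.hom f := g.left
  have : AlgebraicGeometry.Etale gl := ‹_›
  let VU : (pullback U.hom f).Etale := Scheme.Etale.mk gl
  obtain ⟨U'', h'', q, hq⟩ := key1 iU VU v
  let hl : pullback U''.hom iU ⟶ V.left := h''.left
  have hw'' : hl ≫ gl = pullback.snd U''.hom iU := MorphismProperty.Over.w h''
  have : AlgebraicGeometry.Etale U''.hom := U''.prop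
  have : AlgebraicGeometry.Etale U.hom := U.prop
  let U' : Y.Etale := Scheme.Etale.mk (U''.hom ≫ U.hom)
  let g' : U' ⟶ U := MorphismProperty.Over.homMk U''.hom rfl trivial
  let e : pullback U''.hom (pullback.fst U.hom f) ≅ pullback (U''.hom ≫ U.hom) f :=
    pullbackRightPullbackFstIso U.hom f U''.hom
  have hgV : gl ≫ pullback.snd U.hom f = V.hom := MorphismProperty.Over.w g
  have hover : (e.inv ≫ hl) ≫ V.hom = pullback.snd (U''.hom ≫ U.hom) f := by
    rw [← hgV, Category.assoc, ← Category.assoc hl, hw'']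
    exact pullbackRightPullbackFstIso_inv_snd_snd U.hom f U''.hom
  refine ⟨U', g', MorphismProperty.Over.homMk (e.inv ≫ hl) hover trivial, ?_, ?_⟩
  · refine ⟨e.hom q, ?_⟩
    show (e.inv ≫ hl) (e.hom q) = v
    rw [← Scheme.Hom.comp_apply, Iso.hom_inv_id_assoc]
    exact hq
  · apply MorphismProperty.Over.Hom.ext
    show (e.inv ≫ hl) ≫ gl = ((EtCoh.bc f).map g').left
    rw [Category.assoc, hw'']
    apply pullback.hom_ext
    · rw [Category.assoc]
      have h1 := pullbackRightPullbackFstIso_inv_snd_fst U.hom f U''.hom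
      refine h1.trans ?_
      dsimp [EtCoh.bc]
      exact (pullback.lift_fst _ _ _).symm
    · rw [Category.assoc]
      have h1 := pullbackRightPullbackFstIso_inv_snd_snd U.hom f U''.hom
      refine h1.trans ?_
      dsimp [EtCoh.bc]
      exact (pullback.lift_snd _ _ _).symm

end Groth.Agent.Helper6.UHomA
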