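import Mathlib
import Groth.Prelude.Def_EtBase
import Groth.Agent.Helper6.UHomA
import Groth.Agent.Helper9.EtClosedStalk
import Groth.Agent.Helper9.PointComapCounit

set_option autoImplicit false
set_option linter.style.haveILetI false
set_option linter.unusedSectionVars false
set_option linter.unusedVariables false
set_option linter.unusedSimpArgs false

/-!
# Stalks of the direct image along an integral universally injective morphism

`(f_* G)_{f ζ} ≅ G_ζ`, the counit `f⁻¹ f_* G ⟶ G` is an isomorphism and `f_*` is fully faithful.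
-/

universe u

open CategoryTheory CategoryTheory.Limits Opposite AlgebraicGeometry

namespace Groth.Agent.Helper6.UHomB

open Groth.Agent.Helper9.EtStalkPull Groth.Agent.Helper9.EtStalkExact
  Groth.Agent.Helper9.EtClosedStalk

variable {X Y : Scheme.{u}} (f : X ⟶ Y) {Ω : Type u} [Field Ω] [IsSepClosed Ω]
  (ζ : Spec (CommRingCat.of Ω) ⟶ X)

set_option backward.isDefEq.respectTransparency.types false in
/-- geometric points lift through étale morphisms containing their image -/
theorem exists_lift_fiber' {T V : X.Etale} (h : T ⟶ V)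
    (v : (Scheme.pointSmallEtale ζ).fiber.obj V)
    (hv : ∃ t : T.left, h.left t = (show Spec (CommRingCat.of Ω) ⟶ V.left from v.left) default) :
    ∃ y : (Scheme.pointSmallEtale ζ).fiber.obj T, (Scheme.pointSmallEtale ζ).fiber.map h y = v := by
  let vl : Spec (CommRingCat.of Ω) ⟶ V.left := v.left
  have hvl : vl ≫ V.hom = ζ := Over.w v
  let hl : T.left ⟶ V.left := h.left
  have het : Etale hl := by
    have h1 : Etale V.hom := V.prop
    have h2 : Etale (hl ≫ V.hom) := by
      rw [show hl ≫ V.hom = T.hom from MorphismProperty.Over.w h]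
      exact T.prop
    exact MorphismProperty.of_postcomp (W := @Etale) (W' := @Etale) hl V.hom h1 h2
  have hw : hl ≫ V.hom = T.hom := MorphismProperty.Over.w h
  obtain ⟨t, ht⟩ := hv
  obtain ⟨y₀, hy₀, -⟩ := Scheme.exists_fac_of_etale_of_isSepClosed hl vl t ht
  refine ⟨Over.homMk y₀ ?_, ?_⟩
  · show y₀ ≫ T.hom = ζ
    rw [← hw, ← Category.assoc, hy₀, hvl]
  · apply Over.OverMorphism.ext
    exact hy₀

section Concrete

variable {A : Type*} [Category A] [HasColimitsOfSize.{u, u} A]
  {FC : A → A → Type*} {CC : A → Type*}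
  [∀ X Y : A, FunLike (FC X Y) (CC X) (CC Y)] [ConcreteCategory A FC]
  [PreservesFilteredColimitsOfSize.{u, u} (forget A)]

set_option backward.isDefEq.respectTransparency.types false in
theorem comp_bijective [IsIntegralHom f] [UniversallyInjective f] (P : X.Etaleᵒᵖ ⥤ A) :
    Function.Bijective (comp f ζ P) := by
  constructor
  · intro t₁ t₂ ht
    obtain ⟨U, y, s₁, s₂, rfl, rfl⟩ := (comapPt f ζ).toPresheafFiber_jointly_surjective₂ t₁ t₂
    rw [toPresheafFiber_comp_apply, toPresheafFiber_comp_apply] at ht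
    obtain ⟨V, g, v, hv, hg⟩ :=
      ((Scheme.pointSmallEtale ζ).toPresheafFiber_eq_iff' _ y s₁ s₂).1 ht
    let vl : Spec (CommRingCat.of Ω) ⟶ V.left := v.left
    obtain ⟨U', g', h, ⟨t, ht⟩, hcomp⟩ :=
      Groth.Agent.Helper6.UHomA.key2 f U V g (vl default)
    obtain ⟨y', hy'⟩ := exists_lift_fiber' ζ h v ⟨t, ht⟩
    have hy'' : (comapPt f ζ).fiber.map g' y' = y := by
      show (Scheme.pointSmallEtale ζ).fiber.map ((EtCoh.bc f).map g') y' = y
      rw [← hcomp, Functor.map_comp]
      show (Scheme.pointSmallEtale ζ).fiber.map g ((Scheme.pointSmallEtale ζ).fiber.map h y') = y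
      rw [hy', hv]
    have e₁ := (comapPt f ζ).toPresheafFiber_w_apply g' y' ((EtCoh.bc f).op ⋙ P) s₁
    have e₂ := (comapPt f ζ).toPresheafFiber_w_apply g' y' ((EtCoh.bc f).op ⋙ P) s₂
    rw [hy''] at e₁ e₂
    rw [← e₁, ← e₂]
    congr 1
    show P.map ((EtCoh.bc f).map g').op s₁ = P.map ((EtCoh.bc f).map g').op s₂
    rw [← hcomp, op_comp, Functor.map_comp, ConcreteCategory.comp_apply,
      ConcreteCategory.comp_apply, hg]
  · intro t
    obtain ⟨V, v, s, rfl⟩ := (Scheme.pointSmallEtale ζ).toPresheafFiber_jointly_surjective t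
    let vl : Spec (CommRingCat.of Ω) ⟶ V.left := v.left
    obtain ⟨U, h, ⟨t, ht⟩⟩ := Groth.Agent.Helper6.UHomA.key1 f V (vl default)
    obtain ⟨y, hy⟩ := exists_lift_fiber' ζ h v ⟨t, ht⟩
    refine ⟨(comapPt f ζ).toPresheafFiber U y ((EtCoh.bc f).op ⋙ P) (P.map h.op s), ?_⟩
    rw [toPresheafFiber_comp_apply]
    have e := (Scheme.pointSmallEtale ζ).toPresheafFiber_w_apply h y P s
    rw [hy] at e
    exact e

end Concrete

section FF

variable [IsIntegralHom f] [UniversallyInjective f]

attribute [local instance] preservesFilteredColimits_forget_ab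

theorem isIso_stalk_map_counit (G : EtCoh.Ab X) :
    IsIso ((EtCoh.stalk ζ).map ((EtCoh.pullPushAdj f).counit.app G)) := by
  have : ((EtCoh.bc f).sheafPushforwardContinuous AddCommGrpCat.{u + 1}
      Y.smallEtaleTopology X.smallEtaleTopology).IsRightAdjoint :=
    (EtCoh.pullPushAdj f).isRightAdjoint
  have h := Groth.Agent.Helper9.PointComapCounit.hom_app_comp_map_counit
    (Scheme.pointSmallEtale ζ) (EtCoh.bc f) (EtCoh.coverPreserving_bc f) AddCommGrpCat.{u + 1} G
  have hc : IsIso (Groth.Agent.Helper9.PointComapCounit.comp (Scheme.pointSmallEtale ζ)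
      (EtCoh.bc f) (EtCoh.coverPreserving_bc f) AddCommGrpCat.{u + 1} G.obj) :=
    (ConcreteCategory.isIso_iff_bijective _).2 (comp_bijective f ζ G.obj)
  rw [← h] at hc
  exact @IsIso.of_isIso_comp_left _ _ _ _ _
    (((Scheme.pointSmallEtale ζ).sheafFiberComapIso (EtCoh.bc f) (EtCoh.coverPreserving_bc f)
      AddCommGrpCat.{u + 1}).hom.app ((EtCoh.push f).obj G)) _ inferInstance hc

theorem isIso_counit_app (G : EtCoh.Ab X) : IsIso ((EtCoh.pullPushAdj f).counit.app G) := by
  have hm : Mono ((EtCoh.pullPushAdj f).counit.app G) := by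
    rw [mono_iff_stalks]
    intro Ω _ _ ζ
    have := isIso_stalk_map_counit f ζ G
    exact ((ConcreteCategory.isIso_iff_bijective _).1 this).1
  have he : Epi ((EtCoh.pullPushAdj f).counit.app G) := by
    rw [epi_iff_stalks]
    intro Ω _ _ ζ
    have := isIso_stalk_map_counit f ζ G
    exact ((ConcreteCategory.isIso_iff_bijective _).1 this).2
  exact isIso_of_mono_of_epi _

theorem isIso_counit : IsIso (EtCoh.pullPushAdj f).counit :=
  haveI := isIso_counit_app f
  NatIso.isIso_of_isIso_app _

/-- `f_*` is fully faithful -/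
noncomputable def fullyFaithful : (EtCoh.push f).FullyFaithful :=
  haveI := isIso_counit f
  (EtCoh.pullPushAdj f).fullyFaithfulROfIsIsoCounit

theorem full_and_faithful : (EtCoh.push f).Full ∧ (EtCoh.push f).Faithful :=
  ⟨(fullyFaithful f).full, (fullyFaithful f).faithful⟩

end FF

end Groth.Agent.Helper6.UHomB
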