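import Groth.Agent.Helper6.SubmB
import Groth.Agent.Helper6.UHomB
import Groth.Agent.Helper9.EtSectAgree

set_option autoImplicit false
set_option linter.style.haveILetI false
set_option linter.unusedSectionVars false
set_option linter.unusedVariables false
set_option linter.unusedSimpArgs false

/-!
# Agreement of two sections at a point, in terms of germs
-/

universe u

open CategoryTheory CategoryTheory.Limits Opposite AlgebraicGeometry

namespace Groth.Agent.Helper6.SubmC

open Groth.Agent.Helper9.EtStalkExact Groth.Agent.Helper9.EtStalkPull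

attribute [local instance] preservesFilteredColimits_forget_ab

variable {X : Scheme.{u}} (P : EtCoh.Ab X)

/-- two sections of `P` over `U` agree étale locally at the point `u` of `U` -/
def AgreeAt (U : X.Etale) (α β : P.obj.obj (op U)) (u : U.left) : Prop :=
  ∃ (W : X.Etale) (g : W ⟶ U) (w : W.left), g.left w = u ∧ P.obj.map g.op α = P.obj.map g.op β

theorem isOpen_setOf_agreeAt (U : X.Etale) (α β : P.obj.obj (op U)) :
    IsOpen {u | AgreeAt P U α β u} := by
  rw [isOpen_iff_forall_mem_open]
  rintro u ⟨W, g, w, rfl, hg⟩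
  have : Etale g.left := Groth.Agent.Helper9.EtPropA.etale_left g
  refine ⟨Set.range g.left.base, ?_, g.left.isOpenMap.isOpen_range, ⟨w, rfl⟩⟩
  rintro _ ⟨w', rfl⟩
  exact ⟨W, g, w', rfl, hg⟩

variable {C : Scheme.{u}} (i : C ⟶ X) {Ω : Type u} [Field Ω] [IsSepClosed Ω]
  (γ : Spec (CommRingCat.of Ω) ⟶ C)

/-- the point of `U` under a lift of `γ` to `U ×_X C` -/
noncomputable def ptOf (U : X.Etale) (y : (comapPt i γ).fiber.obj U) : U.left :=
  (pullback.fst U.hom i : ((EtCoh.bc i).obj U).left ⟶ U.left)
    ((show Spec (CommRingCat.of Ω) ⟶ ((EtCoh.bc i).obj U).left from y.left) default)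

set_option backward.isDefEq.respectTransparency.types false in
theorem ptOf_map {U W : X.Etale} (g : W ⟶ U) (y' : (comapPt i γ).fiber.obj W) :
    ptOf i γ U ((comapPt i γ).fiber.map g y') = g.left (ptOf i γ W y') := by
  have sq := EtCoh.isPullback_bc_map i g
  let yl : Spec (CommRingCat.of Ω) ⟶ ((EtCoh.bc i).obj W).left := y'.left
  show (pullback.fst U.hom i : ((EtCoh.bc i).obj U).left ⟶ U.left)
      ((yl ≫ ((EtCoh.bc i).map g).left) default) =
    g.left ((pullback.fst W.hom i : ((EtCoh.bc i).obj W).left ⟶ W.left) (yl default))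
  let m : ((EtCoh.bc i).obj W).left ⟶ ((EtCoh.bc i).obj U).left := ((EtCoh.bc i).map g).left
  let fU : ((EtCoh.bc i).obj U).left ⟶ U.left := pullback.fst U.hom i
  let fW : ((EtCoh.bc i).obj W).left ⟶ W.left := pullback.fst W.hom i
  have hw : m ≫ fU = fW ≫ g.left := sq.w
  calc fU ((yl ≫ m) default) = fU (m (yl default)) := by rw [Scheme.Hom.comp_apply]
    _ = (m ≫ fU) (yl default) := (Scheme.Hom.comp_apply m fU _).symm
    _ = (fW ≫ g.left) (yl default) := by rw [hw]
    _ = g.left (fW (yl default)) := Scheme.Hom.comp_apply fW g.left _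

set_option backward.isDefEq.respectTransparency.types false in
/-- equal germs give local agreement -/
theorem agreeAt_of_germ (U : X.Etale) (α β : P.obj.obj (op U)) (y : (comapPt i γ).fiber.obj U)
    (h : (comapPt i γ).toPresheafFiber U y P.obj α = (comapPt i γ).toPresheafFiber U y P.obj β) :
    AgreeAt P U α β (ptOf i γ U y) := by
  obtain ⟨W, g, y', hy', hg⟩ := ((comapPt i γ).toPresheafFiber_eq_iff' U y α β).1 h
  refine ⟨W, g, ptOf i γ W y', ?_, hg⟩
  rw [← ptOf_map, hy']

set_option backward.isDefEq.respectTransparency.types false in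
/-- local agreement gives equal germs -/
theorem germ_of_agreeAt (U : X.Etale) (α β : P.obj.obj (op U)) (y : (comapPt i γ).fiber.obj U)
    (h : AgreeAt P U α β (ptOf i γ U y)) :
    (comapPt i γ).toPresheafFiber U y P.obj α = (comapPt i γ).toPresheafFiber U y P.obj β := by
  obtain ⟨W, g, w, hw, hg⟩ := h
  have sq := EtCoh.isPullback_bc_map i g
  let yl : Spec (CommRingCat.of Ω) ⟶ ((EtCoh.bc i).obj U).left := y.left
  obtain ⟨z, hz1, -⟩ := Scheme.Pullback.exists_preimage_pullback
    (f := (pullback.fst U.hom i : ((EtCoh.bc i).obj U).left ⟶ U.left)) (g := g.left)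
    (yl default) w hw.symm
  have hz : ((EtCoh.bc i).map g).left (sq.isoPullback.inv z) = yl default := by
    have e1 : sq.isoPullback.inv ≫ ((EtCoh.bc i).map g).left =
        pullback.fst (pullback.fst U.hom i : ((EtCoh.bc i).obj U).left ⟶ U.left) g.left :=
      IsPullback.isoPullback_inv_fst sq
    rw [← Scheme.Hom.comp_apply, e1]
    exact hz1
  obtain ⟨y', hy'⟩ := UHomB.exists_lift_fiber' γ ((EtCoh.bc i).map g) y ⟨_, hz⟩
  exact ((comapPt i γ).toPresheafFiber_eq_iff' U y α β).2 ⟨W, g, y', hy', hg⟩

end Groth.Agent.Helper6.SubmC
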