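import Groth.Agent.Helper6.SubmC

set_option autoImplicit false
set_option linter.style.haveILetI false
set_option linter.unusedSectionVars false
set_option linter.unusedVariables false
set_option linter.unusedSimpArgs false

/-!
# Agreement of two sections along a connected scheme on which the sheaf becomes constant
-/

universe u

open CategoryTheory CategoryTheory.Limits Opposite AlgebraicGeometry

namespace Groth.Agent.Helper6.SubmD

open Groth.Agent.Helper9.EtStalkExact Groth.Agent.Helper9.EtStalkPull
  Groth.Agent.Helper4.ConstLoc Groth.Agent.Helper6.SubmC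

attribute [local instance] preservesFilteredColimits_forget_ab

variable {X : Scheme.{u}} (P : EtCoh.Ab X) (U : X.Etale) (α β : P.obj.obj (op U))
  {C : Scheme.{u}} (k : C ⟶ U.left)

/-- the section of `U ×_X C ⟶ C` given by `k` -/
noncomputable def κ : EtCoh.top C ⟶ (EtCoh.bc (k ≫ U.hom)).obj U :=
  MorphismProperty.Over.homMk (pullback.lift k (𝟙 C) (Category.id_comp _).symm)
    (pullback.lift_snd _ _ _) trivial

/-- the pulled back section over `C` -/
noncomputable def rsec (a : P.obj.obj (op U)) :
    ((EtCoh.pull (k ≫ U.hom)).obj P).obj.obj (op (EtCoh.top C)) :=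
  ((EtCoh.pull (k ≫ U.hom)).obj P).obj.map (κ U k).op
    (((EtCoh.pullPushAdj (k ≫ U.hom)).unit.app P).hom.app (op U) a)

variable {Ω : Type u} [Field Ω] [IsSepClosed Ω] (γ : Spec (CommRingCat.of Ω) ⟶ C)

/-- the tautological lift of `γ` to the terminal object -/
noncomputable abbrev l₀ : (Scheme.pointSmallEtale γ).fiber.obj (EtCoh.top C) :=
  Over.homMk γ (Category.comp_id _)

/-- the lift of `γ` to `U ×_X C` given by `k` -/
noncomputable abbrev yk : (comapPt (k ≫ U.hom) γ).fiber.obj U :=
  (Scheme.pointSmallEtale γ).fiber.map (κ U k) (l₀ γ)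

set_option backward.isDefEq.respectTransparency.types false in
theorem ptOf_yk : ptOf (k ≫ U.hom) γ U (yk U k γ) = k (γ default) := by
  let fU : ((EtCoh.bc (k ≫ U.hom)).obj U).left ⟶ U.left := pullback.fst U.hom (k ≫ U.hom)
  let kl : C ⟶ ((EtCoh.bc (k ≫ U.hom)).obj U).left :=
    pullback.lift k (𝟙 C) (Category.id_comp _).symm
  have h1 : kl ≫ fU = k := pullback.lift_fst _ _ _
  show fU ((γ ≫ kl) default) = k (γ default)
  calc fU ((γ ≫ kl) default) = fU (kl (γ default)) := by rw [Scheme.Hom.comp_apply]
    _ = (kl ≫ fU) (γ default) := (Scheme.Hom.comp_apply kl fU _).symm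
    _ = k (γ default) := by rw [h1]

/-- germs of the pulled back sections agree iff the sections agree at the point -/
theorem germ_rsec_iff :
    (Scheme.pointSmallEtale γ).toPresheafFiber (EtCoh.top C) (l₀ γ)
        ((EtCoh.pull (k ≫ U.hom)).obj P).obj (rsec P U k α) =
      (Scheme.pointSmallEtale γ).toPresheafFiber (EtCoh.top C) (l₀ γ)
        ((EtCoh.pull (k ≫ U.hom)).obj P).obj (rsec P U k β) ↔
    AgreeAt P U α β (k (γ default)) := by
  have h1 := (Scheme.pointSmallEtale γ).toPresheafFiber_w_apply (κ U k) (l₀ γ)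
    ((EtCoh.pull (k ≫ U.hom)).obj P).obj
    (((EtCoh.pullPushAdj (k ≫ U.hom)).unit.app P).hom.app (op U) α)
  have h2 := (Scheme.pointSmallEtale γ).toPresheafFiber_w_apply (κ U k) (l₀ γ)
    ((EtCoh.pull (k ≫ U.hom)).obj P).obj
    (((EtCoh.pullPushAdj (k ≫ U.hom)).unit.app P).hom.app (op U) β)
  have h3 := Groth.Agent.Helper9.EtSectAgree.germ_eq_iff P (k ≫ U.hom) γ U (yk U k γ) α β
  have h4 : (comapPt (k ≫ U.hom) γ).toPresheafFiber U (yk U k γ) P.obj α =
      (comapPt (k ≫ U.hom) γ).toPresheafFiber U (yk U k γ) P.obj β ↔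
      AgreeAt P U α β (k (γ default)) := by
    rw [← ptOf_yk U k γ]
    exact ⟨agreeAt_of_germ P (k ≫ U.hom) γ U α β (yk U k γ),
      germ_of_agreeAt P (k ≫ U.hom) γ U α β (yk U k γ)⟩
  refine Iff.trans ?_ (h3.trans h4)
  unfold rsec
  rw [h1, h2]
  exact Iff.rfl

omit γ in
/-- **Saturation**: along a connected scheme over which `P` becomes constant, agreement at one
point propagates to all points. -/
theorem agreeAt_of_connected [ConnectedSpace C] (N : AddCommGrpCat.{u + 1})
    (e : (EtCoh.pull (k ≫ U.hom)).obj P ≅ cS C N) (c₁ c₂ : C)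
    (h : AgreeAt P U α β (k c₁)) : AgreeAt P U α β (k c₂) := by
  have : PreconnectedSpace (EtCoh.top C).left := inferInstanceAs (PreconnectedSpace C)
  let Q := (EtCoh.pull (k ≫ U.hom)).obj P
  let T := EtCoh.top C
  obtain ⟨nα, hnα⟩ := ConstUnitB.exists_const_of_preconnected N T
    (e.hom.hom.app (op T) (rsec P U k α))
  obtain ⟨nβ, hnβ⟩ := ConstUnitB.exists_const_of_preconnected N T
    (e.hom.hom.app (op T) (rsec P U k β))
  -- the two constants agree
  have hn : nα = nβ := by
    have hc₁ := geomPt_default c₁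
    rw [← hc₁] at h
    have h1 := (germ_rsec_iff P U α β k (geomPt c₁)).2 h
    obtain ⟨Z, g, z, hz, hg⟩ :=
      ((Scheme.pointSmallEtale (geomPt c₁)).toPresheafFiber_eq_iff' T (l₀ (geomPt c₁)) _ _).1 h1
    have h2 := congrArg (e.hom.hom.app (op Z)) hg
    have nat := fun r => ConcreteCategory.congr_hom (e.hom.hom.naturality g.op) r
    simp only [ConcreteCategory.comp_apply] at nat
    erw [nat, nat, hnα, hnβ, η_map, η_map] at h2
    let zl : Spec (CommRingCat.of (SeparableClosure (C.residueField c₁))) ⟶ Z.left := z.left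
    exact const_injective N Z (zl default) nα nβ h2
  have hr : rsec P U k α = rsec P U k β := by
    have hinj : Function.Injective (e.hom.hom.app (op T)) := by
      have : IsIso (e.hom.hom.app (op T)) := by
        have : IsIso e.hom.hom := (inferInstance : IsIso ((sheafToPresheaf _ _).map e.hom))
        infer_instance
      exact ((ConcreteCategory.isIso_iff_bijective _).1 this).1
    apply hinj
    rw [hnα, hnβ, hn]
  have h3 := (germ_rsec_iff P U α β k (geomPt c₂)).1 (by rw [hr])
  rw [geomPt_default] at h3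
  exact h3

end Groth.Agent.Helper6.SubmD
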