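import Groth.Agent.Helper6.SubmD

set_option autoImplicit false
set_option linter.style.haveILetI false
set_option linter.unusedSectionVars false
set_option linter.unusedVariables false
set_option linter.unusedSimpArgs false

/-!
# Saturation of the agreement locus along a morphism with connected geometric fibres
-/

universe u

open CategoryTheory CategoryTheory.Limits Opposite AlgebraicGeometry

namespace Groth.Agent.Helper6.SubmE

open Groth.Agent.Helper4.ConstLoc Groth.Agent.Helper6.SubmC

variable {X S : Scheme.{u}} (f : X ⟶ S)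
  (hc : ∀ (Ω : Type u) [Field Ω] [IsAlgClosed Ω] (s : Spec (CommRingCat.of Ω) ⟶ S),
    ConnectedSpace ↥(pullback f s))
  (F : EtCoh.Ab S)

/-- a geometric point with algebraically closed field over a given point -/
noncomputable def algPt {Z : Scheme.{u}} (z : Z) :
    Spec (CommRingCat.of (AlgebraicClosure (Z.residueField z))) ⟶ Z :=
  Spec.map (CommRingCat.ofHom (algebraMap (Z.residueField z) (AlgebraicClosure (Z.residueField z)))) ≫
    Z.fromSpecResidueField z

lemma algPt_apply {Z : Scheme.{u}} (z : Z) (x) : (algPt z) x = z := by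
  unfold algPt
  rw [Scheme.Hom.comp_apply]
  exact Scheme.fromSpecResidueField_apply _ _

include hc in
set_option backward.isDefEq.respectTransparency.types false in
/-- **Saturation** of the agreement locus with respect to the projection `X ×_S V ⟶ V`. -/
theorem agreeAt_of_same_image (V : S.Etale)
    (α β : ((EtCoh.pull f).obj F).obj.obj (op ((EtCoh.bc f).obj V)))
    (u₁ u₂ : ((EtCoh.bc f).obj V).left)
    (hu : (pullback.fst V.hom f : ((EtCoh.bc f).obj V).left ⟶ V.left) u₁ =
      (pullback.fst V.hom f : ((EtCoh.bc f).obj V).left ⟶ V.left) u₂)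
    (h : AgreeAt ((EtCoh.pull f).obj F) ((EtCoh.bc f).obj V) α β u₁) :
    AgreeAt ((EtCoh.pull f).obj F) ((EtCoh.bc f).obj V) α β u₂ := by
  let U : X.Etale := (EtCoh.bc f).obj V
  let prV : U.left ⟶ V.left := pullback.fst V.hom f
  have hUhom : U.hom = pullback.snd V.hom f := rfl
  have hcond : prV ≫ V.hom = U.hom ≫ f := pullback.condition
  obtain ⟨z, hz1, hz2⟩ := Scheme.Pullback.exists_preimage_pullback (f := prV) (g := prV) u₁ u₂ hu
  let Ω := AlgebraicClosure ((pullback prV prV).residueField z)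
  let ζ : Spec (CommRingCat.of Ω) ⟶ pullback prV prV := algPt z
  let ζ₁ : Spec (CommRingCat.of Ω) ⟶ U.left := ζ ≫ pullback.fst prV prV
  let ζ₂ : Spec (CommRingCat.of Ω) ⟶ U.left := ζ ≫ pullback.snd prV prV
  have hζ₁ : ζ₁ default = u₁ := by
    show (ζ ≫ pullback.fst prV prV) default = u₁
    rw [Scheme.Hom.comp_apply, algPt_apply, hz1]
  have hζ₂ : ζ₂ default = u₂ := by
    show (ζ ≫ pullback.snd prV prV) default = u₂
    rw [Scheme.Hom.comp_apply, algPt_apply, hz2]
  let vb : Spec (CommRingCat.of Ω) ⟶ V.left := ζ₁ ≫ prV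
  have hvb : ζ₂ ≫ prV = vb := by
    show (ζ ≫ pullback.snd prV prV) ≫ prV = (ζ ≫ pullback.fst prV prV) ≫ prV
    rw [Category.assoc, Category.assoc, pullback.condition]
  let sb : Spec (CommRingCat.of Ω) ⟶ S := vb ≫ V.hom
  haveI : ConnectedSpace ↥(pullback f sb) := hc Ω sb
  let C : Scheme.{u} := pullback f sb
  let k : C ⟶ U.left := pullback.lift (pullback.snd f sb ≫ vb) (pullback.fst f sb) (by
    rw [Category.assoc]
    exact pullback.condition.symm)
  have hk1 : k ≫ prV = pullback.snd f sb ≫ vb := pullback.lift_fst _ _ _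
  have hk2 : k ≫ U.hom = pullback.fst f sb := pullback.lift_snd _ _ _
  have hy : ∀ (ζ' : Spec (CommRingCat.of Ω) ⟶ U.left), ζ' ≫ prV = vb →
      ∃ c : C, k c = ζ' default := by
    intro ζ' hζ'
    let yb : Spec (CommRingCat.of Ω) ⟶ C := pullback.lift (ζ' ≫ U.hom) (𝟙 _) (by
      rw [Category.assoc, ← hcond, ← Category.assoc, hζ', Category.id_comp])
    have e : yb ≫ k = ζ' := by
      apply pullback.hom_ext
      · show (yb ≫ k) ≫ prV = ζ' ≫ prV
        rw [Category.assoc, hk1, ← Category.assoc, pullback.lift_snd, Category.id_comp, hζ']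
      · show (yb ≫ k) ≫ U.hom = ζ' ≫ U.hom
        rw [Category.assoc, hk2, pullback.lift_fst]
    refine ⟨yb default, ?_⟩
    rw [← Scheme.Hom.comp_apply, e]
  obtain ⟨c₁, hc₁⟩ := hy ζ₁ rfl
  obtain ⟨c₂, hc₂⟩ := hy ζ₂ hvb
  have hfac : (k ≫ U.hom) ≫ f = pullback.snd f sb ≫ sb := by
    rw [hk2]
    exact pullback.condition
  obtain ⟨N, ⟨e⟩⟩ := SubmB.exists_iso_const_of_fac f (k ≫ U.hom) Ω sb (pullback.snd f sb) hfac F
  have h1 : AgreeAt ((EtCoh.pull f).obj F) U α β (k c₁) := by
    rw [hc₁, hζ₁]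
    exact h
  have h2 := SubmD.agreeAt_of_connected ((EtCoh.pull f).obj F) U α β k N e c₁ c₂ h1
  rw [hc₂, hζ₂] at h2
  exact h2

end Groth.Agent.Helper6.SubmE
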