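import Groth.Agent.Helper6.SubmF

set_option autoImplicit false
set_option linter.style.haveILetI false
set_option linter.unusedSectionVars false
set_option linter.unusedVariables false
set_option linter.unusedSimpArgs false

/-!
# Sections of the inverse image along a universally submersive morphism with connected
geometric fibres
-/

universe u

open CategoryTheory CategoryTheory.Limits Opposite AlgebraicGeometry

namespace Groth.Agent.Helper6.SubmG

open Groth.Agent.Helper4.ConstLoc Groth.Agent.Helper6.SubmC Groth.Agent.Helper9.EtStalkExact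
  Groth.Agent.Helper9.EtStalkPull Groth.Agent.Helper6.SubmE

attribute [local instance] preservesFilteredColimits_forget_ab

variable {X S : Scheme.{u}} (f : X ⟶ S)
  (hsub : ∀ (S' : Scheme.{u}) (g : S' ⟶ S), Topology.IsQuotientMap (pullback.snd f g).base)
  (hc : ∀ (Ω : Type u) [Field Ω] [IsAlgClosed Ω] (s : Spec (CommRingCat.of Ω) ⟶ S),
    ConnectedSpace ↥(pullback f s))
  (F : EtCoh.Ab S)

include hc in
theorem surjective : Function.Surjective f.base := by
  intro s
  haveI := hc _ (algPt s)
  obtain ⟨z⟩ := (inferInstance : Nonempty ↥(pullback f (algPt s)))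
  refine ⟨(pullback.fst f (algPt s)) z, ?_⟩
  show f ((pullback.fst f (algPt s)) z) = s
  rw [← Scheme.Hom.comp_apply, pullback.condition, Scheme.Hom.comp_apply, algPt_apply]

include hsub in
theorem isQuotientMap_prV (V : S.Etale) :
    Topology.IsQuotientMap (pullback.fst V.hom f).base := by
  have h1 : (pullbackSymmetry V.hom f).hom ≫ pullback.snd f V.hom = pullback.fst V.hom f :=
    pullbackSymmetry_hom_comp_snd _ _
  have h2 : (pullback.fst V.hom f).base =
      (pullback.snd f V.hom).base ∘ (Scheme.homeoOfIso (pullbackSymmetry V.hom f)) := by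
    rw [← h1]
    rfl
  have h3 : ⇑(pullback.fst V.hom f).base =
      ⇑(pullback.snd f V.hom).base ∘ ⇑(Scheme.homeoOfIso (pullbackSymmetry V.hom f)) := by
    rw [← h1]
    rfl
  rw [h3]
  exact (hsub _ V.hom).comp (Scheme.homeoOfIso (pullbackSymmetry V.hom f)).isQuotientMap

/-- the unit on sections -/
noncomputable abbrev un (V : S.Etale) (a : F.obj.obj (op V)) :
    ((EtCoh.pull f).obj F).obj.obj (op ((EtCoh.bc f).obj V)) :=
  ((EtCoh.pullPushAdj f).unit.app F).hom.app (op V) a

theorem un_map {V V' : S.Etale} (j : V' ⟶ V) (a : F.obj.obj (op V)) :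
    un f F V' (F.obj.map j.op a) =
      ((EtCoh.pull f).obj F).obj.map ((EtCoh.bc f).map j).op (un f F V a) := by
  have := ConcreteCategory.congr_hom (((EtCoh.pullPushAdj f).unit.app F).hom.naturality j.op) a
  exact this

include hc in
theorem un_injective (V : S.Etale) : Function.Injective (un f F V) := by
  haveI : Surjective f := ⟨surjective f hc⟩
  haveI := Groth.Agent.Helper9.EtStalkFamily.mono_unit_of_surjective f F
  exact SubmF.injective_app_of_mono ((EtCoh.pullPushAdj f).unit.app F) V

open Groth.Agent.Helper9.EtSectAgree in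
/-- restriction of a section over `X = X ×_S S` to `X ×_S V` -/
noncomputable abbrev res (t : ((EtCoh.pull f).obj F).obj.obj (op ((EtCoh.bc f).obj (EtCoh.top S))))
    (V : S.Etale) : ((EtCoh.pull f).obj F).obj.obj (op ((EtCoh.bc f).obj V)) :=
  ((EtCoh.pull f).obj F).obj.map ((EtCoh.bc f).map (toTop V)).op t

open Groth.Agent.Helper9.EtSectAgree in
theorem res_map (t : ((EtCoh.pull f).obj F).obj.obj (op ((EtCoh.bc f).obj (EtCoh.top S))))
    {V V' : S.Etale} (j : V' ⟶ V) :
    ((EtCoh.pull f).obj F).obj.map ((EtCoh.bc f).map j).op (res f F t V) = res f F t V' := by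
  unfold res
  rw [← ConcreteCategory.comp_apply, ← Functor.map_comp, ← op_comp, ← Functor.map_comp,
    eq_toTop (j ≫ toTop V)]

section

variable {Ω : Type u} [Field Ω] [IsSepClosed Ω] (ζ : Spec (CommRingCat.of Ω) ⟶ X)

set_option backward.isDefEq.respectTransparency.types false in
/-- lifts of a geometric point to `X ×_S S` are unique -/
theorem lift_top_unique (l₁ l₂ : (Scheme.pointSmallEtale ζ).fiber.obj
    ((EtCoh.bc f).obj (EtCoh.top S))) : l₁ = l₂ := by
  apply Over.OverMorphism.ext
  let a : Spec (CommRingCat.of Ω) ⟶ pullback (EtCoh.top S).hom f := l₁.left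
  let b : Spec (CommRingCat.of Ω) ⟶ pullback (EtCoh.top S).hom f := l₂.left
  show a = b
  have ha : a ≫ pullback.snd (EtCoh.top S).hom f = ζ := Over.w l₁
  have hb : b ≫ pullback.snd (EtCoh.top S).hom f = ζ := Over.w l₂
  have hcond : pullback.fst (EtCoh.top S).hom f = pullback.snd (EtCoh.top S).hom f ≫ f := by
    have := pullback.condition (f := (EtCoh.top S).hom) (g := f)
    exact (Category.comp_id _).symm.trans this
  apply pullback.hom_ext
  · have e1 : a ≫ pullback.fst (EtCoh.top S).hom f = ζ ≫ f :=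
      (congrArg (fun m => a ≫ m) hcond).trans
        ((Category.assoc _ _ _).symm.trans (congrArg (fun m => m ≫ f) ha))
    have e2 : b ≫ pullback.fst (EtCoh.top S).hom f = ζ ≫ f :=
      (congrArg (fun m => b ≫ m) hcond).trans
        ((Category.assoc _ _ _).symm.trans (congrArg (fun m => m ≫ f) hb))
    exact e1.trans e2.symm
  · exact ha.trans hb.symm

end

set_option backward.isDefEq.respectTransparency.types false in
open Groth.Agent.Helper9.EtSectAgree in
/-- every section of `f⁻¹ F` is étale locally the image of a section of `F` -/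
theorem exists_local (t : ((EtCoh.pull f).obj F).obj.obj (op ((EtCoh.bc f).obj (EtCoh.top S))))
    (x : X) :
    ∃ (V : S.Etale) (a : F.obj.obj (op V)) (u : ((EtCoh.bc f).obj V).left),
      ((EtCoh.bc f).obj V).hom u = x ∧
      AgreeAt ((EtCoh.pull f).obj F) ((EtCoh.bc f).obj V) (un f F V a) (res f F t V) u := by
  haveI : ((EtCoh.bc f).sheafPushforwardContinuous AddCommGrpCat.{u + 1}
      S.smallEtaleTopology X.smallEtaleTopology).IsRightAdjoint :=
    (EtCoh.pullPushAdj f).isRightAdjoint
  let ζ := geomPt x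
  have hζ : ζ default = x := geomPt_default x
  let Φ := Scheme.pointSmallEtale ζ
  let y₀ : Spec (CommRingCat.of (SeparableClosure (X.residueField x))) ⟶
      pullback (EtCoh.top S).hom f := pullback.lift (ζ ≫ f) ζ (by
    show (ζ ≫ f) ≫ 𝟙 S = ζ ≫ f
    rw [Category.comp_id])
  let y : (comapPt f ζ).fiber.obj (EtCoh.top S) := Over.homMk y₀ (pullback.lift_snd _ _ _)
  let θ := (Φ.sheafFiberComapIso (EtCoh.bc f) (EtCoh.coverPreserving_bc f)
      AddCommGrpCat.{u + 1}).hom.app F
  have hθ : Function.Surjective θ :=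
    ((ConcreteCategory.isIso_iff_bijective θ).1 inferInstance).2
  obtain ⟨τ₀, hτ₀⟩ := hθ (Φ.toPresheafFiber ((EtCoh.bc f).obj (EtCoh.top S)) y
    ((EtCoh.pull f).obj F).obj t)
  obtain ⟨V, yV, a, rfl⟩ := (comapPt f ζ).toPresheafFiber_jointly_surjective τ₀
  have h1 := germ_unit F f ζ V yV a
  have h2 := Φ.toPresheafFiber_w_apply ((EtCoh.bc f).map (toTop V)) yV
    ((EtCoh.pull f).obj F).obj t
  have h3 : Φ.fiber.map ((EtCoh.bc f).map (toTop V)) yV = y := lift_top_unique f ζ _ _
  rw [h3] at h2
  have h4 : Φ.toPresheafFiber ((EtCoh.bc f).obj V) yV ((EtCoh.pull f).obj F).obj (un f F V a) =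
      Φ.toPresheafFiber ((EtCoh.bc f).obj V) yV ((EtCoh.pull f).obj F).obj (res f F t V) := by
    rw [← h1]
    exact hτ₀.trans h2.symm
  refine ⟨V, a, _, ?_, SubmF.agreeAt_of_germ' ((EtCoh.pull f).obj F) ζ ((EtCoh.bc f).obj V) _ _ yV h4⟩
  let yl : Spec (CommRingCat.of (SeparableClosure (X.residueField x))) ⟶
    ((EtCoh.bc f).obj V).left := yV.left
  have hyl : yl ≫ ((EtCoh.bc f).obj V).hom = ζ := Over.w yV
  show ((EtCoh.bc f).obj V).hom (yl default) = x
  rw [← Scheme.Hom.comp_apply, hyl, hζ]


set_option backward.isDefEq.respectTransparency.types false in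
/-- point lifting for the base change functor -/
theorem exists_point_bc {U V : S.Etale} (g : V ⟶ U) (u : ((EtCoh.bc f).obj U).left) (v : V.left)
    (h : (pullback.fst U.hom f : ((EtCoh.bc f).obj U).left ⟶ U.left) u = g.left v) :
    ∃ z : ((EtCoh.bc f).obj V).left, ((EtCoh.bc f).map g).left z = u ∧
      (pullback.fst V.hom f : ((EtCoh.bc f).obj V).left ⟶ V.left) z = v := by
  have sq := EtCoh.isPullback_bc_map f g
  obtain ⟨z, hz1, hz2⟩ := Scheme.Pullback.exists_preimage_pullback
    (f := (pullback.fst U.hom f : ((EtCoh.bc f).obj U).left ⟶ U.left)) (g := g.left) u v h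
  have e1 := IsPullback.isoPullback_inv_fst sq
  have e2 := IsPullback.isoPullback_inv_snd sq
  refine ⟨sq.isoPullback.inv z, ?_, ?_⟩
  · refine Eq.trans ?_ hz1
    exact congrArg (fun m => m.base z) e1
  · refine Eq.trans ?_ hz2
    exact congrArg (fun m => m.base z) e2

theorem agreeAt_map (P : EtCoh.Ab X) {U U' : X.Etale} (g : U' ⟶ U) (α β : P.obj.obj (op U))
    (u' : U'.left) (h : AgreeAt P U α β (g.left u')) :
    AgreeAt P U' (P.obj.map g.op α) (P.obj.map g.op β) u' := by
  obtain ⟨W, k, w, hw, hk⟩ := h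
  obtain ⟨C, p₁, p₂, c, hp, hc1, hc2⟩ := Groth.Agent.Helper6.SuppBij.exists_fibre k g w u' hw
  refine ⟨C, p₂, c, hc2, ?_⟩
  have e : ∀ γ : P.obj.obj (op U), P.obj.map p₂.op (P.obj.map g.op γ) =
      P.obj.map p₁.op (P.obj.map k.op γ) := by
    intro γ
    rw [← ConcreteCategory.comp_apply, ← Functor.map_comp, ← op_comp, ← hp, op_comp,
      Functor.map_comp, ConcreteCategory.comp_apply]
  rw [e α, e β, hk]

/-- the open subobject of `V` cut out by an open subset -/
noncomputable abbrev sub (V : S.Etale) (O : V.left.Opens) : S.Etale :=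
  Scheme.Etale.mk (O.ι ≫ V.hom)

/-- the inclusion of an open subobject -/
noncomputable abbrev subι (V : S.Etale) (O : V.left.Opens) : sub V O ⟶ V :=
  MorphismProperty.Over.homMk O.ι rfl trivial

set_option backward.isDefEq.respectTransparency.types false in
include hsub hc in
theorem exists_open (t : ((EtCoh.pull f).obj F).obj.obj (op ((EtCoh.bc f).obj (EtCoh.top S))))
    (V : S.Etale) (a : F.obj.obj (op V)) :
    ∃ O : V.left.Opens,
      (∀ u : ((EtCoh.bc f).obj V).left,
        AgreeAt ((EtCoh.pull f).obj F) ((EtCoh.bc f).obj V) (un f F V a) (res f F t V) u →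
        (pullback.fst V.hom f : ((EtCoh.bc f).obj V).left ⟶ V.left) u ∈ O) ∧
      un f F (sub V O) (F.obj.map (subι V O).op a) = res f F t (sub V O) := by
  let prV : ((EtCoh.bc f).obj V).left ⟶ V.left := pullback.fst V.hom f
  let A : Set ((EtCoh.bc f).obj V).left :=
    {u | AgreeAt ((EtCoh.pull f).obj F) ((EtCoh.bc f).obj V) (un f F V a) (res f F t V) u}
  have hAo : IsOpen A := isOpen_setOf_agreeAt _ _ _ _
  have hAs : ∀ u₁ u₂ : ((EtCoh.bc f).obj V).left, prV u₁ = prV u₂ → u₁ ∈ A → u₂ ∈ A :=
    fun u₁ u₂ h12 h1 => agreeAt_of_same_image f hc F V _ _ u₁ u₂ h12 h1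
  have hpre : prV.base ⁻¹' (prV.base '' A) = A := by
    ext u
    constructor
    · rintro ⟨u₁, hu₁, h⟩
      exact hAs u₁ u h hu₁
    · intro hu
      exact ⟨u, hu, rfl⟩
  have hO : IsOpen (prV.base '' A) := by
    rw [← (isQuotientMap_prV f hsub V).isOpen_preimage]
    show IsOpen (prV.base ⁻¹' (prV.base '' A))
    rw [hpre]
    exact hAo
  refine ⟨⟨prV.base '' A, hO⟩, fun u hu => ⟨u, hu, rfl⟩, ?_⟩
  set O : V.left.Opens := ⟨prV.base '' A, hO⟩ with hOdef
  rw [un_map, ← res_map f F t (subι V O)]
  apply sec_ext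
  intro u'
  have key : AgreeAt ((EtCoh.pull f).obj F) ((EtCoh.bc f).obj (sub V O))
      (((EtCoh.pull f).obj F).obj.map ((EtCoh.bc f).map (subι V O)).op (un f F V a))
      (((EtCoh.pull f).obj F).obj.map ((EtCoh.bc f).map (subι V O)).op (res f F t V)) u' := by
    apply agreeAt_map
    have sq := (EtCoh.isPullback_bc_map f (subι V O)).w
    have h1 : prV (((EtCoh.bc f).map (subι V O)).left u') =
        (subι V O).left ((pullback.fst (sub V O).hom f :
          ((EtCoh.bc f).obj (sub V O)).left ⟶ (sub V O).left) u') := by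
      rw [← Scheme.Hom.comp_apply, ← Scheme.Hom.comp_apply]
      exact congrArg (fun m => m.base u') sq
    have h2 : prV (((EtCoh.bc f).map (subι V O)).left u') ∈ prV.base '' A := by
      rw [h1]
      exact ((pullback.fst (sub V O).hom f :
          ((EtCoh.bc f).obj (sub V O)).left ⟶ (sub V O).left) u').2
    obtain ⟨u₁, hu₁, h⟩ := h2
    exact hAs u₁ _ h hu₁
  exact key

set_option backward.isDefEq.respectTransparency.types false in
open Groth.Agent.Helper9.EtSectAgree in
include hsub hc in
theorem surjective_un_top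
    (t : ((EtCoh.pull f).obj F).obj.obj (op ((EtCoh.bc f).obj (EtCoh.top S)))) :
    ∃ σ : F.obj.obj (op (EtCoh.top S)), un f F (EtCoh.top S) σ = t := by
  choose V a u hu hAg using exists_local f F t
  choose O hO1 hO2 using fun x => exists_open f hsub hc F t (V x) (a x)
  let W : X → S.Etale := fun x => sub (V x) (O x)
  let π : ∀ x, W x ⟶ EtCoh.top S := fun x => toTop (W x)
  let s : ∀ x, F.obj.obj (op (W x)) := fun x => F.obj.map (subι (V x) (O x)).op (a x)
  have hy : ∀ x : X, ∃ y : (W x).left, (W x).hom y = f x := by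
    intro x
    have hv := hO1 x (u x) (hAg x)
    refine ⟨⟨_, hv⟩, ?_⟩
    show ((O x).ι ≫ (V x).hom) ⟨_, hv⟩ = f x
    rw [Scheme.Hom.comp_apply]
    show (V x).hom ((pullback.fst (V x).hom f : ((EtCoh.bc f).obj (V x)).left ⟶ (V x).left) (u x))
      = f x
    rw [← Scheme.Hom.comp_apply, pullback.condition, Scheme.Hom.comp_apply]
    exact congrArg f (hu x)
  have hcov : ∀ s₀ : (EtCoh.top S).left, ∃ (x : X) (y : (W x).left), (π x).left y = s₀ := by
    intro s₀
    obtain ⟨x, hx⟩ := surjective f hc s₀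
    obtain ⟨y, hy'⟩ := hy x
    exact ⟨x, y, hy'.trans hx⟩
  have hcompat : ∀ (i j : X) (C : S.Etale) (g₁ : C ⟶ W i) (g₂ : C ⟶ W j), g₁ ≫ π i = g₂ ≫ π j →
      F.obj.map g₁.op (s i) = F.obj.map g₂.op (s j) := by
    intro i j C g₁ g₂ _
    apply un_injective f hc F C
    rw [un_map f F g₁ (s i), un_map f F g₂ (s j)]
    show ((EtCoh.pull f).obj F).obj.map ((EtCoh.bc f).map g₁).op
        (un f F (sub (V i) (O i)) (F.obj.map (subι (V i) (O i)).op (a i))) =
      ((EtCoh.pull f).obj F).obj.map ((EtCoh.bc f).map g₂).op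
        (un f F (sub (V j) (O j)) (F.obj.map (subι (V j) (O j)).op (a j)))
    rw [hO2 i, hO2 j, res_map, res_map]
  obtain ⟨σ, hσ⟩ := SubmF.exists_glue_family F (EtCoh.top S) W π hcov s hcompat
  refine ⟨σ, sec_ext _ _ _ _ ?_⟩
  intro z
  let x : X := ((EtCoh.bc f).obj (EtCoh.top S)).hom z
  obtain ⟨y, hy'⟩ := hy x
  have hz : (pullback.fst (EtCoh.top S).hom f :
      ((EtCoh.bc f).obj (EtCoh.top S)).left ⟶ (EtCoh.top S).left) z = (π x).left y := by
    refine Eq.trans ?_ hy'.symm
    have hcond : pullback.fst (EtCoh.top S).hom f = pullback.snd (EtCoh.top S).hom f ≫ f := by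
      have := pullback.condition (f := (EtCoh.top S).hom) (g := f)
      exact (Category.comp_id _).symm.trans this
    exact congrArg (fun m => m.base z) hcond
  obtain ⟨w, hw, -⟩ := exists_point_bc f (π x) z y hz
  refine ⟨(EtCoh.bc f).obj (W x), (EtCoh.bc f).map (π x), w, hw, ?_⟩
  rw [← un_map, hσ x, hO2 x]

include hsub hc in
/-- **Main theorem**: for a universally submersive morphism with connected geometric fibres, the
unit `F → f_* f⁻¹ F` is bijective on global sections. -/
theorem main : Function.Bijective (((EtCoh.pullPushAdj f).unit.app F).hom.app (op (EtCoh.top S))) :=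
  ⟨un_injective f hc F (EtCoh.top S), surjective_un_top f hsub hc F⟩

end Groth.Agent.Helper6.SubmG
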