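import Groth.Agent.Helper6.SymBasisK

set_option backward.isDefEq.respectTransparency false
set_option backward.isDefEq.respectTransparency.types false
set_option autoImplicit false

/-!
# The Artin basis: `R[X_0..X_{n-1}]` is free over `R[e_1..e_n]` with basis the staircase monomials
-/

namespace Groth.Agent.Helper6.SymBasisCore

open MvPolynomial Groth.Agent.Helper6.SymBasisK

universe u

/-- the vector `(e_1, …, e_n)` of elementary symmetric polynomials. -/
noncomputable def eV (R : Type u) [CommRing R] (n : ℕ) : Fin n → MvPolynomial (Fin n) R :=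
  fun i => esymm (Fin n) R ((i : ℕ) + 1)

/-- exponent bounds of the staircase. -/
def stairF (n : ℕ) : Fin n → Finset ℕ := fun i => Finset.range (n - (i : ℕ))

/-- the staircase exponents. -/
def stair (n : ℕ) : Finset (Fin n → ℕ) := Fintype.piFinset (stairF n)

/-- staircase monomials. -/
noncomputable def mon (R : Type u) [CommRing R] (n : ℕ) (d : Fin n → ℕ) : MvPolynomial (Fin n) R :=
  ∏ i, X i ^ d i

/-- the comparison map. -/
noncomputable def Psi (R : Type u) [CommRing R] (n : ℕ)
    (p : (Fin n → ℕ) → MvPolynomial (Fin n) R) : MvPolynomial (Fin n) R :=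
  ∑ d ∈ stair n, aeval (eV R n) (p d) * mon R n d

variable (R : Type u) [CommRing R] (n : ℕ)

/-- `R[X_0..X_n] ≃ R[T][X_0..X_{n-1}]`, `X_0 ↦ T`. -/
noncomputable def iota :
    MvPolynomial (Fin (n + 1)) R ≃ₐ[R] MvPolynomial (Fin n) (Polynomial R) :=
  (renameEquiv R (_root_.finSuccEquiv n)).trans (optionEquivRight R (Fin n))

lemma iota_X_zero : iota R n (X 0) = C Polynomial.X := by
  simp [iota, optionEquivRight_X_none]

lemma iota_X_succ (i : Fin n) : iota R n (X i.succ) = X i := by
  simp [iota, optionEquivRight_X_some]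

lemma iota_C (r : R) : iota R n (C r) = C (Polynomial.C r) := by
  simp [iota, optionEquivRight_C]

lemma multiset_esymm_cons {A : Type*} [CommSemiring A] (a : A) (s : Multiset A) (k : ℕ) :
    (a ::ₘ s).esymm (k + 1) = s.esymm (k + 1) + a * s.esymm k := by
  simp only [Multiset.esymm, Multiset.powersetCard_cons, Multiset.map_add, Multiset.sum_add,
    Multiset.map_map]
  congr 1
  rw [← Multiset.sum_map_mul_left]
  congr 1
  apply Multiset.map_congr rfl
  intro t _
  simp

lemma iota_esymm (k : ℕ) :
    iota R n (esymm (Fin (n + 1)) R (k + 1)) =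
      esymm (Fin n) (Polynomial R) (k + 1) + C Polynomial.X * esymm (Fin n) (Polynomial R) k := by
  have h1 : (iota R n).toAlgHom = aeval (fun i => iota R n (X i)) := by
    apply MvPolynomial.algHom_ext
    intro i
    simp
  have h2 : iota R n (esymm (Fin (n + 1)) R (k + 1)) =
      aeval (fun i => iota R n (X i)) (esymm (Fin (n + 1)) R (k + 1)) := by
    rw [← h1]; rfl
  rw [h2, aeval_esymm_eq_multiset_esymm]
  have h3 : (Finset.univ : Finset (Fin (n + 1))).val.map (fun i => iota R n (X i)) =
      (C Polynomial.X) ::ₘ ((Finset.univ : Finset (Fin n)).val.map X) := by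
    rw [Fin.univ_succ, Finset.cons_val, Multiset.map_cons, iota_X_zero, Finset.map_val,
      Multiset.map_map]
    congr 1
    apply Multiset.map_congr rfl
    intro i _
    simp [iota_X_succ]
  rw [h3, multiset_esymm_cons, ← esymm_eq_multiset_esymm (Fin n) (Polynomial R)]

lemma esymm_succ_self (A : Type*) [CommSemiring A] (m : ℕ) : esymm (Fin m) A (m + 1) = 0 := by
  rw [esymm, Finset.powersetCard_eq_empty.2 (by simp), Finset.sum_empty]

lemma aeval_yv (i : ℕ) (h : i ≤ n) :
    aeval (eV (Polynomial R) n) (yv R n i) = esymm (Fin n) (Polynomial R) (i + 1) := by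
  rcases Nat.lt_or_ge i n with hi | hi
  · rw [yv_lt R n i hi, aeval_X]; rfl
  · obtain rfl : i = n := le_antisymm h hi
    rw [yv_n, map_zero, esymm_succ_self]

lemma aeval_yw (i : ℕ) (h : i ≤ n) :
    aeval (eV (Polynomial R) n) (yw R n i) = esymm (Fin n) (Polynomial R) i := by
  cases i with
  | zero => rw [yw_zero, map_one, esymm_zero]
  | succ j => rw [yw_succ, aeval_yv R n j (Nat.le_of_succ_le h)]

lemma aeval_cT : aeval (eV (Polynomial R) n) (cT R n) = C Polynomial.X := by
  simp [cT]

lemma iota_aeval (s : MvPolynomial (Fin (n + 1)) R) :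
    iota R n (aeval (eV R (n + 1)) s) = aeval (eV (Polynomial R) n) (phi R n s) := by
  have key : ((iota R n : MvPolynomial (Fin (n + 1)) R ≃ₐ[R] _) :
        MvPolynomial (Fin (n + 1)) R →+* MvPolynomial (Fin n) (Polynomial R)).comp
        ((aeval (eV R (n + 1)) : MvPolynomial (Fin (n + 1)) R →ₐ[R] _) :
          MvPolynomial (Fin (n + 1)) R →+* MvPolynomial (Fin (n + 1)) R) =
      ((aeval (eV (Polynomial R) n) : MvPolynomial (Fin n) (Polynomial R) →ₐ[Polynomial R] _) :
        MvPolynomial (Fin n) (Polynomial R) →+* MvPolynomial (Fin n) (Polynomial R)).comp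
        (phi R n) := by
    apply MvPolynomial.ringHom_ext
    · intro r
      simp [iota_C, phi_C]
    · intro i
      simp only [RingHom.comp_apply, RingHom.coe_coe, aeval_X, phi_X, map_add, map_mul]
      rw [aeval_yv R n i (Nat.le_of_lt_succ i.2), aeval_yw R n i (Nat.le_of_lt_succ i.2), aeval_cT]
      exact iota_esymm R n i
  exact RingHom.congr_fun key s

lemma sum_stair_succ {M : Type*} [AddCommMonoid M] (F : (Fin (n + 1) → ℕ) → M) :
    ∑ d ∈ stair (n + 1), F d =
      ∑ a ∈ Finset.range (n + 1), ∑ d' ∈ stair n, F (Fin.cons a d' : Fin (n + 1) → ℕ) := by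
  have h := Finset.filter_piFinset_eq_map_consEquiv (stairF (n + 1)) (fun _ => True)
  simp only [Finset.filter_true] at h
  have h0 : stairF (n + 1) 0 = Finset.range (n + 1) := by simp [stairF]
  have ht : Fin.tail (stairF (n + 1)) = stairF n := by
    funext i
    simp [Fin.tail, stairF]
  rw [stair, h, Finset.sum_map, Finset.sum_product, h0, ht]
  rfl

lemma iota_mon (a : ℕ) (d' : Fin n → ℕ) :
    iota R n (mon R (n + 1) (Fin.cons a d' : Fin (n + 1) → ℕ)) =
      (C Polynomial.X) ^ a * mon (Polynomial R) n d' := by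
  simp only [mon, Fin.prod_univ_succ, Fin.cons_zero, Fin.cons_succ, map_mul, map_pow, map_prod,
    iota_X_zero, iota_X_succ]

/-- coefficient transfer in the induction step. -/
noncomputable def qOf (p : (Fin (n + 1) → ℕ) → MvPolynomial (Fin (n + 1)) R) :
    (Fin n → ℕ) → MvPolynomial (Fin n) (Polynomial R) :=
  fun d' => ∑ a ∈ Finset.range (n + 1),
    phi R n (p (Fin.cons a d' : Fin (n + 1) → ℕ)) * cT R n ^ a

lemma iota_Psi (p : (Fin (n + 1) → ℕ) → MvPolynomial (Fin (n + 1)) R) :
    iota R n (Psi R (n + 1) p) = Psi (Polynomial R) n (qOf R n p) := by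
  simp only [Psi, qOf]
  rw [sum_stair_succ, map_sum]
  simp_rw [map_sum, map_mul, iota_aeval, iota_mon]
  rw [Finset.sum_comm]
  refine Finset.sum_congr rfl fun d' _ => ?_
  rw [Finset.sum_mul]
  refine Finset.sum_congr rfl fun a _ => ?_
  rw [map_pow, aeval_cT]
  ring

/-- the core theorem: existence and uniqueness of staircase coordinates. -/
theorem core (n : ℕ) : ∀ (R : Type u) [CommRing R],
    (∀ x : MvPolynomial (Fin n) R, ∃ p, Psi R n p = x) ∧
    (∀ p, Psi R n p = 0 → ∀ d ∈ stair n, p d = 0) := by
  induction n with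
  | zero =>
    intro R _
    have hae : ∀ s : MvPolynomial (Fin 0) R, aeval (eV R 0) s = s := by
      intro s
      have : (aeval (eV R 0) : MvPolynomial (Fin 0) R →ₐ[R] _) = AlgHom.id R _ := by
        apply MvPolynomial.algHom_ext
        intro i
        exact i.elim0
      rw [this]; rfl
    have hPsi : ∀ p, Psi R 0 p = p default := by
      intro p
      simp only [Psi, stair, Fintype.piFinset_of_isEmpty, Finset.univ_unique, Finset.sum_singleton,
        hae, mon, Finset.univ_eq_empty, Finset.prod_empty, mul_one]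
      exact congrArg p (Subsingleton.elim _ _)
    refine ⟨fun x => ⟨fun _ => x, by rw [hPsi]⟩, fun p hp d _ => ?_⟩
    rw [hPsi] at hp
    rwa [Subsingleton.elim d default]
  | succ n ih =>
    intro R _
    obtain ⟨ihE, ihU⟩ := ih (Polynomial R)
    refine ⟨fun x => ?_, fun p hp d hd => ?_⟩
    · obtain ⟨q, hq⟩ := ihE (iota R n x)
      choose r hr using fun d' => exists_rep R n (q d')
      refine ⟨fun d => r (Fin.tail d) (d 0), ?_⟩
      apply (iota R n).injective
      rw [iota_Psi, ← hq]
      congr 1
      funext d'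
      simp only [qOf, Fin.tail_cons, Fin.cons_zero]
      exact hr d'
    · have h1 : Psi (Polynomial R) n (qOf R n p) = 0 := by rw [← iota_Psi, hp, map_zero]
      have h2 := ihU _ h1
      have hd' : d 0 ∈ stairF (n + 1) 0 ∧ Fin.tail d ∈ Fintype.piFinset (Fin.tail (stairF (n + 1))) :=
        Fin.mem_piFinset_iff_zero_tail.1 hd
      have h0 : stairF (n + 1) 0 = Finset.range (n + 1) := by simp [stairF]
      have ht : Fin.tail (stairF (n + 1)) = stairF n := by
        funext i
        simp [Fin.tail, stairF]
      rw [h0, ht] at hd'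
      have h3 := rep_unique R n (fun a => p (Fin.cons a (Fin.tail d) : Fin (n + 1) → ℕ))
        (h2 _ hd'.2) (d 0) (Finset.mem_range.1 hd'.1)
      simpa [Fin.cons_self_tail] using h3

end Groth.Agent.Helper6.SymBasisCore
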