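import Groth.Agent.Helper6.SymBasisCore

set_option backward.isDefEq.respectTransparency false
set_option backward.isDefEq.respectTransparency.types false
set_option autoImplicit false

/-!
# The Artin basis, in the dependent-`Fin` indexing; consequences for the quotients
`R[X] / (e_i - a_i)`.
-/

namespace Groth.Agent.Helper6.SymBasisFin

open MvPolynomial Groth.Agent.Helper6.SymBasisCore

universe u

/-- dependent staircase index type. -/
abbrev D (n : ℕ) := (i : Fin n) → Fin (n - (i : ℕ))

/-- underlying exponent vector. -/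
def toN {n : ℕ} (d : D n) : Fin n → ℕ := fun i => (d i : ℕ)

lemma toN_injective {n : ℕ} : Function.Injective (toN (n := n)) := by
  intro d d' h
  funext i
  exact Fin.ext (congrFun h i)

lemma stair_eq (n : ℕ) : stair n = Finset.univ.map ⟨toN, toN_injective (n := n)⟩ := by
  ext d
  simp only [stair, stairF, Fintype.mem_piFinset, Finset.mem_range, Finset.mem_map,
    Finset.mem_univ, true_and, Function.Embedding.coeFn_mk]
  constructor
  · intro h
    exact ⟨fun i => ⟨d i, h i⟩, rfl⟩
  · rintro ⟨d', rfl⟩ i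
    exact (d' i).2

lemma sum_D {n : ℕ} {M : Type*} [AddCommMonoid M] (F : (Fin n → ℕ) → M) :
    ∑ d : D n, F (toN d) = ∑ d ∈ stair n, F d := by
  rw [stair_eq, Finset.sum_map]
  rfl

variable (R : Type u) [CommRing R] (n : ℕ)

/-- extension by zero of a coefficient family. -/
noncomputable def ext (p : D n → MvPolynomial (Fin n) R) :
    (Fin n → ℕ) → MvPolynomial (Fin n) R :=
  fun d => if h : ∀ i, d i < n - (i : ℕ) then p (fun i => ⟨d i, h i⟩) else 0

lemma ext_toN (p : D n → MvPolynomial (Fin n) R) (d : D n) : ext R n p (toN d) = p d := by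
  have h : ∀ i, toN d i < n - (i : ℕ) := fun i => (d i).2
  simp only [ext, dif_pos h]
  rfl

/-- the comparison map in the dependent indexing. -/
noncomputable def PsiD (p : D n → MvPolynomial (Fin n) R) : MvPolynomial (Fin n) R :=
  ∑ d : D n, aeval (fun i : Fin n => esymm (Fin n) R ((i : ℕ) + 1)) (p d) *
    ∏ i : Fin n, X i ^ ((d i : ℕ))

lemma PsiD_eq (p : D n → MvPolynomial (Fin n) R) : PsiD R n p = Psi R n (ext R n p) := by
  rw [Psi, ← sum_D]
  simp only [PsiD, ext_toN]
  rfl

lemma Psi_eq (p0 : (Fin n → ℕ) → MvPolynomial (Fin n) R) : Psi R n p0 = PsiD R n (p0 ∘ toN) := by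
  rw [Psi, ← sum_D]
  rfl

lemma PsiD_sub (p p' : D n → MvPolynomial (Fin n) R) :
    PsiD R n (p - p') = PsiD R n p - PsiD R n p' := by
  simp only [PsiD, Pi.sub_apply, map_sub, sub_mul, Finset.sum_sub_distrib]

lemma PsiD_zero : PsiD R n 0 = 0 := by
  simp [PsiD]

theorem PsiD_bijective : Function.Bijective (PsiD R n) := by
  constructor
  · intro p p' h
    have hsub : PsiD R n (p - p') = 0 := by rw [PsiD_sub, h, sub_self]
    rw [PsiD_eq] at hsub
    have h0 := (core n R).2 _ hsub
    funext d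
    have h1 := h0 (toN d) (by rw [stair_eq]; exact Finset.mem_map_of_mem _ (Finset.mem_univ _))
    rw [ext_toN] at h1
    exact sub_eq_zero.1 h1
  · intro x
    obtain ⟨p0, hp0⟩ := (core n R).1 x
    exact ⟨p0 ∘ toN, by rw [← Psi_eq, hp0]⟩

variable {R n}

/-- the ideal `(e_i - a_i)`. -/
noncomputable abbrev Ia (a : Fin n → R) : Ideal (MvPolynomial (Fin n) R) :=
  Ideal.span (Set.range fun i : Fin n => esymm (Fin n) R ((i : ℕ) + 1) - C (a i))

/-- linear independence of the staircase monomials modulo `(e_i - a_i)`. -/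
theorem coeff_zero_of_mem (a : Fin n → R) (c : D n → R)
    (h : ∑ d : D n, C (c d) * ∏ i : Fin n, X i ^ ((d i : ℕ)) ∈ Ia a) : ∀ d, c d = 0 := by
  obtain ⟨hcoef, hsum⟩ := Ideal.mem_span_range_iff_exists_fun.1 h
  choose q hq using fun i => (PsiD_bijective R n).2 (hcoef i)
  have key : PsiD R n (fun d => C (c d) - ∑ i, q i d * (X i - C (a i))) = 0 := by
    have e1 : PsiD R n (fun d => C (c d) - ∑ i, q i d * (X i - C (a i))) =
        (∑ d : D n, C (c d) * ∏ i : Fin n, X i ^ ((d i : ℕ))) -
          ∑ i, PsiD R n (q i) * (esymm (Fin n) R ((i : ℕ) + 1) - C (a i)) := by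
      simp only [PsiD, map_sub, map_sum, map_mul, aeval_X, aeval_C, algebraMap_eq, sub_mul,
        Finset.sum_sub_distrib, Finset.sum_mul]
      congr 1
      rw [Finset.sum_comm]
      refine Finset.sum_congr rfl fun i _ => Finset.sum_congr rfl fun d _ => ?_
      ring
    rw [e1]
    simp only [hq]
    rw [hsum, sub_self]
  have hfun := (PsiD_bijective R n).1 (key.trans (PsiD_zero R n).symm)
  intro d
  have hd := congrArg (eval a) (congrFun hfun d)
  simpa using hd

/-- reduction of `s(e)` to `s(a)` modulo `(e_i - a_i)`. -/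
theorem red (a : Fin n → R) (s : MvPolynomial (Fin n) R) :
    aeval (fun i : Fin n => esymm (Fin n) R ((i : ℕ) + 1)) s - C (eval a s) ∈ Ia a := by
  have key : (Ideal.Quotient.mk (Ia a)).comp
      ((aeval (fun i : Fin n => esymm (Fin n) R ((i : ℕ) + 1)) :
        MvPolynomial (Fin n) R →ₐ[R] MvPolynomial (Fin n) R) :
          MvPolynomial (Fin n) R →+* MvPolynomial (Fin n) R) =
      (Ideal.Quotient.mk (Ia a)).comp (C.comp (eval a)) := by
    apply MvPolynomial.ringHom_ext
    · intro r
      simp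
    · intro i
      simp only [RingHom.comp_apply, RingHom.coe_coe, aeval_X, eval_X]
      rw [Ideal.Quotient.eq]
      exact Ideal.subset_span ⟨i, rfl⟩
  have h := RingHom.congr_fun key s
  simp only [RingHom.comp_apply, RingHom.coe_coe] at h
  rwa [Ideal.Quotient.eq] at h

/-- the criterion of `S16403`. -/
theorem mem_sup_iff (a : Fin n → R) (J : Ideal R) (α β : D n → R) :
    (∑ d : D n, C (α d) * ∏ i : Fin n, X i ^ ((d i : ℕ))) -
        (∑ d : D n, C (β d) * ∏ i : Fin n, X i ^ ((d i : ℕ)))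
      ∈ Ia a ⊔ Ideal.map (C : R →+* MvPolynomial (Fin n) R) J
    ↔ ∀ d : D n, α d - β d ∈ J := by
  constructor
  · intro hx
    obtain ⟨s, hs, t, ht, hst⟩ := Submodule.mem_sup.1 hx
    have hπt : map (Ideal.Quotient.mk J) t = 0 := by
      have : t ∈ RingHom.ker (map (Ideal.Quotient.mk J) :
          MvPolynomial (Fin n) R →+* MvPolynomial (Fin n) (R ⧸ J)) := by
        rw [MvPolynomial.ker_map, Ideal.mk_ker]
        exact ht
      exact this
    have hπs : map (Ideal.Quotient.mk J) s ∈ Ia (fun i => Ideal.Quotient.mk J (a i)) := by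
      have h1 := Ideal.mem_map_of_mem (map (Ideal.Quotient.mk J) :
          MvPolynomial (Fin n) R →+* MvPolynomial (Fin n) (R ⧸ J)) hs
      rw [Ideal.map_span] at h1
      refine Ideal.span_mono ?_ h1
      rintro _ ⟨_, ⟨i, rfl⟩, rfl⟩
      exact ⟨i, by simp [map_esymm]⟩
    have hπx : map (Ideal.Quotient.mk J) s =
        ∑ d : D n, C (Ideal.Quotient.mk J (α d - β d)) * ∏ i : Fin n, X i ^ ((d i : ℕ)) := by
      have h2 := congrArg (map (Ideal.Quotient.mk J)) hst
      rw [map_add, hπt, add_zero] at h2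
      rw [h2]
      simp only [map_sub, map_sum, map_mul, map_C, map_prod, map_pow, map_X, sub_mul,
        Finset.sum_sub_distrib]
    rw [hπx] at hπs
    intro d
    exact Ideal.Quotient.eq_zero_iff_mem.1 (coeff_zero_of_mem _ _ hπs d)
  · intro h
    apply Ideal.mem_sup_right
    rw [← Finset.sum_sub_distrib]
    refine Ideal.sum_mem _ fun d _ => ?_
    rw [← sub_mul, ← C_sub]
    exact Ideal.mul_mem_right _ _ (Ideal.mem_map_of_mem _ (h d))

/-- the criterion of `S16404`. -/
theorem mem_sup_iff_exists (a : Fin n → R) (J : Ideal R) (x : MvPolynomial (Fin n) R) :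
    x ∈ Ia a ⊔ Ideal.map (C : R →+* MvPolynomial (Fin n) R) J
    ↔ ∃ j : D n → R, (∀ d : D n, j d ∈ J) ∧
        x - (∑ d : D n, C (j d) * ∏ i : Fin n, X i ^ ((d i : ℕ))) ∈ Ia a := by
  constructor
  · intro hx
    obtain ⟨q, hq⟩ := (PsiD_bijective R n).2 x
    have hred : x - (∑ d : D n, C (eval a (q d)) * ∏ i : Fin n, X i ^ ((d i : ℕ))) ∈ Ia a := by
      rw [← hq, PsiD, ← Finset.sum_sub_distrib]
      refine Ideal.sum_mem _ fun d _ => ?_
      rw [← sub_mul]
      exact Ideal.mul_mem_right _ _ (red a (q d))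
    refine ⟨fun d => eval a (q d), ?_, hred⟩
    have h1 : (∑ d : D n, C (eval a (q d)) * ∏ i : Fin n, X i ^ ((d i : ℕ))) -
        (∑ d : D n, C ((0 : D n → R) d) * ∏ i : Fin n, X i ^ ((d i : ℕ)))
        ∈ Ia a ⊔ Ideal.map (C : R →+* MvPolynomial (Fin n) R) J := by
      have h2 : (∑ d : D n, C ((0 : D n → R) d) * ∏ i : Fin n, X i ^ ((d i : ℕ))) =
          (0 : MvPolynomial (Fin n) R) := by simp
      rw [h2, sub_zero]
      have h3 := Ideal.sub_mem _ hx (Ideal.mem_sup_left hred)
      rwa [sub_sub_cancel] at h3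
    intro d
    have := (mem_sup_iff a J _ _).1 h1 d
    simpa using this
  · rintro ⟨j, hj, hmem⟩
    have h1 : (∑ d : D n, C (j d) * ∏ i : Fin n, X i ^ ((d i : ℕ))) ∈
        Ideal.map (C : R →+* MvPolynomial (Fin n) R) J :=
      Ideal.sum_mem _ fun d _ => Ideal.mul_mem_right _ _ (Ideal.mem_map_of_mem _ (hj d))
    have h2 := Ideal.add_mem _ (Ideal.mem_sup_left hmem) (Ideal.mem_sup_right h1)
    rwa [sub_add_cancel] at h2

end Groth.Agent.Helper6.SymBasisFin
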