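import Mathlib

set_option backward.isDefEq.respectTransparency false
set_option backward.isDefEq.respectTransparency.types false
set_option autoImplicit false

/-!
# Key lemma for the Artin basis

`Q = R[T][Y'_0..Y'_{n-1}]` is free over `P = R[Y_0..Y_n]` along `Y_i ↦ Y'_i + T * Y'_{i-1}`
(`Y'_{-1} = 1`, `Y'_n = 0`) with basis `1, T, …, T^n`.
-/

namespace Groth.Agent.Helper6.SymBasisK

open MvPolynomial

universe u

lemma neg_one_pow_add_self {A : Type*} [Ring A] (k : ℕ) : ((-1 : A)) ^ (k + k) = 1 :=
  Even.neg_one_pow ⟨k, rfl⟩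

variable (R : Type u) [CommRing R] (n : ℕ)

/-- padded variables `Y'_i` of `Q` (zero for `i ≥ n`). -/
noncomputable def yv (i : ℕ) : MvPolynomial (Fin n) (Polynomial R) :=
  if h : i < n then X ⟨i, h⟩ else 0

/-- `Y'_{i-1}` with `Y'_{-1} = 1`. -/
noncomputable def yw (i : ℕ) : MvPolynomial (Fin n) (Polynomial R) :=
  if i = 0 then 1 else yv R n (i - 1)

/-- the constant `T` of `Q`. -/
noncomputable def cT : MvPolynomial (Fin n) (Polynomial R) := C Polynomial.X

/-- `φ : R[Y_0..Y_n] → R[T][Y'_0..Y'_{n-1}]`, `Y_i ↦ Y'_i + T Y'_{i-1}`. -/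
noncomputable def phi : MvPolynomial (Fin (n + 1)) R →+* MvPolynomial (Fin n) (Polynomial R) :=
  eval₂Hom ((C : Polynomial R →+* MvPolynomial (Fin n) (Polynomial R)).comp Polynomial.C)
    (fun i : Fin (n + 1) => yv R n i + cT R n * yw R n i)

lemma phi_C (r : R) : phi R n (C r) = C (Polynomial.C r) := by
  simp [phi]

lemma phi_X (i : Fin (n + 1)) : phi R n (X i) = yv R n i + cT R n * yw R n i := by
  simp [phi]

lemma yw_zero : yw R n 0 = 1 := by simp [yw]
lemma yw_succ (i : ℕ) : yw R n (i + 1) = yv R n i := by simp [yw]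
lemma yv_n : yv R n n = 0 := by simp [yv]
lemma yv_lt (i : ℕ) (h : i < n) : yv R n i = X ⟨i, h⟩ := by simp [yv, h]

/-- padded variables of `P`. -/
noncomputable def Yp (i : ℕ) : MvPolynomial (Fin (n + 1)) R :=
  if h : i < n + 1 then X ⟨i, h⟩ else 0

/-- Horner polynomials: `w (n+1) = Z^{n+1} - Y_0 Z^n + Y_1 Z^{n-1} - …`. -/
noncomputable def w : ℕ → Polynomial (MvPolynomial (Fin (n + 1)) R)
  | 0 => 1
  | (i + 1) => Polynomial.X * w i + Polynomial.C ((-1) ^ (i + 1) * Yp R n i)

lemma w_zero : w R n 0 = 1 := rfl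
lemma w_succ (i : ℕ) :
    w R n (i + 1) = Polynomial.X * w R n i + Polynomial.C ((-1) ^ (i + 1) * Yp R n i) := rfl

/-- `Θ : P[Z] → Q`, `Z ↦ T`, coefficients via `φ`. -/
noncomputable def Theta :
    Polynomial (MvPolynomial (Fin (n + 1)) R) →+* MvPolynomial (Fin n) (Polynomial R) :=
  Polynomial.eval₂RingHom (phi R n) (cT R n)

lemma Theta_C (s : MvPolynomial (Fin (n + 1)) R) : Theta R n (Polynomial.C s) = phi R n s := by
  simp [Theta]

lemma Theta_X : Theta R n Polynomial.X = cT R n := by simp [Theta]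

lemma phi_Yp (i : ℕ) (h : i ≤ n) : phi R n (Yp R n i) = yv R n i + cT R n * yw R n i := by
  have h' : i < n + 1 := Nat.lt_succ_of_le h
  rw [Yp, dif_pos h', phi_X]

lemma Theta_w (i : ℕ) (h : i ≤ n + 1) : Theta R n (w R n i) = (-1) ^ i * yw R n i := by
  induction i with
  | zero => simp [w_zero, yw_zero]
  | succ i ih =>
    have hi : i ≤ n := Nat.le_of_succ_le_succ h
    have h2 := ih (Nat.le_succ_of_le hi)
    rw [w_succ, map_add, map_mul, Theta_X, h2, Theta_C, map_mul, map_pow, map_neg, map_one,
      phi_Yp R n i hi, yw_succ]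
    ring

lemma Theta_G : Theta R n (w R n (n + 1)) = 0 := by
  rw [Theta_w R n (n + 1) le_rfl, yw_succ, yv_n, mul_zero]

/-- right inverse of `Θ`. -/
noncomputable def Xi :
    MvPolynomial (Fin n) (Polynomial R) →+* Polynomial (MvPolynomial (Fin (n + 1)) R) :=
  eval₂Hom (Polynomial.mapRingHom (C : R →+* MvPolynomial (Fin (n + 1)) R))
    (fun i : Fin n => (-1) ^ ((i : ℕ) + 1) * w R n ((i : ℕ) + 1))

lemma Xi_C (a : Polynomial R) : Xi R n (C a) = a.map C := by simp [Xi]

lemma Xi_X (i : Fin n) :
    Xi R n (X i) = (-1) ^ ((i : ℕ) + 1) * w R n ((i : ℕ) + 1) := by simp [Xi]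

lemma Theta_map_C (a : Polynomial R) : Theta R n (a.map C) = C a := by
  have : (Theta R n).comp (Polynomial.mapRingHom (C : R →+* MvPolynomial (Fin (n + 1)) R)) =
      (C : Polynomial R →+* MvPolynomial (Fin n) (Polynomial R)) := by
    apply Polynomial.ringHom_ext
    · intro r; simp [Theta_C, phi_C]
    · simp [Theta_X, cT]
  exact RingHom.congr_fun this a

lemma Theta_Xi (q : MvPolynomial (Fin n) (Polynomial R)) : Theta R n (Xi R n q) = q := by
  have : (Theta R n).comp (Xi R n) = RingHom.id _ := by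
    apply MvPolynomial.ringHom_ext
    · intro a
      simp only [RingHom.comp_apply, Xi_C, RingHom.id_apply, Theta_map_C]
    · intro i
      simp only [RingHom.comp_apply, Xi_X, RingHom.id_apply, map_mul, map_pow, map_neg, map_one]
      rw [Theta_w R n _ (by have := i.2; omega), yw_succ, yv_lt R n i i.2, ← mul_assoc, ← pow_add,
        neg_one_pow_add_self, one_mul]
  exact RingHom.congr_fun this q

lemma w_spec [Nontrivial R] (i : ℕ) : (w R n i).Monic ∧ (w R n i).natDegree = i := by
  induction i with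
  | zero => exact ⟨by rw [w_zero]; exact Polynomial.monic_one, by rw [w_zero]; simp⟩
  | succ i ih =>
    obtain ⟨hm, hd⟩ := ih
    have hm' : (Polynomial.X * w R n i).Monic := Polynomial.monic_X.mul hm
    have hd' : (Polynomial.X * w R n i).natDegree = i + 1 := by
      rw [Polynomial.natDegree_X_mul hm.ne_zero, hd]
    have hlt : (Polynomial.C ((-1) ^ (i + 1) * Yp R n i)).degree <
        (Polynomial.X * w R n i).degree := by
      rw [Polynomial.degree_eq_natDegree hm'.ne_zero, hd']
      exact lt_of_le_of_lt Polynomial.degree_C_le (by exact_mod_cast Nat.succ_pos i)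
    refine ⟨?_, ?_⟩
    · rw [w_succ]; exact hm'.add_of_left hlt
    · rw [w_succ, Polynomial.natDegree_add_C, hd']

lemma subsingleton_Q (hR : Subsingleton R) :
    Subsingleton (MvPolynomial (Fin n) (Polynomial R)) := by
  apply subsingleton_of_zero_eq_one
  have h : (0 : R) = 1 := Subsingleton.elim _ _
  have := congrArg (fun r : R => (C (Polynomial.C r) : MvPolynomial (Fin n) (Polynomial R))) h
  simpa using this

lemma subsingleton_P (hR : Subsingleton R) :
    Subsingleton (MvPolynomial (Fin (n + 1)) R) := by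
  apply subsingleton_of_zero_eq_one
  have h : (0 : R) = 1 := Subsingleton.elim _ _
  have := congrArg (fun r : R => (C r : MvPolynomial (Fin (n + 1)) R)) h
  simpa using this

/-- existence part of the key lemma. -/
theorem exists_rep (q : MvPolynomial (Fin n) (Polynomial R)) :
    ∃ r : ℕ → MvPolynomial (Fin (n + 1)) R,
      ∑ a ∈ Finset.range (n + 1), phi R n (r a) * cT R n ^ a = q := by
  rcases subsingleton_or_nontrivial R with hR | hR
  · have := subsingleton_Q R n hR
    exact ⟨fun _ => 0, Subsingleton.elim _ _⟩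
  · have hmon : (w R n (n + 1)).Monic := (w_spec R n (n + 1)).1
    have hdeg : (w R n (n + 1)).natDegree = n + 1 := (w_spec R n (n + 1)).2
    have hq : Theta R n (Xi R n q) = q := Theta_Xi R n q
    refine ⟨fun a => (Xi R n q %ₘ w R n (n + 1)).coeff a, ?_⟩
    have h1 : Xi R n q %ₘ w R n (n + 1) + w R n (n + 1) * (Xi R n q /ₘ w R n (n + 1)) = Xi R n q :=
      Polynomial.modByMonic_add_div _ _
    have h2 : Theta R n (Xi R n q %ₘ w R n (n + 1)) = q := by
      have := congrArg (Theta R n) h1
      rw [map_add, map_mul, Theta_G, zero_mul, add_zero, hq] at this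
      exact this
    have h3 : (Xi R n q %ₘ w R n (n + 1)).natDegree < n + 1 := by
      refine lt_of_lt_of_eq (Polynomial.natDegree_modByMonic_lt _ hmon ?_) hdeg
      intro h
      rw [h] at hdeg
      simp at hdeg
    conv_rhs => rw [← h2, Polynomial.as_sum_range' _ (n + 1) h3]
    rw [map_sum]
    refine Finset.sum_congr rfl fun a _ => ?_
    rw [← Polynomial.C_mul_X_pow_eq_monomial, map_mul, map_pow, Theta_C, Theta_X]

lemma Xi_yw (j : ℕ) (h : j ≤ n) : Xi R n (yw R n j) = (-1) ^ j * w R n j := by
  cases j with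
  | zero => simp [yw_zero, w_zero]
  | succ j =>
    have hj : j < n := h
    rw [yw_succ, yv_lt R n j hj, Xi_X]

lemma C_Yp (i : ℕ) :
    Polynomial.C (Yp R n i) = (-1) ^ (i + 1) * (w R n (i + 1) - Polynomial.X * w R n i) := by
  rw [w_succ, add_sub_cancel_left, map_mul, map_pow, map_neg, map_one, ← mul_assoc, ← pow_add,
    neg_one_pow_add_self, one_mul]

lemma Xi_cT : Xi R n (cT R n) = Polynomial.X := by simp [cT, Xi_C]

lemma mk_Xi_phi (s : MvPolynomial (Fin (n + 1)) R) :
    Ideal.Quotient.mk (Ideal.span {w R n (n + 1)}) (Xi R n (phi R n s)) =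
      Ideal.Quotient.mk (Ideal.span {w R n (n + 1)}) (Polynomial.C s) := by
  have key : (Ideal.Quotient.mk (Ideal.span {w R n (n + 1)})).comp ((Xi R n).comp (phi R n)) =
      (Ideal.Quotient.mk (Ideal.span {w R n (n + 1)})).comp Polynomial.C := by
    apply MvPolynomial.ringHom_ext
    · intro r
      simp [phi_C, Xi_C]
    · intro i
      simp only [RingHom.comp_apply]
      have hX : (X i : MvPolynomial (Fin (n + 1)) R) = Yp R n i := by simp [Yp, i.2]
      rw [phi_X, map_add, map_mul, Xi_yw R n i (Nat.le_of_lt_succ i.2), Xi_cT, hX, C_Yp]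
      rcases Nat.lt_or_ge (i : ℕ) n with hi | hi
      · rw [yv_lt R n i hi, Xi_X]
        congr 1
        ring
      · have hin : (i : ℕ) = n := le_antisymm (Nat.le_of_lt_succ i.2) hi
        rw [hin, yv_n, map_zero, zero_add, Ideal.Quotient.eq, Ideal.mem_span_singleton]
        refine ⟨(-1) ^ n, ?_⟩
        ring
  exact RingHom.congr_fun key s

lemma mk_Xi_Theta (f : Polynomial (MvPolynomial (Fin (n + 1)) R)) :
    Ideal.Quotient.mk (Ideal.span {w R n (n + 1)}) (Xi R n (Theta R n f)) =
      Ideal.Quotient.mk (Ideal.span {w R n (n + 1)}) f := by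
  have key : (Ideal.Quotient.mk (Ideal.span {w R n (n + 1)})).comp ((Xi R n).comp (Theta R n)) =
      Ideal.Quotient.mk (Ideal.span {w R n (n + 1)}) := by
    apply Polynomial.ringHom_ext
    · intro s
      simp only [RingHom.comp_apply, Theta_C]
      exact mk_Xi_phi R n s
    · simp only [RingHom.comp_apply, Theta_X, Xi_cT]
  exact RingHom.congr_fun key f

/-- uniqueness part of the key lemma. -/
theorem rep_unique (r : ℕ → MvPolynomial (Fin (n + 1)) R)
    (h : ∑ a ∈ Finset.range (n + 1), phi R n (r a) * cT R n ^ a = 0) :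
    ∀ a < n + 1, r a = 0 := by
  rcases subsingleton_or_nontrivial R with hR | hR
  · intro a _
    have := subsingleton_P R n hR
    exact Subsingleton.elim _ _
  · have hf : Theta R n (∑ a ∈ Finset.range (n + 1), Polynomial.monomial a (r a)) = 0 := by
      rw [map_sum, ← h]
      refine Finset.sum_congr rfl fun a _ => ?_
      rw [← Polynomial.C_mul_X_pow_eq_monomial, map_mul, map_pow, Theta_C, Theta_X]
    have hdvd : w R n (n + 1) ∣ ∑ a ∈ Finset.range (n + 1), Polynomial.monomial a (r a) := by
      have := mk_Xi_Theta R n (∑ a ∈ Finset.range (n + 1), Polynomial.monomial a (r a))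
      rw [hf, map_zero, map_zero, eq_comm, Ideal.Quotient.eq_zero_iff_mem,
        Ideal.mem_span_singleton] at this
      exact this
    have hdeg : (∑ a ∈ Finset.range (n + 1), Polynomial.monomial a (r a)).natDegree <
        (w R n (n + 1)).natDegree := by
      rw [(w_spec R n (n + 1)).2]
      refine lt_of_le_of_lt (Polynomial.natDegree_sum_le_of_forall_le _ _ (fun a ha => ?_))
        (Nat.lt_succ_self n)
      exact (Polynomial.natDegree_monomial_le _).trans (Nat.le_of_lt_succ (Finset.mem_range.1 ha))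
    have hf0 : ∑ a ∈ Finset.range (n + 1), Polynomial.monomial a (r a) = 0 := by
      by_contra hne
      exact (w_spec R n (n + 1)).1.not_dvd_of_natDegree_lt hne hdeg hdvd
    intro a ha
    have := congrArg (fun g => Polynomial.coeff g a) hf0
    simp only [Polynomial.finsetSum_coeff, Polynomial.coeff_monomial, Polynomial.coeff_zero,
      Finset.sum_ite_eq', Finset.mem_range, if_pos ha] at this
    exact this

end Groth.Agent.Helper6.SymBasisK
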