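import Mathlib

namespace Groth.Agent.Helper6.SymCot

open TensorProduct MvPolynomial

universe u

section
variable {A : Type u} [CommRing A] {M : Type u} [AddCommGroup M] [Module A M] {m : ℕ}

/-- linear form attached to a vector of coefficients -/
noncomputable def lin : (Fin m → A) →ₗ[A] MvPolynomial (Fin m) A where
  toFun a := ∑ j, C (a j) * X j
  map_add' := by intro a b; simp [add_mul, Finset.sum_add_distrib]
  map_smul' := by
    intro r a
    simp only [Pi.smul_apply, smul_eq_mul, RingHom.id_apply, Finset.smul_sum]
    refine Finset.sum_congr rfl (fun j _ => ?_)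
    rw [C_mul, mul_assoc, ← smul_eq_C_mul]

theorem lin_apply (a : Fin m → A) : lin a = ∑ j, C (a j) * X j := rfl

theorem lin_single (j : Fin m) : lin (Pi.single j (1 : A)) = X j := by
  rw [lin_apply, Finset.sum_eq_single j]
  · simp
  · intro b _ hb
    rw [Pi.single_eq_of_ne hb]; simp
  · intro h; exact absurd (Finset.mem_univ j) h

theorem aeval_lin (x : Fin m → M) (v : Fin m → SymmetricAlgebra A M)
    (hv : ∀ j, v j = SymmetricAlgebra.ι A M (x j)) (a : Fin m → A) :
    aeval v (lin a) = SymmetricAlgebra.ι A M (Fintype.linearCombination A x a) := by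
  rw [lin_apply, map_sum, Fintype.linearCombination_apply, map_sum]
  refine Finset.sum_congr rfl (fun j _ => ?_)
  rw [map_mul, aeval_C, aeval_X, hv, map_smul, Algebra.smul_def]

theorem pderiv_lin (a : Fin m → A) (j : Fin m) : pderiv j (lin a) = C (a j) := by
  rw [lin_apply, map_sum, Finset.sum_eq_single j]
  · simp
  · intro b _ hb
    rw [Derivation.leibniz]
    simp [pderiv_X, Pi.single_eq_of_ne hb]
  · intro h; exact absurd (Finset.mem_univ j) h

/-- the ideal of linear relations -/
noncomputable def J (x : Fin m → M) : Ideal (MvPolynomial (Fin m) A) :=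
  Ideal.span (lin '' (LinearMap.ker (Fintype.linearCombination A x) : Set (Fin m → A)))

/-- `M → P/J`. -/
noncomputable def toQuot (x : Fin m → M) (hx : Function.Surjective (Fintype.linearCombination A x)) :
    M →ₗ[A] (MvPolynomial (Fin m) A ⧸ J x) :=
  ((LinearMap.ker (Fintype.linearCombination A x)).liftQ
    (((Ideal.Quotient.mkₐ A (J x)).toLinearMap).comp lin) (by
      intro a ha
      rw [LinearMap.mem_ker, LinearMap.comp_apply]
      show Ideal.Quotient.mk (J x) (lin a) = 0
      rw [Ideal.Quotient.eq_zero_iff_mem]
      exact Ideal.subset_span ⟨a, ha, rfl⟩)).comp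
  ((Fintype.linearCombination A x).quotKerEquivOfSurjective hx).symm.toLinearMap

theorem toQuot_apply (x : Fin m → M) (hx : Function.Surjective (Fintype.linearCombination A x))
    (a : Fin m → A) :
    toQuot x hx (Fintype.linearCombination A x a) = Ideal.Quotient.mk (J x) (lin a) := by
  unfold toQuot
  rw [LinearMap.comp_apply]
  have : ((Fintype.linearCombination A x).quotKerEquivOfSurjective hx).symm.toLinearMap
      (Fintype.linearCombination A x a) = Submodule.Quotient.mk a := by
    show ((Fintype.linearCombination A x).quotKerEquivOfSurjective hx).symm _ = _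
    rw [LinearEquiv.symm_apply_eq]
    rfl
  rw [this, Submodule.liftQ_apply]
  rfl

theorem ker_le_J (x : Fin m → M) (hx : Function.Surjective (Fintype.linearCombination A x))
    (v : Fin m → SymmetricAlgebra A M)
    (hv : ∀ j, v j = SymmetricAlgebra.ι A M (x j)) :
    RingHom.ker (aeval (R := A) v) ≤ J x := by
  intro p hp
  rw [RingHom.mem_ker] at hp
  have key : (SymmetricAlgebra.lift (toQuot x hx)).comp (aeval (R := A) v) =
      Ideal.Quotient.mkₐ A (J x) := by
    apply MvPolynomial.algHom_ext
    intro j
    rw [AlgHom.comp_apply, aeval_X, hv, SymmetricAlgebra.lift_ι_apply]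
    have h1 : x j = Fintype.linearCombination A x (Pi.single j 1) := by
      rw [Fintype.linearCombination_apply_single, one_smul]
    rw [h1, toQuot_apply, lin_single]
    rfl
  have h2 := congrArg (fun f => f p) key
  simp only [AlgHom.comp_apply] at h2
  rw [hp, map_zero] at h2
  rw [← Ideal.Quotient.eq_zero_iff_mem]
  exact h2.symm

end

end Groth.Agent.Helper6.SymCot
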