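import Mathlib
import Groth.Agent.Helper6.SymCot

namespace Groth.Agent.Helper6.SymCot

open TensorProduct MvPolynomial

universe u

section main
variable {A : Type u} [CommRing A] {M : Type u} [AddCommGroup M] [Module A M] {m : ℕ}
  (x : Fin m → M)
  (G : Algebra.Generators A (SymmetricAlgebra A M) (Fin m))
  (hG : ∀ j, G.val j = SymmetricAlgebra.ι A M (x j))

include hG in
theorem lin_mem (k : LinearMap.ker (Fintype.linearCombination A x)) :
    lin (k : Fin m → A) ∈ G.toExtension.ker := by
  show lin _ ∈ G.ker
  rw [G.ker_eq_ker_aeval_val, RingHom.mem_ker, aeval_lin x G.val hG, LinearMap.mem_ker.1 k.2,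
    map_zero]

/-- A-linear map ker → Cotangent -/
noncomputable def e₀ : LinearMap.ker (Fintype.linearCombination A x) →ₗ[A] G.toExtension.Cotangent where
  toFun k := Algebra.Extension.Cotangent.mk ⟨lin (k : Fin m → A), lin_mem x G hG k⟩
  map_add' := by
    intro k k'
    rw [← map_add]
    congr 1
    apply Subtype.ext
    exact map_add lin _ _
  map_smul' := by
    intro r k
    rw [RingHom.id_apply, ← algebraMap_smul G.toExtension.Ring r
      (Algebra.Extension.Cotangent.mk (P := G.toExtension) ⟨lin (k : Fin m → A), lin_mem x G hG k⟩),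
      ← map_smul]
    congr 1
    apply Subtype.ext
    show lin (r • (k : Fin m → A)) = _
    rw [map_smul, Algebra.smul_def]
    rfl

noncomputable def e : SymmetricAlgebra A M ⊗[A] (LinearMap.ker (Fintype.linearCombination A x))
    →ₗ[SymmetricAlgebra A M] G.toExtension.Cotangent :=
  LinearMap.liftBaseChange (SymmetricAlgebra A M) (e₀ x G hG)

theorem e_one_tmul (k : LinearMap.ker (Fintype.linearCombination A x)) :
    e x G hG (1 ⊗ₜ k) = Algebra.Extension.Cotangent.mk ⟨lin (k : Fin m → A), lin_mem x G hG k⟩ := by
  unfold e
  rw [LinearMap.liftBaseChange_tmul, one_smul]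
  rfl

theorem e_surjective (hx : Function.Surjective (Fintype.linearCombination A x)) :
    Function.Surjective (e x G hG) := by
  have hs : Ideal.span (Set.range
      (fun k : LinearMap.ker (Fintype.linearCombination A x) => lin (k : Fin m → A))) =
      G.toExtension.ker := by
    apply le_antisymm
    · refine Ideal.span_le.2 ?_
      rintro _ ⟨k, rfl⟩
      exact lin_mem x G hG k
    · have h1 : G.toExtension.ker ≤ J x := by
        show G.ker ≤ _
        rw [G.ker_eq_ker_aeval_val]
        exact ker_le_J x hx G.val hG
      refine le_trans h1 ?_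
      unfold J
      apply Ideal.span_mono
      rintro _ ⟨a, ha, rfl⟩
      exact ⟨⟨a, ha⟩, rfl⟩
  have h2 := Algebra.Extension.Cotangent.span_eq_top_of_span_eq_ker (P := G.toExtension) _ hs
  rw [← LinearMap.range_eq_top, eq_top_iff, ← h2, Submodule.span_le]
  rintro _ ⟨k, rfl⟩
  exact ⟨1 ⊗ₜ k, e_one_tmul x G hG k⟩

theorem e_injective (hx : Function.Surjective (Fintype.linearCombination A x))
    [Module.Projective A M] : Function.Injective (e x G hG) := by
  obtain ⟨s, hs⟩ := Module.projective_lifting_property (Fintype.linearCombination A x)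
    LinearMap.id hx
  have hs' : ∀ y, Fintype.linearCombination A x (s y) = y := fun y => by
    have := congrArg (fun f => f y) hs
    simpa using this
  let r : (Fin m → A) →ₗ[A] LinearMap.ker (Fintype.linearCombination A x) :=
    LinearMap.codRestrict _ (LinearMap.id - s ∘ₗ (Fintype.linearCombination A x)) (fun a => by
      rw [LinearMap.mem_ker, LinearMap.sub_apply, LinearMap.id_apply, LinearMap.comp_apply,
        map_sub, hs', sub_self])
  have hr : ∀ k : LinearMap.ker (Fintype.linearCombination A x), r (k : Fin m → A) = k := by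
    intro k
    apply Subtype.ext
    show (k : Fin m → A) - s (Fintype.linearCombination A x (k : Fin m → A)) = k
    rw [LinearMap.mem_ker.1 k.2, map_zero, sub_zero]
  let t : G.toExtension.CotangentSpace →ₗ[SymmetricAlgebra A M]
      SymmetricAlgebra A M ⊗[A] (LinearMap.ker (Fintype.linearCombination A x)) :=
    G.cotangentSpaceBasis.constr (SymmetricAlgebra A M)
      (fun j => (1 : SymmetricAlgebra A M) ⊗ₜ[A] r (Pi.single j 1))
  have key : ∀ z, t (G.toExtension.cotangentComplex (e x G hG z)) = z := by
    intro z
    induction z using TensorProduct.induction_on with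
    | zero => simp
    | add a b ha hb => rw [map_add, map_add, map_add, ha, hb]
    | tmul a k =>
      have h1 : a ⊗ₜ[A] k = a • ((1 : SymmetricAlgebra A M) ⊗ₜ[A] k) := by
        rw [TensorProduct.smul_tmul', smul_eq_mul, mul_one]
      rw [h1, map_smul, map_smul, map_smul]
      congr 1
      rw [e_one_tmul, Algebra.Extension.cotangentComplex_mk]
      show (G.cotangentSpaceBasis.constr (SymmetricAlgebra A M)
        (fun j => (1 : SymmetricAlgebra A M) ⊗ₜ[A] r (Pi.single j 1))) _ = _
      rw [Module.Basis.constr_apply_fintype]
      have h2 : ∀ j, G.cotangentSpaceBasis.equivFun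
          ((1 : SymmetricAlgebra A M) ⊗ₜ[G.toExtension.Ring]
            KaehlerDifferential.D A G.toExtension.Ring (lin (k : Fin m → A))) j =
          algebraMap A (SymmetricAlgebra A M) ((k : Fin m → A) j) := by
        intro j
        rw [Module.Basis.equivFun_apply]
        refine (Algebra.Generators.cotangentSpaceBasis_repr_one_tmul G
          (lin (k : Fin m → A)) j).trans ?_
        rw [pderiv_lin, aeval_C]
      have h3 : ∀ j, G.cotangentSpaceBasis.equivFun
          ((1 : SymmetricAlgebra A M) ⊗ₜ[G.toExtension.Ring]
            KaehlerDifferential.D A G.toExtension.Ring (lin (k : Fin m → A))) j •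
          ((1 : SymmetricAlgebra A M) ⊗ₜ[A] r (Pi.single j 1)) =
          (1 : SymmetricAlgebra A M) ⊗ₜ[A] r (((k : Fin m → A) j) • Pi.single j 1) := by
        intro j
        rw [h2, algebraMap_smul, map_smul, TensorProduct.tmul_smul]
      rw [Finset.sum_congr rfl (fun j _ => h3 j), ← TensorProduct.tmul_sum, ← map_sum]
      have h4 : ∑ j, ((k : Fin m → A) j) • Pi.single j (1 : A) = (k : Fin m → A) := by
        funext i
        simp [Finset.sum_apply, Pi.single_apply]
      rw [h4, hr]
  intro z z' hz
  rw [← key z, ← key z', hz]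

include hG in
theorem main (hx : Function.Surjective (Fintype.linearCombination A x)) :
    ∃ e : SymmetricAlgebra A M ⊗[A] (LinearMap.ker (Fintype.linearCombination A x)) →ₗ[SymmetricAlgebra A M]
        G.toExtension.Cotangent,
      (∀ (k : LinearMap.ker (Fintype.linearCombination A x))
        (hk : (∑ j, C ((k : Fin m → A) j) * X j : MvPolynomial (Fin m) A) ∈ G.toExtension.ker),
        e (1 ⊗ₜ k) = Algebra.Extension.Cotangent.mk ⟨_, hk⟩) ∧
      Function.Surjective e ∧ (Module.Projective A M → Function.Bijective e) := by
  refine ⟨e x G hG, fun k hk => e_one_tmul x G hG k, e_surjective x G hG hx, fun hP => ?_⟩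
  haveI := hP
  exact ⟨e_injective x G hG hx, e_surjective x G hG hx⟩

end main

end Groth.Agent.Helper6.SymCot
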