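import Groth.Agent.Helper6.SymSum

set_option autoImplicit false
universe u

namespace Groth.Agent.Helper6.SymHeart

open Finset TensorProduct Groth.Agent.Helper6.SymSum

section powmem
variable {k K : Type*} [Field k] [Field K] [Algebra k K] [FiniteDimensional k K]
  [IsPurelyInseparable k K]

/-- uniform exponent: `x ^ [K:k] ∈ k`, with `[K:k] = q^e`. -/
lemma exists_pow_mem (q : ℕ) [ExpChar k q] :
    ∃ e : ℕ, Module.finrank k K = q ^ e ∧ ∀ x : K, x ^ (q ^ e) ∈ (algebraMap k K).range := by
  obtain ⟨e, he⟩ := IsPurelyInseparable.finrank_eq_pow (F := k) K q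
  refine ⟨e, he, fun x => ?_⟩
  obtain ⟨n, y, hxy⟩ := IsPurelyInseparable.minpoly_eq_X_pow_sub_C k q x
  have hx : x ^ q ^ n = algebraMap k K y := by
    have := minpoly.aeval k x
    rw [hxy] at this
    simpa [sub_eq_zero] using this
  have hdeg : (minpoly k x).natDegree = q ^ n := by
    rw [hxy]
    rcases ‹ExpChar k q› with _ | ⟨hprime⟩
    · simp only [one_pow, pow_one]
      exact Polynomial.natDegree_X_sub_C y
    · exact Polynomial.natDegree_X_pow_sub_C
  have hdvd : q ^ n ∣ q ^ e := by
    rw [← hdeg, ← he]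
    exact minpoly.degree_dvd (Algebra.IsIntegral.isIntegral x)
  obtain ⟨m, hm⟩ := hdvd
  rw [hm, pow_mul, hx, ← map_pow]
  exact ⟨_, rfl⟩

end powmem

section heart
variable {A : Type*} [CommRing A] {k K : Type*} [Field k] [Field K] [Algebra k K] [Algebra A K]
  [FiniteDimensional k K] [IsPurelyInseparable k K]

/-- coordinate functional, viewed as an `A`-linear endomorphism of `K`. -/
noncomputable def coordA (hAk : ∀ a : A, algebraMap A K a ∈ (algebraMap k K).range)
    {J : Type*} (b : Module.Basis J k K) (j : J) : K →ₗ[A] K where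
  toFun w := algebraMap k K (b.coord j w)
  map_add' x y := by rw [map_add, map_add]
  map_smul' a x := by
    obtain ⟨κ, hκ⟩ := hAk a
    rw [RingHom.id_apply, Algebra.smul_def, ← hκ, ← Algebra.smul_def, map_smul, smul_eq_mul, map_mul,
      Algebra.smul_def, ← hκ]

variable (hAk : ∀ a : A, algebraMap A K a ∈ (algebraMap k K).range)

/-- the functional `Λ_c`. -/
noncomputable def Lam {J : Type*} (b : Module.Basis J k K) {d : ℕ} (c : Fin d → J) :
    (⨂[A] _ : Fin d, K) →ₗ[A] K :=
  PiTensorProduct.lift ((MultilinearMap.mkPiAlgebra A (Fin d) K).compLinearMap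
    (fun i => coordA hAk b (c i)))

lemma Lam_tprod {J : Type*} (b : Module.Basis J k K) {d : ℕ} (c : Fin d → J) (w : Fin d → K) :
    Lam hAk b c (PiTensorProduct.tprod A w) = ∏ i, algebraMap k K (b.coord (c i) (w i)) := by
  simp [Lam, coordA]

lemma Lam_mem_range {J : Type*} (b : Module.Basis J k K) {d : ℕ} (c : Fin d → J)
    (z : ⨂[A] _ : Fin d, K) : Lam hAk b c z ∈ (algebraMap k K).range := by
  induction z using PiTensorProduct.induction_on with
  | smul_tprod r f =>
    rw [map_smul, Lam_tprod, Algebra.smul_def]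
    exact Subring.mul_mem _ (hAk r) (Subring.prod_mem _ fun i _ => ⟨_, rfl⟩)
  | add x y hx hy => rw [map_add]; exact Subring.add_mem _ hx hy

lemma Lam_reindex {J : Type*} (b : Module.Basis J k K) {d : ℕ} (c : Fin d → J)
    (σ : Equiv.Perm (Fin d)) (z : ⨂[A] _ : Fin d, K) :
    Lam hAk b c (PiTensorProduct.reindex A (fun _ : Fin d => K) σ z) = Lam hAk b (c ∘ σ) z := by
  induction z using PiTensorProduct.induction_on with
  | smul_tprod r f =>
    rw [map_smul, map_smul, map_smul, PiTensorProduct.reindex_tprod, Lam_tprod, Lam_tprod]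
    congr 1
    exact (Equiv.prod_comp σ (fun i => algebraMap k K (b.coord (c i) (f (σ.symm i))))).symm.trans
      (by simp)
  | add x y hx hy => rw [map_add, map_add, map_add, hx, hy]

lemma mul_eq_sum_Lam {J : Type*} [Fintype J] (b : Module.Basis J k K) {d : ℕ}
    (z : ⨂[A] _ : Fin d, K) :
    PiTensorProduct.lift (MultilinearMap.mkPiAlgebra A (Fin d) K) z =
      ∑ c : Fin d → J, Lam hAk b c z * ∏ i, b (c i) := by
  classical
  induction z using PiTensorProduct.induction_on with
  | smul_tprod r f =>
    simp only [map_smul, PiTensorProduct.lift.tprod, MultilinearMap.mkPiAlgebra_apply, Lam_tprod]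
    have h1 : ∀ i, f i = ∑ j, algebraMap k K (b.coord j (f i)) * b j := by
      intro i
      conv_lhs => rw [← b.sum_repr (f i)]
      refine Finset.sum_congr rfl fun j _ => ?_
      rw [Algebra.smul_def]; rfl
    have h2 : ∏ i, f i =
        ∑ c : Fin d → J, (∏ i, algebraMap k K (b.coord (c i) (f i))) * ∏ i, b (c i) := by
      calc ∏ i, f i = ∏ i, ∑ j, algebraMap k K (b.coord j (f i)) * b j :=
            Finset.prod_congr rfl fun i _ => h1 i
        _ = ∑ c : Fin d → J, ∏ i, (algebraMap k K (b.coord (c i) (f i)) * b (c i)) := by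
            rw [Finset.prod_univ_sum]
            simp [Fintype.piFinset_univ]
        _ = _ := by
            refine Finset.sum_congr rfl fun c _ => ?_
            rw [Finset.prod_mul_distrib]
    rw [h2, Finset.smul_sum]
    refine Finset.sum_congr rfl fun c _ => ?_
    rw [smul_mul_assoc]
  | add x y hx hy =>
    rw [map_add, hx, hy, ← Finset.sum_add_distrib]
    refine Finset.sum_congr rfl fun c _ => ?_
    rw [map_add, add_mul]

include hAk in
theorem heart (d : ℕ) (hd : Module.finrank k K ∣ d)
    (z : ⨂[A] _ : Fin d, K)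
    (hz : ∀ σ : Equiv.Perm (Fin d), PiTensorProduct.reindex A (fun _ : Fin d => K) σ z = z) :
    PiTensorProduct.lift (MultilinearMap.mkPiAlgebra A (Fin d) K) z ∈ (algebraMap k K).range := by
  classical
  let q := ringExpChar k
  haveI : ExpChar k q := ringExpChar.expChar k
  obtain ⟨e, he, hpow⟩ := exists_pow_mem (k := k) (K := K) q
  let b := Module.finBasis k K
  rw [mul_eq_sum_Lam hAk b z]
  choose a' ha' using fun c : Fin d → Fin (Module.finrank k K) => Lam_mem_range hAk b c z
  have hsymm : ∀ (c : Fin d → Fin (Module.finrank k K)) (σ : Equiv.Perm (Fin d)),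
      a' (c ∘ σ) = a' c := by
    intro c σ
    apply (algebraMap k K).injective
    rw [ha', ha', ← Lam_reindex, hz]
  have := sum_mem_range (k := k) (K := K) q e (he ▸ hd) (fun j => b j) (fun j => hpow _) a' hsymm
  simp only [ha'] at this
  exact this

end heart

end Groth.Agent.Helper6.SymHeart
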