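import Groth.Prelude.Def_SymTen
import Groth.Prelude.Def_HTop2
import Groth.Prelude.Def_Flat
import Groth.Agent.Helper6.SymHeart
import Groth.Agent.Helper6.SNCond
import Groth.Agent.Helper6.EtaSN2

set_option autoImplicit false
universe u

namespace Groth.Agent.Helper6.SymFinal

open TensorProduct AlgebraicGeometry

lemma eq_of_sq_eq_of_cube_eq {R : Type*} [CommRing R] [IsReduced R] {u v : R}
    (h2 : u ^ 2 = v ^ 2) (h3 : u ^ 3 = v ^ 3) : u = v := by
  have : (u - v) ^ 3 = 0 := by
    have e1 : u ^ 2 * v = v ^ 3 := by rw [h2]; ring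
    have e2 : u * v ^ 2 = v ^ 3 := by rw [← h2, ← h3]; ring
    have e : (u - v) ^ 3 = u ^ 3 - 3 * (u ^ 2 * v) + 3 * (u * v ^ 2) - v ^ 3 := by ring
    rw [e, e1, e2, h3]; ring
  have := IsReduced.eq_zero _ ⟨3, this⟩
  exact sub_eq_zero.mp this

lemma isReduced_of_isSeminormalRing {C : Type u} [CommRing C] (hC : HTop.IsSeminormalRing C) :
    IsReduced C := by
  constructor
  intro x hx
  -- reduce to x^2 = 0
  have key : ∀ y : C, y ^ 2 = 0 → y = 0 := by
    intro y hy
    obtain ⟨a, _, huniq⟩ := hC 0 0 (by ring)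
    have h0 : (0 : C) = a := huniq 0 ⟨by ring, by ring⟩
    have hy' : y = a := huniq y ⟨by rw [hy], by rw [pow_succ, hy, zero_mul]⟩
    rw [hy', ← h0]
  obtain ⟨n, hn⟩ := hx
  induction n using Nat.strong_induction_on generalizing x with
  | _ n ih =>
    rcases Nat.lt_or_ge n 2 with h | h
    · interval_cases n
      · rw [pow_zero] at hn
        rw [← mul_one x, hn, mul_zero]
      · simpa using hn
    · -- x^n = 0, n ≥ 2: (x^(n-1))^2 = 0 
      have h1 : (x ^ (n - 1)) ^ 2 = 0 := by
        rw [← pow_mul]
        have : (n - 1) * 2 = n + (n - 2) := by omega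
        rw [this, pow_add, hn, zero_mul]
      exact ih (n - 1) (by omega) x (key _ h1)

lemma exists_frac {C : Type*} [CommRing C] (p : Ideal C) [p.IsPrime] (κ : p.ResidueField) :
    ∃ a s : C, s ∉ p ∧ κ * algebraMap C p.ResidueField s = algebraMap C p.ResidueField a := by
  obtain ⟨⟨x1, x2⟩, hx⟩ := IsLocalization.surj (nonZeroDivisors (C ⧸ p)) κ
  obtain ⟨a, rfl⟩ := Ideal.Quotient.mk_surjective x1
  obtain ⟨s, hs⟩ := Ideal.Quotient.mk_surjective (x2 : C ⧸ p)
  refine ⟨a, s, ?_, ?_⟩
  · intro hsp
    have : (x2 : C ⧸ p) = 0 := by rw [← hs]; exact Ideal.Quotient.eq_zero_iff_mem.mpr hsp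
    exact nonZeroDivisors.coe_ne_zero x2 this
  · simp only at hx
    rw [← hs, Ideal.algebraMap_quotient_residueField_mk, Ideal.algebraMap_quotient_residueField_mk] at hx
    exact hx

section star
variable (A C C' B : Type u) [CommRing A] [CommRing C] [CommRing C'] [CommRing B]
    [Algebra A C] [Algebra A C'] [Algebra A B]

lemma lift_map_eq {K : Type u} [CommRing K] [Algebra A K] (ψ : B →ₐ[A] K) (d : ℕ)
    (x : ⨂[A] _ : Fin d, B) :
    PiTensorProduct.lift (MultilinearMap.mkPiAlgebra A (Fin d) K)
      (PiTensorProduct.map (fun _ => ψ.toLinearMap) x) =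
    ψ (PiTensorProduct.lift (MultilinearMap.mkPiAlgebra A (Fin d) B) x) := by
  induction x using PiTensorProduct.induction_on with
  | smul_tprod r f =>
    simp [PiTensorProduct.map_tprod, map_prod]
  | add x y hx hy => simp only [map_add, hx, hy]

theorem star (g : C →ₐ[A] C')
    (hpi : ∀ q : PrimeSpectrum C', (Ideal.ResidueField.map
      (PrimeSpectrum.comap g.toRingHom q).asIdeal q.asIdeal g.toRingHom rfl).IsPurelyInseparable)
    (d : ℕ) (hd : 0 < d)
    (hdeg : ∀ q : PrimeSpectrum C',
      @Module.finrank (PrimeSpectrum.comap g.toRingHom q).asIdeal.ResidueField q.asIdeal.ResidueField _ _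
          (Ideal.ResidueField.map (PrimeSpectrum.comap g.toRingHom q).asIdeal q.asIdeal g.toRingHom
            rfl).toAlgebra.toModule ∣ d)
    (φ : B →ₐ[A] C') (x : ⨂[A] _ : Fin d, B) (hx : x ∈ SymTen.TS A B d) (q : PrimeSpectrum C') :
    ∃ s a : C, g s ∉ q.asIdeal ∧
      g s * φ (PiTensorProduct.lift (MultilinearMap.mkPiAlgebra A (Fin d) B) x) - g a ∈ q.asIdeal := by
  set p := PrimeSpectrum.comap g.toRingHom q with hp
  letI : Algebra p.asIdeal.ResidueField q.asIdeal.ResidueField :=
    (Ideal.ResidueField.map p.asIdeal q.asIdeal g.toRingHom rfl).toAlgebra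
  have hPI : IsPurelyInseparable p.asIdeal.ResidueField q.asIdeal.ResidueField := hpi q
  have hfr : Module.finrank p.asIdeal.ResidueField q.asIdeal.ResidueField ∣ d := hdeg q
  haveI : FiniteDimensional p.asIdeal.ResidueField q.asIdeal.ResidueField :=
    Module.finite_of_finrank_pos (Nat.pos_of_dvd_of_pos hfr hd)
  let ψ : B →ₐ[A] q.asIdeal.ResidueField := (IsScalarTower.toAlgHom A C' q.asIdeal.ResidueField).comp φ
  have hmap : ∀ c : C, algebraMap p.asIdeal.ResidueField q.asIdeal.ResidueField
      (algebraMap C p.asIdeal.ResidueField c) = algebraMap C' q.asIdeal.ResidueField (g c) := by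
    intro c
    exact Ideal.ResidueField.map_algebraMap p.asIdeal q.asIdeal g.toRingHom rfl c
  have hAk : ∀ a : A, algebraMap A q.asIdeal.ResidueField a ∈
      (algebraMap p.asIdeal.ResidueField q.asIdeal.ResidueField).range := by
    intro a
    refine ⟨algebraMap C p.asIdeal.ResidueField (algebraMap A C a), ?_⟩
    rw [hmap, g.commutes, ← IsScalarTower.algebraMap_apply]
  set y := φ (PiTensorProduct.lift (MultilinearMap.mkPiAlgebra A (Fin d) B) x) with hy
  have hz : ∀ σ : Equiv.Perm (Fin d),
      PiTensorProduct.reindex A (fun _ : Fin d => q.asIdeal.ResidueField) σ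
        (PiTensorProduct.map (fun _ => ψ.toLinearMap) x) =
        PiTensorProduct.map (fun _ => ψ.toLinearMap) x := by
    intro σ
    have h1 := PiTensorProduct.map_reindex (R := A) (s := fun _ : Fin d => B)
      (t := fun _ : Fin d => q.asIdeal.ResidueField) (fun _ => ψ.toLinearMap) σ x
    rw [← h1, (SymTen.mem_TS_iff A B d x).mp hx σ]
  have hheart := Groth.Agent.Helper6.SymHeart.heart (A := A) (k := p.asIdeal.ResidueField)
    (K := q.asIdeal.ResidueField) hAk d hfr _ hz
  rw [lift_map_eq] at hheart
  obtain ⟨κ, hκ⟩ := hheart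
  have hψy : ψ (PiTensorProduct.lift (MultilinearMap.mkPiAlgebra A (Fin d) B) x) =
      algebraMap C' q.asIdeal.ResidueField y := rfl
  rw [hψy] at hκ
  obtain ⟨a, s, hs, hsa⟩ := exists_frac p.asIdeal κ
  refine ⟨s, a, hs, ?_⟩
  rw [← Ideal.algebraMap_residueField_eq_zero, map_sub, map_mul, ← hκ, ← hmap, ← hmap, ← map_mul,
    ← map_sub, mul_comm, hsa, sub_self, map_zero]

end star

section final
variable {C C' : Type u} [CommRing C] [CommRing C'] [IsNoetherianRing C]

/-- `C` seminormal Noetherian, `g : C → C'` finite with `C'` reduced and `Spec` bijective; an element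
`y` whose residue classes all come from `C` lies in the image of `g`. -/
theorem mem_range_of_star (hC : HTop.IsSeminormalRing C) (g : C →+* C') [IsReduced C']
    (hfin : g.Finite) (hbij : Function.Bijective (PrimeSpectrum.comap g)) (y : C')
    (hstar : ∀ q : PrimeSpectrum C', ∃ s a : C, g s ∉ q.asIdeal ∧ g s * y - g a ∈ q.asIdeal) :
    y ∈ g.range := by
  letI : Algebra C C' := g.toAlgebra
  haveI : Module.Finite C C' := hfin
  haveI : IsReduced C := isReduced_of_isSeminormalRing hC
  have hginj : Function.Injective g := by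
    rw [injective_iff_map_eq_zero]
    intro c hc
    have hnil : c ∈ nilradical C := by
      rw [nilradical_eq_sInf, Ideal.mem_sInf]
      intro P hP
      obtain ⟨Q, hQ⟩ := hbij.2 ⟨P, hP⟩
      have : c ∈ (PrimeSpectrum.comap g Q).asIdeal := by
        change g c ∈ Q.asIdeal
        rw [hc]; exact Ideal.zero_mem _
      rw [hQ] at this
      exact this
    exact IsReduced.eq_zero _ hnil
  let Bs : Subalgebra C C' := Algebra.adjoin C {y}
  haveI : IsNoetherian C C' := isNoetherian_of_isNoetherianRing_of_finite C C'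
  haveI : Module.Finite C Bs := Module.IsNoetherian.finite C (Subalgebra.toSubmodule Bs)
  haveI : IsNoetherianRing Bs := Algebra.FiniteType.isNoetherianRing C Bs
  haveI : Algebra.IsIntegral C C' := inferInstance
  haveI : Algebra.IsIntegral Bs C' := Algebra.IsIntegral.tower_top (R := C)
  have hval : ∀ c : C, ((algebraMap C Bs c : Bs) : C') = g c := fun c => rfl
  -- lifting primes
  have hlift : ∀ qb : PrimeSpectrum Bs, ∃ Q : PrimeSpectrum C',
      Q.asIdeal.comap (algebraMap Bs C') = qb.asIdeal := by
    intro qb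
    obtain ⟨Q, _, hQp, hQc⟩ := Ideal.exists_ideal_over_prime_of_isIntegral (R := Bs) (S := C')
      qb.asIdeal (⊥ : Ideal C') (by
        intro b hb
        have : (b : C') = 0 := hb
        have hb0 : b = 0 := Subtype.ext this
        rw [hb0]; exact Ideal.zero_mem _)
    exact ⟨⟨Q, hQp⟩, hQc⟩
  have hsurj : Function.Surjective (algebraMap C Bs) := by
    apply Groth.Agent.Helper6.SNCond.surjective_of_seminormal_subintegral
    · -- seminormal in Bs
      intro b hb2 hb3
      obtain ⟨c2, hc2⟩ := hb2
      obtain ⟨c3, hc3⟩ := hb3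
      have h2 : g c2 = (b : C') ^ 2 := by
        have := congrArg (fun t : Bs => (t : C')) hc2
        exact this
      have h3 : g c3 = (b : C') ^ 3 := by
        have := congrArg (fun t : Bs => (t : C')) hc3
        exact this
      have hrel : c2 ^ 3 = c3 ^ 2 := by
        apply hginj
        rw [map_pow, map_pow, h2, h3]; ring
      obtain ⟨a, ⟨ha2, ha3⟩, _⟩ := hC c2 c3 hrel
      refine ⟨a, ?_⟩
      apply Subtype.ext
      rw [hval]
      apply eq_of_sq_eq_of_cube_eq
      · rw [← map_pow, ← ha2, h2]
      · rw [← map_pow, ← ha3, h3]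
    · -- injectivity on spectra
      intro q1 q2 h12
      obtain ⟨Q1, hQ1⟩ := hlift q1
      obtain ⟨Q2, hQ2⟩ := hlift q2
      have hcomp : ∀ (Q : PrimeSpectrum C') (qb : PrimeSpectrum Bs),
          Q.asIdeal.comap (algebraMap Bs C') = qb.asIdeal →
          PrimeSpectrum.comap g Q = PrimeSpectrum.comap (algebraMap C Bs) qb := by
        intro Q qb hQ
        apply PrimeSpectrum.ext
        ext c
        change g c ∈ Q.asIdeal ↔ algebraMap C Bs c ∈ qb.asIdeal
        rw [← hQ]
        rfl
      have : Q1 = Q2 := hbij.1 (by rw [hcomp Q1 q1 hQ1, hcomp Q2 q2 hQ2, h12])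
      apply PrimeSpectrum.ext
      rw [← hQ1, ← hQ2, this]
    · -- residue condition
      intro qb b
      obtain ⟨Q, hQ⟩ := hlift qb
      have hmemQ : ∀ t : Bs, t ∈ qb.asIdeal ↔ (t : C') ∈ Q.asIdeal := by
        intro t
        rw [← hQ]; rfl
      have key : ∀ c' ∈ Bs, ∃ s a : C, g s ∉ Q.asIdeal ∧ g s * c' - g a ∈ Q.asIdeal := by
        intro c' hc'
        induction hc' using Algebra.adjoin_induction with
        | mem x hx =>
          rw [Set.mem_singleton_iff] at hx
          rw [hx]
          exact hstar Q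
        | algebraMap r =>
          refine ⟨1, r, ?_, ?_⟩
          · rw [map_one]; exact Q.isPrime.one_notMem
          · rw [map_one, one_mul]
            change g r - g r ∈ _
            rw [sub_self]; exact Ideal.zero_mem _
        | add x z _ _ hx hz =>
          obtain ⟨s1, a1, hs1, h1⟩ := hx
          obtain ⟨s2, a2, hs2, h2⟩ := hz
          refine ⟨s1 * s2, s2 * a1 + s1 * a2, ?_, ?_⟩
          · rw [map_mul]
            intro hm
            rcases Q.isPrime.mem_or_mem hm with h | h
            · exact hs1 h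
            · exact hs2 h
          · have : g (s1 * s2) * (x + z) - g (s2 * a1 + s1 * a2) =
                g s2 * (g s1 * x - g a1) + g s1 * (g s2 * z - g a2) := by
              simp only [map_mul, map_add]; ring
            rw [this]
            exact Ideal.add_mem _ (Ideal.mul_mem_left _ _ h1) (Ideal.mul_mem_left _ _ h2)
        | mul x z _ _ hx hz =>
          obtain ⟨s1, a1, hs1, h1⟩ := hx
          obtain ⟨s2, a2, hs2, h2⟩ := hz
          refine ⟨s1 * s2, a1 * a2, ?_, ?_⟩
          · rw [map_mul]
            intro hm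
            rcases Q.isPrime.mem_or_mem hm with h | h
            · exact hs1 h
            · exact hs2 h
          · have : g (s1 * s2) * (x * z) - g (a1 * a2) =
                g s1 * x * (g s2 * z - g a2) + g a2 * (g s1 * x - g a1) := by
              simp only [map_mul]; ring
            rw [this]
            exact Ideal.add_mem _ (Ideal.mul_mem_left _ _ h2) (Ideal.mul_mem_left _ _ h1)
      obtain ⟨s, a, hs, hsa⟩ := key (b : C') b.2
      refine ⟨s, a, ?_, ?_⟩
      · rw [hmemQ, hval]; exact hs
      · rw [hmemQ]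
        exact hsa
  obtain ⟨c, hc⟩ := hsurj ⟨y, Algebra.subset_adjoin (Set.mem_singleton y)⟩
  exact ⟨c, congrArg (fun t : Bs => (t : C')) hc⟩

end final

end Groth.Agent.Helper6.SymFinal
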