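import Mathlib

set_option autoImplicit false
universe u

namespace Groth.Agent.Helper6.SymSum

open Finset

variable {J : Type*} [Fintype J] [DecidableEq J] {d : ℕ}

/-- the content (multiplicity vector) of a tuple. -/
def content (c : Fin d → J) : J → ℕ := fun j => (univ.filter (fun i => c i = j)).card

lemma content_eq_card (c : Fin d → J) (j : J) :
    content c j = Fintype.card {i // c i = j} := by
  rw [content, Fintype.card_subtype]

lemma sum_content (c : Fin d → J) : ∑ j, content c j = d := by
  have := Finset.card_eq_sum_card_fiberwise (s := (univ : Finset (Fin d))) (t := (univ : Finset J))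
    (f := c) (fun i _ => mem_univ _)
  simpa [content] using this.symm

lemma prod_eq_prod_pow_content {M : Type*} [CommMonoid M] (v : J → M) (c : Fin d → J) :
    ∏ i, v (c i) = ∏ j, v j ^ content c j := by
  rw [← Finset.prod_fiberwise_of_maps_to (s := (univ : Finset (Fin d))) (t := (univ : Finset J))
    (g := c) (fun i _ => mem_univ _)]
  refine Finset.prod_congr rfl fun j _ => ?_
  rw [Finset.prod_congr rfl (g := fun _ => v j), Finset.prod_const]
  · rfl
  · intro i hi
    rw [(Finset.mem_filter.mp hi).2]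

lemma exists_perm_of_content_eq (c c' : Fin d → J) (h : content c = content c') :
    ∃ σ : Equiv.Perm (Fin d), c' = c ∘ σ := by
  have hcard : ∀ j, Fintype.card {i // c' i = j} = Fintype.card {i // c i = j} := by
    intro j
    rw [← content_eq_card, ← content_eq_card, h]
  refine ⟨Equiv.ofFiberEquiv (f := c') (g := c) (fun j => Fintype.equivOfCardEq (hcard j)), ?_⟩
  funext i
  exact (Equiv.ofFiberEquiv_map _ i).symm

/-- counting lemma: a sum over tuples of a function of the content. -/
lemma sum_comp_content {M : Type*} [AddCommMonoid M] (F : (J → ℕ) → M) :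
    ∑ c : Fin d → J, F (content c) =
      ∑ α ∈ Finset.piAntidiag (univ : Finset J) d, Nat.multinomial univ α • F α := by
  classical
  -- the additive map `monomial α n ↦ n • F α`
  let Λ : MvPolynomial J ℕ →ₗ[ℕ] M :=
    (MvPolynomial.basisMonomials J ℕ).constr ℕ (fun α : J →₀ ℕ => F (fun j => α j))
  have hΛ : ∀ (α : J →₀ ℕ) (n : ℕ), Λ (MvPolynomial.monomial α n) = n • F (fun j => α j) := by
    intro α n
    have h1 : MvPolynomial.monomial α n = n • (MvPolynomial.basisMonomials J ℕ) α := by
      rw [MvPolynomial.coe_basisMonomials, MvPolynomial.smul_monomial, smul_eq_mul, mul_one]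
    rw [h1, map_smul, Module.Basis.constr_basis]
  have e1 : (∑ j : J, (MvPolynomial.X j : MvPolynomial J ℕ)) ^ d =
      ∑ c : Fin d → J, MvPolynomial.monomial (Finsupp.equivFunOnFinite.symm (content c)) 1 := by
    rw [Fintype.sum_pow]
    refine Finset.sum_congr rfl fun c _ => ?_
    rw [prod_eq_prod_pow_content (fun j => (MvPolynomial.X j : MvPolynomial J ℕ)) c,
      MvPolynomial.monomial_eq, MvPolynomial.C_1, one_mul,
      Finsupp.prod_fintype _ _ (fun _ => pow_zero _)]
    rfl
  have e2 : (∑ j : J, (MvPolynomial.X j : MvPolynomial J ℕ)) ^ d =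
      ∑ α ∈ Finset.piAntidiag (univ : Finset J) d,
        MvPolynomial.monomial (Finsupp.equivFunOnFinite.symm α) (Nat.multinomial univ α) := by
    rw [Finset.sum_pow_eq_sum_piAntidiag]
    refine Finset.sum_congr rfl fun α _ => ?_
    rw [MvPolynomial.monomial_eq, Finsupp.prod_fintype _ _ (fun _ => pow_zero _)]
    congr 1
  have := congrArg Λ (e1.symm.trans e2)
  rw [map_sum, map_sum] at this
  simp only [hΛ, one_smul] at this
  exact this

section nt

lemma pow_dvd_of_not_dvd_choose {p e d a : ℕ} (hp : p.Prime) (hd : p ^ e ∣ d)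
    (h : ¬ p ∣ Nat.choose d a) : p ^ e ∣ a := by
  rcases Nat.eq_zero_or_pos a with rfl | ha
  · exact dvd_zero _
  rcases Nat.eq_zero_or_pos d with rfl | hd0
  · rw [Nat.choose_eq_zero_of_lt ha] at h
    exact absurd (dvd_zero _) h
  obtain ⟨d', rfl⟩ : ∃ d', d = d' + 1 := ⟨d - 1, by omega⟩
  obtain ⟨a', rfl⟩ : ∃ a', a = a' + 1 := ⟨a - 1, by omega⟩
  have key := Nat.add_one_mul_choose_eq d' a'
  -- (d'+1) * C(d', a') = C(d'+1, a'+1) * (a'+1)
  have hdvd : p ^ e ∣ Nat.choose (d' + 1) (a' + 1) * (a' + 1) := by
    rw [← key]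
    exact Dvd.dvd.mul_right hd _
  have hcop : Nat.Coprime (p ^ e) (Nat.choose (d' + 1) (a' + 1)) :=
    Nat.Coprime.pow_left _ ((Nat.Prime.coprime_iff_not_dvd hp).mpr h)
  exact hcop.dvd_of_dvd_mul_left hdvd

lemma pow_dvd_of_not_dvd_multinomial {J : Type*} [Fintype J] [DecidableEq J] {p e d : ℕ}
    (hp : p.Prime) (hd : p ^ e ∣ d) (α : J → ℕ) (hα : ∑ j, α j = d)
    (h : ¬ p ∣ Nat.multinomial univ α) (j : J) : p ^ e ∣ α j := by
  have h1 : Nat.multinomial univ α =
      (α j + ∑ i ∈ univ.erase j, α i).choose (α j) * Nat.multinomial (univ.erase j) α := by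
    rw [← Nat.multinomial_insert (Finset.notMem_erase j univ), Finset.insert_erase (mem_univ j)]
  have h2 : α j + ∑ i ∈ univ.erase j, α i = d := by
    rw [Finset.add_sum_erase _ _ (mem_univ j), hα]
  rw [h2] at h1
  apply pow_dvd_of_not_dvd_choose hp hd
  intro hdvd
  apply h
  rw [h1]
  exact Dvd.dvd.mul_right hdvd _

end nt

section CL

variable {k K : Type*} [Field k] [Field K] [Algebra k K]

/-- the combinatorial lemma: a symmetric sum of products of elements whose `D`-th powers lie in `k`. -/
theorem sum_mem_range {J : Type*} [Fintype J] [DecidableEq J] {d : ℕ} (p : ℕ) [ExpChar k p]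
    (e : ℕ) (hD : p ^ e ∣ d)
    (v : J → K) (hv : ∀ j, v j ^ (p ^ e) ∈ (algebraMap k K).range)
    (a : (Fin d → J) → k) (ha : ∀ (c : Fin d → J) (σ : Equiv.Perm (Fin d)), a (c ∘ σ) = a c) :
    ∑ c : Fin d → J, algebraMap k K (a c) * ∏ i, v (c i) ∈ (algebraMap k K).range := by
  classical
  -- ã
  let at' : (J → ℕ) → k := fun α => if h : ∃ c : Fin d → J, content c = α then a h.choose else 0
  have hat : ∀ c : Fin d → J, at' (content c) = a c := by
    intro c
    have hex : ∃ c' : Fin d → J, content c' = content c := ⟨c, rfl⟩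
    simp only [at', dif_pos hex]
    obtain ⟨σ, hσ⟩ := exists_perm_of_content_eq hex.choose c hex.choose_spec
    have := ha hex.choose σ
    rw [← hσ] at this
    exact this.symm
  have hrw : ∑ c : Fin d → J, algebraMap k K (a c) * ∏ i, v (c i) =
      ∑ c : Fin d → J, (fun α : J → ℕ => algebraMap k K (at' α) * ∏ j, v j ^ α j) (content c) := by
    refine Finset.sum_congr rfl fun c _ => ?_
    simp only [hat, prod_eq_prod_pow_content v c]
  rw [hrw, sum_comp_content (fun α : J → ℕ => algebraMap k K (at' α) * ∏ j, v j ^ α j)]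
  apply Subring.sum_mem
  intro α hα
  rw [Finset.mem_piAntidiag] at hα
  rw [nsmul_eq_mul]
  by_cases hdiv : ∀ j, p ^ e ∣ α j
  · apply Subring.mul_mem _ (natCast_mem _ _)
    apply Subring.mul_mem _ (RingHom.mem_range_self _ _)
    apply Subring.prod_mem
    intro j _
    obtain ⟨m, hm⟩ := hdiv j
    rw [hm, pow_mul]
    exact Subring.pow_mem _ (hv j) m
  · -- p divides the multinomial coefficient
    have hpK : (Nat.multinomial univ α : K) = 0 := by
      rcases ‹ExpChar k p› with _ | ⟨hprime⟩
      · exfalso; apply hdiv; intro j; simp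
      · haveI : CharP K p := charP_of_injective_algebraMap (algebraMap k K).injective p
        rw [CharP.cast_eq_zero_iff K p]
        by_contra hnd
        exact hdiv (pow_dvd_of_not_dvd_multinomial hprime hD α hα.1 hnd)
    rw [hpK, zero_mul]
    exact Subring.zero_mem _

end CL

end Groth.Agent.Helper6.SymSum
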