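import Mathlib

set_option autoImplicit false

/-!
Submodules of `k⟦X⟧` over a subalgebra `A` with `k⟦X⟧` finite over `A`: a submodule containing
elements of every order `≥ c` contains `X ^ c • k⟦X⟧`.
-/

namespace Groth.Agent.Helper6.TFC

open PowerSeries Function

universe u

variable {k : Type u} [Field k] (A : Subalgebra k (PowerSeries k))

/-- the `A`-submodule of power series of order at least `c`. -/
def ordGE (c : ℕ) : Submodule A (PowerSeries k) where
  carrier := {f | (c : ℕ∞) ≤ order f}
  add_mem' {a b} ha hb := le_trans (le_min ha hb) (min_order_le_order_add a b)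
  zero_mem' := by
    change (c : ℕ∞) ≤ order (0 : PowerSeries k)
    rw [order_zero]; exact le_top
  smul_mem' a f hf := by
    change (c : ℕ∞) ≤ order ((a : PowerSeries k) * f)
    exact le_trans (le_trans hf le_add_self) (le_order_mul _ _)

theorem mem_ordGE {c : ℕ} {f : PowerSeries k} : f ∈ ordGE A c ↔ (c : ℕ∞) ≤ order f := Iff.rfl

theorem exists_eq_X_pow_mul {c : ℕ} {f : PowerSeries k} (hf : (c : ℕ∞) ≤ order f) :
    ∃ g : PowerSeries k, f = X ^ c * g := by
  have : (X : PowerSeries k) ^ c ∣ f := by
    rw [X_pow_dvd_iff]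
    intro m hm
    exact coeff_of_lt_order m (lt_of_lt_of_le (by exact_mod_cast hm) hf)
  obtain ⟨g, hg⟩ := this
  exact ⟨g, hg⟩

theorem ordGE_fg (hA : Module.Finite A (PowerSeries k)) (c : ℕ) : (ordGE A c).FG := by
  have h1 : ordGE A c = Submodule.map (LinearMap.mulLeft A ((X : PowerSeries k) ^ c)) ⊤ := by
    ext f
    rw [mem_ordGE, Submodule.mem_map]
    constructor
    · intro hf
      obtain ⟨g, hg⟩ := exists_eq_X_pow_mul hf
      exact ⟨g, trivial, hg.symm⟩
    · rintro ⟨g, -, rfl⟩
      rw [LinearMap.mulLeft_apply]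
      refine le_trans ?_ (le_order_mul _ _)
      rw [order_X_pow]
      exact le_self_add
  rw [h1]
  exact (Module.Finite.fg_top).map _

variable {A}

theorem isUnit_of_constantCoeff_ne_zero (hA : Module.Finite A (PowerSeries k)) (a : A)
    (ha : constantCoeff (a : PowerSeries k) ≠ 0) : IsUnit a := by
  haveI := hA
  haveI : Algebra.IsIntegral A (PowerSeries k) := Algebra.IsIntegral.of_finite A (PowerSeries k)
  have h1 : IsUnit (algebraMap A (PowerSeries k) a) := by
    rw [isUnit_iff_constantCoeff]
    exact IsUnit.mk0 _ ha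
  exact (isUnit_map_iff (algebraMap A (PowerSeries k)) a).mp h1

theorem exists_nonunit (hA : Module.Finite A (PowerSeries k)) :
    ∃ t : A, t ≠ 0 ∧ constantCoeff (t : PowerSeries k) = 0 := by
  haveI := hA
  haveI : Algebra.IsIntegral A (PowerSeries k) := Algebra.IsIntegral.of_finite A (PowerSeries k)
  by_contra hcon
  push Not at hcon
  have hfield : IsField A := by
    refine ⟨exists_pair_ne A, mul_comm, fun {a} ha => ?_⟩
    exact (isUnit_of_constantCoeff_ne_zero hA a (hcon a ha)).exists_right_inv
  have h2 : IsField (PowerSeries k) := isField_of_isIntegral_of_isField' (R := A) hfield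
  exact PowerSeries.not_isField (A := k) ⟨h2.exists_pair_ne, h2.mul_comm, h2.mul_inv_cancel⟩

theorem mem_jacobson (hA : Module.Finite A (PowerSeries k)) (t : A)
    (ht : constantCoeff (t : PowerSeries k) = 0) : t ∈ (⊥ : Ideal A).jacobson := by
  rw [Ideal.mem_jacobson_bot]
  intro y
  apply isUnit_of_constantCoeff_ne_zero hA
  have : ((t * y + 1 : A) : PowerSeries k) = (t : PowerSeries k) * (y : PowerSeries k) + 1 := rfl
  rw [this, map_add, map_mul, ht, zero_mul, zero_add, map_one]
  exact one_ne_zero

end Groth.Agent.Helper6.TFC
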