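import Mathlib
import Groth.Agent.Helper6.TFC9

set_option autoImplicit false

namespace Groth.Agent.Helper6.TFC

open PowerSeries Function

universe u

variable {k : Type u} [Field k] {A : Subalgebra k (PowerSeries k)}

theorem ordGE_le_of_orders (hA : Module.Finite A (PowerSeries k))
    (N : Submodule A (PowerSeries k)) (c : ℕ)
    (hN : ∀ n : ℕ, c ≤ n → ∃ f ∈ N, order f = n) : ordGE A c ≤ N := by
  obtain ⟨t, ht0, htc⟩ := exists_nonunit hA
  have htP : (t : PowerSeries k) ≠ 0 := fun h => ht0 (Subtype.ext h)
  obtain ⟨d, hd⟩ : ∃ d : ℕ, d = (order (t : PowerSeries k)).toNat := ⟨_, rfl⟩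
  obtain ⟨v, hv⟩ : ∃ v : PowerSeries k, v = divXPowOrder (t : PowerSeries k) := ⟨_, rfl⟩
  have htv : (X : PowerSeries k) ^ d * v = t := by
    rw [hd, hv]; exact X_pow_order_mul_divXPowOrder
  have hvu : IsUnit v := by
    rw [isUnit_iff_constantCoeff, hv]
    exact IsUnit.mk0 _ (fun h => htP (constantCoeff_divXPowOrder_eq_zero_iff.mp h))
  have key : ordGE A c ≤ (N ⊓ ordGE A c) ⊔ (Ideal.span {t}) • ordGE A c := by
    intro f hf
    have step : ∀ j : ℕ, j ≤ d →
        ∃ g ∈ N ⊓ ordGE A c, ((c + j : ℕ) : ℕ∞) ≤ order (f - g) := by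
      intro j
      induction j with
      | zero =>
        intro _
        refine ⟨0, Submodule.zero_mem _, ?_⟩
        rw [sub_zero, Nat.add_zero]
        exact hf
      | succ j ih =>
        intro hj
        obtain ⟨g, hg, hgo⟩ := ih (Nat.le_of_succ_le hj)
        obtain ⟨h, hhN, hho⟩ := hN (c + j) (Nat.le_add_right c j)
        have hh0 : h ≠ 0 := by
          rintro rfl
          rw [order_zero] at hho
          exact ENat.top_ne_natCast _ hho
        have hcoef : coeff (c + j) h ≠ 0 := by
          have := coeff_order hh0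
          rwa [hho, ENat.toNat_natCast] at this
        obtain ⟨lam, hlam⟩ : ∃ lam : k, lam = coeff (c + j) (f - g) / coeff (c + j) h :=
          ⟨_, rfl⟩
        refine ⟨g + (algebraMap k A lam) • h, ?_, ?_⟩
        · refine Submodule.add_mem _ hg (Submodule.smul_mem _ _ ⟨hhN, ?_⟩)
          rw [SetLike.mem_coe, mem_ordGE, hho]
          exact_mod_cast Nat.le_add_right c j
        · apply nat_le_order
          intro i hi
          have h1 : f - (g + algebraMap k A lam • h) = (f - g) - lam • h := by
            rw [algebraMap_smul]; ring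
          rw [h1, map_sub, coeff_smul]
          rcases Nat.lt_succ_iff_lt_or_eq.mp (by omega : i < c + j + 1) with h2 | h2
          · rw [coeff_of_lt_order i (lt_of_lt_of_le (by exact_mod_cast h2) hgo),
              coeff_of_lt_order i (by rw [hho]; exact_mod_cast h2), smul_zero, sub_zero]
          · subst h2
            rw [hlam, smul_eq_mul, div_mul_cancel₀ _ hcoef, sub_self]
    obtain ⟨g, hg, hgo⟩ := step d le_rfl
    have hfg : f = g + (f - g) := by ring
    rw [hfg]
    refine Submodule.add_mem_sup hg ?_
    obtain ⟨s, hs⟩ := exists_eq_X_pow_mul hgo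
    obtain ⟨vi, hvi⟩ := hvu.exists_left_inv
    have hw : (f - g) = t • (vi * (X ^ c * s)) := by
      rw [Subalgebra.smul_def, smul_eq_mul, ← htv, hs, pow_add]
      calc X ^ c * X ^ d * s = X ^ d * (vi * v) * (X ^ c * s) := by rw [hvi]; ring
        _ = X ^ d * v * (vi * (X ^ c * s)) := by ring
    rw [hw]
    refine Submodule.smul_mem_smul (Ideal.mem_span_singleton_self t) ?_
    rw [mem_ordGE]
    calc (c : ℕ∞) ≤ order ((X : PowerSeries k) ^ c * s) := by
          refine le_trans ?_ (le_order_mul _ _)
          rw [order_X_pow]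
          exact le_self_add
      _ ≤ order (vi * (X ^ c * s)) := le_trans le_add_self (le_order_mul _ _)
  have hle := Submodule.le_of_le_smul_of_le_jacobson_bot (ordGE_fg A hA c)
    ((Ideal.span_singleton_le_iff_mem _).mpr (mem_jacobson hA t htc)) key
  exact hle.trans inf_le_left

end Groth.Agent.Helper6.TFC
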