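import Mathlib
import Groth.Agent.Helper1.TorSecond
import Groth.Agent.Helper1.TorFlat
import Groth.Agent.Helper6.Dim1Lattice

set_option autoImplicit false

/-!
`Tor_1` against a torsion-free module for lattices of finite colength.
-/

namespace Groth.Agent.Helper6.TFC

open Function TensorProduct CategoryTheory CategoryTheory.Limits MonoidalCategory
open Groth.Agent.Helper1.TorLib

universe u

section Algebra

variable {A : Type u} [CommRing A]

theorem exists_retraction_smul {F M : Type*} [AddCommGroup F] [Module A F] [AddCommGroup M]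
    [Module A M] (f : F →ₗ[A] M) (hf : Injective f) (d : A)
    (hd : ∀ m : M, d • m ∈ LinearMap.range f) :
    ∃ g : M →ₗ[A] F, g ∘ₗ f = d • LinearMap.id := by
  let e := LinearEquiv.ofInjective f hf
  let g : M →ₗ[A] F := e.symm.toLinearMap ∘ₗ
    (LinearMap.codRestrict (LinearMap.range f) (d • LinearMap.id) hd)
  refine ⟨g, ?_⟩
  ext x
  apply hf
  change f (e.symm _) = f (d • x)
  rw [LinearEquiv.ofInjective_symm_apply]
  simp

theorem smul_injective_tensor (X F : Type*) [AddCommGroup X] [Module A X] [AddCommGroup F]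
    [Module A F] [Module.Flat A F] (d : A) (hd : ∀ x : X, d • x = 0 → x = 0) :
    ∀ z : X ⊗[A] F, d • z = 0 → z = 0 := by
  have h0 : Injective (d • (LinearMap.id : X →ₗ[A] X)) := by
    rw [← LinearMap.ker_eq_bot, LinearMap.ker_eq_bot']
    intro x hx
    exact hd x hx
  have h1 : Injective (LinearMap.rTensor F (d • (LinearMap.id : X →ₗ[A] X))) :=
    Module.Flat.rTensor_preserves_injective_linearMap _ h0
  have h2 : LinearMap.rTensor F (d • (LinearMap.id : X →ₗ[A] X)) = d • LinearMap.id := by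
    rw [LinearMap.rTensor_smul, LinearMap.rTensor_id]
  rw [h2] at h1
  intro z hz
  apply h1
  rw [map_zero]
  exact hz

theorem lTensor_injective_of_retraction (X : Type*) [AddCommGroup X] [Module A X]
    {F M : Type*} [AddCommGroup F] [Module A F] [AddCommGroup M] [Module A M]
    (f : F →ₗ[A] M) (g : M →ₗ[A] F) (d : A) (hgf : g ∘ₗ f = d • LinearMap.id)
    (hd : ∀ z : X ⊗[A] F, d • z = 0 → z = 0) : Injective (LinearMap.lTensor X f) := by
  rw [← LinearMap.ker_eq_bot, LinearMap.ker_eq_bot']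
  intro z hz
  apply hd
  have h1 : LinearMap.lTensor X (g ∘ₗ f) z = 0 := by
    rw [LinearMap.lTensor_comp_apply, hz, map_zero]
  rw [hgf, LinearMap.lTensor_smul, LinearMap.lTensor_id] at h1
  exact h1

theorem ker_lTensor_eq_torsion (X : Type*) [AddCommGroup X] [Module A X]
    {N₁ N₂ : Type*} [AddCommGroup N₁] [Module A N₁] [AddCommGroup N₂] [Module A N₂]
    (g : N₁ →ₗ[A] N₂) (h : N₂ →ₗ[A] N₁) (d : A) (hd0 : d ∈ nonZeroDivisors A)
    (hhg : h ∘ₗ g = d • LinearMap.id)
    (htf : ∀ a ∈ nonZeroDivisors A, ∀ z : X ⊗[A] N₂, a • z = 0 → z = 0) :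
    LinearMap.ker (LinearMap.lTensor X g) = Submodule.torsion A (X ⊗[A] N₁) := by
  ext z
  rw [LinearMap.mem_ker, Submodule.mem_torsion_iff]
  constructor
  · intro hz
    refine ⟨⟨d, hd0⟩, ?_⟩
    have h1 : LinearMap.lTensor X (h ∘ₗ g) z = 0 := by
      rw [LinearMap.lTensor_comp_apply, hz, map_zero]
    rw [hhg, LinearMap.lTensor_smul, LinearMap.lTensor_id] at h1
    exact h1
  · rintro ⟨a, ha⟩
    apply htf a.1 a.2
    rw [← map_smul]
    have : (a : A) • z = 0 := ha
    rw [this, map_zero]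

end Algebra

section Tor

variable {A : Type u} [CommRing A]

/-- `Tor_1(X, N'') ≅ ker (X ⊗ N' → X ⊗ N)` when `Tor_1(X, N) = 0`. -/
noncomputable def torOneIsoKernel₂ (X : ModuleCat.{u} A) {S : ShortComplex (ModuleCat.{u} A)}
    (hS : S.ShortExact) (h0 : IsZero (((Tor (ModuleCat.{u} A) 1).obj X).obj S.X₂)) :
    ((Tor (ModuleCat.{u} A) 1).obj X).obj S.X₃ ≅ kernel (X ◁ S.f) :=
  haveI : Mono (torδ₂ X hS 0) := (tor_exact₃₂ X hS 0).mono_g (h0.eq_of_src _ _)
  IsLimit.conePointUniqueUpToIso (tor_exact₁₂ X hS 0).fIsKernel (limit.isLimit _) ≪≫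
    kernel.mapIso _ _ ((torZeroIso₂ X).app S.X₁) ((torZeroIso₂ X).app S.X₂)
      ((torZeroIso₂ X).hom.naturality S.f)

/-- linear form. -/
noncomputable def torOneEquivKer₂ (X : ModuleCat.{u} A) {S : ShortComplex (ModuleCat.{u} A)}
    (hS : S.ShortExact) (h0 : IsZero (((Tor (ModuleCat.{u} A) 1).obj X).obj S.X₂)) :
    ((Tor (ModuleCat.{u} A) 1).obj X).obj S.X₃ ≃ₗ[A] LinearMap.ker (X ◁ S.f).hom :=
  ((torOneIsoKernel₂ X hS h0) ≪≫ ModuleCat.kernelIsoKer (X ◁ S.f)).toLinearEquiv

end Tor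

end Groth.Agent.Helper6.TFC
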