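import Mathlib
import Groth.Agent.Helper6.TFC7

set_option autoImplicit false

/-!
`Tor_1` against a torsion-free module for lattices of finite colength: main statements.
-/

namespace Groth.Agent.Helper6.TFC

open Function TensorProduct CategoryTheory CategoryTheory.Limits MonoidalCategory
open Groth.Agent.Helper1.TorLib

universe u

section Main

variable (O : Type u) [CommRing O] [IsDomain O]

theorem exists_smul_mem_range (hnf : ¬ IsField O) {F M : Type*} [AddCommGroup F] [Module O F]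
    [AddCommGroup M] [Module O M] (f : F →ₗ[O] M)
    (hT : IsFiniteLength O (M ⧸ LinearMap.range f)) :
    ∃ d : O, d ≠ 0 ∧ ∀ m : M, d • m ∈ LinearMap.range f := by
  obtain ⟨d, hd0, hd⟩ := Groth.Agent.Helper6.Dim1.exists_smul_eq_zero_of_length_ne_top' hnf
    (Module.length_ne_top_iff.mpr hT)
  refine ⟨d, hd0, fun m => ?_⟩
  have := hd ((LinearMap.range f).mkQ m)
  rwa [← map_smul, Submodule.mkQ_apply, Submodule.Quotient.mk_eq_zero] at this

theorem tor_one_iso_and_lTensor_injective (hnf : ¬ IsField O) (X : Type u) [AddCommGroup X]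
    [Module O X] (hX : ∀ d : O, d ≠ 0 → ∀ x : X, d • x = 0 → x = 0)
    (M : Type u) [AddCommGroup M] [Module O M] (n : ℕ) (f : (Fin n → O) →ₗ[O] M)
    (hf : Injective f) (hT : IsFiniteLength O (M ⧸ LinearMap.range f)) :
    Nonempty (((Tor (ModuleCat.{u} O) 1).obj (ModuleCat.of O X)).obj (ModuleCat.of O M) ≅
      ((Tor (ModuleCat.{u} O) 1).obj (ModuleCat.of O X)).obj
        (ModuleCat.of O (M ⧸ LinearMap.range f))) ∧
      Injective (LinearMap.lTensor X f) := by
  obtain ⟨d, hd0, hdr⟩ := exists_smul_mem_range O hnf f hT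
  obtain ⟨g, hgf⟩ := exists_retraction_smul f hf d hdr
  have hinj : Injective (LinearMap.lTensor X f) :=
    lTensor_injective_of_retraction X f g d hgf
      (smul_injective_tensor X (Fin n → O) d (hX d hd0))
  refine ⟨?_, hinj⟩
  have hSc := scOfLinear_shortExact f (LinearMap.range f).mkQ hf
    (Submodule.mkQ_surjective _) (LinearMap.exact_map_mkQ_range f)
  set Sc := scOfLinear f (LinearMap.range f).mkQ (LinearMap.exact_map_mkQ_range f) with hScdef
  haveI : Module.Flat O ↑Sc.X₁ := inferInstanceAs (Module.Flat O (Fin n → O))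
  have hepi : Epi (((Tor (ModuleCat.{u} O) 1).obj (ModuleCat.of O X)).map Sc.g) :=
    (epi_torOne_map_iff (ModuleCat.of O X) hSc).mpr hinj
  have hmono : Mono (((Tor (ModuleCat.{u} O) 1).obj (ModuleCat.of O X)).map Sc.g) :=
    (tor_exact₂₂ (ModuleCat.of O X) hSc 1).mono_g
      ((isZero_tor_of_flat_right (ModuleCat.of O X) Sc.X₁ 0).eq_of_src _ _)
  haveI := isIso_of_mono_of_epi (((Tor (ModuleCat.{u} O) 1).obj (ModuleCat.of O X)).map Sc.g)
  let e := asIso (((Tor (ModuleCat.{u} O) 1).obj (ModuleCat.of O X)).map Sc.g)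
  exact ⟨e⟩

theorem torsion_equiv_tor_one (hnf : ¬ IsField O) (X : Type u) [AddCommGroup X]
    [Module O X] (hX : ∀ d : O, d ≠ 0 → ∀ x : X, d • x = 0 → x = 0)
    (M : Type u) [AddCommGroup M] [Module O M] (n : ℕ) (g : M →ₗ[O] (Fin n → O))
    (hg : Injective g) (hT : IsFiniteLength O ((Fin n → O) ⧸ LinearMap.range g)) :
    Nonempty (↥(Submodule.torsion O (X ⊗[O] M)) ≃ₗ[O]
      ↑(((Tor (ModuleCat.{u} O) 1).obj (ModuleCat.of O X)).obj
        (ModuleCat.of O ((Fin n → O) ⧸ LinearMap.range g)))) := by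
  obtain ⟨d, hd0, hdr⟩ := exists_smul_mem_range O hnf g hT
  obtain ⟨h, hhg⟩ := exists_retraction_smul g hg d hdr
  have hker := ker_lTensor_eq_torsion X g h d (mem_nonZeroDivisors_of_ne_zero hd0) hhg
    (fun a ha => smul_injective_tensor X (Fin n → O) a (hX a (nonZeroDivisors.ne_zero ha)))
  have hSc := scOfLinear_shortExact g (LinearMap.range g).mkQ hg
    (Submodule.mkQ_surjective _) (LinearMap.exact_map_mkQ_range g)
  set Sc := scOfLinear g (LinearMap.range g).mkQ (LinearMap.exact_map_mkQ_range g) with hScdef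
  haveI : Module.Flat O ↑Sc.X₂ := inferInstanceAs (Module.Flat O (Fin n → O))
  have h0 : IsZero (((Tor (ModuleCat.{u} O) 1).obj (ModuleCat.of O X)).obj Sc.X₂) :=
    isZero_tor_of_flat_right (ModuleCat.of O X) Sc.X₂ 0
  let e := torOneEquivKer₂ (ModuleCat.of O X) hSc h0
  have e1 : ↥(Submodule.torsion O (X ⊗[O] M)) ≃ₗ[O] ↥(LinearMap.ker (LinearMap.lTensor X g)) :=
    LinearEquiv.ofEq _ _ hker.symm
  have e2 : ↥(LinearMap.ker (LinearMap.lTensor X g)) ≃ₗ[O]
      ↑(((Tor (ModuleCat.{u} O) 1).obj (ModuleCat.of O X)).obj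
        (ModuleCat.of O ((Fin n → O) ⧸ LinearMap.range g))) := e.symm
  exact ⟨e1.trans e2⟩

end Main

end Groth.Agent.Helper6.TFC
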