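import Mathlib

set_option autoImplicit false
set_option linter.style.haveILetI false
set_option linter.unusedSectionVars false
set_option linter.unusedVariables false

/-! `H⁰ = τ≤0 τ≥0` of a t-structure is a homological functor (BBD 1.3.6). -/

namespace Groth.Agent.Helper6.TH0

open CategoryTheory CategoryTheory.Limits CategoryTheory.Pretriangulated
  CategoryTheory.Triangulated ZeroObject

universe v' u' v u

variable {C : Type u} [Category.{v} C] [Preadditive C] [HasZeroObject C] [HasShift C ℤ]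
  [∀ n : ℤ, (shiftFunctor C n).Additive] [Pretriangulated C] [IsTriangulated C]
  (t : TStructure C)

/-- If `Z ≥ 0`, the triangle `X → Y → Z` induces a distinguished triangle
`τ≥0 X → τ≥0 Y → Z`. -/
theorem tri_GE (T : Triangle C) (hT : T ∈ distTriang C) (h₃ : t.IsGE T.obj₃ 0) :
    ∃ (g' : (t.truncGE 0).obj T.obj₂ ⟶ T.obj₃)
      (δ : T.obj₃ ⟶ ((t.truncGE 0).obj T.obj₁)⟦(1:ℤ)⟧),
      Triangle.mk ((t.truncGE 0).map T.mor₁) g' δ ∈ distTriang C ∧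
      (t.truncGEπ 0).app T.obj₂ ≫ g' = T.mor₂ := by
  obtain ⟨Q, q, k, hQ⟩ := distinguished_cocone_triangle ((t.truncLTι 0).app T.obj₁ ≫ T.mor₁)
  have H := someOctahedron rfl (t.triangleLTGE_distinguished 0 T.obj₁) hT hQ
  have hQge : t.IsGE Q 0 := t.isGE₂ _ H.mem 0
    (show t.IsGE ((t.truncGE 0).obj T.obj₁) 0 from inferInstance) h₃
  obtain ⟨E, hE⟩ := t.triangle_iso_exists hQ (t.triangleLTGE_distinguished 0 T.obj₂)
    (Iso.refl _) (0 - 1) 0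
    (show t.IsLE ((t.truncLT 0).obj T.obj₁) (0 - 1) from inferInstance) hQge
    (show t.IsLE ((t.truncLT 0).obj T.obj₂) (0 - 1) from inferInstance)
    (show t.IsGE ((t.truncGE 0).obj T.obj₂) 0 from inferInstance)
  obtain ⟨ε, ε', hid, hid', hc2⟩ : ∃ (ε : Q ⟶ (t.truncGE 0).obj T.obj₂)
      (ε' : (t.truncGE 0).obj T.obj₂ ⟶ Q), ε ≫ ε' = 𝟙 Q ∧ ε' ≫ ε = 𝟙 _ ∧
      q ≫ ε = (t.truncGEπ 0).app T.obj₂ := by
    refine ⟨E.hom.hom₃, E.inv.hom₃, Iso.hom_inv_id_triangle_hom₃ E,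
      Iso.inv_hom_id_triangle_hom₃ E, ?_⟩
    have h := E.hom.comm₂
    rw [hE] at h
    exact h.trans (Category.id_comp _)
  have hc1 : (t.truncGEπ 0).app T.obj₁ ≫ H.m₁ = T.mor₁ ≫ q := H.comm₁
  have hc3 : q ≫ H.m₃ = T.mor₂ := H.comm₃
  have key : (t.truncGE 0).map T.mor₁ = H.m₁ ≫ ε := by
    apply t.from_truncGE_obj_ext
    have hn := (t.truncGEπ 0).naturality T.mor₁
    simp only [Functor.id_map] at hn
    rw [← hn, ← Category.assoc, hc1, Category.assoc, hc2]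
  refine ⟨ε' ≫ H.m₃, T.mor₃ ≫ ((t.truncGEπ 0).app T.obj₁)⟦(1:ℤ)⟧',
    isomorphic_distinguished _ H.mem _ ?_, ?_⟩
  · refine Triangle.isoMk _ _ (Iso.refl _) ⟨ε', ε, hid', hid⟩ (Iso.refl _) ?_ ?_ ?_
    · show (t.truncGE 0).map T.mor₁ ≫ ε' = 𝟙 _ ≫ H.m₁
      rw [key, Category.assoc, hid, Category.comp_id, Category.id_comp]
    · show (ε' ≫ H.m₃) ≫ 𝟙 _ = ε' ≫ H.m₃
      rw [Category.comp_id]
    · show (T.mor₃ ≫ ((t.truncGEπ 0).app T.obj₁)⟦(1:ℤ)⟧') ≫ (𝟙 _)⟦(1:ℤ)⟧' =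
        𝟙 _ ≫ (T.mor₃ ≫ ((t.truncGEπ 0).app T.obj₁)⟦(1:ℤ)⟧')
      rw [CategoryTheory.Functor.map_id, Category.comp_id, Category.id_comp]
  · rw [← hc2, Category.assoc, ← Category.assoc ε, hid, Category.id_comp, hc3]

/-- If `X ≤ 0`, the triangle `X → Y → Z` induces a distinguished triangle
`X → τ≤0 Y → τ≤0 Z`. -/
theorem tri_LE (T : Triangle C) (hT : T ∈ distTriang C) (h₁ : t.IsLE T.obj₁ 0) :
    ∃ (f' : T.obj₁ ⟶ (t.truncLE 0).obj T.obj₂)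
      (δ : (t.truncLE 0).obj T.obj₃ ⟶ T.obj₁⟦(1:ℤ)⟧),
      Triangle.mk f' ((t.truncLE 0).map T.mor₂) δ ∈ distTriang C ∧
      f' ≫ (t.truncLEι 0).app T.obj₂ = T.mor₁ := by
  haveI := h₁
  obtain ⟨V, v, w, hV⟩ := distinguished_cocone_triangle (t.liftTruncLE T.mor₁ 0)
  have H := someOctahedron (t.liftTruncLE_ι T.mor₁ 0) hV
    (t.triangleLEGT_distinguished 0 T.obj₂) hT
  have hVle : t.IsLE V 0 := by
    haveI : t.IsLE (T.obj₁⟦(1:ℤ)⟧) (-1) := t.isLE_shift T.obj₁ 0 1 (-1)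
    exact t.isLE₂ _ (rot_of_distTriang _ hV) 0
      (show t.IsLE ((t.truncLE 0).obj T.obj₂) 0 from inferInstance)
      (show t.IsLE (T.obj₁⟦(1:ℤ)⟧) 0 from t.isLE_of_le _ (-1) 0)
  obtain ⟨E, hE⟩ := t.triangle_iso_exists H.mem (t.triangleLEGT_distinguished 0 T.obj₃)
    (Iso.refl _) 0 1 hVle
    (show t.IsGE ((t.truncGT 0).obj T.obj₂) 1 from t.isGE_truncGT_obj _ 0 1)
    (show t.IsLE ((t.truncLE 0).obj T.obj₃) 0 from inferInstance)
    (show t.IsGE ((t.truncGT 0).obj T.obj₃) 1 from t.isGE_truncGT_obj _ 0 1)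
  obtain ⟨ε, ε', hid, hid', hc1⟩ : ∃ (ε : V ⟶ (t.truncLE 0).obj T.obj₃)
      (ε' : (t.truncLE 0).obj T.obj₃ ⟶ V), ε ≫ ε' = 𝟙 V ∧ ε' ≫ ε = 𝟙 _ ∧
      H.m₁ = ε ≫ (t.truncLEι 0).app T.obj₃ := by
    refine ⟨E.hom.hom₁, E.inv.hom₁, Iso.hom_inv_id_triangle_hom₁ E,
      Iso.inv_hom_id_triangle_hom₁ E, ?_⟩
    have h := E.hom.comm₁
    rw [hE] at h
    exact (Category.comp_id _).symm.trans h
  have hc0 : v ≫ H.m₁ = (t.truncLEι 0).app T.obj₂ ≫ T.mor₂ := H.comm₁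
  have key : (t.truncLE 0).map T.mor₂ = v ≫ ε := by
    apply t.to_truncLE_obj_ext
    have hn := (t.truncLEι 0).naturality T.mor₂
    simp only [Functor.id_map] at hn
    rw [hn, Category.assoc, ← hc1, hc0]
  refine ⟨t.liftTruncLE T.mor₁ 0, ε' ≫ w,
    isomorphic_distinguished _ hV _ ?_, t.liftTruncLE_ι _ _⟩
  refine Triangle.isoMk _ _ (Iso.refl _) (Iso.refl _) ⟨ε', ε, hid', hid⟩ ?_ ?_ ?_
  · show t.liftTruncLE T.mor₁ 0 ≫ 𝟙 _ = 𝟙 _ ≫ t.liftTruncLE T.mor₁ 0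
    rw [Category.comp_id, Category.id_comp]
  · show (t.truncLE 0).map T.mor₂ ≫ ε' = 𝟙 _ ≫ v
    rw [key, Category.assoc, hid, Category.comp_id, Category.id_comp]
  · show (ε' ≫ w) ≫ (𝟙 _)⟦(1:ℤ)⟧' = ε' ≫ w
    rw [CategoryTheory.Functor.map_id, Category.comp_id]

variable {H : Type u'} [Category.{v'} H] [Abelian H] [t.Heart H] (H0 : C ⥤ H)
  (e : H0 ⋙ t.ιHeart ≅ t.truncGE 0 ⋙ t.truncLE 0)

include e in
theorem pzm : H0.PreservesZeroMorphisms := ⟨fun X Y => by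
  apply t.ιHeart.map_injective
  rw [t.ιHeart.map_zero]
  have h1 := e.hom.naturality (0 : X ⟶ Y)
  have h2 : (t.truncGE 0 ⋙ t.truncLE 0).map (0 : X ⟶ Y) = 0 := by
    rw [Functor.comp_map, Functor.map_zero, Functor.map_zero]
  rw [h2, comp_zero] at h1
  rw [← cancel_mono (e.hom.app Y), zero_comp]
  exact h1⟩

/-- `θ_M : ι(H⁰M) → τ≥0 M`. -/
noncomputable def θ (M : C) : t.ιHeart.obj (H0.obj M) ⟶ (t.truncGE 0).obj M :=
  e.hom.app M ≫ (t.truncLEι 0).app ((t.truncGE 0).obj M)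

theorem θ_nat {M N : C} (f : M ⟶ N) :
    t.ιHeart.map (H0.map f) ≫ θ t H0 e N = θ t H0 e M ≫ (t.truncGE 0).map f := by
  have h1 : t.ιHeart.map (H0.map f) ≫ e.hom.app N =
      e.hom.app M ≫ (t.truncLE 0).map ((t.truncGE 0).map f) := e.hom.naturality f
  have h2 : (t.truncLE 0).map ((t.truncGE 0).map f) ≫ (t.truncLEι 0).app ((t.truncGE 0).obj N) =
      (t.truncLEι 0).app ((t.truncGE 0).obj M) ≫ (t.truncGE 0).map f :=
    (t.truncLEι 0).naturality ((t.truncGE 0).map f)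
  unfold θ
  rw [← Category.assoc, h1, Category.assoc, h2, Category.assoc]

theorem θ_ext {P M : C} (hP : t.IsLE P 0) {ψ₁ ψ₂ : P ⟶ t.ιHeart.obj (H0.obj M)}
    (h : ψ₁ ≫ θ t H0 e M = ψ₂ ≫ θ t H0 e M) : ψ₁ = ψ₂ := by
  haveI := hP
  rw [← cancel_mono (e.hom.app M)]
  have h' : (ψ₁ ≫ e.hom.app M) ≫ (t.truncLEι 0).app ((t.truncGE 0).obj M) =
      (ψ₂ ≫ e.hom.app M) ≫ (t.truncLEι 0).app ((t.truncGE 0).obj M) := by
    simpa only [θ, Category.assoc] using h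
  exact t.to_truncLE_obj_ext h'

/-- The other description `H⁰ ≅ τ≥0 τ≤0`. -/
noncomputable def e' : H0 ⋙ t.ιHeart ≅ t.truncLE 0 ⋙ t.truncGE 0 :=
  e ≪≫ (t.truncGELEIsoLEGE 0 0).symm

/-- `θ'_M : τ≤0 M → ι(H⁰M)`. -/
noncomputable def θ' (M : C) : (t.truncLE 0).obj M ⟶ t.ιHeart.obj (H0.obj M) :=
  (t.truncGEπ 0).app ((t.truncLE 0).obj M) ≫ (e' t H0 e).inv.app M

theorem θ'_nat {M N : C} (f : M ⟶ N) :
    (t.truncLE 0).map f ≫ θ' t H0 e N = θ' t H0 e M ≫ t.ιHeart.map (H0.map f) := by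
  have h1 : (t.truncGE 0).map ((t.truncLE 0).map f) ≫ (e' t H0 e).inv.app N =
      (e' t H0 e).inv.app M ≫ t.ιHeart.map (H0.map f) := (e' t H0 e).inv.naturality f
  have h2 : (t.truncLE 0).map f ≫ (t.truncGEπ 0).app ((t.truncLE 0).obj N) =
      (t.truncGEπ 0).app ((t.truncLE 0).obj M) ≫ (t.truncGE 0).map ((t.truncLE 0).map f) :=
    (t.truncGEπ 0).naturality ((t.truncLE 0).map f)
  unfold θ'
  rw [← Category.assoc, h2, Category.assoc, h1, Category.assoc]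

theorem θ'_ext {Q M : C} (hQ : t.IsGE Q 0) {ψ₁ ψ₂ : t.ιHeart.obj (H0.obj M) ⟶ Q}
    (h : θ' t H0 e M ≫ ψ₁ = θ' t H0 e M ≫ ψ₂) : ψ₁ = ψ₂ := by
  haveI := hQ
  rw [← cancel_epi ((e' t H0 e).inv.app M)]
  have h' : (t.truncGEπ 0).app ((t.truncLE 0).obj M) ≫ ((e' t H0 e).inv.app M ≫ ψ₁) =
      (t.truncGEπ 0).app ((t.truncLE 0).obj M) ≫ ((e' t H0 e).inv.app M ≫ ψ₂) := by
    simpa only [θ', Category.assoc] using h
  exact t.from_truncGE_obj_ext h'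

theorem θ'_desc {Q M : C} (hQ : t.IsGE Q 0) (φ : (t.truncLE 0).obj M ⟶ Q) :
    ∃ ψ : t.ιHeart.obj (H0.obj M) ⟶ Q, θ' t H0 e M ≫ ψ = φ := by
  haveI := hQ
  refine ⟨(e' t H0 e).hom.app M ≫ t.descTruncGE φ 0, ?_⟩
  unfold θ'
  rw [Category.assoc, Iso.inv_hom_id_app_assoc]
  exact t.π_descTruncGE φ 0

include e in
/-- Left half: if `Z ≥ 0` then `H⁰X → H⁰Y` is a monomorphism. -/
theorem mono_map (T : Triangle C) (hT : T ∈ distTriang C) (h₃ : t.IsGE T.obj₃ 0) :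
    Mono (H0.map T.mor₁) := by
  obtain ⟨g', δ, hT', -⟩ := tri_GE t T hT h₃
  apply Preadditive.mono_of_cancel_zero
  intro W k hk
  apply t.ιHeart.map_injective
  rw [Functor.map_zero]
  apply θ_ext t H0 e (inferInstance : t.IsLE (t.ιHeart.obj W) 0)
  rw [zero_comp]
  have h1 : (t.ιHeart.map k ≫ θ t H0 e T.obj₁) ≫ (t.truncGE 0).map T.mor₁ = 0 := by
    rw [Category.assoc, ← θ_nat, ← Category.assoc, ← Functor.map_comp, hk, Functor.map_zero,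
      zero_comp]
  obtain ⟨γ, hγ⟩ := Triangle.coyoneda_exact₂ _ (inv_rot_of_distTriang _ hT') _ h1
  have hγ0 : γ = 0 := t.zero_of_isLE_of_isGE γ 0 1 (by lia) inferInstance
    (t.isGE_shift T.obj₃ 0 (-1) 1)
  rw [hγ, hγ0]
  exact zero_comp

include e in
/-- Right half: if `X ≤ 0` then `H⁰X → H⁰Y → H⁰Z → 0` is exact. -/
theorem exact_of_isLE (T : Triangle C) (hT : T ∈ distTriang C) (h₁ : t.IsLE T.obj₁ 0)
    (w : H0.map T.mor₁ ≫ H0.map T.mor₂ = 0) :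
    (ShortComplex.mk (H0.map T.mor₁) (H0.map T.mor₂) w).Exact := by
  haveI := h₁
  obtain ⟨f', δ, hT', hf'⟩ := tri_LE t T hT h₁
  have hepi : Epi (H0.map T.mor₂) := by
    apply Preadditive.epi_of_cancel_zero
    intro W l hl
    apply t.ιHeart.map_injective
    rw [Functor.map_zero]
    apply θ'_ext t H0 e (inferInstance : t.IsGE (t.ιHeart.obj W) 0)
    rw [comp_zero]
    have h1 : (t.truncLE 0).map T.mor₂ ≫ (θ' t H0 e T.obj₃ ≫ t.ιHeart.map l) = 0 := by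
      rw [← Category.assoc, θ'_nat, Category.assoc, ← Functor.map_comp, hl, Functor.map_zero,
        comp_zero]
    obtain ⟨γ, hγ⟩ := Triangle.yoneda_exact₃ _ hT' _ h1
    have hγ0 : γ = 0 := t.zero_of_isLE_of_isGE γ (-1) 0 (by lia)
      (t.isLE_shift T.obj₁ 0 1 (-1)) inferInstance
    rw [hγ, hγ0]
    exact comp_zero
  have hf'' : f' = inv ((t.truncLEι 0).app T.obj₁) ≫ (t.truncLE 0).map T.mor₁ := by
    apply t.to_truncLE_obj_ext
    have hn := (t.truncLEι 0).naturality T.mor₁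
    simp only [Functor.id_map] at hn
    rw [hf', Category.assoc, hn, IsIso.inv_hom_id_assoc]
  have hex : ∀ {W : H} (k : H0.obj T.obj₂ ⟶ W), H0.map T.mor₁ ≫ k = 0 →
      ∃ l : H0.obj T.obj₃ ⟶ W, H0.map T.mor₂ ≫ l = k := by
    intro W k hk
    have h1 : f' ≫ (θ' t H0 e T.obj₂ ≫ t.ιHeart.map k) = 0 := by
      rw [hf'', Category.assoc, ← Category.assoc ((t.truncLE 0).map T.mor₁), θ'_nat,
        Category.assoc, ← Functor.map_comp, hk, Functor.map_zero, comp_zero, comp_zero]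
    obtain ⟨lam, hlam⟩ := Triangle.yoneda_exact₂ _ hT' _ h1
    obtain ⟨μ, hμ⟩ := θ'_desc t H0 e (inferInstance : t.IsGE (t.ιHeart.obj W) 0) lam
    obtain ⟨l, rfl⟩ := t.ιHeart.map_surjective μ
    refine ⟨l, ?_⟩
    apply t.ιHeart.map_injective
    apply θ'_ext t H0 e (inferInstance : t.IsGE (t.ιHeart.obj W) 0)
    rw [Functor.map_comp, ← Category.assoc, ← θ'_nat, Category.assoc, hμ]
    exact hlam.symm
  exact ShortComplex.exact_of_g_is_cokernel _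
    (CokernelCofork.IsColimit.ofπ' _ _
      (fun k hk => ⟨(hex k hk).choose, (hex k hk).choose_spec⟩))

include e in
theorem isIso_map_truncLEι (X : C) : IsIso (H0.map ((t.truncLEι 0).app X)) := by
  have h1 : IsIso ((t.truncLE 0 ⋙ t.truncGE 0).map ((t.truncLEι 0).app X)) := by
    show IsIso ((t.truncGE 0).map ((t.truncLE 0).map ((t.truncLEι 0).app X)))
    infer_instance
  have h3 : IsIso ((H0 ⋙ t.ιHeart).map ((t.truncLEι 0).app X)) :=
    (NatIso.isIso_map_iff (e' t H0 e) _).2 h1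
  have h4 : IsIso (t.ιHeart.map (H0.map ((t.truncLEι 0).app X))) := h3
  exact isIso_of_fully_faithful t.ιHeart _

include e in
theorem exact_map (T : Triangle C) (hT : T ∈ distTriang C)
    (w : H0.map T.mor₁ ≫ H0.map T.mor₂ = 0) :
    (ShortComplex.mk (H0.map T.mor₁) (H0.map T.mor₂) w).Exact := by
  haveI := pzm t H0 e
  obtain ⟨U, u, k, hU⟩ := distinguished_cocone_triangle ((t.truncLEι 0).app T.obj₁ ≫ T.mor₁)
  have H := someOctahedron rfl (t.triangleLEGT_distinguished 0 T.obj₁) hT hU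
  have hmono : Mono (H0.map H.m₃) := by
    haveI := t.isGE_truncGT_obj T.obj₁ 0 1
    exact mono_map t H0 e _ (rot_of_distTriang _ H.mem)
      (t.isGE_shift ((t.truncGT 0).obj T.obj₁) 1 1 0)
  have w1 : H0.map ((t.truncLEι 0).app T.obj₁ ≫ T.mor₁) ≫ H0.map u = 0 := by
    have h0 : ((t.truncLEι 0).app T.obj₁ ≫ T.mor₁) ≫ u = 0 := comp_distTriang_mor_zero₁₂ _ hU
    rw [← Functor.map_comp, h0, Functor.map_zero]
  have hex := exact_of_isLE t H0 e (Triangle.mk ((t.truncLEι 0).app T.obj₁ ≫ T.mor₁) u k) hU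
    (inferInstance : t.IsLE ((t.truncLE 0).obj T.obj₁) 0) w1
  have hc3 : u ≫ H.m₃ = T.mor₂ := H.comm₃
  obtain ⟨φ, h1, h2, h3⟩ : ∃ φ :
      ShortComplex.mk (H0.map ((t.truncLEι 0).app T.obj₁ ≫ T.mor₁)) (H0.map u) w1 ⟶
        ShortComplex.mk (H0.map T.mor₁) (H0.map T.mor₂) w,
      φ.τ₁ = H0.map ((t.truncLEι 0).app T.obj₁) ∧ φ.τ₂ = 𝟙 _ ∧ φ.τ₃ = H0.map H.m₃ :=
    ⟨{ τ₁ := H0.map ((t.truncLEι 0).app T.obj₁)
       τ₂ := 𝟙 _
       τ₃ := H0.map H.m₃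
       comm₁₂ := by
        show H0.map ((t.truncLEι 0).app T.obj₁) ≫ H0.map T.mor₁ =
          H0.map ((t.truncLEι 0).app T.obj₁ ≫ T.mor₁) ≫ 𝟙 _
        rw [Category.comp_id, Functor.map_comp]
       comm₂₃ := by
        show 𝟙 _ ≫ H0.map T.mor₂ = H0.map u ≫ H0.map H.m₃
        rw [Category.id_comp, ← Functor.map_comp, hc3] }, rfl, rfl, rfl⟩
  haveI : Epi φ.τ₁ := by
    rw [h1]
    haveI := isIso_map_truncLEι t H0 e T.obj₁
    infer_instance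
  haveI : IsIso φ.τ₂ := by rw [h2]; infer_instance
  haveI : Mono φ.τ₃ := by rw [h3]; exact hmono
  exact (ShortComplex.exact_iff_of_epi_of_isIso_of_mono φ).1 hex

include e in
theorem isHomological : H0.IsHomological := by
  haveI := pzm t H0 e
  exact ⟨fun T hT => exact_map t H0 e T hT _⟩

end Groth.Agent.Helper6.TH0
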