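import Mathlib
import Groth.Agent.Helper6.TH0
import Groth.Agent.Helper6.KLoc

set_option autoImplicit false
set_option linter.style.haveILetI false
set_option linter.unusedSectionVars false
set_option linter.unusedVariables false

/-! The t-structure induced on a Verdier quotient `C/D` when `D` is stable under the cohomology
objects and `D ∩ heart` is a Serre subcategory of the heart. -/

namespace Groth.Agent.Helper6.TQ

open CategoryTheory CategoryTheory.Limits CategoryTheory.Pretriangulated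
  CategoryTheory.Triangulated ZeroObject

universe v' u' v u

variable {C : Type u} [Category.{v} C] [Preadditive C] [HasZeroObject C] [HasShift C ℤ]
  [∀ n : ℤ, (shiftFunctor C n).Additive] [Pretriangulated C] [IsTriangulated C]
  (t : TStructure C) (hb : ∀ X : C, t.bounded X)
  (D : ObjectProperty C) [D.IsTriangulated] [D.IsClosedUnderIsomorphisms]
  (h1 : ∀ X : C, D X → ∀ n : ℤ, D ((t.truncGELE n n).obj X))
  (h2 : ∀ (X Y Z : C) (f : X ⟶ Y) (g : Y ⟶ Z) (h : Z ⟶ X⟦(1 : ℤ)⟧),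
    Triangle.mk f g h ∈ distTriang C → t.heart X → t.heart Y → t.heart Z → D Y → D X ∧ D Z)

include hb h1 in
theorem D_truncLT (X : C) (hX : D X) (n : ℤ) : D ((t.truncLT n).obj X) := by
  obtain ⟨⟨a, ha⟩, -⟩ := hb X
  have hzero : ∀ n, n ≤ a → D ((t.truncLT n).obj X) := by
    intro n hn
    haveI : t.IsGE X n := t.isGE_of_ge X n a hn
    exact D.prop_of_isZero (t.isZero_truncLT_obj_of_isGE n X)
  have hstep : ∀ n, D ((t.truncLT n).obj X) → D ((t.truncLT (n+1)).obj X) := by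
    intro n hn
    exact D.ext_of_isTriangulatedClosed₂ _
      (t.triangleLTLTGELT_distinguished n (n+1) (by lia) X) hn (h1 X hX n)
  by_cases hn : n ≤ a
  · exact hzero n hn
  · obtain ⟨k, rfl⟩ : ∃ k : ℕ, n = a + k := ⟨(n - a).toNat, by lia⟩
    clear hn
    induction k with
    | zero => exact hzero _ (by simp)
    | succ k ih =>
      have := hstep _ ih
      have e : a + (k : ℤ) + 1 = a + ((k + 1 : ℕ) : ℤ) := by push_cast; ring
      rwa [e] at this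

include h1 h2 in
/-- If `Y' → N → Y₁` is distinguished with `Y₁ ≥ 0` and `N ∈ D`, then `H⁰(Y') ∈ D`. -/
theorem D_H0_of_mono (T : Triangle C) (hT : T ∈ distTriang C) (h₃ : t.IsGE T.obj₃ 0)
    (hN : D T.obj₂) : D ((t.truncGELE 0 0).obj T.obj₁) := by
  obtain ⟨g', δ, hT', -⟩ := TH0.tri_GE t T hT h₃
  obtain ⟨K, b, d, hK⟩ := distinguished_cocone_triangle
    ((t.truncLE 0).map ((t.truncGE 0).map T.mor₁))
  -- notation
  have hAle : t.IsLE ((t.truncLE 0).obj ((t.truncGE 0).obj T.obj₁)) 0 := inferInstance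
  have hAge : t.IsGE ((t.truncLE 0).obj ((t.truncGE 0).obj T.obj₁)) 0 := inferInstance
  have hBle : t.IsLE ((t.truncLE 0).obj ((t.truncGE 0).obj T.obj₂)) 0 := inferInstance
  have hBge : t.IsGE ((t.truncLE 0).obj ((t.truncGE 0).obj T.obj₂)) 0 := inferInstance
  have hKle : t.IsLE K 0 := by
    haveI : t.IsLE (((t.truncLE 0).obj ((t.truncGE 0).obj T.obj₁))⟦(1:ℤ)⟧) (-1) :=
      t.isLE_shift _ 0 1 (-1)
    exact t.isLE₂ _ (rot_of_distTriang _ hK) 0 hBle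
      (t.isLE_of_le (((t.truncLE 0).obj ((t.truncGE 0).obj T.obj₁))⟦(1:ℤ)⟧) (-1) 0)
  have hKge : t.IsGE K 0 := by
    rw [t.isGE_iff_orthogonal (-1) 0 (by lia)]
    intro P f hP
    have hψ : f ≫ d = 0 := by
      -- ψ ≫ ι_A[1] = 0
      have h3 : (f ≫ d) ≫ ((t.truncLE 0).map ((t.truncGE 0).map T.mor₁))⟦(1:ℤ)⟧' = 0 := by
        have := comp_distTriang_mor_zero₃₁ _ hK
        rw [Category.assoc]
        rw [show d ≫ ((t.truncLE 0).map ((t.truncGE 0).map T.mor₁))⟦(1:ℤ)⟧' = 0 from this,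
          comp_zero]
      have hn : (t.truncLE 0).map ((t.truncGE 0).map T.mor₁) ≫
          (t.truncLEι 0).app ((t.truncGE 0).obj T.obj₂) =
          (t.truncLEι 0).app ((t.truncGE 0).obj T.obj₁) ≫ (t.truncGE 0).map T.mor₁ :=
        (t.truncLEι 0).naturality ((t.truncGE 0).map T.mor₁)
      have h4 : ((f ≫ d) ≫ ((t.truncLEι 0).app ((t.truncGE 0).obj T.obj₁))⟦(1:ℤ)⟧') ≫
          ((t.truncGE 0).map T.mor₁)⟦(1:ℤ)⟧' = 0 := by
        rw [Category.assoc, ← CategoryTheory.Functor.map_comp, ← hn,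
          CategoryTheory.Functor.map_comp, ← Category.assoc, h3, zero_comp]
      obtain ⟨g, hg⟩ := Triangle.coyoneda_exact₁ _ hT' _ h4
      have hg0 : g = 0 := t.zero_of_isLE_of_isGE g (-1) 0 (by lia) hP h₃
      have h5 : (f ≫ d) ≫ ((t.truncLEι 0).app ((t.truncGE 0).obj T.obj₁))⟦(1:ℤ)⟧' = 0 := by
        rw [hg, hg0]; exact zero_comp
      obtain ⟨g2, hg2⟩ := Triangle.coyoneda_exact₁ _
        (t.triangleLEGT_distinguished 0 ((t.truncGE 0).obj T.obj₁)) _ h5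
      have hg20 : g2 = 0 := t.zero_of_isLE_of_isGE g2 (-1) 1 (by lia) hP
        (t.isGE_truncGT_obj _ 0 1)
      rw [hg2, hg20]; exact zero_comp
    obtain ⟨f', hf'⟩ := Triangle.coyoneda_exact₃ _ hK f hψ
    have hf'0 : f' = 0 := t.zero_of_isLE_of_isGE f' (-1) 0 (by lia) hP hBge
    rw [hf', hf'0]; exact zero_comp
  have hDB : D ((t.truncLE 0).obj ((t.truncGE 0).obj T.obj₂)) :=
    D.prop_of_iso ((t.truncGELEIsoLEGE 0 0).app T.obj₂) (h1 _ hN 0)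
  have hres := (h2 _ _ _ _ b d hK ((t.mem_heart_iff _).2 ⟨hAle, hAge⟩)
    ((t.mem_heart_iff _).2 ⟨hBle, hBge⟩) ((t.mem_heart_iff _).2 ⟨hKle, hKge⟩) hDB).1
  exact D.prop_of_iso ((t.truncGELEIsoLEGE 0 0).app T.obj₁).symm hres

include hb h1 h2 in
/-- If `Y → Y' → N` is distinguished with `Y ≥ 1` and `N ∈ D`, then `τ≤0 Y' ∈ D`. -/
theorem D_truncLE_of_tri (T : Triangle C) (hT : T ∈ distTriang C) (h₁ : t.IsGE T.obj₁ 1)
    (hN : D T.obj₃) : D ((t.truncLE 0).obj T.obj₂) := by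
  have hrot : T.rotate ∈ distTriang C := rot_of_distTriang _ hT
  haveI := h₁
  have h₃ : t.IsGE (T.obj₁⟦(1:ℤ)⟧) 0 := t.isGE_shift T.obj₁ 1 1 0
  have hiso : IsIso ((t.truncLT 0).map T.mor₂) := by
    have := t.isIso₁_truncLT_map_of_isGE T.rotate hrot 0 h₃
    exact this
  have hD1 : D ((t.truncLT 0).obj T.obj₂) := by
    have h0 : D ((t.truncLT 0).obj T.obj₃) := D_truncLT t hb D h1 T.obj₃ hN 0
    exact D.prop_of_iso (asIso ((t.truncLT 0).map T.mor₂)).symm h0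
  have hD3 : D ((t.truncGELE 0 0).obj T.obj₂) := by
    have := D_H0_of_mono t D h1 h2 T.rotate hrot h₃ hN
    exact this
  have hT3 := t.triangleLTLTGELT_distinguished 0 (0+1) (by lia) T.obj₂
  have hfin : D ((t.triangleLTLTGELT 0 (0+1) (by lia)).obj T.obj₂).obj₂ :=
    D.ext_of_isTriangulatedClosed₂ _ hT3 hD1 hD3
  exact hfin

variable {E : Type u'} [Category.{v'} E] [Preadditive E] [HasZeroObject E] [HasShift E ℤ]
  [∀ n : ℤ, (shiftFunctor E n).Additive] [Pretriangulated E]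
  (q : C ⥤ E) [q.CommShift ℤ] [q.IsTriangulated] [q.IsLocalization D.trW]

include hb h1 h2 in
theorem map_eq_zero (X Y : C) (hX : t.IsLE X 0) (hY : t.IsGE Y 1) (φ : q.obj X ⟶ q.obj Y) :
    φ = 0 := by
  haveI := hX
  obtain ⟨α, hα⟩ := Localization.exists_leftFraction q D.trW φ
  have hfs : α.map q (Localization.inverts q D.trW) ≫ q.map α.s = q.map α.f :=
    α.map_comp_map_s q _
  haveI : IsIso (q.map α.s) := Localization.inverts q D.trW _ α.hs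
  obtain ⟨N, c, d, hT, hN⟩ := α.hs
  have hD : D ((t.truncLE 0).obj α.Y') :=
    D_truncLE_of_tri t hb D h1 h2 (Triangle.mk α.s c d) hT hY hN
  have hz : IsZero (q.obj ((t.truncLE 0).obj α.Y')) := KLoc.isZero_of_prop D q _ hD
  have hf0 : q.map α.f = 0 := by
    rw [← t.liftTruncLE_ι α.f 0, q.map_comp, hz.eq_of_tgt (q.map (t.liftTruncLE α.f 0)) 0,
      zero_comp]
  rw [← cancel_mono (q.map α.s), zero_comp, hα, hfs, hf0]


/-- The induced t-structure on the Verdier quotient. -/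
noncomputable def qT : TStructure E where
  le n := fun Y => ∃ X : C, t.le n X ∧ Nonempty (q.obj X ≅ Y)
  ge n := fun Y => ∃ X : C, t.ge n X ∧ Nonempty (q.obj X ≅ Y)
  le_isClosedUnderIsomorphisms n := ⟨fun e ⟨X, hX, ⟨e'⟩⟩ => ⟨X, hX, ⟨e' ≪≫ e⟩⟩⟩
  ge_isClosedUnderIsomorphisms n := ⟨fun e ⟨X, hX, ⟨e'⟩⟩ => ⟨X, hX, ⟨e' ≪≫ e⟩⟩⟩
  le_shift n a n' h Y := by
    rintro ⟨X, hX, ⟨e⟩⟩
    exact ⟨X⟦a⟧, t.le_shift n a n' h X hX,
      ⟨(q.commShiftIso a).app X ≪≫ (shiftFunctor E a).mapIso e⟩⟩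
  ge_shift n a n' h Y := by
    rintro ⟨X, hX, ⟨e⟩⟩
    exact ⟨X⟦a⟧, t.ge_shift n a n' h X hX,
      ⟨(q.commShiftIso a).app X ≪≫ (shiftFunctor E a).mapIso e⟩⟩
  zero' Y₁ Y₂ f := by
    rintro ⟨X₁, hX₁, ⟨e₁⟩⟩ ⟨X₂, hX₂, ⟨e₂⟩⟩
    have h0 := map_eq_zero t hb D h1 h2 q X₁ X₂ ⟨hX₁⟩ ⟨hX₂⟩ (e₁.hom ≫ f ≫ e₂.inv)
    rw [← cancel_epi e₁.hom, ← cancel_mono e₂.inv, Category.assoc, h0, comp_zero, zero_comp]
  le_zero_le := fun Y ⟨X, hX, e⟩ => ⟨X, t.le_zero_le X hX, e⟩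
  ge_one_le := fun Y ⟨X, hX, e⟩ => ⟨X, t.ge_one_le X hX, e⟩
  exists_triangle_zero_one A := by
    haveI := Localization.essSurj q D.trW
    obtain ⟨X, Y, hX, hY, f, g, h, mem⟩ := t.exists_triangle_zero_one (q.objPreimage A)
    have hm := q.map_distinguished _ mem
    refine ⟨q.obj X, q.obj Y, ⟨X, hX, ⟨Iso.refl _⟩⟩, ⟨Y, hY, ⟨Iso.refl _⟩⟩,
      q.map f ≫ (q.objObjPreimageIso A).hom, (q.objObjPreimageIso A).inv ≫ q.map g,
      q.map h ≫ (q.commShiftIso (1:ℤ)).hom.app X, ?_⟩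
    refine isomorphic_distinguished _ hm _ ?_
    refine Triangle.isoMk _ _ (Iso.refl _) (q.objObjPreimageIso A).symm (Iso.refl _) ?_ ?_ ?_
    · show (q.map f ≫ (q.objObjPreimageIso A).hom) ≫ (q.objObjPreimageIso A).inv =
        𝟙 _ ≫ q.map f
      simp
    · show ((q.objObjPreimageIso A).inv ≫ q.map g) ≫ 𝟙 _ =
        (q.objObjPreimageIso A).inv ≫ q.map g
      simp
    · show (q.map h ≫ (q.commShiftIso (1:ℤ)).hom.app X) ≫ (𝟙 _)⟦(1:ℤ)⟧' =
        𝟙 _ ≫ (q.map h ≫ (q.commShiftIso (1:ℤ)).hom.app X)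
      simp

theorem tstructure_ext (t₁ t₂ : TStructure E) (hle : t₁.le = t₂.le) (hge : t₁.ge = t₂.ge) :
    t₁ = t₂ := by
  obtain ⟨l1, g1, _, _, _, _, _, _, _, _⟩ := t₁
  obtain ⟨l2, g2, _, _, _, _, _, _, _, _⟩ := t₂
  dsimp only at hle hge
  subst hle
  subst hge
  rfl

include hb h1 h2 in
theorem main : ∃ t' : TStructure E,
    (∀ (X : C) (n : ℤ), t.IsLE X n → t'.IsLE (q.obj X) n) ∧
    (∀ (X : C) (n : ℤ), t.IsGE X n → t'.IsGE (q.obj X) n) ∧
    (∀ (Y : E) (n : ℤ), t'.IsLE Y n ↔ ∃ X : C, t.IsLE X n ∧ Nonempty (q.obj X ≅ Y)) ∧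
    (∀ (Y : E) (n : ℤ), t'.IsGE Y n ↔ ∃ X : C, t.IsGE X n ∧ Nonempty (q.obj X ≅ Y)) ∧
    ∀ t'' : TStructure E,
      (∀ (X : C) (n : ℤ), t.IsLE X n → t''.IsLE (q.obj X) n) →
      (∀ (X : C) (n : ℤ), t.IsGE X n → t''.IsGE (q.obj X) n) → t'' = t' := by
  refine ⟨qT t hb D h1 h2 q, ?_, ?_, ?_, ?_, ?_⟩
  · intro X n hX
    exact ⟨⟨X, hX.le, ⟨Iso.refl _⟩⟩⟩
  · intro X n hX
    exact ⟨⟨X, hX.ge, ⟨Iso.refl _⟩⟩⟩
  · intro Y n
    constructor
    · rintro ⟨X, hX, e⟩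
      exact ⟨X, ⟨hX⟩, e⟩
    · rintro ⟨X, hX, e⟩
      exact ⟨⟨X, hX.le, e⟩⟩
  · intro Y n
    constructor
    · rintro ⟨X, hX, e⟩
      exact ⟨X, ⟨hX⟩, e⟩
    · rintro ⟨X, hX, e⟩
      exact ⟨⟨X, hX.ge, e⟩⟩
  · intro t'' hle hge
    have hle' : ∀ n Y, (qT t hb D h1 h2 q).le n Y → t''.le n Y := by
      rintro n Y ⟨X, hX, ⟨e⟩⟩
      haveI := hle X n ⟨hX⟩
      exact (t''.le n).prop_of_iso e (t''.le_of_isLE _ n)
    have hge' : ∀ n Y, (qT t hb D h1 h2 q).ge n Y → t''.ge n Y := by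
      rintro n Y ⟨X, hX, ⟨e⟩⟩
      haveI := hge X n ⟨hX⟩
      exact (t''.ge n).prop_of_iso e (t''.ge_of_isGE _ n)
    have hle'' : ∀ n Y, t''.le n Y → (qT t hb D h1 h2 q).le n Y := by
      intro n Y hY
      have : (qT t hb D h1 h2 q).IsLE Y n := by
        rw [(qT t hb D h1 h2 q).isLE_iff_orthogonal n (n+1) rfl]
        intro Z f hZ
        haveI : t''.IsLE Y n := ⟨hY⟩
        haveI : t''.IsGE Z (n+1) := ⟨hge' _ _ hZ.ge⟩
        exact t''.zero f n (n+1)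
      exact this.le
    have hge'' : ∀ n Y, t''.ge n Y → (qT t hb D h1 h2 q).ge n Y := by
      intro n Y hY
      have : (qT t hb D h1 h2 q).IsGE Y n := by
        rw [(qT t hb D h1 h2 q).isGE_iff_orthogonal (n-1) n (by lia)]
        intro Z f hZ
        haveI : t''.IsGE Y n := ⟨hY⟩
        haveI : t''.IsLE Z (n-1) := ⟨hle' _ _ hZ.le⟩
        exact t''.zero f (n-1) n
      exact this.ge
    exact tstructure_ext _ _
      (funext fun n => funext fun Y => propext ⟨hle'' n Y, hle' n Y⟩)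
      (funext fun n => funext fun Y => propext ⟨hge'' n Y, hge' n Y⟩)

end Groth.Agent.Helper6.TQ
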