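import Mathlib
import Groth.Prelude.Def_LefPen

set_option autoImplicit false
set_option linter.style.haveILetI false
set_option linter.unusedSectionVars false

/-!
# Counting the conditions "pass through `[v]` and be tangent there to `P(W)`" at two points
-/

namespace Groth.Agent.Helper6.TangentForms

open MvPolynomial

variable {k : Type*} [Field k] {r : ℕ}

/-- standard basis vectors -/
def ee (j : Fin (r + 1)) : Fin (r + 1) → k := fun l => if j = l then 1 else 0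

/-- polynomial attached to a linear functional -/
noncomputable def lin (p : (Fin (r + 1) → k) →ₗ[k] k) : MvPolynomial (Fin (r + 1)) k :=
  ∑ j, C (p (ee j)) * X j

theorem apply_eq_sum (p : (Fin (r + 1) → k) →ₗ[k] k) (w : Fin (r + 1) → k) :
    ∑ i, w i * p (ee i) = p w := by
  rw [LinearMap.pi_apply_eq_sum_univ p w]
  rfl

theorem lin_homog (p : (Fin (r + 1) → k) →ₗ[k] k) : (lin p).IsHomogeneous 1 := by
  unfold lin
  apply IsHomogeneous.sum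
  intro j _
  have h := (isHomogeneous_C (Fin (r + 1)) (p (ee j))).mul (isHomogeneous_X k j)
  rw [zero_add] at h
  exact h

theorem aeval_lin (p : (Fin (r + 1) → k) →ₗ[k] k) (v : Fin (r + 1) → k) :
    aeval v (lin p) = p v := by
  unfold lin
  rw [map_sum, ← apply_eq_sum p v]
  refine Finset.sum_congr rfl fun j _ => ?_
  rw [map_mul, aeval_C, aeval_X, mul_comm]
  rfl

theorem pderiv_lin (p : (Fin (r + 1) → k) →ₗ[k] k) (i : Fin (r + 1)) :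
    pderiv i (lin p) = C (p (ee i)) := by
  classical
  unfold lin
  rw [map_sum, Finset.sum_eq_single i]
  · rw [pderiv_C_mul, pderiv_X_self, mul_one]
  · intro j _ hji
    rw [pderiv_C_mul, pderiv_X_of_ne hji, mul_zero]
  · intro h
    exact absurd (Finset.mem_univ i) h

/-- directional derivative at `v` in direction `w` -/
noncomputable def dF (G : MvPolynomial (Fin (r + 1)) k) (v w : Fin (r + 1) → k) : k :=
  ∑ i, w i * aeval v (pderiv i G)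

/-- the differential at `v` as a linear functional -/
noncomputable def dFl (G : MvPolynomial (Fin (r + 1)) k) (v : Fin (r + 1) → k) :
    (Fin (r + 1) → k) →ₗ[k] k :=
  ∑ i, (aeval v (pderiv i G) : k) • (LinearMap.proj i : (Fin (r + 1) → k) →ₗ[k] k)

theorem dFl_apply (G : MvPolynomial (Fin (r + 1)) k) (v w : Fin (r + 1) → k) :
    dFl G v w = dF G v w := by
  unfold dFl dF
  rw [LinearMap.sum_apply]
  refine Finset.sum_congr rfl fun i _ => ?_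
  rw [LinearMap.smul_apply, LinearMap.proj_apply, smul_eq_mul, mul_comm]

theorem dF_add (A B : MvPolynomial (Fin (r + 1)) k) (v w : Fin (r + 1) → k) :
    dF (A + B) v w = dF A v w + dF B v w := by
  unfold dF
  rw [← Finset.sum_add_distrib]
  refine Finset.sum_congr rfl fun i _ => ?_
  rw [map_add, map_add, mul_add]

theorem dF_self {d : ℕ} {G : MvPolynomial (Fin (r + 1)) k} (hG : G.IsHomogeneous d)
    (v : Fin (r + 1) → k) : dF G v v = (d : k) * aeval v G := by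
  have h := congrArg (aeval v) hG.sum_X_mul_pderiv
  rw [map_sum, map_nsmul, nsmul_eq_mul] at h
  rw [← h]
  unfold dF
  refine Finset.sum_congr rfl fun i _ => ?_
  rw [map_mul, aeval_X]

theorem aeval_pow_mul (l p : (Fin (r + 1) → k) →ₗ[k] k) (m : ℕ) (v : Fin (r + 1) → k) :
    aeval v (lin l ^ m * lin p) = (l v) ^ m * p v := by
  rw [map_mul, map_pow, aeval_lin, aeval_lin]

theorem dF_pow_mul (l p : (Fin (r + 1) → k) →ₗ[k] k) (m : ℕ) (v w : Fin (r + 1) → k) :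
    dF (lin l ^ m * lin p) v w =
      (m : k) * (l v) ^ (m - 1) * l w * p v + (l v) ^ m * p w := by
  unfold dF
  have h : ∀ i, w i * aeval v (pderiv i (lin l ^ m * lin p)) =
      (m : k) * (l v) ^ (m - 1) * p v * (w i * l (ee i)) + (l v) ^ m * (w i * p (ee i)) := by
    intro i
    rw [Derivation.leibniz, Derivation.leibniz_pow, pderiv_lin, pderiv_lin]
    simp only [smul_eq_mul, map_add, map_mul, map_pow, aeval_lin, aeval_C,
      nsmul_eq_mul, Algebra.algebraMap_self_apply, map_natCast]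
    ring
  rw [Finset.sum_congr rfl (fun i _ => h i), Finset.sum_add_distrib, ← Finset.mul_sum,
    ← Finset.mul_sum, apply_eq_sum, apply_eq_sum]
  ring

theorem pderiv_comm' (i j : Fin (r + 1)) (p : MvPolynomial (Fin (r + 1)) k) :
    pderiv i (pderiv j p) = pderiv j (pderiv i p) := by
  classical
  have h : ⁅(pderiv i : Derivation k (MvPolynomial (Fin (r + 1)) k) (MvPolynomial (Fin (r + 1)) k)),
      (pderiv j : Derivation k (MvPolynomial (Fin (r + 1)) k) (MvPolynomial (Fin (r + 1)) k))⁆ = 0 := by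
    refine MvPolynomial.derivation_ext (R := k) (σ := Fin (r + 1))
      (A := MvPolynomial (Fin (r + 1)) k) (fun l => ?_)
    show pderiv i (pderiv j (X l : MvPolynomial (Fin (r + 1)) k)) -
      pderiv j (pderiv i (X l : MvPolynomial (Fin (r + 1)) k)) = 0
    rw [pderiv_X, pderiv_X, Pi.single_apply, Pi.single_apply]
    split_ifs <;> simp
  have h2 := congrArg (fun D => D p) h
  simp only [Derivation.commutator_apply] at h2
  exact sub_eq_zero.mp h2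

theorem dF_symm {G : MvPolynomial (Fin (r + 1)) k} (hG : G.IsHomogeneous 2)
    (v w : Fin (r + 1) → k) : dF G v w = dF G w v := by
  have hc : ∀ i j, pderiv j (pderiv i G) = C (coeff 0 (pderiv j (pderiv i G))) := by
    intro i j
    have h1 : (pderiv i G).IsHomogeneous 1 := hG.pderiv
    have h2 : (pderiv j (pderiv i G)).IsHomogeneous 0 := h1.pderiv
    rw [← totalDegree_zero_iff_isHomogeneous, totalDegree_eq_zero_iff_eq_C] at h2
    exact h2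
  have hval : ∀ (u : Fin (r + 1) → k) (i : Fin (r + 1)),
      aeval u (pderiv i G) = ∑ j, u j * coeff 0 (pderiv j (pderiv i G)) := by
    intro u i
    have h1 : (pderiv i G).IsHomogeneous 1 := hG.pderiv
    have h := congrArg (aeval u) h1.sum_X_mul_pderiv
    rw [map_sum, one_smul] at h
    rw [← h]
    refine Finset.sum_congr rfl fun j _ => ?_
    have e : aeval u (pderiv j (pderiv i G)) = coeff 0 (pderiv j (pderiv i G)) := by
      conv_lhs => rw [hc i j]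
      rw [aeval_C]
      rfl
    rw [map_mul, aeval_X, e]
  unfold dF
  have hL : ∑ i, w i * aeval v (pderiv i G) =
      ∑ i, ∑ j, w i * (v j * coeff 0 (pderiv j (pderiv i G))) :=
    Finset.sum_congr rfl (fun i _ => by rw [hval v i, Finset.mul_sum])
  have hR : ∑ i, v i * aeval w (pderiv i G) =
      ∑ i, ∑ j, v i * (w j * coeff 0 (pderiv j (pderiv i G))) :=
    Finset.sum_congr rfl (fun i _ => by rw [hval w i, Finset.mul_sum])
  rw [hL, hR]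
  conv_lhs => rw [Finset.sum_comm]
  refine Finset.sum_congr rfl fun i _ => Finset.sum_congr rfl fun j _ => ?_
  rw [pderiv_comm' i j G]
  ring

/-! ### Constructing forms with prescribed value and differential at two points -/

theorem exists_form_ge_three {d : ℕ} (hd : 3 ≤ d) {v₁ v₂ : Fin (r + 1) → k}
    (lam₁ lam₂ : (Fin (r + 1) → k) →ₗ[k] k) (h11 : lam₁ v₁ = 1) (h12 : lam₁ v₂ = 0)
    (h21 : lam₂ v₁ = 0) (h22 : lam₂ v₂ = 1)
    (m₁ m₂ : (Fin (r + 1) → k) →ₗ[k] k) (a₁ a₂ : k)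
    (hm₁ : m₁ v₁ = (d : k) * a₁) (hm₂ : m₂ v₂ = (d : k) * a₂) :
    ∃ G : MvPolynomial (Fin (r + 1)) k, G.IsHomogeneous d ∧ aeval v₁ G = a₁ ∧ aeval v₂ G = a₂ ∧
      (∀ w, dF G v₁ w = m₁ w) ∧ (∀ w, dF G v₂ w = m₂ w) := by
  obtain ⟨m, rfl⟩ : ∃ m, d = m + 1 := ⟨d - 1, by omega⟩
  have hcast : ((m + 1 : ℕ) : k) = (m : k) + 1 := by push_cast; ring
  rw [hcast] at hm₁ hm₂
  obtain ⟨p, hp⟩ : ∃ p : (Fin (r + 1) → k) →ₗ[k] k, p = m₁ - ((m : k) * a₁) • lam₁ := ⟨_, rfl⟩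
  obtain ⟨q, hq⟩ : ∃ q : (Fin (r + 1) → k) →ₗ[k] k, q = m₂ - ((m : k) * a₂) • lam₂ := ⟨_, rfl⟩
  have hpw : ∀ w, p w = m₁ w - (m : k) * a₁ * lam₁ w := by
    intro w
    rw [hp, LinearMap.sub_apply, LinearMap.smul_apply, smul_eq_mul]
  have hqw : ∀ w, q w = m₂ w - (m : k) * a₂ * lam₂ w := by
    intro w
    rw [hq, LinearMap.sub_apply, LinearMap.smul_apply, smul_eq_mul]
  have z1 : (0 : k) ^ m = 0 := zero_pow (by omega)
  have z2 : (0 : k) ^ (m - 1) = 0 := zero_pow (by omega)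
  refine ⟨lin lam₁ ^ m * lin p + lin lam₂ ^ m * lin q, ?_, ?_, ?_, ?_, ?_⟩
  · have hA := ((lin_homog lam₁).pow m).mul (lin_homog p)
    have hB := ((lin_homog lam₂).pow m).mul (lin_homog q)
    have e : 1 * m + 1 = m + 1 := by omega
    rw [e] at hA hB
    exact hA.add hB
  · simp only [map_add, aeval_pow_mul, h11, h21, z1, one_pow, hpw, hm₁]
    ring
  · simp only [map_add, aeval_pow_mul, h12, h22, z1, one_pow, hqw, hm₂]
    ring
  · intro w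
    simp only [dF_add, dF_pow_mul, h11, h21, z1, z2, one_pow, hpw, hm₁]
    ring
  · intro w
    simp only [dF_add, dF_pow_mul, h12, h22, z1, z2, one_pow, hqw, hm₂]
    ring

theorem exists_form_two {v₁ v₂ : Fin (r + 1) → k}
    (lam₁ lam₂ : (Fin (r + 1) → k) →ₗ[k] k) (h11 : lam₁ v₁ = 1) (h12 : lam₁ v₂ = 0)
    (h21 : lam₂ v₁ = 0) (h22 : lam₂ v₂ = 1)
    (m₁ m₂ : (Fin (r + 1) → k) →ₗ[k] k) (a₁ a₂ τ : k)
    (hm₁ : m₁ v₁ = 2 * a₁) (hm₂ : m₂ v₂ = 2 * a₂) (ht₁ : m₁ v₂ = τ) (ht₂ : m₂ v₁ = τ) :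
    ∃ G : MvPolynomial (Fin (r + 1)) k, G.IsHomogeneous 2 ∧ aeval v₁ G = a₁ ∧ aeval v₂ G = a₂ ∧
      (∀ w, dF G v₁ w = m₁ w) ∧ (∀ w, dF G v₂ w = m₂ w) := by
  obtain ⟨p, hp⟩ : ∃ p : (Fin (r + 1) → k) →ₗ[k] k, p = m₁ - a₁ • lam₁ := ⟨_, rfl⟩
  obtain ⟨q, hq⟩ : ∃ q : (Fin (r + 1) → k) →ₗ[k] k, q = m₂ - τ • lam₁ - a₂ • lam₂ := ⟨_, rfl⟩
  have hpw : ∀ w, p w = m₁ w - a₁ * lam₁ w := by
    intro w
    rw [hp, LinearMap.sub_apply, LinearMap.smul_apply, smul_eq_mul]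
  have hqw : ∀ w, q w = m₂ w - τ * lam₁ w - a₂ * lam₂ w := by
    intro w
    rw [hq, LinearMap.sub_apply, LinearMap.sub_apply, LinearMap.smul_apply, LinearMap.smul_apply,
      smul_eq_mul, smul_eq_mul]
  refine ⟨lin lam₁ ^ 1 * lin p + lin lam₂ ^ 1 * lin q, ?_, ?_, ?_, ?_, ?_⟩
  · have hA := ((lin_homog lam₁).pow 1).mul (lin_homog p)
    have hB := ((lin_homog lam₂).pow 1).mul (lin_homog q)
    exact hA.add hB
  · rw [map_add, aeval_pow_mul, aeval_pow_mul]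
    simp only [h11, h21, pow_one, hpw, hm₁]
    ring
  · rw [map_add, aeval_pow_mul, aeval_pow_mul]
    simp only [h12, h22, pow_one, hqw, hm₂]
    ring
  · intro w
    rw [dF_add, dF_pow_mul, dF_pow_mul]
    simp only [h11, h21, h12, h22, pow_one, Nat.sub_self, pow_zero,
      Nat.cast_one, hpw, hqw, hm₁, ht₂]
    ring
  · intro w
    rw [dF_add, dF_pow_mul, dF_pow_mul]
    simp only [h11, h21, h12, h22, pow_one, Nat.sub_self, pow_zero,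
      Nat.cast_one, hpw, hqw, hm₂, ht₁]
    ring

theorem exists_dual_pair {v₁ v₂ : Fin (r + 1) → k} (hv : LinearIndependent k ![v₁, v₂]) :
    ∃ lam₁ lam₂ : (Fin (r + 1) → k) →ₗ[k] k,
      lam₁ v₁ = 1 ∧ lam₁ v₂ = 0 ∧ lam₂ v₁ = 0 ∧ lam₂ v₂ = 1 := by
  have hker : LinearMap.ker (Fintype.linearCombination k ![v₁, v₂]) = ⊥ :=
    LinearMap.ker_eq_bot.mpr hv.fintypeLinearCombination_injective
  obtain ⟨g, hg⟩ := LinearMap.exists_leftInverse_of_injective _ hker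
  have e1 : g v₁ = Pi.single 0 1 := by
    have h := congrArg (fun f => f (Pi.single 0 1)) hg
    simp only [LinearMap.comp_apply, Fintype.linearCombination_apply_single, one_smul,
      LinearMap.id_apply] at h
    exact h
  have e2 : g v₂ = Pi.single 1 1 := by
    have h := congrArg (fun f => f (Pi.single 1 1)) hg
    simp only [LinearMap.comp_apply, Fintype.linearCombination_apply_single, one_smul,
      LinearMap.id_apply] at h
    exact h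
  refine ⟨(LinearMap.proj 0) ∘ₗ g, (LinearMap.proj 1) ∘ₗ g, ?_, ?_, ?_, ?_⟩
  · rw [LinearMap.comp_apply, e1, LinearMap.proj_apply, Pi.single_eq_same]
  · rw [LinearMap.comp_apply, e2, LinearMap.proj_apply]
    simp
  · rw [LinearMap.comp_apply, e1, LinearMap.proj_apply]
    simp
  · rw [LinearMap.comp_apply, e2, LinearMap.proj_apply, Pi.single_eq_same]

/-! ### The linear algebra -/

section main

variable (W₁ W₂ : Submodule k (Fin (r + 1) → k)) (v₁ v₂ : Fin (r + 1) → k)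

/-- functionals as functions -/
def toFn (W : Submodule k (Fin (r + 1) → k)) : Module.Dual k W →ₗ[k] (W → k) where
  toFun ℓ := fun w => ℓ w
  map_add' _ _ := rfl
  map_smul' _ _ := rfl

/-- the comparison embedding -/
def J : (k × Module.Dual k W₁) × (k × Module.Dual k W₂) →ₗ[k]
    (k × (W₁ → k)) × (k × (W₂ → k)) :=
  (LinearMap.id.prodMap (toFn W₁)).prodMap (LinearMap.id.prodMap (toFn W₂))

theorem J_apply (x : (k × Module.Dual k W₁) × (k × Module.Dual k W₂)) :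
    J W₁ W₂ x = ((x.1.1, fun w => x.1.2 w), (x.2.1, fun w => x.2.2 w)) := rfl

theorem J_injective : Function.Injective (J W₁ W₂) := by
  rintro ⟨⟨a₁, l₁⟩, ⟨a₂, l₂⟩⟩ ⟨⟨b₁, m₁⟩, ⟨b₂, m₂⟩⟩ h
  rw [J_apply, J_apply] at h
  simp only [Prod.mk.injEq] at h
  obtain ⟨⟨h1, h2⟩, ⟨h3, h4⟩⟩ := h
  have e1 : l₁ = m₁ := LinearMap.ext (congrFun h2)
  have e2 : l₂ = m₂ := LinearMap.ext (congrFun h4)
  rw [h1, h3, e1, e2]

/-- value and restricted differential at the two points -/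
noncomputable def tup (G : MvPolynomial (Fin (r + 1)) k) :
    (k × Module.Dual k W₁) × (k × Module.Dual k W₂) :=
  ((aeval v₁ G, (dFl G v₁) ∘ₗ W₁.subtype), (aeval v₂ G, (dFl G v₂) ∘ₗ W₂.subtype))

theorem tangLin_apply {d : ℕ} (W : Submodule k (Fin (r + 1) → k)) (v : Fin (r + 1) → k)
    (G : LefPen.Form r k d) :
    LefPen.tangLin k W v G = (aeval v G.1, fun w : W => dF G.1 v w.1) := by
  refine Prod.ext rfl ?_
  funext w
  show (∑ i : Fin (r + 1), (w.1 i) • ((MvPolynomial.aeval v).toLinearMap ∘ₗ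
        (MvPolynomial.pderiv i).toLinearMap ∘ₗ (CohB1.polyGrading r k d).subtype)) G = _
  rw [LinearMap.sum_apply]
  rfl

/-- the combined map -/
noncomputable def L (d : ℕ) : LefPen.Form r k d →ₗ[k] (k × (W₁ → k)) × (k × (W₂ → k)) :=
  (LefPen.tangLin k W₁ v₁).prod (LefPen.tangLin k W₂ v₂)

theorem L_apply {d : ℕ} (G : LefPen.Form r k d) :
    L W₁ W₂ v₁ v₂ d G = J W₁ W₂ (tup W₁ W₂ v₁ v₂ G.1) := by
  show (LefPen.tangLin k W₁ v₁ G, LefPen.tangLin k W₂ v₂ G) = _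
  rw [tangLin_apply, tangLin_apply, J_apply]
  refine Prod.ext (Prod.ext rfl ?_) (Prod.ext rfl ?_)
  · funext w
    exact (dFl_apply _ _ _).symm
  · funext w
    exact (dFl_apply _ _ _).symm

theorem ker_L (d : ℕ) : LinearMap.ker (L W₁ W₂ v₁ v₂ d) = LefPen.tangentForms k d W₁ v₁ W₂ v₂ := by
  rw [L, LinearMap.ker_prod]
  rfl

/-- the Euler conditions -/
def E (h₁ : v₁ ∈ W₁) (h₂ : v₂ ∈ W₂) (d : ℕ) :
    (k × Module.Dual k W₁) × (k × Module.Dual k W₂) →ₗ[k] k × k where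
  toFun x := (x.1.2 ⟨v₁, h₁⟩ - (d : k) * x.1.1, x.2.2 ⟨v₂, h₂⟩ - (d : k) * x.2.1)
  map_add' x y := by
    refine Prod.ext ?_ ?_
    · simp only [Prod.fst_add, Prod.snd_add, LinearMap.add_apply]
      ring
    · simp only [Prod.fst_add, Prod.snd_add, LinearMap.add_apply]
      ring
  map_smul' c x := by
    refine Prod.ext ?_ ?_
    · simp only [Prod.smul_fst, Prod.smul_snd, LinearMap.smul_apply, smul_eq_mul, RingHom.id_apply]
      ring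
    · simp only [Prod.smul_fst, Prod.smul_snd, LinearMap.smul_apply, smul_eq_mul, RingHom.id_apply]
      ring

/-- the Euler conditions together with the symmetry condition -/
def E' (h₁ : v₁ ∈ W₁) (h₂ : v₂ ∈ W₂) (h21 : v₂ ∈ W₁) (h12 : v₁ ∈ W₂) :
    (k × Module.Dual k W₁) × (k × Module.Dual k W₂) →ₗ[k] k × k × k where
  toFun x := (x.1.2 ⟨v₁, h₁⟩ - 2 * x.1.1, x.2.2 ⟨v₂, h₂⟩ - 2 * x.2.1,
    x.1.2 ⟨v₂, h21⟩ - x.2.2 ⟨v₁, h12⟩)
  map_add' x y := by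
    refine Prod.ext ?_ (Prod.ext ?_ ?_)
    · simp only [Prod.fst_add, Prod.snd_add, LinearMap.add_apply]
      ring
    · simp only [Prod.fst_add, Prod.snd_add, LinearMap.add_apply]
      ring
    · simp only [Prod.fst_add, Prod.snd_add, LinearMap.add_apply]
      ring
  map_smul' c x := by
    refine Prod.ext ?_ (Prod.ext ?_ ?_)
    · simp only [Prod.smul_fst, Prod.smul_snd, LinearMap.smul_apply, smul_eq_mul, RingHom.id_apply]
      ring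
    · simp only [Prod.smul_fst, Prod.smul_snd, LinearMap.smul_apply, smul_eq_mul, RingHom.id_apply]
      ring
    · simp only [Prod.smul_fst, Prod.smul_snd, LinearMap.smul_apply, smul_eq_mul, RingHom.id_apply]
      ring

theorem finrank_dom :
    Module.finrank k ((k × Module.Dual k W₁) × (k × Module.Dual k W₂)) =
      2 + (Module.finrank k W₁ + Module.finrank k W₂) := by
  rw [Module.finrank_prod, Module.finrank_prod, Module.finrank_prod, Module.finrank_self,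
    Subspace.dual_finrank_eq, Subspace.dual_finrank_eq]
  ring

variable {W₁ W₂ v₁ v₂}

theorem E_surjective (h₁ : v₁ ∈ W₁) (h₂ : v₂ ∈ W₂) (d : ℕ)
    (hv : LinearIndependent k ![v₁, v₂]) : Function.Surjective (E W₁ W₂ v₁ v₂ h₁ h₂ d) := by
  obtain ⟨lam₁, lam₂, h11, h12, h21, h22⟩ := exists_dual_pair hv
  rintro ⟨c₁, c₂⟩
  refine ⟨((0, c₁ • (lam₁ ∘ₗ W₁.subtype)), (0, c₂ • (lam₂ ∘ₗ W₂.subtype))), ?_⟩
  show ((c₁ • (lam₁ ∘ₗ W₁.subtype)) ⟨v₁, h₁⟩ - (d : k) * 0,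
    (c₂ • (lam₂ ∘ₗ W₂.subtype)) ⟨v₂, h₂⟩ - (d : k) * 0) = (c₁, c₂)
  simp only [LinearMap.smul_apply, LinearMap.comp_apply, Submodule.subtype_apply, h11, h22,
    smul_eq_mul, mul_one, mul_zero, sub_zero]

theorem E'_surjective (h₁ : v₁ ∈ W₁) (h₂ : v₂ ∈ W₂) (h21' : v₂ ∈ W₁) (h12' : v₁ ∈ W₂)
    (hv : LinearIndependent k ![v₁, v₂]) :
    Function.Surjective (E' W₁ W₂ v₁ v₂ h₁ h₂ h21' h12') := by
  obtain ⟨lam₁, lam₂, h11, h12, h21, h22⟩ := exists_dual_pair hv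
  rintro ⟨c₁, c₂, c₃⟩
  refine ⟨((0, c₁ • (lam₁ ∘ₗ W₁.subtype) + c₃ • (lam₂ ∘ₗ W₁.subtype)),
    (0, c₂ • (lam₂ ∘ₗ W₂.subtype))), ?_⟩
  show ((c₁ • (lam₁ ∘ₗ W₁.subtype) + c₃ • (lam₂ ∘ₗ W₁.subtype)) ⟨v₁, h₁⟩ - 2 * 0,
    (c₂ • (lam₂ ∘ₗ W₂.subtype)) ⟨v₂, h₂⟩ - 2 * 0,
    (c₁ • (lam₁ ∘ₗ W₁.subtype) + c₃ • (lam₂ ∘ₗ W₁.subtype)) ⟨v₂, h21'⟩ -
      (c₂ • (lam₂ ∘ₗ W₂.subtype)) ⟨v₁, h12'⟩) = (c₁, c₂, c₃)
  simp only [LinearMap.add_apply, LinearMap.smul_apply, LinearMap.comp_apply,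
    Submodule.subtype_apply, h11, h12, h21, h22, smul_eq_mul, mul_one, mul_zero, sub_zero,
    add_zero, zero_add]

theorem tup_mem_ker_E {d : ℕ} (h₁ : v₁ ∈ W₁) (h₂ : v₂ ∈ W₂)
    {G : MvPolynomial (Fin (r + 1)) k} (hG : G.IsHomogeneous d) :
    tup W₁ W₂ v₁ v₂ G ∈ LinearMap.ker (E W₁ W₂ v₁ v₂ h₁ h₂ d) := by
  rw [LinearMap.mem_ker]
  show (dFl G v₁ v₁ - (d : k) * aeval v₁ G, dFl G v₂ v₂ - (d : k) * aeval v₂ G) = 0
  rw [dFl_apply, dFl_apply, dF_self hG, dF_self hG, sub_self, sub_self]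
  rfl

theorem tup_mem_ker_E' (h₁ : v₁ ∈ W₁) (h₂ : v₂ ∈ W₂) (h21' : v₂ ∈ W₁) (h12' : v₁ ∈ W₂)
    {G : MvPolynomial (Fin (r + 1)) k} (hG : G.IsHomogeneous 2) :
    tup W₁ W₂ v₁ v₂ G ∈ LinearMap.ker (E' W₁ W₂ v₁ v₂ h₁ h₂ h21' h12') := by
  rw [LinearMap.mem_ker]
  show (dFl G v₁ v₁ - 2 * aeval v₁ G, dFl G v₂ v₂ - 2 * aeval v₂ G,
    dFl G v₁ v₂ - dFl G v₂ v₁) = 0
  rw [dFl_apply, dFl_apply, dFl_apply, dFl_apply, dF_self hG, dF_self hG, dF_symm hG v₁ v₂]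
  simp

/-- from a form with the right full differentials to the tuple -/
theorem tup_eq_of {G : MvPolynomial (Fin (r + 1)) k} {a₁ a₂ : k}
    {l₁ : Module.Dual k W₁} {l₂ : Module.Dual k W₂} {m₁ m₂ : (Fin (r + 1) → k) →ₗ[k] k}
    (he₁ : m₁ ∘ₗ W₁.subtype = l₁) (he₂ : m₂ ∘ₗ W₂.subtype = l₂)
    (ha₁ : aeval v₁ G = a₁) (ha₂ : aeval v₂ G = a₂)
    (hd₁ : ∀ w, dF G v₁ w = m₁ w) (hd₂ : ∀ w, dF G v₂ w = m₂ w) :
    tup W₁ W₂ v₁ v₂ G = ((a₁, l₁), (a₂, l₂)) := by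
  unfold tup
  rw [ha₁, ha₂, ← he₁, ← he₂]
  have e1 : dFl G v₁ = m₁ := LinearMap.ext fun w => by rw [dFl_apply, hd₁]
  have e2 : dFl G v₂ = m₂ := LinearMap.ext fun w => by rw [dFl_apply, hd₂]
  rw [e1, e2]

theorem exists_of_mem_ker_E {d : ℕ} (hd : 2 ≤ d) (h₁ : v₁ ∈ W₁) (h₂ : v₂ ∈ W₂)
    (hv : LinearIndependent k ![v₁, v₂]) (hcase : 3 ≤ d ∨ ¬ (v₂ ∈ W₁ ∧ v₁ ∈ W₂))
    (x : (k × Module.Dual k W₁) × (k × Module.Dual k W₂))
    (hx : x ∈ LinearMap.ker (E W₁ W₂ v₁ v₂ h₁ h₂ d)) :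
    ∃ G : MvPolynomial (Fin (r + 1)) k, G.IsHomogeneous d ∧ tup W₁ W₂ v₁ v₂ G = x := by
  obtain ⟨lam₁, lam₂, h11, h12, h21, h22⟩ := exists_dual_pair hv
  obtain ⟨⟨a₁, l₁⟩, ⟨a₂, l₂⟩⟩ := x
  rw [LinearMap.mem_ker] at hx
  have hx' : (l₁ ⟨v₁, h₁⟩ - (d : k) * a₁, l₂ ⟨v₂, h₂⟩ - (d : k) * a₂) = ((0 : k), (0 : k)) := hx
  simp only [Prod.mk.injEq] at hx'
  obtain ⟨hx1, hx2⟩ := hx'
  have hl₁ : l₁ ⟨v₁, h₁⟩ = (d : k) * a₁ := sub_eq_zero.mp hx1
  have hl₂ : l₂ ⟨v₂, h₂⟩ = (d : k) * a₂ := sub_eq_zero.mp hx2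
  by_cases hd3 : 3 ≤ d
  · obtain ⟨m₁, he₁⟩ := LinearMap.exists_extend l₁
    obtain ⟨m₂, he₂⟩ := LinearMap.exists_extend l₂
    have hm₁ : m₁ v₁ = (d : k) * a₁ := by
      rw [← hl₁, ← he₁]
      rfl
    have hm₂ : m₂ v₂ = (d : k) * a₂ := by
      rw [← hl₂, ← he₂]
      rfl
    obtain ⟨G, hG, ha₁, ha₂, hd₁, hd₂⟩ :=
      exists_form_ge_three hd3 lam₁ lam₂ h11 h12 h21 h22 m₁ m₂ a₁ a₂ hm₁ hm₂
    exact ⟨G, hG, tup_eq_of he₁ he₂ ha₁ ha₂ hd₁ hd₂⟩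
  · have hd2 : d = 2 := by omega
    subst hd2
    have hnot : ¬ (v₂ ∈ W₁ ∧ v₁ ∈ W₂) := by
      rcases hcase with h | h
      · omega
      · exact h
    have h2cast : ((2 : ℕ) : k) = 2 := by norm_num
    rw [h2cast] at hl₁ hl₂
    -- choose extensions with common cross value
    obtain ⟨τ, m₁, m₂, he₁, he₂, ht₁, ht₂⟩ : ∃ (τ : k) (m₁ m₂ : (Fin (r + 1) → k) →ₗ[k] k),
        m₁ ∘ₗ W₁.subtype = l₁ ∧ m₂ ∘ₗ W₂.subtype = l₂ ∧ m₁ v₂ = τ ∧ m₂ v₁ = τ := by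
      by_cases h21' : v₂ ∈ W₁
      · have h12' : v₁ ∉ W₂ := fun h => hnot ⟨h21', h⟩
        obtain ⟨m₁, he₁⟩ := LinearMap.exists_extend l₁
        obtain ⟨m₂, he₂, ht₂⟩ := LinearMap.exists_extend_of_notMem l₂ h12' (m₁ v₂)
        exact ⟨m₁ v₂, m₁, m₂, he₁, he₂, rfl, ht₂⟩
      · obtain ⟨m₂, he₂⟩ := LinearMap.exists_extend l₂
        obtain ⟨m₁, he₁, ht₁⟩ := LinearMap.exists_extend_of_notMem l₁ h21' (m₂ v₁)
        exact ⟨m₂ v₁, m₁, m₂, he₁, he₂, ht₁, rfl⟩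
    have hm₁ : m₁ v₁ = 2 * a₁ := by
      rw [← hl₁, ← he₁]
      rfl
    have hm₂ : m₂ v₂ = 2 * a₂ := by
      rw [← hl₂, ← he₂]
      rfl
    obtain ⟨G, hG, ha₁, ha₂, hd₁, hd₂⟩ :=
      exists_form_two lam₁ lam₂ h11 h12 h21 h22 m₁ m₂ a₁ a₂ τ hm₁ hm₂ ht₁ ht₂
    exact ⟨G, hG, tup_eq_of he₁ he₂ ha₁ ha₂ hd₁ hd₂⟩

theorem exists_of_mem_ker_E' (h₁ : v₁ ∈ W₁) (h₂ : v₂ ∈ W₂) (h21' : v₂ ∈ W₁) (h12' : v₁ ∈ W₂)
    (hv : LinearIndependent k ![v₁, v₂])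
    (x : (k × Module.Dual k W₁) × (k × Module.Dual k W₂))
    (hx : x ∈ LinearMap.ker (E' W₁ W₂ v₁ v₂ h₁ h₂ h21' h12')) :
    ∃ G : MvPolynomial (Fin (r + 1)) k, G.IsHomogeneous 2 ∧ tup W₁ W₂ v₁ v₂ G = x := by
  obtain ⟨lam₁, lam₂, h11, h12, h21, h22⟩ := exists_dual_pair hv
  obtain ⟨⟨a₁, l₁⟩, ⟨a₂, l₂⟩⟩ := x
  rw [LinearMap.mem_ker] at hx
  have hx' : (l₁ ⟨v₁, h₁⟩ - 2 * a₁, l₂ ⟨v₂, h₂⟩ - 2 * a₂, l₁ ⟨v₂, h21'⟩ - l₂ ⟨v₁, h12'⟩) =
      ((0 : k), (0 : k), (0 : k)) := hx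
  simp only [Prod.mk.injEq] at hx'
  obtain ⟨hx1, hx2, hx3⟩ := hx'
  have hl₁ : l₁ ⟨v₁, h₁⟩ = 2 * a₁ := sub_eq_zero.mp hx1
  have hl₂ : l₂ ⟨v₂, h₂⟩ = 2 * a₂ := sub_eq_zero.mp hx2
  have hl₃ : l₁ ⟨v₂, h21'⟩ = l₂ ⟨v₁, h12'⟩ := sub_eq_zero.mp hx3
  obtain ⟨m₁, he₁⟩ := LinearMap.exists_extend l₁
  obtain ⟨m₂, he₂⟩ := LinearMap.exists_extend l₂
  have hm₁ : m₁ v₁ = 2 * a₁ := by
    rw [← hl₁, ← he₁]
    rfl
  have hm₂ : m₂ v₂ = 2 * a₂ := by
    rw [← hl₂, ← he₂]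
    rfl
  have ht₁ : m₁ v₂ = l₁ ⟨v₂, h21'⟩ := by
    rw [← he₁]
    rfl
  have ht₂ : m₂ v₁ = l₁ ⟨v₂, h21'⟩ := by
    rw [hl₃, ← he₂]
    rfl
  obtain ⟨G, hG, ha₁, ha₂, hd₁, hd₂⟩ :=
    exists_form_two lam₁ lam₂ h11 h12 h21 h22 m₁ m₂ a₁ a₂ _ hm₁ hm₂ ht₁ ht₂
  exact ⟨G, hG, tup_eq_of he₁ he₂ ha₁ ha₂ hd₁ hd₂⟩

instance finite_form (d : ℕ) : Module.Finite k (LefPen.Form r k d) :=
  Module.Finite.iff_fg.mpr (MvPolynomial.homogeneousSubmodule_fg (Fin (r + 1)) k d)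

theorem main_generic {d : ℕ} (hd : 2 ≤ d) (h₁ : v₁ ∈ W₁) (h₂ : v₂ ∈ W₂)
    (hv : LinearIndependent k ![v₁, v₂]) (hcase : 3 ≤ d ∨ ¬ (v₂ ∈ W₁ ∧ v₁ ∈ W₂)) :
    Module.finrank k (LefPen.Form r k d) =
      Module.finrank k ↥(LefPen.tangentForms k d W₁ v₁ W₂ v₂) +
        (Module.finrank k ↥W₁ + Module.finrank k ↥W₂) := by
  have hrange : LinearMap.range (L W₁ W₂ v₁ v₂ d) =
      (LinearMap.ker (E W₁ W₂ v₁ v₂ h₁ h₂ d)).map (J W₁ W₂) := by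
    apply le_antisymm
    · rintro _ ⟨G, rfl⟩
      rw [L_apply]
      exact Submodule.mem_map_of_mem
        (tup_mem_ker_E h₁ h₂ ((mem_homogeneousSubmodule d G.1).mp G.2))
    · rintro _ ⟨x, hx, rfl⟩
      obtain ⟨G, hG, hGx⟩ := exists_of_mem_ker_E hd h₁ h₂ hv hcase x hx
      refine ⟨⟨G, (mem_homogeneousSubmodule d G).mpr hG⟩, ?_⟩
      rw [L_apply, hGx]
  have h1 := LinearMap.finrank_range_add_finrank_ker (L W₁ W₂ v₁ v₂ d)
  have h2 := LinearMap.finrank_range_add_finrank_ker (E W₁ W₂ v₁ v₂ h₁ h₂ d)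
  have h3 : Module.finrank k ↥((LinearMap.ker (E W₁ W₂ v₁ v₂ h₁ h₂ d)).map (J W₁ W₂)) =
      Module.finrank k ↥(LinearMap.ker (E W₁ W₂ v₁ v₂ h₁ h₂ d)) :=
    (LinearEquiv.finrank_eq (Submodule.equivMapOfInjective (J W₁ W₂) (J_injective W₁ W₂) _)).symm
  have h4 : Module.finrank k ↥(LinearMap.range (E W₁ W₂ v₁ v₂ h₁ h₂ d)) = 2 := by
    rw [LinearMap.range_eq_top.mpr (E_surjective h₁ h₂ d hv), finrank_top, Module.finrank_prod,
      Module.finrank_self]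
  rw [finrank_dom] at h2
  rw [hrange, h3, ker_L] at h1
  omega

theorem main_exc (h₁ : v₁ ∈ W₁) (h₂ : v₂ ∈ W₂) (h21' : v₂ ∈ W₁) (h12' : v₁ ∈ W₂)
    (hv : LinearIndependent k ![v₁, v₂]) :
    Module.finrank k (LefPen.Form r k 2) + 1 =
      Module.finrank k ↥(LefPen.tangentForms k 2 W₁ v₁ W₂ v₂) +
        (Module.finrank k ↥W₁ + Module.finrank k ↥W₂) := by
  have hrange : LinearMap.range (L W₁ W₂ v₁ v₂ 2) =
      (LinearMap.ker (E' W₁ W₂ v₁ v₂ h₁ h₂ h21' h12')).map (J W₁ W₂) := by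
    apply le_antisymm
    · rintro _ ⟨G, rfl⟩
      rw [L_apply]
      exact Submodule.mem_map_of_mem
        (tup_mem_ker_E' h₁ h₂ h21' h12' ((mem_homogeneousSubmodule 2 G.1).mp G.2))
    · rintro _ ⟨x, hx, rfl⟩
      obtain ⟨G, hG, hGx⟩ := exists_of_mem_ker_E' h₁ h₂ h21' h12' hv x hx
      refine ⟨⟨G, (mem_homogeneousSubmodule 2 G).mpr hG⟩, ?_⟩
      rw [L_apply, hGx]
  have h1 := LinearMap.finrank_range_add_finrank_ker (L W₁ W₂ v₁ v₂ 2)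
  have h2 := LinearMap.finrank_range_add_finrank_ker (E' W₁ W₂ v₁ v₂ h₁ h₂ h21' h12')
  have h3 : Module.finrank k ↥((LinearMap.ker (E' W₁ W₂ v₁ v₂ h₁ h₂ h21' h12')).map (J W₁ W₂)) =
      Module.finrank k ↥(LinearMap.ker (E' W₁ W₂ v₁ v₂ h₁ h₂ h21' h12')) :=
    (LinearEquiv.finrank_eq (Submodule.equivMapOfInjective (J W₁ W₂) (J_injective W₁ W₂) _)).symm
  have h4 : Module.finrank k ↥(LinearMap.range (E' W₁ W₂ v₁ v₂ h₁ h₂ h21' h12')) = 3 := by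
    rw [LinearMap.range_eq_top.mpr (E'_surjective h₁ h₂ h21' h12' hv), finrank_top,
      Module.finrank_prod, Module.finrank_prod, Module.finrank_self]
  rw [finrank_dom] at h2
  rw [hrange, h3, ker_L] at h1
  omega

end main

end Groth.Agent.Helper6.TangentForms
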