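import Groth.Agent.Helper6.TateRho
import Groth.Prelude.Def_LocRes

set_option autoImplicit false
set_option linter.style.haveILetI false

/-!
# Tate's residue on Laurent series: the commutator trace is the trace of the residue
-/

namespace Groth.Agent.Helper6.TateLoc

open Groth.Agent.Helper6.TateTr Groth.Agent.Helper6.TateRho
open LaurentSeries HahnSeries

variable {k : Type*} [Field k] {F : Type*} [Field F] [Algebra k F]

/-- negative-part projection -/
noncomputable def qL : Module.End k F⸨X⸩ := HahnSeries.truncLTLinearMap k (0 : ℤ)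

/-- nonnegative-part projection -/
noncomputable def pL : Module.End k F⸨X⸩ := 1 - qL

omit [Field k] [Algebra k F] in
theorem smul_eq_C_mul {k : Type*} [Field k] [Algebra k F] (c : k) (h : F⸨X⸩) :
    c • h = HahnSeries.C (algebraMap k F c) * h := by
  rw [HahnSeries.C_mul_eq_smul, algebraMap_smul]

/-- multiplication operator -/
noncomputable def mulL (f : F⸨X⸩) : Module.End k F⸨X⸩ where
  toFun h := f * h
  map_add' := mul_add f
  map_smul' c h := by
    simp only [RingHom.id_apply]
    rw [smul_eq_C_mul, smul_eq_C_mul]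
    ring

/-- `single` as a `k`-linear map -/
noncomputable def sgl (a : ℤ) : F →ₗ[k] F⸨X⸩ := HahnSeries.single.linearMap a

theorem sgl_apply (a : ℤ) (c : F) : sgl (k := k) a c = single a c := rfl

/-- `coeff` as a `k`-linear map -/
noncomputable def cf (a : ℤ) : F⸨X⸩ →ₗ[k] F := HahnSeries.coeff.linearMap a

theorem cf_apply (a : ℤ) (h : F⸨X⸩) : cf (k := k) a h = h.coeff a := rfl

/-- no negative coefficients -/
def IsPS (h : F⸨X⸩) : Prop := ∀ n : ℤ, n < 0 → h.coeff n = 0

theorem coeff_qL (h : F⸨X⸩) (i : ℤ) :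
    ((qL (k := k)) h).coeff i = if i < 0 then h.coeff i else 0 := rfl

theorem coeff_pL (h : F⸨X⸩) (i : ℤ) :
    ((pL (k := k)) h).coeff i = if i < 0 then 0 else h.coeff i := by
  unfold pL
  rw [LinearMap.sub_apply, Module.End.one_apply, HahnSeries.coeff_sub, coeff_qL]
  split_ifs <;> simp

theorem one_sub_pL : (1 : Module.End k F⸨X⸩) - pL = qL := by
  unfold pL; abel

theorem mulL_apply (f h : F⸨X⸩) : (mulL (k := k) f) h = f * h := rfl

theorem mulL_mul (f g : F⸨X⸩) : mulL (k := k) (f * g) = mulL f * mulL g := by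
  ext h; simp [mulL_apply, mul_assoc]

theorem mulL_add (f g : F⸨X⸩) : mulL (k := k) (f + g) = mulL f + mulL g := by
  ext h; simp [mulL_apply, add_mul]

theorem mulL_one : mulL (k := k) (1 : F⸨X⸩) = 1 := by
  ext h; simp [mulL_apply]

theorem mulL_comm (f g : F⸨X⸩) : mulL (k := k) f * mulL g = mulL g * mulL f := by
  rw [← mulL_mul, ← mulL_mul, mul_comm]

theorem isPS_iff_val (h : F⸨X⸩) : IsPS h ↔ Valued.v h ≤ 1 := by
  have := LaurentSeries.valuation_le_iff_coeff_lt_eq_zero F (D := 0) (f := h)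
  rw [neg_zero, WithZero.exp_zero] at this
  rw [this]
  rfl

theorem isPS_mul {f h : F⸨X⸩} (hf : IsPS f) (hh : IsPS h) : IsPS (f * h) := by
  rw [isPS_iff_val] at *
  rw [map_mul]
  exact mul_le_one' hf hh

theorem isPS_pL (h : F⸨X⸩) : IsPS ((pL (k := k)) h) := by
  intro n hn
  rw [coeff_pL, if_pos hn]

theorem pL_of_isPS {h : F⸨X⸩} (hh : IsPS h) : (pL (k := k)) h = h := by
  ext i
  rw [coeff_pL]
  split_ifs with hi
  · exact (hh i hi).symm
  · rfl

theorem qL_of_isPS {h : F⸨X⸩} (hh : IsPS h) : (qL (k := k)) h = 0 := by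
  ext i
  rw [coeff_qL]
  split_ifs with hi
  · simpa using hh i hi
  · simp

theorem pL_idem : (pL (k := k) (F := F)) * pL = pL := by
  ext1 h
  exact pL_of_isPS (isPS_pL h)

theorem u_of_isPS {f : F⸨X⸩} (hf : IsPS f) :
    (1 - pL (k := k)) * mulL f * pL = 0 := by
  rw [one_sub_pL]
  ext1 h
  simp only [Module.End.mul_apply, mulL_apply, LinearMap.zero_apply]
  exact qL_of_isPS (isPS_mul hf (isPS_pL h))

theorem isPS_single_one : IsPS (single (1 : ℤ) (1 : F)) := by
  intro n hn
  rw [HahnSeries.coeff_single_of_ne]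
  omega

theorem isPS_C (a : F) : IsPS (HahnSeries.C a : F⸨X⸩) := by
  intro n hn
  rw [HahnSeries.C_apply, HahnSeries.coeff_single_of_ne]
  omega

theorem isPS_coe (G : PowerSeries F) : IsPS (G : F⸨X⸩) := by
  intro n hn
  rw [PowerSeries.coeff_coe, if_pos hn]

variable [FiniteDimensional k F]

theorem fr_u_xi : FR ((1 - pL (k := k)) * mulL (single (-1 : ℤ) (1 : F)) * pL) := by
  have e : (1 - pL (k := k)) * mulL (single (-1 : ℤ) (1 : F)) * pL =
      (sgl (k := k) (F := F) (-1 : ℤ)) ∘ₗ (cf (k := k) (F := F) (0 : ℤ)) := by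
    rw [one_sub_pL]
    ext1 h
    ext i
    simp only [Module.End.mul_apply, mulL_apply, LinearMap.comp_apply, sgl_apply, cf_apply]
    rw [coeff_qL, HahnSeries.coeff_single_mul, coeff_pL, one_mul]
    by_cases hi : i = -1
    · subst hi
      simp
    · rw [HahnSeries.coeff_single_of_ne hi]
      split_ifs with h1 h2
      · rfl
      · omega
      · rfl
  rw [e]
  exact (FR.of_finiteDimensional _).comp_right _

theorem exists_nat_val_le (f : F⸨X⸩) : ∃ N : ℕ, Valued.v f ≤ WithZero.exp (N : ℤ) := by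
  by_cases h0 : Valued.v f = 0
  · exact ⟨0, by rw [h0]; exact zero_le⟩
  · refine ⟨(WithZero.log (Valued.v f)).toNat, ?_⟩
    rw [← WithZero.exp_log h0]
    rw [WithZero.exp_le_exp]
    exact Int.self_le_toNat _

theorem xi_mul_xp : single (-1 : ℤ) (1 : F) * single (1 : ℤ) (1 : F) = 1 := by
  rw [HahnSeries.single_mul_single]
  simp

theorem xp_mul_xi : single (1 : ℤ) (1 : F) * single (-1 : ℤ) (1 : F) = 1 := by
  rw [HahnSeries.single_mul_single]
  simp

theorem val_xp_mul (f : F⸨X⸩) :
    Valued.v (single (1 : ℤ) (1 : F) * f) = WithZero.exp (-1 : ℤ) * Valued.v f := by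
  rw [map_mul, LaurentSeries.valuation_single_zpow]

theorem val_xp_mul_le {f : F⸨X⸩} {N : ℕ} (h : Valued.v f ≤ WithZero.exp ((N + 1 : ℕ) : ℤ)) :
    Valued.v (single (1 : ℤ) (1 : F) * f) ≤ WithZero.exp (N : ℤ) := by
  rw [val_xp_mul]
  calc WithZero.exp (-1 : ℤ) * Valued.v f
      ≤ WithZero.exp (-1 : ℤ) * WithZero.exp ((N + 1 : ℕ) : ℤ) := mul_le_mul' le_rfl h
    _ = WithZero.exp (N : ℤ) := by
        rw [← WithZero.exp_add]
        congr 1
        push_cast
        ring

theorem fr_u (f : F⸨X⸩) : FR ((1 - pL (k := k)) * mulL f * pL) := by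
  obtain ⟨N, hN⟩ := exists_nat_val_le f
  induction N generalizing f with
  | zero =>
    have : IsPS f := by
      rw [isPS_iff_val]
      simpa using hN
    rw [u_of_isPS this]
    exact FR.zero
  | succ N ih =>
    have e : f = single (-1 : ℤ) (1 : F) * (single (1 : ℤ) (1 : F) * f) := by
      rw [← mul_assoc, xi_mul_xp, one_mul]
    rw [e, mulL_mul]
    exact fr_u_mul fr_u_xi (ih _ (val_xp_mul_le hN))

/-- the commutator trace pairing -/
noncomputable def Rho (f g : F⸨X⸩) : k := tr (comm (pL (k := k)) (mulL f) (mulL g))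

/-- the residue pairing -/
noncomputable def Cc (f g : F⸨X⸩) : k :=
  Algebra.trace k F ((f * LocRes.D F g).coeff (-1))

/-- the characterising properties -/
structure Ax (B : F⸨X⸩ → F⸨X⸩ → k) : Prop where
  deriv : ∀ f g h, B f (g * h) = B (f * g) h + B (h * f) g
  add : ∀ f g h, B f (g + h) = B f g + B f h
  atX : ∀ f, B f (single (1 : ℤ) (1 : F)) = Algebra.trace k F (f.coeff (-1))
  ps : ∀ f g, IsPS f → IsPS g → B f g = 0
  const : ∀ f a, B f (HahnSeries.C a) = 0

omit [FiniteDimensional k F] in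
theorem Ax.one {B : F⸨X⸩ → F⸨X⸩ → k} (hB : Ax B) (f : F⸨X⸩) : B f 1 = 0 := by
  have := hB.deriv f 1 1
  rw [mul_one, mul_one, one_mul] at this
  exact left_eq_add.mp this

omit [FiniteDimensional k F] in
theorem Ax.xi {B : F⸨X⸩ → F⸨X⸩ → k} (hB : Ax B) (f : F⸨X⸩) :
    B f (single (-1 : ℤ) (1 : F)) =
      - Algebra.trace k F ((single (-1 : ℤ) (1 : F) * (f * single (-1 : ℤ) (1 : F))).coeff (-1)) := by
  have h1 := hB.deriv (f * single (-1 : ℤ) (1 : F)) (single (1 : ℤ) (1 : F)) (single (-1 : ℤ) (1 : F))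
  rw [xp_mul_xi, hB.one, mul_assoc, xi_mul_xp, mul_one, hB.atX] at h1
  exact eq_neg_of_add_eq_zero_left h1.symm

omit [FiniteDimensional k F] in
theorem Ax.ext_ps {B B' : F⸨X⸩ → F⸨X⸩ → k} (hB : Ax B) (hB' : Ax B') (M : ℕ) :
    ∀ (f : F⸨X⸩) (G : PowerSeries F), Valued.v f ≤ WithZero.exp (M : ℤ) →
      B f (G : F⸨X⸩) = B' f (G : F⸨X⸩) := by
  induction M with
  | zero =>
    intro f G hf
    have hf' : IsPS f := by
      rw [isPS_iff_val]
      simpa using hf
    rw [hB.ps f _ hf' (isPS_coe G), hB'.ps f _ hf' (isPS_coe G)]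
  | succ M ih =>
    intro f G hf
    have e : (G : F⸨X⸩) = single (1 : ℤ) (1 : F) *
        ((PowerSeries.mk fun p => PowerSeries.coeff (p + 1) G : PowerSeries F) : F⸨X⸩) +
        HahnSeries.C (PowerSeries.constantCoeff G) := by
      conv_lhs => rw [PowerSeries.eq_X_mul_shift_add_const G]
      rw [PowerSeries.coe_add, PowerSeries.coe_mul, PowerSeries.coe_X, PowerSeries.coe_C]
    rw [e, hB.add, hB'.add, hB.const, hB'.const, hB.deriv, hB'.deriv, hB.atX, hB'.atX,
      ih _ _ (by rw [mul_comm]; exact val_xp_mul_le hf)]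

omit [FiniteDimensional k F] in
theorem Ax.ext {B B' : F⸨X⸩ → F⸨X⸩ → k} (hB : Ax B) (hB' : Ax B') (f g : F⸨X⸩) :
    B f g = B' f g := by
  obtain ⟨N, hN⟩ := exists_nat_val_le g
  induction N generalizing f g with
  | zero =>
    have hg : IsPS g := by
      rw [isPS_iff_val]
      simpa using hN
    obtain ⟨G, rfl⟩ := (LaurentSeries.val_le_one_iff_eq_coe F g).mp ((isPS_iff_val g).mp hg)
    obtain ⟨M, hM⟩ := exists_nat_val_le f
    exact hB.ext_ps hB' M f G hM
  | succ N ih =>
    have e : g = single (-1 : ℤ) (1 : F) * (single (1 : ℤ) (1 : F) * g) := by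
      rw [← mul_assoc, xi_mul_xp, one_mul]
    rw [e, hB.deriv, hB'.deriv, hB.xi, hB'.xi, ih _ _ (val_xp_mul_le hN)]

omit [FiniteDimensional k F] in
theorem ax_Cc : Ax (Cc (k := k) (F := F)) where
  deriv f g h := by
    unfold Cc
    rw [← map_add, ← HahnSeries.coeff_add, Derivation.leibniz]
    congr 2
    simp only [smul_eq_mul]
    ring
  add f g h := by
    unfold Cc
    rw [← map_add, ← HahnSeries.coeff_add, map_add, mul_add]
  atX f := by
    unfold Cc
    have : LocRes.D F (single (1 : ℤ) (1 : F)) = 1 := by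
      rw [← PowerSeries.coe_X, LocRes.D_coe, PowerSeries.derivative_X, PowerSeries.coe_one]
    rw [this, mul_one]
  ps f g hf hg := by
    unfold Cc
    obtain ⟨G, rfl⟩ := (LaurentSeries.val_le_one_iff_eq_coe F g).mp ((isPS_iff_val g).mp hg)
    rw [LocRes.D_coe, isPS_mul hf (isPS_coe _) (-1) (by norm_num), map_zero]
  const f a := by
    unfold Cc
    rw [LocRes.D_apply, LocRes.derivative_C, mul_zero, HahnSeries.coeff_zero, map_zero]

theorem comm_central {V : Type*} [AddCommGroup V] [Module k V] {p f A : Module.End k V}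
    (hp : p * p = p) (hpA : p * A = A * p) (hfA : f * A = A * f) : comm p f A = 0 := by
  have hpa : ∀ x : Module.End k V, p * (p * x) = p * x := fun x => by rw [← mul_assoc, hp]
  have e1 : p * A * p = A * p := by rw [hpA, mul_assoc, hp]
  have e2 : (p * f * p) * (A * p) = A * (p * f * p) := by
    calc (p * f * p) * (A * p) = p * f * (p * A) * p := by simp only [mul_assoc]
      _ = p * f * (A * p) * p := by rw [hpA]
      _ = p * (f * A) * (p * p) := by simp only [mul_assoc]
      _ = p * (A * f) * p := by rw [hfA, hp]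
      _ = (p * A) * f * p := by simp only [mul_assoc]
      _ = A * (p * f * p) := by rw [hpA]; simp only [mul_assoc]
  have e3 : (A * p) * (p * f * p) = A * (p * f * p) := by
    simp only [mul_assoc, hpa]
  unfold TateRho.comm
  rw [e1, e2, e3, sub_self]

theorem ax_Rho : Ax (Rho (k := k) (F := F)) where
  deriv f g h := by
    unfold Rho
    rw [mulL_mul, mulL_mul, mulL_mul]
    exact tr_comm_deriv pL_idem (mulL_comm f g) (mulL_comm f h) (mulL_comm g h)
      (fr_u f) (fr_u g) (fr_u h)
  add f g h := by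
    unfold Rho
    rw [mulL_add]
    exact tr_comm_add_right (fr_comm pL_idem (mulL_comm f g) (fr_u f) (fr_u g))
      (fr_comm pL_idem (mulL_comm f h) (fr_u f) (fr_u h))
  atX f := by
    unfold Rho
    have e : comm (pL (k := k)) (mulL f) (mulL (single (1 : ℤ) (1 : F))) =
        (sgl (k := k) (F := F) (0 : ℤ)) ∘ₗ
          ((cf (k := k) (F := F) (-1 : ℤ)) ∘ₗ (mulL f * pL)) := by
      rw [comm_eq_of_commute pL_idem (mulL_comm _ _), u_of_isPS isPS_single_one, mul_zero,
        sub_zero, one_sub_pL]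
      ext1 h
      ext i
      simp only [Module.End.mul_apply, mulL_apply, LinearMap.comp_apply, sgl_apply, cf_apply]
      rw [coeff_pL, HahnSeries.coeff_single_mul, coeff_qL, one_mul]
      by_cases hi : i = 0
      · subst hi
        simp
      · rw [HahnSeries.coeff_single_of_ne hi]
        split_ifs with h1 h2
        · rfl
        · omega
        · rfl
    rw [e, tr_comp_eq, Algebra.trace_apply]
    congr 1
    ext c
    simp only [LinearMap.comp_apply, sgl_apply, cf_apply, Module.End.mul_apply, mulL_apply]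
    have hc : IsPS (single (0 : ℤ) c : F⸨X⸩) := isPS_C c
    rw [pL_of_isPS hc, HahnSeries.coeff_mul_single, sub_zero]
    rfl
  ps f g hf hg := by
    unfold Rho
    rw [comm_eq_zero_of_stable pL_idem (mulL_comm f g) (u_of_isPS hf) (u_of_isPS hg), tr_zero]
  const f a := by
    unfold Rho
    rw [comm_central pL_idem ?_ (mulL_comm _ _), tr_zero]
    ext1 h
    simp only [Module.End.mul_apply, mulL_apply]
    ext i
    rw [coeff_pL, HahnSeries.C_mul_eq_smul, HahnSeries.C_mul_eq_smul, HahnSeries.coeff_smul,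
      HahnSeries.coeff_smul, coeff_pL]
    split_ifs <;> simp

/-- **Local formula**: the commutator trace on Laurent series is the trace of the residue. -/
theorem rho_eq (f g : F⸨X⸩) :
    tr (comm (pL (k := k)) (mulL f) (mulL g)) =
      Algebra.trace k F ((f * LocRes.D F g).coeff (-1)) :=
  ax_Rho.ext ax_Cc f g

end Groth.Agent.Helper6.TateLoc
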