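import Groth.Agent.Helper6.TateTr

set_option autoImplicit false
set_option linter.style.haveILetI false

/-!
# Commutators of compressions and their traces (Tate's residue, abstractly)
-/

namespace Groth.Agent.Helper6.TateRho

open Groth.Agent.Helper6.TateTr

variable {k : Type*} [Field k] {V : Type*} [AddCommGroup V] [Module k V]

/-- the commutator of the compressions of `f` and `g` by `p` -/
def comm (p f g : Module.End k V) : Module.End k V :=
  (p * f * p) * (p * g * p) - (p * g * p) * (p * f * p)

theorem comm_eq {p f g : Module.End k V} (hp : p * p = p) :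
    comm p f g = p * g * ((1 - p) * f * p) - p * f * ((1 - p) * g * p) +
      p * (f * g - g * f) * p := by
  have hp' : ∀ x : Module.End k V, p * (p * x) = p * x := fun x => by rw [← mul_assoc, hp]
  unfold comm
  simp only [mul_sub, sub_mul, mul_one, one_mul, mul_assoc, hp, hp']
  abel

theorem comm_eq_of_commute {p f g : Module.End k V} (hp : p * p = p) (hfg : f * g = g * f) :
    comm p f g = p * g * ((1 - p) * f * p) - p * f * ((1 - p) * g * p) := by
  rw [comm_eq hp, hfg, sub_self, mul_zero, zero_mul, add_zero]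

theorem fr_comm {p f g : Module.End k V} (hp : p * p = p) (hfg : f * g = g * f)
    (hu : FR ((1 - p) * f * p)) (hv : FR ((1 - p) * g * p)) : FR (comm p f g) := by
  rw [comm_eq_of_commute hp hfg]
  exact (hu.mul_left _).sub (hv.mul_left _)

theorem comm_eq_zero_of_stable {p f g : Module.End k V} (hp : p * p = p) (hfg : f * g = g * f)
    (hu : (1 - p) * f * p = 0) (hv : (1 - p) * g * p = 0) : comm p f g = 0 := by
  rw [comm_eq_of_commute hp hfg, hu, hv, mul_zero, mul_zero, sub_self]

/-- `(1-p) (g h) p` in terms of the corresponding operators for `g` and `h` -/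
theorem u_mul (p g h : Module.End k V) :
    (1 - p) * (g * h) * p = ((1 - p) * g * p) * (h * p) + ((1 - p) * g) * ((1 - p) * h * p) := by
  noncomm_ring

theorem fr_u_mul {p g h : Module.End k V} (hv : FR ((1 - p) * g * p)) (hw : FR ((1 - p) * h * p)) :
    FR ((1 - p) * (g * h) * p) := by
  rw [u_mul]
  exact (hv.mul_right _).add (hw.mul_left _)

/-- perturbation of `p` by a finite-rank operator does not change the trace -/
theorem tr_comm_perturb {p q f g : Module.End k V} (hε : FR (q - p)) (hc : FR (comm p f g)) :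
    FR (comm q f g) ∧ tr (comm q f g) = tr (comm p f g) := by
  obtain ⟨ε, hε'⟩ : ∃ ε, ε = q - p := ⟨_, rfl⟩
  have hq : q = p + ε := by rw [hε']; abel
  rw [← hε'] at hε
  subst hq
  have hαf : FR (ε * f * p + p * f * ε + ε * f * ε) :=
    (((hε.mul_right f).mul_right p).add (hε.mul_left (p * f))).add ((hε.mul_right f).mul_right ε)
  have hαg : FR (ε * g * p + p * g * ε + ε * g * ε) :=
    (((hε.mul_right g).mul_right p).add (hε.mul_left (p * g))).add ((hε.mul_right g).mul_right ε)
  have e : comm (p + ε) f g = comm p f g +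
      ((((p * f * p) * (ε * g * p + p * g * ε + ε * g * ε) -
          (ε * g * p + p * g * ε + ε * g * ε) * (p * f * p)) +
        ((ε * f * p + p * f * ε + ε * f * ε) * (p * g * p) -
          (p * g * p) * (ε * f * p + p * f * ε + ε * f * ε))) +
        ((ε * f * p + p * f * ε + ε * f * ε) * (ε * g * p + p * g * ε + ε * g * ε) -
          (ε * g * p + p * g * ε + ε * g * ε) * (ε * f * p + p * f * ε + ε * f * ε))) := by
    unfold comm
    noncomm_ring
  have h1 : FR ((p * f * p) * (ε * g * p + p * g * ε + ε * g * ε) -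
          (ε * g * p + p * g * ε + ε * g * ε) * (p * f * p)) :=
    (hαg.mul_left _).sub (hαg.mul_right _)
  have h2 : FR ((ε * f * p + p * f * ε + ε * f * ε) * (p * g * p) -
          (p * g * p) * (ε * f * p + p * f * ε + ε * f * ε)) :=
    (hαf.mul_right _).sub (hαf.mul_left _)
  have h3 : FR ((ε * f * p + p * f * ε + ε * f * ε) * (ε * g * p + p * g * ε + ε * g * ε) -
          (ε * g * p + p * g * ε + ε * g * ε) * (ε * f * p + p * f * ε + ε * f * ε)) :=
    (hαf.mul_right _).sub (hαf.mul_left _)
  refine ⟨?_, ?_⟩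
  · rw [e]
    exact hc.add ((h1.add h2).add h3)
  · rw [e, tr_add hc ((h1.add h2).add h3), tr_add (h1.add h2) h3, tr_add h1 h2,
      tr_commutator hαg, tr_commutator' hαf, tr_commutator' hαf]
    ring

/-- the complementary idempotent gives the opposite trace -/
theorem tr_comm_compl {p f g : Module.End k V} (hp : p * p = p) (hfg : f * g = g * f)
    (hu : FR ((1 - p) * f * p)) (hv : FR ((1 - p) * g * p)) :
    FR (comm (1 - p) f g) ∧ tr (comm (1 - p) f g) = - tr (comm p f g) := by
  have hq : (1 - p) * (1 - p) = 1 - p := by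
    rw [mul_sub, sub_mul, sub_mul, hp]; simp
  have hq' : ∀ x : Module.End k V, (1 - p) * ((1 - p) * x) = (1 - p) * x := fun x => by
    rw [← mul_assoc, hq]
  have hp' : ∀ x : Module.End k V, p * (p * x) = p * x := fun x => by rw [← mul_assoc, hp]
  have h1p : (1 : Module.End k V) - (1 - p) = p := by abel
  have e : comm (1 - p) f g =
      ((1 - p) * g * p) * (p * f * (1 - p)) - ((1 - p) * f * p) * (p * g * (1 - p)) := by
    rw [comm_eq_of_commute hq hfg, h1p]
    simp only [mul_assoc, hp']
  have f1 : FR (((1 - p) * g * p) * (p * f * (1 - p))) := hv.mul_right _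
  have f2 : FR (((1 - p) * f * p) * (p * g * (1 - p))) := hu.mul_right _
  refine ⟨?_, ?_⟩
  · rw [e]; exact f1.sub f2
  · rw [e, tr_sub f1 f2, ← tr_mul_comm hv, ← tr_mul_comm hu, comm_eq_of_commute hp hfg,
      tr_sub (hu.mul_left _) (hv.mul_left _)]
    have e1 : (p * f * (1 - p)) * ((1 - p) * g * p) = p * f * ((1 - p) * g * p) := by
      simp only [mul_assoc, hq']
    have e2 : (p * g * (1 - p)) * ((1 - p) * f * p) = p * g * ((1 - p) * f * p) := by
      simp only [mul_assoc, hq']
    rw [e1, e2]
    ring

/-- independence of the choice of complement -/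
theorem tr_comm_indep {p p' f g : Module.End k V} (hp : p * p = p) (hp' : p' * p' = p')
    (h1 : p' * p = p) (h2 : p * p' = p') (hfg : f * g = g * f)
    (hu : FR ((1 - p) * f * p)) (hv : FR ((1 - p) * g * p)) :
    FR ((1 - p') * f * p') ∧ FR ((1 - p') * g * p') ∧ tr (comm p' f g) = tr (comm p f g) := by
  have hpa : ∀ x : Module.End k V, p * (p * x) = p * x := fun x => by rw [← mul_assoc, hp]
  have hpa' : ∀ x : Module.End k V, p' * (p' * x) = p' * x := fun x => by rw [← mul_assoc, hp']
  have h1a : ∀ x : Module.End k V, p' * (p * x) = p * x := fun x => by rw [← mul_assoc, h1]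
  have h2a : ∀ x : Module.End k V, p * (p' * x) = p' * x := fun x => by rw [← mul_assoc, h2]
  have hU : ∀ x : Module.End k V, (1 - p') * x * p' = (1 - p') * ((1 - p) * x * p) * p' := by
    intro x
    simp only [mul_sub, sub_mul, mul_one, one_mul, mul_assoc, hp, hpa, hp', hpa', h1, h1a, h2, h2a]
    abel
  have hX : ∀ x : Module.End k V, p' * x * p = p * x * p + (p' - p) * ((1 - p) * x * p) := by
    intro x
    simp only [mul_sub, sub_mul, mul_one, one_mul, mul_assoc, hp, hpa, hp', hpa', h1, h1a, h2, h2a]
    abel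
  have hnf : FR ((p' - p) * ((1 - p) * f * p)) := hu.mul_left _
  have hng : FR ((p' - p) * ((1 - p) * g * p)) := hv.mul_left _
  have hc := fr_comm hp hfg hu hv
  have e1 : comm p' f g = ((p' * f * p) * (p' * g * p) - (p' * g * p) * (p' * f * p)) * p' := by
    unfold comm
    simp only [sub_mul, mul_assoc, hp, hpa, hp', hpa', h1, h1a, h2, h2a]
  have e2 : p' * ((p' * f * p) * (p' * g * p) - (p' * g * p) * (p' * f * p)) =
      (p' * f * p) * (p' * g * p) - (p' * g * p) * (p' * f * p) := by
    simp only [mul_sub, mul_assoc, hp, hpa, hp', hpa', h1, h1a, h2, h2a]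
  have e3 : (p' * f * p) * (p' * g * p) - (p' * g * p) * (p' * f * p) = comm p f g +
      ((((p * f * p) * ((p' - p) * ((1 - p) * g * p)) -
          ((p' - p) * ((1 - p) * g * p)) * (p * f * p)) +
        (((p' - p) * ((1 - p) * f * p)) * (p * g * p) -
          (p * g * p) * ((p' - p) * ((1 - p) * f * p)))) +
        (((p' - p) * ((1 - p) * f * p)) * ((p' - p) * ((1 - p) * g * p)) -
          ((p' - p) * ((1 - p) * g * p)) * ((p' - p) * ((1 - p) * f * p)))) := by
    rw [hX f, hX g]
    unfold comm
    noncomm_ring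
  have g1 : FR ((p * f * p) * ((p' - p) * ((1 - p) * g * p)) -
          ((p' - p) * ((1 - p) * g * p)) * (p * f * p)) :=
    (hng.mul_left _).sub (hng.mul_right _)
  have g2 : FR (((p' - p) * ((1 - p) * f * p)) * (p * g * p) -
          (p * g * p) * ((p' - p) * ((1 - p) * f * p))) :=
    (hnf.mul_right _).sub (hnf.mul_left _)
  have g3 : FR (((p' - p) * ((1 - p) * f * p)) * ((p' - p) * ((1 - p) * g * p)) -
          ((p' - p) * ((1 - p) * g * p)) * ((p' - p) * ((1 - p) * f * p))) :=
    (hnf.mul_right _).sub (hnf.mul_left _)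
  have hY : FR ((p' * f * p) * (p' * g * p) - (p' * g * p) * (p' * f * p)) := by
    rw [e3]; exact hc.add ((g1.add g2).add g3)
  refine ⟨?_, ?_, ?_⟩
  · rw [hU f]; exact (hu.mul_left _).mul_right _
  · rw [hU g]; exact (hv.mul_left _).mul_right _
  · rw [e1, ← tr_mul_comm hY, e2, e3, tr_add hc ((g1.add g2).add g3), tr_add (g1.add g2) g3,
      tr_add g1 g2, tr_commutator hng, tr_commutator' hnf, tr_commutator' hnf]
    ring

/-- derivation identity -/
theorem tr_comm_deriv {p f g h : Module.End k V} (hp : p * p = p)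
    (hfg : f * g = g * f) (hfh : f * h = h * f) (hgh : g * h = h * g)
    (hu : FR ((1 - p) * f * p)) (hv : FR ((1 - p) * g * p)) (hw : FR ((1 - p) * h * p)) :
    tr (comm p f (g * h)) = tr (comm p (f * g) h) + tr (comm p (h * f) g) := by
  have hpa : ∀ x : Module.End k V, p * (p * x) = p * x := fun x => by rw [← mul_assoc, hp]
  have hM : ∀ x y : Module.End k V,
      p * (x * y) * p = (p * x * p) * (p * y * p) + p * x * ((1 - p) * y * p) := by
    intro x y
    simp only [mul_sub, sub_mul, mul_one, one_mul, mul_assoc, hp, hpa]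
    abel
  have c1 : (f * g) * h = h * (f * g) := by
    rw [mul_assoc, hgh, ← mul_assoc, hfh, mul_assoc]
  have c2 : (h * f) * g = g * (h * f) := by
    rw [mul_assoc, hfg, ← mul_assoc, ← hgh, mul_assoc]
  have c3 : f * (g * h) = (g * h) * f := by
    rw [← mul_assoc, hfg, mul_assoc, hfh, ← mul_assoc]
  have k1 : FR (comm p (f * g) h) := fr_comm hp c1 (fr_u_mul hu hv) hw
  have k2 : FR (comm p (h * f) g) := fr_comm hp c2 (fr_u_mul hw hu) hv
  have he1 : FR (p * g * ((1 - p) * h * p)) := hw.mul_left _
  have he2 : FR (p * f * ((1 - p) * g * p)) := hv.mul_left _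
  have he3 : FR (p * h * ((1 - p) * f * p)) := hu.mul_left _
  have e : comm p f (g * h) = (comm p (f * g) h + comm p (h * f) g) +
      ((((p * f * p) * (p * g * ((1 - p) * h * p)) - (p * g * ((1 - p) * h * p)) * (p * f * p)) -
        ((p * f * ((1 - p) * g * p)) * (p * h * p) - (p * h * p) * (p * f * ((1 - p) * g * p)))) -
        ((p * h * ((1 - p) * f * p)) * (p * g * p) - (p * g * p) * (p * h * ((1 - p) * f * p)))) := by
    unfold comm
    rw [hM g h, hM f g, hM h f]
    noncomm_ring
  have g1 : FR ((p * f * p) * (p * g * ((1 - p) * h * p)) -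
      (p * g * ((1 - p) * h * p)) * (p * f * p)) := (he1.mul_left _).sub (he1.mul_right _)
  have g2 : FR ((p * f * ((1 - p) * g * p)) * (p * h * p) -
      (p * h * p) * (p * f * ((1 - p) * g * p))) := (he2.mul_right _).sub (he2.mul_left _)
  have g3 : FR ((p * h * ((1 - p) * f * p)) * (p * g * p) -
      (p * g * p) * (p * h * ((1 - p) * f * p))) := (he3.mul_right _).sub (he3.mul_left _)
  rw [e, tr_add (k1.add k2) ((g1.sub g2).sub g3), tr_add k1 k2, tr_sub (g1.sub g2) g3,
    tr_sub g1 g2, tr_commutator he1, tr_commutator' he2, tr_commutator' he3]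
  ring

/-- additivity in the second variable -/
theorem tr_comm_add_right {p f g h : Module.End k V} (hc1 : FR (comm p f g))
    (hc2 : FR (comm p f h)) :
    tr (comm p f (g + h)) = tr (comm p f g) + tr (comm p f h) := by
  have : comm p f (g + h) = comm p f g + comm p f h := by
    unfold comm; noncomm_ring
  rw [this, tr_add hc1 hc2]

theorem tr_comm_add_left {p f g h : Module.End k V} (hc1 : FR (comm p f h))
    (hc2 : FR (comm p g h)) :
    tr (comm p (f + g) h) = tr (comm p f h) + tr (comm p g h) := by
  have : comm p (f + g) h = comm p f h + comm p g h := by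
    unfold comm; noncomm_ring
  rw [this, tr_add hc1 hc2]

theorem comm_one_right (p f : Module.End k V) (hp : p * p = p) : comm p f 1 = 0 := by
  have hpa : ∀ x : Module.End k V, p * (p * x) = p * x := fun x => by rw [← mul_assoc, hp]
  unfold comm
  simp only [mul_one, mul_assoc, hp, hpa, sub_self]

end Groth.Agent.Helper6.TateRho
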