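import Mathlib

set_option autoImplicit false
set_option linter.style.haveILetI false

/-!
# Traces of finite-rank endomorphisms (for Tate's residues)
-/

namespace Groth.Agent.Helper6.TateTr

open LinearMap

variable {k : Type*} [Field k]
variable {V : Type*} [AddCommGroup V] [Module k V]
variable {W : Type*} [AddCommGroup W] [Module k W]
variable {U : Type*} [AddCommGroup U] [Module k U]

/-- finite rank -/
def FR (θ : V →ₗ[k] W) : Prop := FiniteDimensional k (LinearMap.range θ)

theorem FR.of_le {θ : V →ₗ[k] W} (S : Submodule k W) [FiniteDimensional k S]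
    (h : LinearMap.range θ ≤ S) : FR θ :=
  Submodule.finiteDimensional_of_le h

theorem FR.comp_right {θ : V →ₗ[k] W} (h : FR θ) (φ : U →ₗ[k] V) : FR (θ ∘ₗ φ) := by
  haveI : FiniteDimensional k (LinearMap.range θ) := h
  exact FR.of_le (LinearMap.range θ) (LinearMap.range_comp_le_range φ θ)

theorem FR.comp_left {θ : V →ₗ[k] W} (h : FR θ) (φ : W →ₗ[k] U) : FR (φ ∘ₗ θ) := by
  haveI : FiniteDimensional k (LinearMap.range θ) := h
  unfold FR
  rw [LinearMap.range_comp]
  infer_instance

theorem FR.zero : FR (0 : V →ₗ[k] W) := by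
  unfold FR
  rw [LinearMap.range_zero]
  infer_instance

theorem FR.add {θ φ : V →ₗ[k] W} (h1 : FR θ) (h2 : FR φ) : FR (θ + φ) := by
  haveI : FiniteDimensional k (LinearMap.range θ) := h1
  haveI : FiniteDimensional k (LinearMap.range φ) := h2
  refine FR.of_le (LinearMap.range θ ⊔ LinearMap.range φ) ?_
  rintro _ ⟨x, rfl⟩
  exact Submodule.add_mem_sup (LinearMap.mem_range_self θ x) (LinearMap.mem_range_self φ x)

theorem FR.neg {θ : V →ₗ[k] W} (h : FR θ) : FR (-θ) := by
  have : -θ = (-LinearMap.id) ∘ₗ θ := by ext; simp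
  rw [this]
  exact h.comp_left _

theorem FR.sub {θ φ : V →ₗ[k] W} (h1 : FR θ) (h2 : FR φ) : FR (θ - φ) := by
  rw [sub_eq_add_neg]
  exact h1.add h2.neg

theorem FR.smul {θ : V →ₗ[k] W} (h : FR θ) (c : k) : FR (c • θ) := by
  have : c • θ = (c • LinearMap.id) ∘ₗ θ := by ext; simp
  rw [this]
  exact h.comp_left _

theorem FR.of_finiteDimensional [FiniteDimensional k V] (θ : V →ₗ[k] W) : FR θ := by
  unfold FR
  infer_instance

theorem FR.of_finiteDimensional' [FiniteDimensional k W] (θ : V →ₗ[k] W) : FR θ := by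
  unfold FR
  infer_instance

theorem FR.sum {ι : Type*} (s : Finset ι) (θ : ι → (V →ₗ[k] W)) (h : ∀ i ∈ s, FR (θ i)) :
    FR (∑ i ∈ s, θ i) := by
  classical
  induction s using Finset.induction_on with
  | empty => simpa using FR.zero
  | insert a s ha ih =>
    rw [Finset.sum_insert ha]
    exact (h a (Finset.mem_insert_self a s)).add
      (ih fun i hi => h i (Finset.mem_insert_of_mem hi))

theorem FR.mul_left {θ : Module.End k V} (h : FR θ) (φ : Module.End k V) : FR (φ * θ) :=
  h.comp_left φ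

theorem FR.mul_right {θ : Module.End k V} (h : FR θ) (φ : Module.End k V) : FR (θ * φ) :=
  h.comp_right φ

/-- The trace of a finite-rank endomorphism (junk `0` otherwise). -/
noncomputable def tr (θ : V →ₗ[k] V) : k :=
  LinearMap.trace k (LinearMap.range θ)
    (θ.restrict (p := LinearMap.range θ) (q := LinearMap.range θ)
      (fun x _ => LinearMap.mem_range_self θ x))

/-- fundamental lemma: trace through any factorisation over a finite-dimensional space -/
theorem tr_comp_eq [FiniteDimensional k W] (a : V →ₗ[k] W) (b : W →ₗ[k] V) :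
    tr (b ∘ₗ a) = LinearMap.trace k W (a ∘ₗ b) := by
  haveI : FiniteDimensional k (LinearMap.range (b ∘ₗ a)) :=
    (FR.of_finiteDimensional b).comp_right a
  have hβ : ∀ w : LinearMap.range a, (b ∘ₗ (LinearMap.range a).subtype) w ∈
      LinearMap.range (b ∘ₗ a) := by
    rintro ⟨_, ⟨v, rfl⟩⟩
    exact ⟨v, rfl⟩
  let α : LinearMap.range (b ∘ₗ a) →ₗ[k] LinearMap.range a :=
    a.rangeRestrict ∘ₗ (LinearMap.range (b ∘ₗ a)).subtype
  let β : LinearMap.range a →ₗ[k] LinearMap.range (b ∘ₗ a) :=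
    (b ∘ₗ (LinearMap.range a).subtype).codRestrict (LinearMap.range (b ∘ₗ a)) hβ
  have h1 : (b ∘ₗ a).restrict (p := LinearMap.range (b ∘ₗ a)) (q := LinearMap.range (b ∘ₗ a))
      (fun x _ => LinearMap.mem_range_self (b ∘ₗ a) x) = β ∘ₗ α := by
    ext x
    rfl
  have h2 : (a ∘ₗ b).restrict (p := LinearMap.range a) (q := LinearMap.range a)
      (fun x _ => LinearMap.mem_range_self a (b x)) = α ∘ₗ β := by
    ext x
    rfl
  unfold tr
  rw [h1, LinearMap.trace_comp_comm', ← h2]
  exact LinearMap.trace_restrict_eq_of_forall_mem (LinearMap.range a) (a ∘ₗ b)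
    (fun x => LinearMap.mem_range_self a (b x))

theorem tr_eq_of_range_le (θ : V →ₗ[k] V) (S : Submodule k V) [FiniteDimensional k S]
    (h : ∀ x, θ x ∈ S) :
    tr θ = LinearMap.trace k S (θ.restrict (p := S) (q := S) (fun x _ => h x)) := by
  have := tr_comp_eq (θ.codRestrict S h) S.subtype
  have e1 : S.subtype ∘ₗ θ.codRestrict S h = θ := by ext; rfl
  have e2 : θ.codRestrict S h ∘ₗ S.subtype = θ.restrict (p := S) (q := S) (fun x _ => h x) := by
    ext; rfl
  rw [e1, e2] at this
  exact this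

theorem tr_zero : tr (0 : V →ₗ[k] V) = 0 := by
  rw [tr_eq_of_range_le (0 : V →ₗ[k] V) ⊥ (fun x => by simp)]
  have : (0 : V →ₗ[k] V).restrict (p := (⊥ : Submodule k V)) (q := (⊥ : Submodule k V))
      (fun x _ => by simp) = 0 := Subsingleton.elim _ _
  rw [this, map_zero]

theorem tr_add {θ φ : V →ₗ[k] V} (h1 : FR θ) (h2 : FR φ) : tr (θ + φ) = tr θ + tr φ := by
  haveI : FiniteDimensional k (LinearMap.range θ) := h1
  haveI : FiniteDimensional k (LinearMap.range φ) := h2
  have hθ : ∀ x, θ x ∈ LinearMap.range θ ⊔ LinearMap.range φ :=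
    fun x => Submodule.mem_sup_left (LinearMap.mem_range_self θ x)
  have hφ : ∀ x, φ x ∈ LinearMap.range θ ⊔ LinearMap.range φ :=
    fun x => Submodule.mem_sup_right (LinearMap.mem_range_self φ x)
  rw [tr_eq_of_range_le θ _ hθ, tr_eq_of_range_le φ _ hφ,
    tr_eq_of_range_le (θ + φ) _ (fun x => Submodule.add_mem _ (hθ x) (hφ x)), ← map_add]
  congr 1

theorem tr_smul {θ : V →ₗ[k] V} (h : FR θ) (c : k) : tr (c • θ) = c * tr θ := by
  haveI : FiniteDimensional k (LinearMap.range θ) := h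
  have hθ : ∀ x, θ x ∈ LinearMap.range θ := fun x => LinearMap.mem_range_self θ x
  rw [tr_eq_of_range_le θ _ hθ,
    tr_eq_of_range_le (c • θ) _ (fun x => Submodule.smul_mem _ c (hθ x)), ← smul_eq_mul, ← map_smul]
  congr 1

theorem tr_neg {θ : V →ₗ[k] V} (h : FR θ) : tr (-θ) = - tr θ := by
  have : -θ = (-1 : k) • θ := by simp
  rw [this, tr_smul h]
  ring

theorem tr_sub {θ φ : V →ₗ[k] V} (h1 : FR θ) (h2 : FR φ) : tr (θ - φ) = tr θ - tr φ := by
  rw [sub_eq_add_neg, tr_add h1 h2.neg, tr_neg h2, sub_eq_add_neg]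

theorem tr_sum {ι : Type*} (s : Finset ι) (θ : ι → (V →ₗ[k] V)) (h : ∀ i ∈ s, FR (θ i)) :
    tr (∑ i ∈ s, θ i) = ∑ i ∈ s, tr (θ i) := by
  classical
  induction s using Finset.induction_on with
  | empty => simpa using tr_zero
  | insert a s ha ih =>
    rw [Finset.sum_insert ha, Finset.sum_insert ha,
      tr_add (h a (Finset.mem_insert_self a s))
        (FR.sum s θ fun i hi => h i (Finset.mem_insert_of_mem hi)),
      ih fun i hi => h i (Finset.mem_insert_of_mem hi)]

/-- cyclicity -/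
theorem tr_comm {θ : V →ₗ[k] W} (h : FR θ) (φ : W →ₗ[k] V) : tr (φ ∘ₗ θ) = tr (θ ∘ₗ φ) := by
  haveI : FiniteDimensional k (LinearMap.range θ) := h
  have e1 : φ ∘ₗ θ = (φ ∘ₗ (LinearMap.range θ).subtype) ∘ₗ θ.rangeRestrict := by ext; rfl
  have e2 : θ ∘ₗ φ = (LinearMap.range θ).subtype ∘ₗ (θ.rangeRestrict ∘ₗ φ) := by ext; rfl
  rw [e1, tr_comp_eq, e2, tr_comp_eq]
  rfl

theorem tr_mul_comm {θ : Module.End k V} (h : FR θ) (φ : Module.End k V) :
    tr (φ * θ) = tr (θ * φ) :=
  tr_comm h φ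

theorem tr_commutator {α : Module.End k V} (h : FR α) (X : Module.End k V) :
    tr (X * α - α * X) = 0 := by
  rw [tr_sub (h.mul_left X) (h.mul_right X), tr_mul_comm h X, sub_self]

theorem tr_commutator' {α : Module.End k V} (h : FR α) (X : Module.End k V) :
    tr (α * X - X * α) = 0 := by
  rw [tr_sub (h.mul_right X) (h.mul_left X), tr_mul_comm h X, sub_self]

end Groth.Agent.Helper6.TateTr
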