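import Mathlib
import Groth.Agent.Helper6.TenCxBdd
import Groth.Agent.Helper6.SubCx
import Groth.Agent.Helper6.SeqColimCx2
import Groth.Agent.Helper6.FiltTen

/-!
# Acyclicity of `L ⊗ K` when `L ⊗ K^k` is exact for every `k`
-/

set_option autoImplicit false
universe u
open CategoryTheory CategoryTheory.Limits MonoidalCategory

namespace Groth.Agent.Helper6.TenCx

variable {R : Type u} [CommRing R]

/-- key induction, with flatness replaced by the exactness hypothesis -/
theorem exists_d_eq' (L K : DRing.Cx R)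
    (hex : ∀ (k p : ℤ) (t : ↑(L.X p ⊗ K.X k)), (L.d p (p + 1) ▷ K.X k) t = 0 →
      ∃ w : ↑(L.X (p - 1) ⊗ K.X k), (L.d (p - 1) p ▷ K.X k) w = t)
    (b : ℤ) (hb : DRing.VanishesAbove K b) :
    ∀ (n : ℕ) (m : ℤ) (z : (L ⊗ K).X m), z ∈ F L K (b + 1 - n) m → (L ⊗ K).d m (m + 1) z = 0 →
      ∃ w : (L ⊗ K).X (m - 1), (L ⊗ K).d (m - 1) m w = z := by
  intro n
  induction n with
  | zero =>
    intro m z hz _
    rw [F_eq_bot L K b hb _ m (by simp)] at hz
    rw [(Submodule.mem_bot R).mp hz]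
    exact ⟨0, map_zero _⟩
  | succ n ih =>
    intro m z hz hdz
    set k : ℤ := b + 1 - (n + 1 : ℕ) with hk
    have hk1 : k + 1 = b + 1 - n := by rw [hk]; push_cast; ring
    obtain ⟨t, z₁, hz₁, rfl⟩ := decomp L K k m (m - k) (by omega) z hz
    -- the leading coefficient is a cycle
    have ht : (L.d (m - k) (m - k + 1) ▷ K.X k) t = 0 := by
      have h1 := congrArg (π L K (m - k + 1) k (m + 1) (by omega)) hdz
      rw [map_add, map_add, map_zero, ι_d_apply L K (m - k) k m (m + 1) (by omega) rfl, map_add,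
        π_ι_self, map_zsmul_unit, π_ι_ne L K _ _ _ _ _ _ _ (by omega), smul_zero, add_zero,
        π_eq_zero_of_mem_F L K k (m + 1) _ _ _ (d_mem_F L K (k + 1) m (m + 1) rfl z₁ hz₁),
        add_zero] at h1
      exact h1
    obtain ⟨w, hw⟩ : ∃ w : ↑(L.X (m - k - 1) ⊗ K.X k), (L.d (m - k - 1) (m - k) ▷ K.X k) w = t :=
      hex k (m - k) t ht
    -- correct `z`
    set y := ι L K (m - k - 1) k (m - 1) (by omega) w with hy
    have hdy : (L ⊗ K).d (m - 1) m y = ι L K (m - k) k m (by omega) t +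
        (m - k - 1).negOnePow • ι L K (m - k - 1) (k + 1) m (by omega)
          ((L.X (m - k - 1) ◁ K.d k (k + 1)) w) := by
      rw [hy, ι_d_apply' L K (m - k - 1) k (m - k) (k + 1) (m - 1) m (by omega) (by omega)
        (by omega) rfl, hw]
    set z' := z₁ - (m - k - 1).negOnePow • ι L K (m - k - 1) (k + 1) m (by omega)
          ((L.X (m - k - 1) ◁ K.d k (k + 1)) w) with hz'
    have hz'F : z' ∈ F L K (b + 1 - n) m := by
      rw [← hk1]
      refine Submodule.sub_mem _ hz₁ (Submodule.smul_of_tower_mem _ _ ?_)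
      exact ι_mem_F L K _ m _ _ _ le_rfl _
    have hsum : ι L K (m - k) k m (by omega) t + z₁ = (L ⊗ K).d (m - 1) m y + z' := by
      rw [hdy, hz']; abel
    have hdz' : (L ⊗ K).d m (m + 1) z' = 0 := by
      have h2 : (L ⊗ K).d m (m + 1) ((L ⊗ K).d (m - 1) m y) = 0 :=
        congrArg (fun f => f.hom y) ((L ⊗ K).d_comp_d (m - 1) m (m + 1))
      rw [hsum, map_add, h2, zero_add] at hdz
      exact hdz
    obtain ⟨w', hw'⟩ := ih m z' hz'F hdz'
    refine ⟨w' + y, ?_⟩
    rw [map_add, hw', hsum, add_comm]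

/-- `L ⊗ K` is acyclic when `K` is bounded above and every `L ⊗ K^k` is exact -/
theorem acyclic_of_boundedAbove (L K : DRing.Cx R)
    (hex : ∀ (k p : ℤ) (t : ↑(L.X p ⊗ K.X k)), (L.d p (p + 1) ▷ K.X k) t = 0 →
      ∃ w : ↑(L.X (p - 1) ⊗ K.X k), (L.d (p - 1) p ▷ K.X k) w = t)
    (b : ℤ) (hb : DRing.VanishesAbove K b) (m : ℤ) : IsZero ((L ⊗ K).homology m) := by
  rw [← HomologicalComplex.exactAt_iff_isZero_homology,
    Groth.Agent.Helper3.DRingLib.exactAt_iff_forall (L ⊗ K) (m - 1) m (m + 1) (by omega) rfl]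
  intro z hz
  obtain ⟨k, hk⟩ := exists_mem_F L K m z
  have h1 : z ∈ F L K (b + 1 - ((b + 1 - k).toNat : ℕ)) m := F_anti L K (by omega) m hk
  exact exists_d_eq' L K hex b hb _ m z h1 hz

end Groth.Agent.Helper6.TenCx

namespace Groth.Agent.Helper6.SubCx

variable {R : Type u} [CommRing R] (M : DRing.Cx R)

/-- the truncation tower exhausts `M` -/
noncomputable def isColimitCocone : IsColimit (cocone M) :=
  HomologicalComplex.isColimitOfEval _ _ (fun i => by
    haveI := SeqColim.preservesColimitsOfShape_nat_forget (R := R)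
    haveI : ReflectsColimit (tower M ⋙ HomologicalComplex.eval (ModuleCat.{u} R)
        (ComplexShape.up ℤ) i) (forget (ModuleCat.{u} R)) :=
      reflectsColimit_of_reflectsIsomorphisms _ _
    apply isColimitOfReflects (forget (ModuleCat.{u} R))
    apply Types.FilteredColimit.isColimitOf'
    · intro x
      obtain ⟨n, y, hy⟩ := cocone_surj M i x
      exact ⟨n, y, hy.symm⟩
    · intro n x y hxy
      refine ⟨n, 𝟙 n, ?_⟩
      rw [cocone_injective M n i hxy])

/-- `L ⊗ M` is acyclic for every `M` when every `L ⊗ N` (`N` a module) is exact -/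
theorem acyclic_tensor (L : DRing.Cx R)
    (hex : ∀ (N : ModuleCat.{u} R) (p : ℤ) (t : ↑(L.X p ⊗ N)), (L.d p (p + 1) ▷ N) t = 0 →
      ∃ w : ↑(L.X (p - 1) ⊗ N), (L.d (p - 1) p ▷ N) w = t)
    (m : ℤ) : IsZero ((L ⊗ M).homology m) := by
  haveI := SeqColim.preservesColimitsOfShape_nat_forget (R := R)
  exact FiltTen.acyclic_of_isColimit (tower M ⋙ tensorLeft L) ((tensorLeft L).mapCocone (cocone M))
    (FiltTen.isColimitTensorLeft L (tower M) (cocone M) (isColimitCocone M))
    (fun n i => TenCx.acyclic_of_boundedAbove L (tr M n) (fun k p t ht => hex _ p t ht) n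
      (tr_vanishesAbove M n) i) m

end Groth.Agent.Helper6.SubCx
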