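import Mathlib
import Groth.Prelude.Def_W4c1hilbpnTgt
import Groth.Agent.Helper7.HTd
import Groth.Agent.Helper6.TgtVanish

set_option autoImplicit false
set_option linter.style.haveILetI false
set_option linter.unusedSectionVars false

/-!
# Multigraded decomposition of `T(I) = Hom(I, S/I)` for a monomial ideal of finite colength
-/

namespace Groth.Agent.Helper6.TgtDecomp

open MvPolynomial W4c1hilbpn Groth.Agent.Helper7.HTa Groth.Agent.Helper7.HTb
  Groth.Agent.Helper7.HTc Groth.Agent.Helper7.HTd Groth.Agent.Helper6.TgtVanish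

variable {σ : Type*} {k : Type*} [Field k] [Fintype σ] [DecidableEq σ]
variable {I : Ideal (MvPolynomial σ k)}

open Classical in
/-- The degree-`α` coefficient function of an arbitrary `φ`. -/
noncomputable def fcomp (φ : Tgt I) (α : σ → ℤ) (v : region I α) : k :=
  if nn v.1 then co I α φ v else 0

theorem isAdm_fcomp (hI : IsMonomial I) (φ : Tgt I) (α : σ → ℤ) : IsAdm I α (fcomp φ α) where
  neg v hv := by
    unfold fcomp
    rw [if_neg hv]
  step v w i hw := by
    have hβ := bOf_mem I α v.2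
    have htr := tr_bOf I α v.2
    have hbw : bOf α w.1 = bOf α v.1 + Finsupp.single i 1 := by
      ext j
      have hj : v.1 j = (bOf α v.1 j : ℤ) + α j := (congrFun htr j).symm
      by_cases hji : j = i
      · subst hji
        simp only [bOf, toN_apply, hw, if_true, Finsupp.add_apply, Finsupp.single_eq_same]
        rw [hj]
        simp [bOf]
        omega
      · simp only [bOf, toN_apply, hw, if_neg hji, Finsupp.add_apply, add_zero,
          Finsupp.single_apply, if_neg (Ne.symm hji)]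
    have hφw : φ (mon I (bOf_mem I α w.2)) = (X i : MvPolynomial σ k) • φ (mon I hβ) := by
      rw [mon_congr I (bOf_mem I α w.2) hbw, mon_add_single I hβ i, map_smul]
    obtain ⟨p, hp⟩ := Ideal.Quotient.mk_surjective (φ (mon I hβ))
    have hXp : (X i : MvPolynomial σ k) • φ (mon I hβ) = Ideal.Quotient.mk I (X i * p) := by
      rw [← hp]
      rfl
    unfold fcomp
    by_cases hn : nn v.1
    · have hnw : nn w.1 := by
        intro j
        rw [hw]
        have := hn j
        beta_reduce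
        split_ifs <;> omega
      have hNw : toN w.1 = toN v.1 + Finsupp.single i 1 := by
        rw [hw]
        exact toN_add_single hn i
      rw [if_pos hn, if_pos hnw, co, co, hφw, hXp, ← hp,
        cf_mk hI (notMem_of_region_nn v.2 hn), cf_mk hI (notMem_of_region_nn w.2 hnw), hNw,
        add_comm, coeff_X_mul]
    · rw [if_neg hn]
      by_cases hnw : nn w.1
      · rw [if_pos hnw, co, hφw, hXp, cf_mk hI (notMem_of_region_nn w.2 hnw), coeff_X_mul',
          if_neg]
        rw [Finsupp.mem_support_iff, not_not, toN_apply]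
        unfold nn at hn
        push Not at hn
        obtain ⟨j, hj⟩ := hn
        have hwj := hnw j
        have hwi := hnw i
        rw [hw] at hwj hwi ⊢
        beta_reduce at hwj hwi ⊢
        by_cases hji : j = i
        · subst hji
          rw [if_pos rfl] at hwj ⊢
          have : v.1 j + 1 = 0 := by omega
          rw [this]
          rfl
        · rw [if_neg hji] at hwj
          omega
      · rw [if_neg hnw]

/-- The degree-`α` component of `φ`. -/
noncomputable def comp (hI : IsMonomial I) (φ : Tgt I) (α : σ → ℤ) : Tgt I :=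
  phiOf hI (isAdm_fcomp hI φ α)

theorem comp_mem (hI : IsMonomial I) (φ : Tgt I) (α : σ → ℤ) : comp hI φ α ∈ tPiece I α :=
  phiOf_mem hI _

theorem eq_zero_of_cf (hI : IsMonomial I) (z : MvPolynomial σ k ⧸ I)
    (h : ∀ γ, γ ∉ exps I → cf I γ z = 0) : z = 0 := by
  obtain ⟨p, rfl⟩ := Ideal.Quotient.mk_surjective z
  rw [Ideal.Quotient.eq_zero_iff_mem, ← support_sum_monomial_coeff p]
  refine Ideal.sum_mem _ (fun β hβ => ?_)
  have hβE : β ∈ exps I := by
    by_contra hne
    have h1 := h β hne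
    rw [cf_mk hI hne] at h1
    exact (mem_support_iff.mp hβ) h1
  have e : monomial β (coeff β p) = C (coeff β p) * monomial β 1 := by
    rw [C_mul_monomial, mul_one]
  rw [e]
  exact I.mul_mem_left _ hβE

theorem cf_tval (hI : IsMonomial I) {α : σ → ℤ} (f : region I α → k) (β γ : σ →₀ ℕ)
    (hγ : γ ∉ exps I) :
    cf I γ (tval I α f β) = if tr α β = toInt γ then ext0 I α f (tr α β) else 0 := by
  classical
  unfold tval
  by_cases he : tr α β = toInt γ
  · have hnn : nn (tr α β) := by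
      rw [he]
      intro i
      exact Int.natCast_nonneg _
    rw [if_pos he, if_pos hnn]
    have e2 : toN (tr α β) = γ := by rw [he, toN_toInt]
    rw [e2, cf_mk_monomial hI hγ]
  · rw [if_neg he]
    by_cases hnn : nn (tr α β)
    · rw [if_pos hnn, cf_mk hI hγ, coeff_monomial, if_neg]
      intro e2
      apply he
      rw [← toInt_toN hnn, e2]
    · rw [if_neg hnn, map_zero]

theorem sum_cf_comp (hI : IsMonomial I) (φ : Tgt I) {β γ : σ →₀ ℕ} (hβ : β ∈ exps I)
    (hγ : γ ∉ exps I) (F : Finset (σ → ℤ))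
    (hF : (fun i => (γ i : ℤ) - (β i : ℤ)) ∈ F) :
    ∑ α ∈ F, cf I γ (comp hI φ α (mon I hβ)) = cf I γ (φ (mon I hβ)) := by
  classical
  obtain ⟨α₀, hα₀⟩ : ∃ α₀ : σ → ℤ, α₀ = fun i => (γ i : ℤ) - (β i : ℤ) := ⟨_, rfl⟩
  rw [← hα₀] at hF
  have htr0 : tr α₀ β = toInt γ := by
    funext i
    simp only [tr, toInt, hα₀]
    ring
  rw [Finset.sum_eq_single_of_mem α₀ hF]
  · rw [comp, phiOf_mon, cf_tval hI _ _ _ hγ, if_pos htr0]
    have hreg : tr α₀ β ∈ region I α₀ := by
      refine ⟨⟨β, hβ, rfl⟩, fun h => hγ ?_⟩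
      have h2 := h.2
      rw [htr0] at h2
      have e3 : (Finsupp.equivFunOnFinite.symm fun i => (toInt γ i).toNat) = toN (toInt γ) := rfl
      rw [e3, toN_toInt] at h2
      exact h2
    rw [ext0_of_mem I α₀ _ hreg]
    have hnn : nn (tr α₀ β) := by
      rw [htr0]
      intro i
      exact Int.natCast_nonneg _
    unfold fcomp
    rw [if_pos hnn, co]
    have e4 : toN (tr α₀ β) = γ := by rw [htr0, toN_toInt]
    have e5 : bOf α₀ (tr α₀ β) = β := bOf_tr α₀ β
    rw [mon_congr I (bOf_mem I α₀ hreg) e5]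
    rw [e4]
  · intro α _ hne
    rw [comp, phiOf_mon, cf_tval hI _ _ _ hγ, if_neg]
    intro h
    apply hne
    funext i
    have h1 := congrFun h i
    simp only [tr, toInt] at h1
    rw [hα₀]
    show α i = (γ i : ℤ) - (β i : ℤ)
    omega

theorem exists_gens (hI : IsMonomial I) :
    ∃ G : Finset (σ →₀ ℕ), (∀ β ∈ G, β ∈ exps I) ∧
      Ideal.span ((fun β => monomial β (1 : k)) '' (G : Set (σ →₀ ℕ))) = I := by
  classical
  obtain ⟨s, hs⟩ := (IsNoetherian.noetherian I : I.FG)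
  have hsI : ∀ p ∈ s, p ∈ I := fun p hp => hs ▸ Submodule.subset_span hp
  refine ⟨s.biUnion (fun p => p.support), ?_, ?_⟩
  · intro β hβ
    rw [Finset.mem_biUnion] at hβ
    obtain ⟨p, hp, hβp⟩ := hβ
    exact hI p (hsI p hp) β hβp
  · apply le_antisymm
    · rw [Ideal.span_le]
      rintro _ ⟨β, hβ, rfl⟩
      rw [Finset.mem_coe, Finset.mem_biUnion] at hβ
      obtain ⟨p, hp, hβp⟩ := hβ
      exact hI p (hsI p hp) β hβp
    · rw [← hs]
      change Ideal.span (s : Set (MvPolynomial σ k)) ≤ _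
      rw [Ideal.span_le]
      intro p hp
      rw [SetLike.mem_coe, ← support_sum_monomial_coeff p]
      refine Ideal.sum_mem _ (fun β hβ => ?_)
      have e : monomial β (coeff β p) = C (coeff β p) * monomial β 1 := by
        rw [C_mul_monomial, mul_one]
      rw [e]
      apply Ideal.mul_mem_left
      apply Ideal.subset_span
      refine ⟨β, ?_, rfl⟩
      rw [Finset.mem_coe, Finset.mem_biUnion]
      exact ⟨p, hp, hβ⟩

theorem tgt_ext (G : Finset (σ →₀ ℕ)) (hG : ∀ β ∈ G, β ∈ exps I)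
    (hspan : Ideal.span ((fun β => monomial β (1 : k)) '' (G : Set (σ →₀ ℕ))) = I)
    (φ ψ : Tgt I) (h : ∀ β (hβ : β ∈ G), φ (mon I (hG β hβ)) = ψ (mon I (hG β hβ))) :
    φ = ψ := by
  have hle : Ideal.span ((fun β => monomial β (1 : k)) '' (G : Set (σ →₀ ℕ))) ≤ I := hspan.le
  have key : ∀ (p : MvPolynomial σ k)
      (hp : p ∈ Ideal.span ((fun β => monomial β (1 : k)) '' (G : Set (σ →₀ ℕ)))),
      φ ⟨p, hle hp⟩ = ψ ⟨p, hle hp⟩ := by
    intro p hp
    induction hp using Submodule.span_induction with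
    | mem p hp =>
      obtain ⟨β, hβ, rfl⟩ := hp
      exact h β hβ
    | zero =>
      have e : (⟨0, hle (Submodule.zero_mem _)⟩ : ↥I) = 0 := rfl
      rw [e, map_zero, map_zero]
    | add x y hx hy ihx ihy =>
      have e : (⟨x + y, hle (Submodule.add_mem _ hx hy)⟩ : ↥I) = ⟨x, hle hx⟩ + ⟨y, hle hy⟩ := rfl
      rw [e, map_add, map_add, ihx, ihy]
    | smul a x hx ihx =>
      have e : (⟨a • x, hle (Submodule.smul_mem _ a hx)⟩ : ↥I) = a • ⟨x, hle hx⟩ := rfl
      rw [e, map_smul, map_smul, ihx]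
  refine LinearMap.ext (fun x => ?_)
  have hx : x.1 ∈ Ideal.span ((fun β => monomial β (1 : k)) '' (G : Set (σ →₀ ℕ))) := by
    rw [hspan]
    exact x.2
  exact key x.1 hx

theorem mem_iSup_tPiece (hI : IsMonomial I) [Module.Finite k (MvPolynomial σ k ⧸ I)]
    (φ : Tgt I) : φ ∈ ⨆ α : σ → ℤ, tPiece I α := by
  classical
  obtain ⟨G, hG, hspan⟩ := exists_gens hI
  have hfin := Groth.Agent.Helper6.MonoIdeal.finite_compl_exps I hI
  obtain ⟨F, hF⟩ : ∃ F : Finset (σ → ℤ), ∀ β ∈ G, ∀ γ, γ ∉ exps I →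
      (fun i => (γ i : ℤ) - (β i : ℤ)) ∈ F := by
    refine ⟨Finset.image₂ (fun (β γ : σ →₀ ℕ) => fun i => (γ i : ℤ) - (β i : ℤ)) G hfin.toFinset,
      fun β hβ γ hγ => ?_⟩
    rw [Finset.mem_image₂]
    exact ⟨β, hβ, γ, hfin.mem_toFinset.mpr hγ, rfl⟩
  have key : φ = ∑ α ∈ F, comp hI φ α := by
    refine tgt_ext G hG hspan _ _ (fun β hβ => ?_)
    rw [← sub_eq_zero]
    apply eq_zero_of_cf hI
    intro γ hγ
    rw [map_sub, sub_eq_zero, LinearMap.sum_apply, map_sum]
    exact (sum_cf_comp hI φ (hG β hβ) hγ F (hF β hβ γ hγ)).symm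
  rw [key]
  exact Submodule.sum_mem _ (fun α _ => Submodule.mem_iSup_of_mem α (comp_mem hI φ α))

theorem main {n : ℕ} (hn : 2 ≤ n) (I : Ideal (MvPolynomial (Fin n) k)) (hI : IsMonomial I)
    [Module.Finite k (MvPolynomial (Fin n) k ⧸ I)] :
    (∀ α : Fin n → ℤ, ((∀ i, 0 ≤ α i) ∨ (∀ i, α i < 0)) → tPiece I α = ⊥) ∧
      (⨆ N : {N : Set (Fin n) // N.Nonempty ∧ N ≠ Set.univ}, sigPiece I N.1) = ⊤ := by
  have h12 : (⟨0, by omega⟩ : Fin n) ≠ ⟨1, by omega⟩ := by
    simp [Fin.ext_iff]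
  have hvan : ∀ α : Fin n → ℤ, ((∀ i, 0 ≤ α i) ∨ (∀ i, α i < 0)) → tPiece I α = ⊥ :=
    fun α h => h.elim (tPiece_eq_bot_of_nonneg hI) (fun h => tPiece_eq_bot_of_neg hI h h12)
  refine ⟨hvan, ?_⟩
  rw [eq_top_iff]
  intro φ _
  have hφ := mem_iSup_tPiece hI φ
  refine (iSup_le ?_ : (⨆ α : Fin n → ℤ, tPiece I α) ≤ _) hφ
  intro α
  by_cases h1 : ∀ i, 0 ≤ α i
  · rw [hvan α (Or.inl h1)]
    exact bot_le
  by_cases h2 : ∀ i, α i < 0
  · rw [hvan α (Or.inr h2)]
    exact bot_le
  have hN : ({i | α i < 0} : Set (Fin n)).Nonempty ∧ ({i | α i < 0} : Set (Fin n)) ≠ Set.univ := by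
    push Not at h1 h2
    obtain ⟨i, hi⟩ := h1
    obtain ⟨j, hj⟩ := h2
    refine ⟨⟨i, hi⟩, fun h => ?_⟩
    have hmem : j ∈ ({i | α i < 0} : Set (Fin n)) := h ▸ Set.mem_univ j
    exact absurd hmem (not_lt.mpr hj)
  refine le_trans ?_ (le_iSup (fun N : {N : Set (Fin n) // N.Nonempty ∧ N ≠ Set.univ} =>
    sigPiece I N.1) ⟨_, hN⟩)
  exact le_iSup (fun α' : {α' : Fin n → ℤ // ∀ i, α' i < 0 ↔ i ∈ ({i | α i < 0} : Set (Fin n))} =>
    tPiece I α'.1) ⟨α, fun i => Iff.rfl⟩

end Groth.Agent.Helper6.TgtDecomp
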