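import Mathlib
import Groth.Prelude.Def_W4c1hilbpnTgt
import Groth.Agent.Helper6.TgtVanish

set_option autoImplicit false
set_option linter.style.haveILetI false
set_option linter.unusedSectionVars false

/-!
# The graded pieces `tPiece (m^r) α` of the tangent space to a power of the maximal ideal
-/

namespace Groth.Agent.Helper6.TgtPow

open MvPolynomial W4c1hilbpn Groth.Agent.Helper7.HTa Groth.Agent.Helper7.HTb
  Groth.Agent.Helper7.HTc Groth.Agent.Helper7.HTd Groth.Agent.Helper6.TgtVanish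

variable {σ : Type*} {k : Type*} [Field k] [Fintype σ] [DecidableEq σ]

/-- the `r`-th power of the ideal of variables -/
noncomputable abbrev Mr (σ : Type*) (k : Type*) [Field k] (r : ℕ) : Ideal (MvPolynomial σ k) :=
  (Ideal.span (Set.range (MvPolynomial.X : σ → MvPolynomial σ k))) ^ r

omit [Fintype σ] [DecidableEq σ] in
theorem mem_exps_iff (r : ℕ) (β : σ →₀ ℕ) : β ∈ exps (Mr σ k r) ↔ r ≤ β.degree :=
  monomial_mem_pow_idealOfVars_iff r β one_ne_zero

omit [Fintype σ] [DecidableEq σ] in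
theorem isMonomial (r : ℕ) : IsMonomial (Mr σ k r) := by
  intro p hp β hβ
  have h1 := (mem_pow_idealOfVars_iff r p).mp hp β hβ
  exact (mem_exps_iff r β).mpr h1

theorem deg_toN {γ : σ → ℤ} (h : nn γ) : ((toN γ).degree : ℤ) = ∑ l, γ l := by
  rw [Finsupp.degree_eq_sum]
  push_cast
  refine Finset.sum_congr rfl fun l _ => ?_
  rw [toN_apply, Int.toNat_of_nonneg (h l)]

theorem mem_region_iff' (r : ℕ) (α γ : σ → ℤ) :
    γ ∈ region (Mr σ k r) α ↔ (∀ l, α l ≤ γ l) ∧ (r : ℤ) + ∑ l, α l ≤ ∑ l, γ l ∧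
      ¬ ((∀ l, 0 ≤ γ l) ∧ (r : ℤ) ≤ ∑ l, γ l) := by
  rw [Groth.Agent.Helper7.HTa.mem_region_iff]
  constructor
  · rintro ⟨⟨β, hβ, rfl⟩, h2⟩
    rw [mem_exps_iff] at hβ
    have hβ' : (r : ℤ) ≤ (β.degree : ℤ) := by exact_mod_cast hβ
    have hsum : ∑ l, tr α β l = (β.degree : ℤ) + ∑ l, α l := by
      simp only [tr]
      rw [Finset.sum_add_distrib, Finsupp.degree_eq_sum]
      push_cast
      rfl
    refine ⟨fun l => ?_, ?_, ?_⟩
    · have := Int.natCast_nonneg (β l)
      simp only [tr]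
      omega
    · rw [hsum]; omega
    · rintro ⟨hnn, hr⟩
      apply h2
      refine ⟨hnn, ?_⟩
      rw [mem_exps_iff]
      have h3 := deg_toN (γ := tr α β) hnn
      have h4 : (r : ℤ) ≤ ((toN (tr α β)).degree : ℤ) := by rw [h3]; exact hr
      exact_mod_cast h4
  · rintro ⟨h1, h2, h3⟩
    have hnn : nn (fun l => γ l - α l) := by
      intro l
      have := h1 l
      show 0 ≤ γ l - α l
      omega
    have hmem : γ ∈ region (Mr σ k r) α := by
      apply mem_region_of γ hnn
      · rw [mem_exps_iff]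
        have h4 := deg_toN hnn
        rw [Finset.sum_sub_distrib] at h4
        have h5 : (r : ℤ) ≤ ((toN fun l => γ l - α l).degree : ℤ) := by rw [h4]; omega
        exact_mod_cast h5
      · intro hnn' hE
        rw [mem_exps_iff] at hE
        apply h3
        refine ⟨hnn', ?_⟩
        rw [← deg_toN hnn']
        exact_mod_cast hE
    exact (Groth.Agent.Helper7.HTa.mem_region_iff _ _ _).mp hmem

theorem sum_stp (γ : σ → ℤ) (i : σ) : ∑ l, stp γ i l = ∑ l, γ l + 1 := by
  simp [stp, Finset.sum_add_distrib]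

/-- one step down -/
def dn1 (γ : σ → ℤ) (j : σ) : σ → ℤ := fun l => γ l - if l = j then 1 else 0

theorem stp_dn1 (γ : σ → ℤ) (j : σ) : stp (dn1 γ j) j = γ := by
  funext l
  simp only [stp, dn1]
  ring

theorem sum_dn1 (γ : σ → ℤ) (j : σ) : ∑ l, dn1 γ j l = ∑ l, γ l - 1 := by
  simp [dn1, Finset.sum_sub_distrib]

/-! ### Case `0 ≤ ∑ α` -/

theorem eq_bot_of_nonneg_sum (r : ℕ) (α : σ → ℤ) (hs : 0 ≤ ∑ l, α l) :
    tPiece (Mr σ k r) α = ⊥ := by
  rw [eq_bot_iff]
  intro φ hφ
  rw [Submodule.mem_bot]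
  refine eq_zero_of_co_eq_zero (isMonomial r) hφ fun v => ?_
  apply co_eq_zero_of_not_nn hφ
  intro hnn
  obtain ⟨h1, h2, h3⟩ := (mem_region_iff' r α v.1).mp v.2
  apply h3
  exact ⟨hnn, by omega⟩

/-! ### Case `∑ α ≤ -2` -/

theorem step_down (r : ℕ) (α : σ → ℤ) (hs : ∑ l, α l ≤ -2) {f : region (Mr σ k r) α → k}
    (hf : IsAdm (Mr σ k r) α f) {i j : σ} (hij : i ≠ j) (hj : α j < 0)
    (v : region (Mr σ k r) α) (hv : nn v.1) :
    ∃ w : region (Mr σ k r) α, f w = f v ∧ w.1 j = v.1 j - 1 ∧ ∀ l, l ≠ j → 0 ≤ w.1 l := by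
  obtain ⟨h1, h2, h3⟩ := (mem_region_iff' r α v.1).mp v.2
  have h4 : ∑ l, v.1 l < r := by
    by_contra hcon
    exact h3 ⟨hv, by omega⟩
  by_cases hA : ∑ l, v.1 l + 1 < r
  · have hu : stp v.1 i ∈ region (Mr σ k r) α := by
      rw [mem_region_iff']
      refine ⟨fun l => ?_, ?_, ?_⟩
      · have := h1 l
        simp only [stp]
        split_ifs <;> omega
      · rw [sum_stp]; omega
      · rintro ⟨-, h⟩
        rw [sum_stp] at h
        omega
    have hw : dn1 (stp v.1 i) j ∈ region (Mr σ k r) α := by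
      rw [mem_region_iff']
      refine ⟨fun l => ?_, ?_, ?_⟩
      · have := h1 l
        have := hv l
        simp only [dn1, stp]
        by_cases hl : l = j
        · subst hl
          rw [if_pos rfl, if_neg (Ne.symm hij)]
          omega
        · rw [if_neg hl]
          split_ifs <;> omega
      · rw [sum_dn1, sum_stp]; omega
      · rintro ⟨-, h⟩
        rw [sum_dn1, sum_stp] at h
        omega
    refine ⟨⟨_, hw⟩, ?_, ?_, ?_⟩
    · rw [hf.step v ⟨_, hu⟩ i rfl]
      exact hf.step ⟨_, hw⟩ ⟨_, hu⟩ j (stp_dn1 _ j).symm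
    · show (v.1 j + if j = i then 1 else 0) - (if j = j then 1 else 0) = v.1 j - 1
      rw [if_neg (Ne.symm hij), if_pos rfl]
      ring
    · intro l hl
      have := hv l
      simp only [dn1, stp, if_neg hl]
      split_ifs <;> omega
  · have hw : dn1 v.1 j ∈ region (Mr σ k r) α := by
      rw [mem_region_iff']
      refine ⟨fun l => ?_, ?_, ?_⟩
      · have := h1 l
        have := hv l
        simp only [dn1]
        by_cases hl : l = j
        · subst hl
          rw [if_pos rfl]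
          omega
        · rw [if_neg hl]
          omega
      · rw [sum_dn1]; omega
      · rintro ⟨-, h⟩
        rw [sum_dn1] at h
        omega
    refine ⟨⟨_, hw⟩, ?_, ?_, ?_⟩
    · exact hf.step ⟨_, hw⟩ v j (stp_dn1 _ j).symm
    · show v.1 j - (if j = j then 1 else 0) = v.1 j - 1
      rw [if_pos rfl]
    · intro l hl
      have := hv l
      simp only [dn1, if_neg hl]
      omega

theorem adm_eq_zero (r : ℕ) (α : σ → ℤ) (hs : ∑ l, α l ≤ -2) {f : region (Mr σ k r) α → k}
    (hf : IsAdm (Mr σ k r) α f) {i j : σ} (hij : i ≠ j) (hj : α j < 0) :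
    ∀ v, f v = 0 := by
  have key : ∀ m : ℕ, ∀ v : region (Mr σ k r) α, nn v.1 → v.1 j = (m : ℤ) → f v = 0 := by
    intro m
    induction m with
    | zero =>
      intro v hv hm
      obtain ⟨w, hfw, hwj, -⟩ := step_down r α hs hf hij hj v hv
      rw [← hfw]
      apply hf.neg
      intro hnn
      have := hnn j
      rw [hwj, hm] at this
      norm_num at this
    | succ m ih =>
      intro v hv hm
      obtain ⟨w, hfw, hwj, hwl⟩ := step_down r α hs hf hij hj v hv
      rw [← hfw]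
      refine ih w ?_ ?_
      · intro l
        by_cases hl : l = j
        · subst hl
          rw [hwj, hm]
          push_cast
          omega
        · exact hwl l hl
      · rw [hwj, hm]
        push_cast
        ring
  intro v
  by_cases hv : nn v.1
  · exact key (v.1 j).toNat v hv (Int.toNat_of_nonneg (hv j)).symm
  · exact hf.neg v hv

theorem eq_bot_of_sum_le (r : ℕ) (α : σ → ℤ) (hσ : ∀ j : σ, ∃ i, i ≠ j)
    (hs : ∑ l, α l ≤ -2) : tPiece (Mr σ k r) α = ⊥ := by
  obtain ⟨j, hj⟩ : ∃ j, α j < 0 := by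
    by_contra hcon
    push Not at hcon
    have := Finset.sum_nonneg (fun l (_ : l ∈ Finset.univ) => hcon l)
    omega
  obtain ⟨i, hij⟩ := hσ j
  rw [eq_bot_iff]
  intro φ hφ
  rw [Submodule.mem_bot]
  exact eq_zero_of_co_eq_zero (isMonomial r) hφ
    (adm_eq_zero r α hs (isAdm_co (isMonomial r) hφ) hij hj)

/-! ### Case `∑ α = -1` -/

/-- nonnegative points of the region -/
abbrev P (k : Type*) [Field k] (r : ℕ) (α : σ → ℤ) : Type _ :=
  {v : region (Mr σ k r) α // nn v.1}

/-- the comparison map -/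
noncomputable def Psi (r : ℕ) (α : σ → ℤ) : tPiece (Mr σ k r) α →ₗ[k] (P k r α → k) where
  toFun φ p := co (Mr σ k r) α φ.1 p.1
  map_add' φ ψ := by
    funext p
    change coL (Mr σ k r) α (φ.1 + ψ.1) p.1 =
      coL (Mr σ k r) α φ.1 p.1 + coL (Mr σ k r) α ψ.1 p.1
    rw [map_add]; rfl
  map_smul' a φ := by
    funext p
    change coL (Mr σ k r) α (a • φ.1) p.1 = a • coL (Mr σ k r) α φ.1 p.1
    rw [map_smul]; rfl

theorem Psi_injective (r : ℕ) (α : σ → ℤ) : Function.Injective (Psi (k := k) r α) := by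
  intro φ ψ h
  apply Subtype.ext
  refine eq_of_co_eq (isMonomial r) φ.2 ψ.2 fun v => ?_
  by_cases hv : nn v.1
  · exact congrFun h ⟨v, hv⟩
  · rw [co_eq_zero_of_not_nn φ.2 v hv, co_eq_zero_of_not_nn ψ.2 v hv]

open Classical in
/-- extension by zero of a function on the nonnegative points -/
noncomputable def fOf (r : ℕ) (α : σ → ℤ) (g : P k r α → k) (v : region (Mr σ k r) α) : k :=
  if h : nn v.1 then g ⟨v, h⟩ else 0

theorem isAdm_fOf (r : ℕ) (α : σ → ℤ) (hs : ∑ l, α l = -1) (g : P k r α → k) :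
    IsAdm (Mr σ k r) α (fOf r α g) where
  neg v hv := by rw [fOf, dif_neg hv]
  step v w i hw := by
    have hwn : ¬ nn w.1 := by
      intro hnn
      obtain ⟨h1, h2, h3⟩ := (mem_region_iff' r α v.1).mp v.2
      obtain ⟨h1', h2', h3'⟩ := (mem_region_iff' r α w.1).mp w.2
      apply h3'
      refine ⟨hnn, ?_⟩
      have : ∑ l, w.1 l = ∑ l, v.1 l + 1 := by
        rw [hw]
        exact sum_stp v.1 i
      omega
    have hvn : ¬ nn v.1 := by
      intro hnn
      apply hwn
      intro l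
      have := hnn l
      rw [hw]
      show 0 ≤ v.1 l + if l = i then 1 else 0
      split_ifs <;> omega
    rw [fOf, fOf, dif_neg hvn, dif_neg hwn]

theorem Psi_surjective (r : ℕ) (α : σ → ℤ) (hs : ∑ l, α l = -1) :
    Function.Surjective (Psi (k := k) r α) := by
  intro g
  have hf := isAdm_fOf r α hs g
  refine ⟨⟨phiOf (isMonomial r) hf, phiOf_mem (isMonomial r) hf⟩, ?_⟩
  funext p
  change co (Mr σ k r) α (phiOf (isMonomial r) hf) p.1 = g p
  rw [co_phiOf, fOf, dif_pos p.2]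

theorem finrank_of_equiv (r : ℕ) (α : σ → ℤ) (hs : ∑ l, α l = -1) {Q : Type*} [Fintype Q]
    (e : P k r α ≃ Q) :
    Module.finrank k ↥(tPiece (Mr σ k r) α) = Fintype.card Q := by
  have e1 : tPiece (Mr σ k r) α ≃ₗ[k] (P k r α → k) :=
    LinearEquiv.ofBijective (Psi r α) ⟨Psi_injective r α, Psi_surjective r α hs⟩
  have e2 : (P k r α → k) ≃ₗ[k] (Q → k) := LinearEquiv.funCongrLeft k k e.symm
  rw [(e1.trans e2).finrank_eq, Module.finrank_fintype_fun_eq_card]

theorem sum_toNat_sub (α : σ → ℤ) :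
    ∑ l, ((α l).toNat : ℤ) = ∑ l, α l + ((∑ l, (-α l).toNat : ℕ) : ℤ) := by
  push_cast
  rw [← Finset.sum_add_distrib]
  refine Finset.sum_congr rfl fun l _ => ?_
  omega

/-- the nonnegative points of the region correspond to exponent vectors of degree `r - A` -/
noncomputable def equivP (r : ℕ) (α : σ → ℤ) (hs : ∑ l, α l = -1) (d : ℕ)
    (hd : (d : ℤ) + ((∑ l, (-α l).toNat : ℕ) : ℤ) = r) :
    P k r α ≃ ↥((Finset.univ : Finset σ).finsuppAntidiag d) where
  toFun p := ⟨toN (fun l => p.1.1 l - ((α l).toNat : ℤ)), by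
    rw [Finset.mem_finsuppAntidiag]
    refine ⟨?_, Finset.subset_univ _⟩
    obtain ⟨h1, h2, h3⟩ := (mem_region_iff' r α p.1.1).mp p.1.2
    have hnn := p.2
    have h4 : ∑ l, p.1.1 l < r := by
      by_contra hcon
      exact h3 ⟨hnn, by omega⟩
    have hnn' : nn (fun l => p.1.1 l - ((α l).toNat : ℤ)) := by
      intro l
      have := h1 l
      have := hnn l
      show 0 ≤ p.1.1 l - ((α l).toNat : ℤ)
      omega
    have h5 := deg_toN hnn'
    rw [Finsupp.degree_eq_sum, Finset.sum_sub_distrib, sum_toNat_sub] at h5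
    have h6 : ∑ l, (toN fun l => p.1.1 l - ((α l).toNat : ℤ)) l = d := by omega
    exact h6⟩
  invFun δ := ⟨⟨fun l => (δ.1 l : ℤ) + ((α l).toNat : ℤ), by
      rw [mem_region_iff']
      have hδ : ∑ l, δ.1 l = d := (Finset.mem_finsuppAntidiag.mp δ.2).1
      have hδ' : ∑ l, (δ.1 l : ℤ) = (d : ℤ) := by exact_mod_cast hδ
      have hsum : ∑ l, ((δ.1 l : ℤ) + ((α l).toNat : ℤ)) =
          (d : ℤ) + (∑ l, α l + ((∑ l, (-α l).toNat : ℕ) : ℤ)) := by
        rw [Finset.sum_add_distrib, sum_toNat_sub, hδ']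
      refine ⟨fun l => ?_, ?_, ?_⟩
      · show α l ≤ (δ.1 l : ℤ) + ((α l).toNat : ℤ)
        omega
      · show (r : ℤ) + ∑ l, α l ≤ ∑ l, ((δ.1 l : ℤ) + ((α l).toNat : ℤ))
        rw [hsum]; omega
      · rintro ⟨-, h⟩
        have h' : (r : ℤ) ≤ ∑ l, ((δ.1 l : ℤ) + ((α l).toNat : ℤ)) := h
        rw [hsum] at h'
        omega⟩,
    fun l => by
      show 0 ≤ (δ.1 l : ℤ) + ((α l).toNat : ℤ)
      omega⟩
  left_inv p := by
    apply Subtype.ext
    apply Subtype.ext
    funext l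
    obtain ⟨h1, -, -⟩ := (mem_region_iff' r α p.1.1).mp p.1.2
    have := h1 l
    have := p.2 l
    show ((toN (fun l => p.1.1 l - ((α l).toNat : ℤ)) l : ℕ) : ℤ) + ((α l).toNat : ℤ) = p.1.1 l
    rw [toN_apply]
    omega
  right_inv δ := by
    apply Subtype.ext
    ext l
    show toN (fun l => ((δ.1 l : ℤ) + ((α l).toNat : ℤ)) - ((α l).toNat : ℤ)) l = δ.1 l
    rw [toN_apply]
    omega

theorem isEmpty_P (r : ℕ) (α : σ → ℤ) (hs : ∑ l, α l = -1)
    (hA : ¬ ∑ l, (-α l).toNat ≤ r) : IsEmpty (P k r α) := ⟨fun p => by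
  obtain ⟨h1, h2, h3⟩ := (mem_region_iff' r α p.1.1).mp p.1.2
  have hnn := p.2
  have h4 : ∑ l, p.1.1 l < r := by
    by_contra hcon
    exact h3 ⟨hnn, by omega⟩
  have h5 : ∑ l, ((α l).toNat : ℤ) ≤ ∑ l, p.1.1 l := Finset.sum_le_sum fun l _ => by
    have := h1 l
    have := hnn l
    omega
  rw [sum_toNat_sub] at h5
  omega⟩

theorem main (k : Type*) [Field k] (n : ℕ) (hn : 2 ≤ n) (r : ℕ) (α : Fin n → ℤ) :
    Module.finrank k ↥(tPiece ((Ideal.span (Set.range
      (MvPolynomial.X : Fin n → MvPolynomial (Fin n) k))) ^ r) α) =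
      if (∑ i, α i = -1 ∧ ∑ i, (-α i).toNat ≤ r)
        then Nat.choose (n + r - (∑ i, (-α i).toNat) - 1) (n - 1) else 0 := by
  have hσ : ∀ j : Fin n, ∃ i, i ≠ j := by
    intro j
    by_cases hj : j.val = 0
    · exact ⟨⟨1, by omega⟩, fun h => by rw [← h] at hj; simp at hj⟩
    · exact ⟨⟨0, by omega⟩, fun h => hj (by rw [← h])⟩
  rcases lt_trichotomy (∑ i, α i) (-1) with hs | hs | hs
  · rw [if_neg (fun h => by omega)]
    have hbot : tPiece (Mr (Fin n) k r) α = ⊥ := eq_bot_of_sum_le r α hσ (by omega)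
    rw [hbot]
    exact finrank_bot k _
  · by_cases hA : ∑ i, (-α i).toNat ≤ r
    · rw [if_pos ⟨hs, hA⟩]
      have h1 := finrank_of_equiv (k := k) r α hs (equivP r α hs (r - ∑ i, (-α i).toNat) (by omega))
      rw [h1, Fintype.card_coe, Finset.card_finsuppAntidiag_nat_eq_choose, Finset.card_univ,
        Fintype.card_fin]
      obtain ⟨A, hAdef⟩ : ∃ A, A = ∑ i, (-α i).toNat := ⟨_, rfl⟩
      rw [← hAdef] at hA ⊢
      have e1 : n + r - A - 1 = n + (r - A) - 1 := by omega
      rw [e1, ← Nat.choose_symm (by omega : r - A ≤ n + (r - A) - 1)]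
      congr 1
      omega
    · rw [if_neg (fun h => hA h.2)]
      haveI := isEmpty_P (k := k) r α hs hA
      have h1 := finrank_of_equiv (k := k) r α hs (Equiv.equivOfIsEmpty (P k r α) (Fin 0))
      rw [h1]
      simp
  · rw [if_neg (fun h => by omega)]
    have hbot : tPiece (Mr (Fin n) k r) α = ⊥ := eq_bot_of_nonneg_sum r α (by omega)
    rw [hbot]
    exact finrank_bot k _

end Groth.Agent.Helper6.TgtPow
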