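import Mathlib
import Groth.Prelude.Def_W4c1hilbpnTgt
import Groth.Agent.Helper6.TgtDecomp
import Groth.Agent.Helper6.TgtPow

set_option autoImplicit false
set_option linter.style.haveILetI false
set_option linter.unusedSectionVars false

/-!
# `T(m^r)` has a basis indexed by pairs of monomials of degrees `r - 1` and `r`

Consequently, the span of the graded pieces `tPiece (m^r) α` over all `α` satisfying a predicate `p`
has dimension the number of pairs `(γ, β)` with `|γ| + 1 = r = |β|` and `p (γ - β)`.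
-/

namespace Groth.Agent.Helper6.TgtPow2

open MvPolynomial W4c1hilbpn Groth.Agent.Helper7.HTa Groth.Agent.Helper7.HTb
  Groth.Agent.Helper7.HTc Groth.Agent.Helper7.HTd Groth.Agent.Helper6.TgtVanish
  Groth.Agent.Helper6.TgtDecomp Groth.Agent.Helper6.TgtPow

variable {σ : Type*} {k : Type*} [Field k] [Fintype σ] [DecidableEq σ]

section general

variable {I : Ideal (MvPolynomial σ k)}

open Classical in
/-- the coefficient of `x^γ` in `φ(x^β)` -/
noncomputable def evL (I : Ideal (MvPolynomial σ k)) (γ β : σ →₀ ℕ) : Tgt I →ₗ[k] k :=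
  if h : β ∈ exps I then
    { toFun := fun φ => cf I γ (φ (mon I h))
      map_add' := fun φ ψ => by rw [LinearMap.add_apply, map_add]
      map_smul' := fun c φ => by rw [LinearMap.smul_apply, map_smul]; rfl }
  else 0

theorem evL_apply (γ : σ →₀ ℕ) {β : σ →₀ ℕ} (h : β ∈ exps I) (φ : Tgt I) :
    evL I γ β φ = cf I γ (φ (mon I h)) := by
  rw [evL, dif_pos h]
  rfl

theorem evL_eq_zero_of_ne (hI : IsMonomial I) {α : σ → ℤ} {φ : Tgt I} (hφ : φ ∈ tPiece I α)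
    {γ β : σ →₀ ℕ} (hβ : β ∈ exps I) (hγ : γ ∉ exps I) (hne : toInt γ ≠ tr α β) :
    evL I γ β φ = 0 := by
  classical
  rw [evL_apply γ hβ]
  by_cases hnn : nn (tr α β)
  · obtain ⟨a, ha⟩ := exists_eq_of_nn hφ hβ hnn
    rw [ha, cf_mk hI hγ, coeff_monomial, if_neg]
    intro e
    apply hne
    rw [← e, toInt_toN hnn]
  · rw [eq_zero_of_not_nn hφ hβ hnn, map_zero]

theorem co_eq_evL (α : σ → ℤ) (φ : Tgt I) (v : region I α) :
    co I α φ v = evL I (toN v.1) (bOf α v.1) φ := by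
  rw [evL_apply _ (bOf_mem I α v.2)]
  rfl

theorem exists_decomp (hI : IsMonomial I) (hfin : {β : σ →₀ ℕ | β ∉ exps I}.Finite)
    (φ : Tgt I) : ∃ F : Finset (σ → ℤ), φ = ∑ α ∈ F, comp hI φ α := by
  classical
  obtain ⟨G, hG, hspan⟩ := exists_gens hI
  obtain ⟨F, hF⟩ : ∃ F : Finset (σ → ℤ), ∀ β ∈ G, ∀ γ, γ ∉ exps I →
      (fun i => (γ i : ℤ) - (β i : ℤ)) ∈ F := by
    refine ⟨Finset.image₂ (fun (β γ : σ →₀ ℕ) => fun i => (γ i : ℤ) - (β i : ℤ)) G hfin.toFinset,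
      fun β hβ γ hγ => ?_⟩
    rw [Finset.mem_image₂]
    exact ⟨β, hβ, γ, hfin.mem_toFinset.mpr hγ, rfl⟩
  refine ⟨F, ?_⟩
  refine tgt_ext G hG hspan _ _ (fun β hβ => ?_)
  rw [← sub_eq_zero]
  apply eq_zero_of_cf hI
  intro γ hγ
  rw [map_sub, sub_eq_zero, LinearMap.sum_apply, map_sum]
  exact (sum_cf_comp hI φ (hG β hβ) hγ F (hF β hβ γ hγ)).symm

end general

section pow

variable (r : ℕ)

theorem finite_compl : {β : σ →₀ ℕ | β ∉ exps (Mr σ k r)}.Finite := by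
  refine (Finsupp.finite_of_degree_lt r).subset ?_
  intro β hβ
  have h1 : ¬ r ≤ β.degree := fun h => hβ ((mem_exps_iff r β).mpr h)
  exact not_le.mp h1

/-- exponent vectors of degree `d` -/
noncomputable def Bs (σ : Type*) [Fintype σ] [DecidableEq σ] (d : ℕ) : Finset (σ →₀ ℕ) :=
  (Finset.univ : Finset σ).finsuppAntidiag d

theorem mem_Bs {d : ℕ} {β : σ →₀ ℕ} : β ∈ Bs σ d ↔ β.degree = d := by
  rw [Bs, Finset.mem_finsuppAntidiag, Finsupp.degree_eq_sum]
  exact ⟨fun h => h.1, fun h => ⟨h, Finset.subset_univ _⟩⟩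

/-- pairs `(γ, β)` with `|γ| + 1 = r = |β|` -/
noncomputable def T (σ : Type*) [Fintype σ] [DecidableEq σ] (r : ℕ) :
    Finset ((σ →₀ ℕ) × (σ →₀ ℕ)) :=
  ((Bs σ (r - 1)) ×ˢ (Bs σ r)).filter (fun t => t.1.degree + 1 = r)

theorem mem_T {r : ℕ} {t : (σ →₀ ℕ) × (σ →₀ ℕ)} :
    t ∈ T σ r ↔ t.1.degree + 1 = r ∧ t.2.degree = r := by
  rw [T, Finset.mem_filter, Finset.mem_product, mem_Bs, mem_Bs]
  constructor
  · rintro ⟨⟨_, h2⟩, h3⟩
    exact ⟨h3, h2⟩
  · rintro ⟨h1, h2⟩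
    exact ⟨⟨by omega, h2⟩, h1⟩

/-- the multidegree of a pair -/
def dif (t : (σ →₀ ℕ) × (σ →₀ ℕ)) : σ → ℤ := fun l => (t.1 l : ℤ) - (t.2 l : ℤ)

theorem tr_dif (t : (σ →₀ ℕ) × (σ →₀ ℕ)) : tr (dif t) t.2 = toInt t.1 := by
  funext l
  simp only [tr, dif, toInt]
  ring

theorem sum_toInt (γ : σ →₀ ℕ) : ∑ l, toInt γ l = (γ.degree : ℤ) := by
  rw [Finsupp.degree_eq_sum]
  push_cast
  rfl

theorem sum_dif (t : (σ →₀ ℕ) × (σ →₀ ℕ)) :
    ∑ l, dif t l = (t.1.degree : ℤ) - (t.2.degree : ℤ) := by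
  simp only [dif]
  rw [Finset.sum_sub_distrib, Finsupp.degree_eq_sum, Finsupp.degree_eq_sum]
  push_cast
  rfl

theorem sum_dif_of_mem {r : ℕ} {t : (σ →₀ ℕ) × (σ →₀ ℕ)} (ht : t ∈ T σ r) :
    ∑ l, dif t l = -1 := by
  rw [sum_dif]
  obtain ⟨h1, h2⟩ := mem_T.mp ht
  omega

theorem nn_toInt (γ : σ →₀ ℕ) : nn (toInt γ) := fun _ => Int.natCast_nonneg _

theorem mem_region_of_T {r : ℕ} {t : (σ →₀ ℕ) × (σ →₀ ℕ)} (ht : t ∈ T σ r) :
    toInt t.1 ∈ region (Mr σ k r) (dif t) := by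
  rw [mem_region_iff']
  obtain ⟨h1, h2⟩ := mem_T.mp ht
  have h3 := sum_dif t
  have h4 := sum_toInt t.1
  refine ⟨fun l => ?_, ?_, ?_⟩
  · have := Int.natCast_nonneg (t.2 l)
    simp only [dif, toInt]
    omega
  · omega
  · rintro ⟨-, h⟩
    omega

theorem notMem_exps_of_T {r : ℕ} {t : (σ →₀ ℕ) × (σ →₀ ℕ)} (ht : t ∈ T σ r) :
    t.1 ∉ exps (Mr σ k r) := by
  rw [mem_exps_iff]
  have := (mem_T.mp ht).1
  omega

theorem mem_exps_of_T {r : ℕ} {t : (σ →₀ ℕ) × (σ →₀ ℕ)} (ht : t ∈ T σ r) :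
    t.2 ∈ exps (Mr σ k r) := by
  rw [mem_exps_iff]
  exact (mem_T.mp ht).2.ge

theorem mem_T_of_region {r : ℕ} {α : σ → ℤ} (hs : ∑ l, α l = -1)
    (v : region (Mr σ k r) α) (hv : nn v.1) : (toN v.1, bOf α v.1) ∈ T σ r := by
  obtain ⟨h1, h2, h3⟩ := (mem_region_iff' r α v.1).mp v.2
  have h4 : ∑ l, v.1 l < r := by
    by_contra hcon
    exact h3 ⟨hv, by omega⟩
  rw [mem_T]
  have h5 := deg_toN hv
  have hnn : nn (fun l => v.1 l - α l) := by
    intro l
    have := h1 l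
    show 0 ≤ v.1 l - α l
    omega
  have h6 := deg_toN hnn
  rw [Finset.sum_sub_distrib] at h6
  constructor
  · show (toN v.1).degree + 1 = r
    omega
  · show (toN fun l => v.1 l - α l).degree = r
    omega

theorem dif_of_region {r : ℕ} {α : σ → ℤ} (v : region (Mr σ k r) α) (hv : nn v.1) :
    dif (toN v.1, bOf α v.1) = α := by
  funext l
  have h1 := congrFun (tr_bOf (Mr σ k r) α v.2) l
  have h2 := congrFun (toInt_toN hv) l
  simp only [tr, toInt] at h1 h2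
  simp only [dif]
  omega

theorem comp_eq_zero (hσ : ∀ j : σ, ∃ i, i ≠ j) (φ : Tgt (Mr σ k r))
    (h0 : ∀ t ∈ T σ r, evL (Mr σ k r) t.1 t.2 φ = 0) (α : σ → ℤ) :
    comp (isMonomial r) φ α = 0 := by
  rcases lt_trichotomy (∑ l, α l) (-1) with hs | hs | hs
  · have h1 := comp_mem (isMonomial r) φ α
    rw [eq_bot_of_sum_le r α hσ (by omega)] at h1
    exact (Submodule.mem_bot k).mp h1
  · refine eq_zero_of_co_eq_zero (isMonomial r) (comp_mem _ φ α) (fun v => ?_)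
    change co _ α (phiOf (isMonomial r) (isAdm_fcomp (isMonomial r) φ α)) v = 0
    rw [co_phiOf]
    unfold fcomp
    by_cases hv : nn v.1
    · rw [if_pos hv]
      have h2 := co_eq_evL α φ v
      have h3 := h0 _ (mem_T_of_region hs v hv)
      rw [h2]
      exact h3
    · rw [if_neg hv]
  · have h1 := comp_mem (isMonomial r) φ α
    rw [eq_bot_of_nonneg_sum r α (by omega)] at h1
    exact (Submodule.mem_bot k).mp h1

theorem eq_zero_of_evL (hσ : ∀ j : σ, ∃ i, i ≠ j) (φ : Tgt (Mr σ k r))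
    (h0 : ∀ t ∈ T σ r, evL (Mr σ k r) t.1 t.2 φ = 0) : φ = 0 := by
  obtain ⟨F, hF⟩ := exists_decomp (isMonomial r) (finite_compl r) φ
  rw [hF]
  exact Finset.sum_eq_zero fun α _ => comp_eq_zero r hσ φ h0 α

theorem iSup_eq_top : (⨆ α : {_α : σ → ℤ // True}, tPiece (Mr σ k r) α.1) = ⊤ := by
  rw [eq_top_iff]
  intro φ _
  obtain ⟨F, hF⟩ := exists_decomp (isMonomial r) (finite_compl r) φ
  rw [hF]
  exact Submodule.sum_mem _ (fun α _ => Submodule.mem_iSup_of_mem ⟨α, trivial⟩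
    (comp_mem (isMonomial r) φ α))

theorem evL_eq_zero_of_mem_iSup (p : (σ → ℤ) → Prop) {φ : Tgt (Mr σ k r)}
    (hφ : φ ∈ ⨆ α : {α : σ → ℤ // p α}, tPiece (Mr σ k r) α.1)
    {t : (σ →₀ ℕ) × (σ →₀ ℕ)} (ht : t ∈ T σ r) (hp : ¬ p (dif t)) :
    evL (Mr σ k r) t.1 t.2 φ = 0 := by
  refine Submodule.iSup_induction _ (motive := fun φ => evL (Mr σ k r) t.1 t.2 φ = 0) hφ
    (fun α x hx => ?_) (map_zero _) (fun x y hx hy => ?_)
  · refine evL_eq_zero_of_ne (isMonomial r) hx (mem_exps_of_T ht) (notMem_exps_of_T ht) ?_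
    intro e
    apply hp
    have : dif t = α.1 := by
      funext l
      have h1 := congrFun e l
      simp only [tr, toInt] at h1
      simp only [dif]
      omega
    rw [this]
    exact α.2
  · rw [map_add, hx, hy, add_zero]

theorem exists_dual {t : (σ →₀ ℕ) × (σ →₀ ℕ)} (ht : t ∈ T σ r) :
    ∃ E ∈ tPiece (Mr σ k r) (dif t), ∀ t' ∈ T σ r,
      evL (Mr σ k r) t'.1 t'.2 E = if t' = t then 1 else 0 := by
  classical
  have hs := sum_dif_of_mem ht
  obtain ⟨pt, hpt⟩ : ∃ pt : P k r (dif t), pt = ⟨⟨toInt t.1, mem_region_of_T ht⟩, nn_toInt t.1⟩ :=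
    ⟨_, rfl⟩
  obtain ⟨E, hE⟩ := Psi_surjective (k := k) r (dif t) hs (fun p => if p = pt then 1 else 0)
  refine ⟨E.1, E.2, fun t' ht' => ?_⟩
  by_cases hd : dif t' = dif t
  · have hv' : toInt t'.1 ∈ region (Mr σ k r) (dif t) := hd ▸ mem_region_of_T ht'
    have h1 : co (Mr σ k r) (dif t) E.1 ⟨toInt t'.1, hv'⟩ =
        if (⟨⟨toInt t'.1, hv'⟩, nn_toInt t'.1⟩ : P k r (dif t)) = pt then 1 else 0 :=
      congrFun hE ⟨⟨toInt t'.1, hv'⟩, nn_toInt t'.1⟩
    rw [co_eq_evL] at h1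
    have e1 : toN (toInt t'.1) = t'.1 := toN_toInt _
    have e2 : bOf (dif t) (toInt t'.1) = t'.2 := by
      rw [← tr_dif t', hd]
      exact bOf_tr _ _
    simp only [e1, e2] at h1
    rw [h1]
    have hiff : ((⟨⟨toInt t'.1, hv'⟩, nn_toInt t'.1⟩ : P k r (dif t)) = pt) ↔ t' = t := by
      rw [hpt]
      constructor
      · intro h
        have h2 : toInt t'.1 = toInt t.1 := congrArg (fun p : P k r (dif t) => p.1.1) h
        have h3 : t'.1 = t.1 := by
          rw [← toN_toInt t'.1, h2, toN_toInt]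
        have h4 : t'.2 = t.2 := by
          ext l
          have h5 := congrFun hd l
          have h6 := DFunLike.congr_fun h3 l
          simp only [dif] at h5
          omega
        exact Prod.ext h3 h4
      · intro h
        subst h
        rfl
    by_cases htt : t' = t
    · rw [if_pos htt, if_pos (hiff.mpr htt)]
    · rw [if_neg htt, if_neg (fun h => htt (hiff.mp h))]
  · have htt : t' ≠ t := fun h => hd (by rw [h])
    rw [if_neg htt]
    refine evL_eq_zero_of_ne (isMonomial r) E.2 (mem_exps_of_T ht') (notMem_exps_of_T ht') ?_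
    intro e
    apply hd
    funext l
    have h1 := congrFun e l
    simp only [tr, toInt] at h1
    simp only [dif] at h1 ⊢
    omega

theorem finrank_iSup (hσ : ∀ j : σ, ∃ i, i ≠ j) (p : (σ → ℤ) → Prop) [DecidablePred p] :
    Module.finrank k ↥(⨆ α : {α : σ → ℤ // p α}, tPiece (Mr σ k r) α.1) =
      ((T σ r).filter (fun t => p (dif t))).card := by
  classical
  obtain ⟨W, hW⟩ : ∃ W : Submodule k (Tgt (Mr σ k r)),
      W = ⨆ α : {α : σ → ℤ // p α}, tPiece (Mr σ k r) α.1 := ⟨_, rfl⟩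
  rw [← hW]
  obtain ⟨TA, hTA⟩ : ∃ TA : Finset ((σ →₀ ℕ) × (σ →₀ ℕ)),
      TA = (T σ r).filter (fun t => p (dif t)) := ⟨_, rfl⟩
  rw [← hTA]
  have hmemTA : ∀ t, t ∈ TA ↔ t ∈ T σ r ∧ p (dif t) := by
    intro t
    rw [hTA, Finset.mem_filter]
  let Λ : W →ₗ[k] (↥TA → k) :=
    LinearMap.pi (fun t => (evL (Mr σ k r) t.1.1 t.1.2) ∘ₗ W.subtype)
  have hΛ : ∀ (x : W) (t : ↥TA), Λ x t = evL (Mr σ k r) t.1.1 t.1.2 x.1 := fun _ _ => rfl
  have hinj : Function.Injective Λ := by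
    rw [injective_iff_map_eq_zero]
    intro x hx
    apply Subtype.ext
    refine eq_zero_of_evL r hσ x.1 (fun t ht => ?_)
    by_cases hp : p (dif t)
    · have h1 := congrFun hx ⟨t, (hmemTA t).mpr ⟨ht, hp⟩⟩
      rw [hΛ] at h1
      exact h1
    · exact evL_eq_zero_of_mem_iSup r p (hW ▸ x.2) ht hp
  have hsurj : Function.Surjective Λ := by
    intro g
    have hex : ∀ t : ↥TA, ∃ E ∈ tPiece (Mr σ k r) (dif t.1), ∀ t' ∈ T σ r,
        evL (Mr σ k r) t'.1 t'.2 E = if t' = t.1 then 1 else 0 :=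
      fun t => exists_dual r ((hmemTA t.1).mp t.2).1
    choose E hE1 hE2 using hex
    have hmem : ∑ t : ↥TA, g t • E t ∈ W := by
      refine Submodule.sum_mem _ (fun t _ => Submodule.smul_mem _ _ ?_)
      rw [hW]
      exact Submodule.mem_iSup_of_mem ⟨dif t.1, ((hmemTA t.1).mp t.2).2⟩ (hE1 t)
    refine ⟨⟨_, hmem⟩, ?_⟩
    funext t'
    rw [hΛ]
    show evL (Mr σ k r) t'.1.1 t'.1.2 (∑ t : ↥TA, g t • E t) = g t'
    rw [map_sum, Finset.sum_eq_single t']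
    · rw [map_smul, hE2 t' t'.1 ((hmemTA t'.1).mp t'.2).1, if_pos rfl, smul_eq_mul, mul_one]
    · intro t _ hne
      rw [map_smul, hE2 t t'.1 ((hmemTA t'.1).mp t'.2).1, if_neg, smul_zero]
      intro h
      exact hne (Subtype.ext h).symm
    · intro h
      exact absurd (Finset.mem_univ t') h
  have e : W ≃ₗ[k] (↥TA → k) := LinearEquiv.ofBijective Λ ⟨hinj, hsurj⟩
  rw [e.finrank_eq, Module.finrank_fintype_fun_eq_card, Fintype.card_coe]

end pow

end Groth.Agent.Helper6.TgtPow2
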