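import Mathlib
import Groth.Prelude.Def_W4c1hilbpnTgt
import Groth.Agent.Helper6.TgtPow2

set_option autoImplicit false
set_option linter.style.haveILetI false
set_option linter.unusedSectionVars false

/-!
# Dimensions of the sign-pattern pieces of `T(m^r)` in three variables
-/

namespace Groth.Agent.Helper6.TgtPow3

open MvPolynomial W4c1hilbpn Groth.Agent.Helper7.HTa Groth.Agent.Helper6.TgtPow
  Groth.Agent.Helper6.TgtPow2

/-- `(i, j₁, j₂)` is an enumeration of `Fin 3` -/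
structure IsEnum (i j₁ j₂ : Fin 3) : Prop where
  ne1 : j₁ ≠ i
  ne2 : j₂ ≠ i
  ne3 : j₂ ≠ j₁
  cases : ∀ l : Fin 3, l = i ∨ l = j₁ ∨ l = j₂
  sum : ∀ f : Fin 3 → ℕ, ∑ l, f l = f i + f j₁ + f j₂

theorem isEnum_012 : IsEnum 0 1 2 :=
  ⟨by decide, by decide, by decide, by decide, fun f => by rw [Fin.sum_univ_three]⟩

theorem isEnum_102 : IsEnum 1 0 2 :=
  ⟨by decide, by decide, by decide, by decide, fun f => by rw [Fin.sum_univ_three]; ring⟩

theorem isEnum_201 : IsEnum 2 0 1 :=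
  ⟨by decide, by decide, by decide, by decide, fun f => by rw [Fin.sum_univ_three]; ring⟩

section count

variable {i j₁ j₂ : Fin 3}

/-- an exponent vector with prescribed values -/
noncomputable def mk3 (i j₁ : Fin 3) (a b c : ℕ) : Fin 3 →₀ ℕ :=
  Finsupp.equivFunOnFinite.symm (fun l => if l = i then a else if l = j₁ then b else c)

theorem mk3_i (a b c : ℕ) : mk3 i j₁ a b c i = a := by
  show (if i = i then a else if i = j₁ then b else c) = a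
  rw [if_pos rfl]

theorem mk3_j₁ (h : IsEnum i j₁ j₂) (a b c : ℕ) : mk3 i j₁ a b c j₁ = b := by
  show (if j₁ = i then a else if j₁ = j₁ then b else c) = b
  rw [if_neg h.ne1, if_pos rfl]

theorem mk3_j₂ (h : IsEnum i j₁ j₂) (a b c : ℕ) : mk3 i j₁ a b c j₂ = c := by
  show (if j₂ = i then a else if j₂ = j₁ then b else c) = c
  rw [if_neg h.ne2, if_neg h.ne3]

theorem ext3 (h : IsEnum i j₁ j₂) {γ γ' : Fin 3 →₀ ℕ} (h0 : γ i = γ' i) (h1 : γ j₁ = γ' j₁)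
    (h2 : γ j₂ = γ' j₂) : γ = γ' := by
  ext l
  rcases h.cases l with rfl | rfl | rfl <;> assumption

theorem deg3 (h : IsEnum i j₁ j₂) (γ : Fin 3 →₀ ℕ) : γ.degree = γ i + γ j₁ + γ j₂ := by
  rw [Finsupp.degree_eq_sum]
  exact h.sum (fun l => γ l)

/-- a vector of five naturals -/
noncomputable def mk5 (a b c d e : ℕ) : Fin 5 →₀ ℕ :=
  Finsupp.equivFunOnFinite.symm ![a, b, c, d, e]

theorem mk5_0 (a b c d e : ℕ) : mk5 a b c d e 0 = a := rfl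
theorem mk5_1 (a b c d e : ℕ) : mk5 a b c d e 1 = b := rfl
theorem mk5_2 (a b c d e : ℕ) : mk5 a b c d e 2 = c := rfl
theorem mk5_3 (a b c d e : ℕ) : mk5 a b c d e 3 = d := rfl
theorem mk5_4 (a b c d e : ℕ) : mk5 a b c d e 4 = e := rfl

theorem mem_antidiag5 {d : ℕ} {ε : Fin 5 →₀ ℕ} :
    ε ∈ (Finset.univ : Finset (Fin 5)).finsuppAntidiag d ↔ ε 0 + ε 1 + ε 2 + ε 3 + ε 4 = d := by
  rw [Finset.mem_finsuppAntidiag, Fin.sum_univ_five]
  exact ⟨fun h => h.1, fun h => ⟨h, Finset.subset_univ _⟩⟩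

theorem ext5 {ε ε' : Fin 5 →₀ ℕ} (h0 : ε 0 = ε' 0) (h1 : ε 1 = ε' 1) (h2 : ε 2 = ε' 2)
    (h3 : ε 3 = ε' 3) (h4 : ε 4 = ε' 4) : ε = ε' := by
  ext x
  fin_cases x <;> assumption

theorem card_antidiag5 (d : ℕ) :
    ((Finset.univ : Finset (Fin 5)).finsuppAntidiag d).card = (d + 4).choose 4 := by
  rw [Finset.card_finsuppAntidiag_nat_eq_choose, Finset.card_univ, Fintype.card_fin,
    show 5 + d - 1 = d + 4 by omega, Nat.choose_symm_add]

theorem p1_iff (h : IsEnum i j₁ j₂) (t : (Fin 3 →₀ ℕ) × (Fin 3 →₀ ℕ)) :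
    (∀ l, dif t l < 0 ↔ l ∈ ({i} : Set (Fin 3))) ↔
      (t.1 i < t.2 i ∧ t.2 j₁ ≤ t.1 j₁ ∧ t.2 j₂ ≤ t.1 j₂) := by
  constructor
  · intro hp
    have h0 := (hp i).mpr (Set.mem_singleton i)
    have h1 := (hp j₁).not.mpr (fun hm => h.ne1 (Set.mem_singleton_iff.mp hm))
    have h2 := (hp j₂).not.mpr (fun hm => h.ne2 (Set.mem_singleton_iff.mp hm))
    simp only [dif] at h0 h1 h2
    omega
  · rintro ⟨h0, h1, h2⟩ l
    rw [Set.mem_singleton_iff]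
    simp only [dif]
    rcases h.cases l with rfl | rfl | rfl
    · exact ⟨fun _ => rfl, fun _ => by omega⟩
    · exact ⟨fun hlt => by omega, fun he => absurd he h.ne1⟩
    · exact ⟨fun hlt => by omega, fun he => absurd he h.ne2⟩

theorem p2_iff (h : IsEnum i j₁ j₂) (t : (Fin 3 →₀ ℕ) × (Fin 3 →₀ ℕ)) :
    (∀ l, dif t l < 0 ↔ l ∈ ({i}ᶜ : Set (Fin 3))) ↔
      (t.2 i ≤ t.1 i ∧ t.1 j₁ < t.2 j₁ ∧ t.1 j₂ < t.2 j₂) := by
  constructor
  · intro hp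
    have h0 := (hp i).not.mpr (fun hm => hm (Set.mem_singleton i))
    have h1 := (hp j₁).mpr (fun hm => h.ne1 (Set.mem_singleton_iff.mp hm))
    have h2 := (hp j₂).mpr (fun hm => h.ne2 (Set.mem_singleton_iff.mp hm))
    simp only [dif] at h0 h1 h2
    omega
  · rintro ⟨h0, h1, h2⟩ l
    rw [Set.mem_compl_iff, Set.mem_singleton_iff]
    simp only [dif]
    rcases h.cases l with rfl | rfl | rfl
    · exact ⟨fun hlt => by omega, fun he => absurd rfl he⟩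
    · exact ⟨fun _ => h.ne1, fun _ => by omega⟩
    · exact ⟨fun _ => h.ne2, fun _ => by omega⟩

theorem card1 (h : IsEnum i j₁ j₂) (d : ℕ) [DecidablePred fun t : (Fin 3 →₀ ℕ) × (Fin 3 →₀ ℕ) =>
      ∀ l, dif t l < 0 ↔ l ∈ ({i} : Set (Fin 3))] :
    ((T (Fin 3) (d + 1)).filter
      (fun t => ∀ l, dif t l < 0 ↔ l ∈ ({i} : Set (Fin 3)))).card = (d + 4).choose 4 := by
  rw [← card_antidiag5]
  refine Finset.card_nbij'
    (fun t => mk5 (t.1 i) (t.1 j₁ - t.2 j₁) (t.2 j₁) (t.1 j₂ - t.2 j₂) (t.2 j₂))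
    (fun ε => (mk3 i j₁ (ε 0) (ε 1 + ε 2) (ε 3 + ε 4),
      mk3 i j₁ (ε 0 + ε 1 + ε 3 + 1) (ε 2) (ε 4))) ?_ ?_ ?_ ?_
  · intro t ht
    rw [Finset.mem_coe, Finset.mem_filter, mem_T, p1_iff h, deg3 h, deg3 h] at ht
    obtain ⟨⟨h1, h2⟩, h3, h4, h5⟩ := ht
    rw [Finset.mem_coe, mem_antidiag5, mk5_0, mk5_1, mk5_2, mk5_3, mk5_4]
    omega
  · intro ε hε
    rw [Finset.mem_coe, mem_antidiag5] at hε
    rw [Finset.mem_coe, Finset.mem_filter, mem_T, p1_iff h, deg3 h, deg3 h]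
    simp only [mk3_i, mk3_j₁ h, mk3_j₂ h]
    omega
  · intro t ht
    rw [Finset.mem_coe, Finset.mem_filter, mem_T, p1_iff h, deg3 h, deg3 h] at ht
    obtain ⟨⟨h1, h2⟩, h3, h4, h5⟩ := ht
    simp only [mk5_0, mk5_1, mk5_2, mk5_3, mk5_4]
    refine Prod.ext (ext3 h ?_ ?_ ?_) (ext3 h ?_ ?_ ?_)
    · rw [mk3_i]
    · rw [mk3_j₁ h]; omega
    · rw [mk3_j₂ h]; omega
    · rw [mk3_i]; omega
    · rw [mk3_j₁ h]
    · rw [mk3_j₂ h]
  · intro ε hε
    simp only [mk3_i, mk3_j₁ h, mk3_j₂ h]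
    refine ext5 ?_ ?_ ?_ ?_ ?_
    · rw [mk5_0]
    · rw [mk5_1]; omega
    · rw [mk5_2]
    · rw [mk5_3]; omega
    · rw [mk5_4]

theorem card2 (h : IsEnum i j₁ j₂) (d : ℕ) [DecidablePred fun t : (Fin 3 →₀ ℕ) × (Fin 3 →₀ ℕ) =>
      ∀ l, dif t l < 0 ↔ l ∈ ({i}ᶜ : Set (Fin 3))] :
    ((T (Fin 3) (d + 2)).filter
      (fun t => ∀ l, dif t l < 0 ↔ l ∈ ({i}ᶜ : Set (Fin 3)))).card = (d + 4).choose 4 := by
  rw [← card_antidiag5]
  refine Finset.card_nbij'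
    (fun t => mk5 (t.2 i) (t.1 j₁) (t.2 j₁ - t.1 j₁ - 1) (t.1 j₂) (t.2 j₂ - t.1 j₂ - 1))
    (fun ε => (mk3 i j₁ (ε 0 + ε 2 + ε 4 + 1) (ε 1) (ε 3),
      mk3 i j₁ (ε 0) (ε 1 + ε 2 + 1) (ε 3 + ε 4 + 1))) ?_ ?_ ?_ ?_
  · intro t ht
    rw [Finset.mem_coe, Finset.mem_filter, mem_T, p2_iff h, deg3 h, deg3 h] at ht
    obtain ⟨⟨h1, h2⟩, h3, h4, h5⟩ := ht
    rw [Finset.mem_coe, mem_antidiag5, mk5_0, mk5_1, mk5_2, mk5_3, mk5_4]
    omega
  · intro ε hε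
    rw [Finset.mem_coe, mem_antidiag5] at hε
    rw [Finset.mem_coe, Finset.mem_filter, mem_T, p2_iff h, deg3 h, deg3 h]
    simp only [mk3_i, mk3_j₁ h, mk3_j₂ h]
    omega
  · intro t ht
    rw [Finset.mem_coe, Finset.mem_filter, mem_T, p2_iff h, deg3 h, deg3 h] at ht
    obtain ⟨⟨h1, h2⟩, h3, h4, h5⟩ := ht
    simp only [mk5_0, mk5_1, mk5_2, mk5_3, mk5_4]
    refine Prod.ext (ext3 h ?_ ?_ ?_) (ext3 h ?_ ?_ ?_)
    · rw [mk3_i]; omega
    · rw [mk3_j₁ h]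
    · rw [mk3_j₂ h]
    · rw [mk3_i]
    · rw [mk3_j₁ h]; omega
    · rw [mk3_j₂ h]; omega
  · intro ε hε
    simp only [mk3_i, mk3_j₁ h, mk3_j₂ h]
    refine ext5 ?_ ?_ ?_ ?_ ?_
    · rw [mk5_0]
    · rw [mk5_1]
    · rw [mk5_2]; omega
    · rw [mk5_3]
    · rw [mk5_4]; omega

theorem T_zero : T (Fin 3) 0 = ∅ := by
  apply Finset.eq_empty_of_forall_notMem
  intro t ht
  have := (mem_T.mp ht).1
  omega

theorem filter2_one (h : IsEnum i j₁ j₂) [DecidablePred fun t : (Fin 3 →₀ ℕ) × (Fin 3 →₀ ℕ) =>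
      ∀ l, dif t l < 0 ↔ l ∈ ({i}ᶜ : Set (Fin 3))] :
    (T (Fin 3) 1).filter (fun t => ∀ l, dif t l < 0 ↔ l ∈ ({i}ᶜ : Set (Fin 3))) = ∅ := by
  apply Finset.eq_empty_of_forall_notMem
  intro t ht
  rw [Finset.mem_filter, mem_T, p2_iff h, deg3 h, deg3 h] at ht
  omega

theorem card_Bs3 (n : ℕ) : (Bs (Fin 3) n).card = (n + 2).choose 2 := by
  rw [Bs, Finset.card_finsuppAntidiag_nat_eq_choose, Finset.card_univ, Fintype.card_fin,
    show 3 + n - 1 = n + 2 by omega, Nat.choose_symm_add]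

theorem card_T (r : ℕ) : (T (Fin 3) r).card = Nat.choose (r + 2) 2 * Nat.choose (r + 1) 2 := by
  rcases r with _ | d
  · rw [T_zero]
    rfl
  · have h1 : T (Fin 3) (d + 1) = (Bs (Fin 3) d) ×ˢ (Bs (Fin 3) (d + 1)) := by
      rw [T]
      apply Finset.filter_true_of_mem
      intro t ht
      rw [Finset.mem_product, mem_Bs, mem_Bs] at ht
      have := ht.1
      simp only [Nat.add_sub_cancel] at this
      omega
    rw [h1, Finset.card_product, card_Bs3, card_Bs3, mul_comm]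

end count

theorem main_aux (k : Type*) [Field k] (r : ℕ) {i j₁ j₂ : Fin 3} (h : IsEnum i j₁ j₂) :
    Module.finrank k ↥(sigPiece (Mr (Fin 3) k r) {i}) = Nat.choose (r + 3) 4 ∧
    Module.finrank k ↥(sigPiece (Mr (Fin 3) k r) ({i}ᶜ : Set (Fin 3))) = Nat.choose (r + 2) 4 ∧
    Module.finrank k (Tgt (Mr (Fin 3) k r)) = Nat.choose (r + 2) 2 * Nat.choose (r + 1) 2 := by
  classical
  have hσ : ∀ j : Fin 3, ∃ i, i ≠ j := by decide
  refine ⟨?_, ?_, ?_⟩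
  · have h1 := finrank_iSup (k := k) r hσ (fun α : Fin 3 → ℤ => ∀ l, α l < 0 ↔ l ∈ ({i} : Set (Fin 3)))
    have h2 : Module.finrank k ↥(sigPiece (Mr (Fin 3) k r) {i}) =
        ((T (Fin 3) r).filter (fun t => ∀ l, dif t l < 0 ↔ l ∈ ({i} : Set (Fin 3)))).card := h1
    rw [h2]
    rcases r with _ | d
    · rw [T_zero]
      rfl
    · exact card1 h d
  · have h1 := finrank_iSup (k := k) r hσ
      (fun α : Fin 3 → ℤ => ∀ l, α l < 0 ↔ l ∈ ({i}ᶜ : Set (Fin 3)))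
    have h2 : Module.finrank k ↥(sigPiece (Mr (Fin 3) k r) ({i}ᶜ : Set (Fin 3))) =
        ((T (Fin 3) r).filter (fun t => ∀ l, dif t l < 0 ↔ l ∈ ({i}ᶜ : Set (Fin 3)))).card := h1
    rw [h2]
    rcases r with _ | _ | d
    · rw [T_zero]
      rfl
    · rw [filter2_one h]
      rfl
    · exact card2 h d
  · have h1 := finrank_iSup (k := k) r hσ (fun _ : Fin 3 → ℤ => True)
    have h2 : Module.finrank k ↥(⨆ α : {_α : Fin 3 → ℤ // True}, tPiece (Mr (Fin 3) k r) α.1) =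
        ((T (Fin 3) r).filter (fun _ => True)).card := h1
    rw [Groth.Agent.Helper6.TgtPow2.iSup_eq_top, finrank_top, Finset.filter_true_of_mem (fun _ _ => trivial), card_T] at h2
    exact h2

theorem main (k : Type*) [Field k] (r : ℕ) (i : Fin 3) :
    Module.finrank k ↥(sigPiece ((Ideal.span (Set.range
      (MvPolynomial.X : Fin 3 → MvPolynomial (Fin 3) k))) ^ r) {i}) = Nat.choose (r + 3) 4 ∧
    Module.finrank k ↥(sigPiece ((Ideal.span (Set.range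
      (MvPolynomial.X : Fin 3 → MvPolynomial (Fin 3) k))) ^ r) ({i}ᶜ : Set (Fin 3))) =
        Nat.choose (r + 2) 4 ∧
    Module.finrank k (Tgt ((Ideal.span (Set.range
      (MvPolynomial.X : Fin 3 → MvPolynomial (Fin 3) k))) ^ r)) =
        Nat.choose (r + 2) 2 * Nat.choose (r + 1) 2 := by
  fin_cases i
  · exact main_aux k r isEnum_012
  · exact main_aux k r isEnum_102
  · exact main_aux k r isEnum_201

end Groth.Agent.Helper6.TgtPow3
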