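import Mathlib
import Groth.Agent.Helper6.NilFT
universe u
open AlgebraicGeometry CategoryTheory Limits

namespace Groth.Agent.Helper6.Thick

/-- kernel of the pushout of a surjection -/
theorem ker_of_isPushout {A A₀ B P : CommRingCat.{u}} (α : A ⟶ A₀) (φ : A ⟶ B) (φ' : A₀ ⟶ P)
    (β : B ⟶ P) (h : IsPushout α φ φ' β) (hα : Function.Surjective α.hom) :
    RingHom.ker β.hom = (RingHom.ker α.hom).map φ.hom := by
  apply le_antisymm
  · intro b hb
    let Q := B ⧸ (RingHom.ker α.hom).map φ.hom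
    let q : B →+* Q := Ideal.Quotient.mk _
    have hle : RingHom.ker α.hom ≤ RingHom.ker (q.comp φ.hom) := by
      intro a ha
      rw [RingHom.mem_ker, RingHom.comp_apply]
      exact Ideal.Quotient.eq_zero_iff_mem.mpr (Ideal.mem_map_of_mem _ ha)
    let ψ : A₀ →+* Q := RingHom.liftOfSurjective α.hom hα ⟨q.comp φ.hom, hle⟩
    have hψ : ψ.comp α.hom = q.comp φ.hom := RingHom.liftOfRightInverse_comp _ _ _ _
    let d : P ⟶ CommRingCat.of Q := h.desc (CommRingCat.ofHom ψ) (CommRingCat.ofHom q) (by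
      ext a
      exact congrArg (fun f : A →+* Q => f a) hψ)
    have hd : β ≫ d = CommRingCat.ofHom q := h.inr_desc _ _ _
    have : q b = d.hom (β.hom b) := by
      have := congrArg (fun f : B ⟶ CommRingCat.of Q => f.hom b) hd
      exact this.symm
    rw [RingHom.mem_ker] at hb
    rw [hb, map_zero] at this
    exact Ideal.Quotient.eq_zero_iff_mem.mp this
  · rw [Ideal.map_le_iff_le_comap]
    intro a ha
    rw [Ideal.mem_comap, RingHom.mem_ker]
    have := congrArg (fun f : A ⟶ P => f.hom a) h.w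
    simp only [CommRingCat.hom_comp, RingHom.comp_apply] at this
    rw [← this, (RingHom.mem_ker).mp ha, map_zero]


theorem appLE_congr_hom {X Y : Scheme.{u}} {f g : X ⟶ Y} (h : f = g) (U : Y.Opens) (V : X.Opens)
    (e : V ≤ f ⁻¹ᵁ U) : f.appLE U V e = g.appLE U V (h ▸ e) := by
  subst h; rfl

theorem ker_app_eq_map {X X₀ Y Y₀ : Scheme.{u}} (F : Y ⟶ X) (F₀ : Y₀ ⟶ X₀) (i : Y₀ ⟶ Y)
    (j : X₀ ⟶ X) [IsClosedImmersion j] (hc : IsPullback F₀ i j F) (U : X.Opens)
    (hU : IsAffineOpen U) (V : Y.Opens) (hV : IsAffineOpen V) (e : V ≤ F ⁻¹ᵁ U) :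
    RingHom.ker (i.app V).hom = (RingHom.ker (j.app U).hom).map (F.appLE U V e).hom := by
  have hUY : i ⁻¹ᵁ V = F₀ ⁻¹ᵁ (j ⁻¹ᵁ U) ⊓ i ⁻¹ᵁ V := by
    apply (inf_eq_right.mpr ?_).symm
    rw [← Scheme.Hom.comp_preimage, hc.w, Scheme.Hom.comp_preimage]
    exact i.preimage_mono e
  have hiso := isIso_pushoutSection_of_isAffineOpen hc (US := U) (UT := V) (UX := j ⁻¹ᵁ U) e le_rfl
    hUY hU hV (hU.preimage j)
  have hpo := (isIso_pushoutSection_iff hc e le_rfl hUY).mp hiso
  have hsurj : Function.Surjective (j.appLE U (j ⁻¹ᵁ U) le_rfl).hom := by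
    rw [Scheme.Hom.appLE_eq_app]
    exact j.app_surjective U hU
  have := ker_of_isPushout _ _ _ _ hpo hsurj
  simpa only [Scheme.Hom.appLE_eq_app] using this


theorem locallyOfFiniteType_of_thickening {X X₀ Y Y₀ : Scheme.{u}} (F : Y ⟶ X) (F₀ : Y₀ ⟶ X₀)
    (i : Y₀ ⟶ Y) (j : X₀ ⟶ X) [IsClosedImmersion i] [IsClosedImmersion j]
    (hinil : ∀ U : Y.affineOpens, IsNilpotent (i.ker.ideal U))
    (hfg : ∀ U : X.affineOpens, (j.ker.ideal U).FG)
    (hc : IsPullback F₀ i j F) [LocallyOfFiniteType F₀] : LocallyOfFiniteType F := by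
  rw [HasRingHomProperty.iff_appLE (P := @LocallyOfFiniteType)]
  intro U V e
  have hker := ker_app_eq_map F F₀ i j hc U.1 U.2 V.1 V.2 e
  apply Groth.Agent.Helper6.NilFT.ringHom_finiteType_of_comp (F.appLE U.1 V.1 e).hom (i.app V.1).hom
    (i.app_surjective V.1 V.2)
  · rw [hker]
    apply Ideal.FG.map
    rw [← Scheme.Hom.ker_apply j U]
    exact hfg U
  · rw [← Scheme.Hom.ker_apply i V]
    exact hinil V
  · have e' : i ⁻¹ᵁ V.1 ≤ (i ≫ F) ⁻¹ᵁ U.1 := by
      rw [Scheme.Hom.comp_preimage]; exact i.preimage_mono e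
    have e'' : i ⁻¹ᵁ V.1 ≤ F₀ ⁻¹ᵁ (j ⁻¹ᵁ U.1) := by
      rw [← Scheme.Hom.comp_preimage, hc.w]; exact e'
    have h1 : (i.app V.1).hom.comp (F.appLE U.1 V.1 e).hom =
        ((F₀.appLE (j ⁻¹ᵁ U.1) (i ⁻¹ᵁ V.1) e'').hom).comp (j.app U.1).hom := by
      rw [← CommRingCat.hom_comp, ← CommRingCat.hom_comp]
      congr 1
      rw [← Scheme.Hom.appLE_eq_app, ← Scheme.Hom.appLE_eq_app, Scheme.Hom.appLE_comp_appLE,
        Scheme.Hom.appLE_comp_appLE]
      exact (appLE_congr_hom hc.w.symm _ _ _)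
    rw [h1]
    refine RingHom.FiniteType.comp ?_ (RingHom.FiniteType.of_surjective _ (j.app_surjective U.1 U.2))
    exact HasRingHomProperty.appLE (P := @LocallyOfFiniteType) F₀ inferInstance
      ⟨j ⁻¹ᵁ U.1, U.2.preimage j⟩ ⟨i ⁻¹ᵁ V.1, V.2.preimage i⟩ e''


set_option backward.isDefEq.respectTransparency.types false in
theorem isFinite_of_comp_of_surjective_closedImmersion {Y₀ Y X : Scheme.{u}} (i : Y₀ ⟶ Y)
    (F : Y ⟶ X) [IsClosedImmersion i] [Surjective i] [IsFinite (i ≫ F)] [LocallyOfFiniteType F] :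
    IsFinite F := by
  rw [IsFinite.iff_isProper_and_locallyQuasiFinite]
  have huc : UniversallyClosed F := UniversallyClosed.of_comp_surjective i F
  have hsep : IsSeparated F := by
    constructor
    refine IsClosedImmersion.of_isPreimmersion _ ?_
    let m := pullback.map (i ≫ F) (i ≫ F) F F i i (𝟙 X) ((Category.comp_id _).trans rfl)
      ((Category.comp_id _).trans rfl)
    have hm : IsClosedImmersion m :=
      MorphismProperty.pullbackMap (P := @IsClosedImmersion) inferInstance inferInstance rfl rfl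
    have hcomp : pullback.diagonal (i ≫ F) ≫ m = i ≫ pullback.diagonal F := by
      apply pullback.hom_ext
      · simp only [Category.assoc, m, pullback.map, pullback.lift_fst, pullback.diagonal_fst,
          pullback.diagonal_fst_assoc, Category.comp_id]
      · simp only [Category.assoc, m, pullback.map, pullback.lift_snd, pullback.diagonal_snd,
          pullback.diagonal_snd_assoc, Category.comp_id]
    have hrange : Set.range (pullback.diagonal F) =
        Set.range (pullback.diagonal (i ≫ F) ≫ m) := by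
      rw [hcomp]
      ext z
      constructor
      · rintro ⟨y, rfl⟩
        obtain ⟨y₀, rfl⟩ := ‹Surjective i›.surj y
        exact ⟨y₀, rfl⟩
      · rintro ⟨y₀, rfl⟩
        exact ⟨i y₀, rfl⟩
    rw [hrange]
    exact (pullback.diagonal (i ≫ F) ≫ m).isClosedEmbedding.isClosed_range
  have hqf : LocallyQuasiFinite F := by
    apply LocallyQuasiFinite.of_finite_preimage_singleton
    intro x
    have hfin : ((i ≫ F) ⁻¹' {x}).Finite := (i ≫ F).finite_preimage_singleton x
    refine (hfin.image i).subset ?_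
    intro y hy
    obtain ⟨y₀, rfl⟩ := ‹Surjective i›.surj y
    exact ⟨y₀, hy, rfl⟩
  exact ⟨{}, hqf⟩

end Groth.Agent.Helper6.Thick
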