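import Mathlib
import Groth.Agent.Helper6.TruncSys

/-!
# A chain of maps killing low cohomology factors through the top cohomology
-/

set_option autoImplicit false

namespace Groth.Agent.Helper6.TopHom

open CategoryTheory CategoryTheory.Limits Opposite CategoryTheory.Pretriangulated ZeroObject
open DerivedCategory
open Groth.Agent.Helper6.TruncSys

universe w v u

variable {A : Type u} [Category.{v} A] [Abelian A] [HasDerivedCategory.{w} A]

lemma conc_truncLT (c : ℤ) (K : DerivedCategory A)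
    (hK : ∀ i : ℤ, i < c → IsZero ((homologyFunctor A i).obj K)) :
    Conc c (((tt A).truncLT (c + 1)).obj K) := by
  intro i hi
  rcases lt_or_gt_of_ne hi with h | h
  · exact (hK i h).of_iso ((isoLT i (c + 1) (by omega)).app K)
  · exact isZero_H_truncLT K (c + 1) i (by omega)

/-- a map from `D^{≤ c}` to `D^{≥ c}` which vanishes on `H^c` is zero -/
lemma eq_zero_of_H (c : ℤ) {U V : DerivedCategory A}
    (hU : ∀ i : ℤ, c < i → IsZero ((homologyFunctor A i).obj U))
    (hV : ∀ i : ℤ, i < c → IsZero ((homologyFunctor A i).obj V))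
    (θ : U ⟶ V) (hθ : (homologyFunctor A c).map θ = 0) : θ = 0 := by
  haveI : (tt A).IsGE V c := (isGE_iff V c).2 (fun i hi => hV i hi)
  have hcU : Conc c (((tt A).truncGE c).obj U) := conc_truncGE c U hU
  haveI : (tt A).IsLE (((tt A).truncGE c).obj U) c :=
    (isLE_iff _ c).2 (fun i hi => hcU i (by omega))
  have hcV : Conc c (((tt A).truncLT (c + 1)).obj V) := conc_truncLT c V hV
  obtain ⟨θ', h1⟩ : ∃ θ' : ((tt A).truncGE c).obj U ⟶ V,
      ((tt A).truncGEπ c).app U ≫ θ' = θ :=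
    ⟨(tt A).descTruncGE θ c, (tt A).π_descTruncGE θ c⟩
  obtain ⟨θ'', h2⟩ : ∃ θ'' : ((tt A).truncGE c).obj U ⟶ ((tt A).truncLT (c + 1)).obj V,
      θ'' ≫ ((tt A).truncLTι (c + 1)).app V = θ' :=
    ⟨(tt A).liftTruncLT θ' c (c + 1) rfl, (tt A).liftTruncLT_ι θ' c (c + 1) rfl⟩
  have h3 : (homologyFunctor A c).map θ'' = 0 := by
    haveI := isIso_H_truncGEπ U c c le_rfl
    haveI := isIso_H_truncLTι V c (c + 1) (by omega)
    rw [← cancel_epi ((homologyFunctor A c).map (((tt A).truncGEπ c).app U)),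
      ← cancel_mono ((homologyFunctor A c).map (((tt A).truncLTι (c + 1)).app V))]
    rw [comp_zero, zero_comp, Category.assoc, ← Functor.map_comp, ← Functor.map_comp, h2, h1, hθ]
  have h4 : θ'' = 0 := (bij_H c hcU hcV).1 (by
    show (homologyFunctor A c).map θ'' = (homologyFunctor A c).map 0
    rw [h3, Functor.map_zero])
  rw [← h1, ← h2, h4, zero_comp, comp_zero]

/-- `φ` factors through `τ_{<c} K → K` -/
def Factors (c : ℤ) {L K : DerivedCategory A} (φ : L ⟶ K) : Prop :=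
  ∃ φ' : L ⟶ ((tt A).truncLT c).obj K, φ = φ' ≫ ((tt A).truncLTι c).app K

lemma step (c c' : ℤ) (hc : c' = c + 1) {L K K' : DerivedCategory A} (f : K ⟶ K')
    (hf : (homologyFunctor A c).map f = 0) (φ : L ⟶ K) (hφ : Factors c' φ) :
    Factors c (φ ≫ f) := by
  subst hc
  obtain ⟨φ', rfl⟩ := hφ
  have hΘ : ((tt A).truncLTι (c + 1)).app K ≫ f ≫ ((tt A).truncGEπ c).app K' = 0 := by
    apply eq_zero_of_H c (fun i hi => isZero_H_truncLT K (c + 1) i (by omega))
      (fun i hi => isZero_H_truncGE K' c i hi)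
    rw [Functor.map_comp, Functor.map_comp, hf, zero_comp, comp_zero]
  have hz : ((φ' ≫ ((tt A).truncLTι (c + 1)).app K) ≫ f) ≫ ((tt A).truncGEπ c).app K' = 0 := by
    rw [Category.assoc, Category.assoc, hΘ, comp_zero]
  obtain ⟨g, hg⟩ : ∃ g : L ⟶ ((tt A).truncLT c).obj K',
      (φ' ≫ ((tt A).truncLTι (c + 1)).app K) ≫ f = g ≫ ((tt A).truncLTι c).app K' :=
    Triangle.coyoneda_exact₂ _ ((tt A).triangleLTGE_distinguished c K') _ hz
  exact ⟨g, hg⟩

lemma isZero_H_fiber (k : ℤ) {L K : DerivedCategory A} {M : A} (ι : L ⟶ K)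
    (π : K ⟶ (singleFunctor A k).obj M) (h : (singleFunctor A k).obj M ⟶ L⟦(1 : ℤ)⟧)
    (hT : Triangle.mk ι π h ∈ distTriang _)
    (hK : ∀ p : ℤ, k < p → IsZero ((homologyFunctor A p).obj K))
    (hπ : IsIso ((homologyFunctor A k).map π)) (p : ℤ) (hp : k ≤ p) :
    IsZero ((homologyFunctor A p).obj L) := by
  have hS := conc_single (A := A) k M
  have hδ : ∀ (n₀ n₁ : ℤ) (hn : n₀ + 1 = n₁),
      HomologySequence.δ (Triangle.mk ι π h) n₀ n₁ hn = 0 := by
    intro n₀ n₁ hn
    by_cases h0 : n₀ = k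
    · subst h0
      exact (HomologySequence.epi_homologyMap_mor₂_iff _ hT n₀ n₁ hn).1
        (show Epi ((homologyFunctor A n₀).map π) from inferInstance)
    · exact (hS n₀ h0).eq_of_src _ _
  haveI : Mono ((homologyFunctor A p).map ι) :=
    (HomologySequence.mono_homologyMap_mor₁_iff _ hT (p - 1) p (by omega)).2 (hδ _ _ _)
  have hzero : (homologyFunctor A p).map ι = 0 := by
    rcases eq_or_lt_of_le hp with hpk | hpk
    · subst hpk
      haveI : Mono ((homologyFunctor A k).map π) := inferInstance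
      rw [← cancel_mono ((homologyFunctor A k).map π), zero_comp, ← Functor.map_comp]
      have : ι ≫ π = 0 := comp_distTriang_mor_zero₁₂ _ hT
      rw [this, Functor.map_zero]
    · exact (hK p hpk).eq_of_tgt _ _
  exact IsZero.of_mono_eq_zero _ hzero

theorem main (k : ℕ)
    (K : ComposableArrows (DerivedCategory A) (2 * k))
    (hK : ∀ (i : ℕ) (hi : i ≤ 2 * k) (p : ℤ), p < 0 ∨ (k : ℤ) < p →
      IsZero ((DerivedCategory.homologyFunctor A p).obj (K.obj' i)))
    (hf : ∀ (i : ℕ) (hi : i < 2 * k) (p : ℤ), p < (k : ℤ) →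
      (DerivedCategory.homologyFunctor A p).map (K.map' i (i + 1)) = 0)
    (π : K.obj' 0 ⟶ (DerivedCategory.singleFunctor A (k : ℤ)).obj
      ((DerivedCategory.homologyFunctor A (k : ℤ)).obj (K.obj' 0)))
    (hπ : (DerivedCategory.homologyFunctor A (k : ℤ)).map π ≫
      (DerivedCategory.singleFunctorCompHomologyFunctorIso A (k : ℤ)).hom.app
        ((DerivedCategory.homologyFunctor A (k : ℤ)).obj (K.obj' 0)) = 𝟙 _) :
    ∃ φ : (DerivedCategory.singleFunctor A (k : ℤ)).obj
        ((DerivedCategory.homologyFunctor A (k : ℤ)).obj (K.obj' 0)) ⟶ K.obj' (2 * k),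
      K.map' 0 (2 * k) = π ≫ φ := by
  obtain ⟨L, ι, h, hT⟩ := distinguished_cocone_triangle₁ π
  have hπiso : IsIso ((homologyFunctor A (k : ℤ)).map π) := by
    have e : (homologyFunctor A (k : ℤ)).map π =
        (singleFunctorCompHomologyFunctorIso A (k : ℤ)).inv.app
          ((homologyFunctor A (k : ℤ)).obj (K.obj' 0)) :=
      (cancel_mono ((singleFunctorCompHomologyFunctorIso A (k : ℤ)).hom.app
        ((homologyFunctor A (k : ℤ)).obj (K.obj' 0)))).1
        (hπ.trans (Iso.inv_hom_id_app (singleFunctorCompHomologyFunctorIso A (k : ℤ))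
          ((homologyFunctor A (k : ℤ)).obj (K.obj' 0))).symm)
    rw [e]
    infer_instance
  have hL : ∀ p : ℤ, (k : ℤ) ≤ p → IsZero ((homologyFunctor A p).obj L) := fun p hp =>
    isZero_H_fiber (k : ℤ) ι π h hT (fun p hp => hK 0 (Nat.zero_le _) p (Or.inr hp)) hπiso p hp
  suffices hz : ι ≫ K.map' 0 (2 * k) = 0 by
    obtain ⟨φ, hφ⟩ : ∃ φ : (singleFunctor A (k : ℤ)).obj
        ((homologyFunctor A (k : ℤ)).obj (K.obj' 0)) ⟶ K.obj' (2 * k),
        K.map' 0 (2 * k) = π ≫ φ := Triangle.yoneda_exact₂ _ hT (K.map' 0 (2 * k)) hz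
    exact ⟨φ, hφ⟩
  rcases Nat.eq_zero_or_pos k with hk0 | hkpos
  · haveI : (tt A).IsLE L (-1) := (isLE_iff L (-1)).2 (fun i hi => hL i (by omega))
    haveI : (tt A).IsGE (K.obj' 0) 0 :=
      (isGE_iff _ 0).2 (fun i hi => hK 0 (Nat.zero_le _) i (Or.inl hi))
    have hι : ι = 0 := (tt A).zero ι (-1) 0
    rw [hι, zero_comp]
  · have key : ∀ j : ℕ, 1 ≤ j → ∀ (hj : j ≤ 2 * k), j ≤ k + 1 →
        Factors ((k : ℤ) - j + 1) (ι ≫ K.map' 0 j) := by
      intro j h1
      induction j, h1 using Nat.le_induction with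
      | base =>
        intro hj _
        haveI : (tt A).IsLE L ((k : ℤ) - 1) := (isLE_iff L _).2 (fun i hi => hL i (by omega))
        exact ⟨(tt A).liftTruncLT (ι ≫ K.map' 0 1) ((k : ℤ) - 1) ((k : ℤ) - ((1 : ℕ) : ℤ) + 1)
          (by omega), ((tt A).liftTruncLT_ι _ _ _ _).symm⟩
      | succ j hj1 ih =>
        intro hj hjk
        have ih' := ih (by omega) (by omega)
        have hfj := hf j (by omega) ((k : ℤ) - j) (by omega)
        have hs := step ((k : ℤ) - j) ((k : ℤ) - j + 1) rfl (K.map' j (j + 1)) hfj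
          (ι ≫ K.map' 0 j) ih'
        have e : ι ≫ K.map' 0 (j + 1) = (ι ≫ K.map' 0 j) ≫ K.map' j (j + 1) := by
          rw [K.map'_comp 0 j (j + 1), Category.assoc]
        rw [e]
        have ec : ((k : ℤ) - ((j + 1 : ℕ) : ℤ) + 1) = (k : ℤ) - j := by push_cast; ring
        rw [ec]
        exact hs
    obtain ⟨φ', hφ'⟩ := key (k + 1) (by omega) (by omega) le_rfl
    have hz0 : IsZero (((tt A).truncLT ((k : ℤ) - ((k + 1 : ℕ) : ℤ) + 1)).obj
        (K.obj' (k + 1))) := by
      have e0 : ((k : ℤ) - ((k + 1 : ℕ) : ℤ) + 1) = 0 := by push_cast; ring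
      rw [e0]
      exact isZero_of_H _ (fun i => by
        rcases lt_or_ge i 0 with hi | hi
        · exact (hK (k + 1) (by omega) i (Or.inl hi)).of_iso ((isoLT i 0 hi).app _)
        · exact isZero_H_truncLT _ 0 i hi)
    have h0 : ι ≫ K.map' 0 (k + 1) = 0 := by rw [hφ', hz0.eq_of_tgt φ' 0, zero_comp]
    rw [K.map'_comp 0 (k + 1) (2 * k), ← Category.assoc, h0, zero_comp]

end Groth.Agent.Helper6.TopHom
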