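import Mathlib
import Groth.Prelude.Def_Wider
import Groth.Prelude.Def_DRing2
import Groth.Agent.Helper3.DRingTor1

/-!
# Maps out of an acyclic complex with projective top term into a complex that starts
two steps below are null-homotopic
-/

set_option autoImplicit false
universe u

open CategoryTheory Limits CochainComplex HomComplex

namespace Groth.Agent.Helper6.TopProjV

open Groth.Agent.Helper3.DRingLib

variable {R : Type u} [CommRing R]

theorem nonempty_homotopy_zero (N K' : DRing.Cx R) (n : ℤ)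
    (hN : ∀ i : ℤ, n < i → IsZero (N.X i)) (hNp : Module.Projective R (N.X n))
    (hex : ∀ i : ℤ, N.ExactAt i)
    (hK : ∀ i : ℤ, i < n - 2 → IsZero (K'.X i)) (f : N ⟶ K') : Nonempty (Homotopy f 0) := by
  classical
  -- notation
  set d1 : N.X (n - 1) →ₗ[R] N.X n := (N.d (n - 1) n).hom with hd1
  set d2 : N.X (n - 2) →ₗ[R] N.X (n - 1) := (N.d (n - 2) (n - 1)).hom with hd2
  set d3 : N.X (n - 3) →ₗ[R] N.X (n - 2) := (N.d (n - 3) (n - 2)).hom with hd3
  set e0 : K'.X (n - 1) →ₗ[R] K'.X n := (K'.d (n - 1) n).hom with he0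
  set e1 : K'.X (n - 2) →ₗ[R] K'.X (n - 1) := (K'.d (n - 2) (n - 1)).hom with he1
  set f0 : N.X n →ₗ[R] K'.X n := (f.f n).hom with hf0
  set f1 : N.X (n - 1) →ₗ[R] K'.X (n - 1) := (f.f (n - 1)).hom with hf1
  set f2 : N.X (n - 2) →ₗ[R] K'.X (n - 2) := (f.f (n - 2)).hom with hf2
  have d12 : ∀ y, d1 (d2 y) = 0 := fun y => by
    have := N.d_comp_d (n - 2) (n - 1) n
    exact congr($(this).hom y)
  have e01 : ∀ y, e0 (e1 y) = 0 := fun y => by
    have := K'.d_comp_d (n - 2) (n - 1) n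
    exact congr($(this).hom y)
  have c1 : ∀ y, f1 (d2 y) = e1 (f2 y) := fun y => by
    have := f.comm (n - 2) (n - 1)
    exact (congr($(this).hom y)).symm
  have c0 : ∀ y, f0 (d1 y) = e0 (f1 y) := fun y => by
    have := f.comm (n - 1) n
    exact (congr($(this).hom y)).symm
  have c2 : ∀ z, f2 (d3 z) = 0 := fun z => by
    have h1 := f.comm (n - 3) (n - 2)
    have h2 : f.f (n - 3) = 0 := (hK (n - 3) (by omega)).eq_of_tgt _ _
    rw [h2, zero_comp] at h1
    exact (congr($(h1).hom z)).symm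
  -- surjectivity of `d1` and the section
  have hsurj : Function.Surjective d1 := by
    intro x
    have h := (exactAt_iff_forall N (n - 1) n (n + 1) (by omega) rfl).mp (hex n) x
      (by
        have := ModuleCat.subsingleton_of_isZero (hN (n + 1) (by omega))
        exact Subsingleton.elim _ _)
    exact h
  obtain ⟨s, hs⟩ := Module.projective_lifting_property d1 LinearMap.id hsurj
  have hs' : ∀ x, d1 (s x) = x := fun x => congr($hs x)
  have ex1 : ∀ x, d1 x = 0 → ∃ y, d2 y = x :=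
    (exactAt_iff_forall N (n - 2) (n - 1) n (by omega) (by omega)).mp (hex (n - 1))
  have ex2 : ∀ y, d2 y = 0 → ∃ z, d3 z = y :=
    (exactAt_iff_forall N (n - 3) (n - 2) (n - 1) (by omega) (by omega)).mp (hex (n - 2))
  -- the map `g : range d2 → K'^{n-2}`
  have hle : LinearMap.ker d2 ≤ LinearMap.ker f2 := by
    intro y hy
    obtain ⟨z, rfl⟩ := ex2 y hy
    exact c2 z
  let g : LinearMap.range d2 →ₗ[R] K'.X (n - 2) :=
    ((LinearMap.ker d2).liftQ f2 hle) ∘ₗ (LinearMap.quotKerEquivRange d2).symm.toLinearMap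
  have hg : ∀ (y : N.X (n - 2)) (hy : d2 y ∈ LinearMap.range d2), g ⟨d2 y, hy⟩ = f2 y := by
    intro y hy
    show ((LinearMap.ker d2).liftQ f2 hle) ((LinearMap.quotKerEquivRange d2).symm ⟨d2 y, hy⟩) = _
    rw [LinearMap.quotKerEquivRange_symm_apply_image]
    rfl
  let pr : N.X (n - 1) →ₗ[R] LinearMap.range d2 :=
    LinearMap.codRestrict (LinearMap.range d2) (LinearMap.id - s ∘ₗ d1) (fun x => by
      obtain ⟨y, hy⟩ := ex1 (x - s (d1 x)) (by rw [map_sub, hs', sub_self])
      exact ⟨y, by simpa using hy⟩)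
  let h1 : N.X (n - 1) →ₗ[R] K'.X (n - 2) := g ∘ₗ pr
  have hh1 : ∀ y, h1 (d2 y) = f2 y := by
    intro y
    have : pr (d2 y) = ⟨d2 y, LinearMap.mem_range_self d2 y⟩ := by
      apply Subtype.ext
      simp [pr, d12]
    show g (pr (d2 y)) = _
    rw [this, hg]
  let h0 : N.X n →ₗ[R] K'.X (n - 1) := (f1 - e1 ∘ₗ h1) ∘ₗ s
  have hh0 : ∀ x, e0 (h0 x) = f0 x := by
    intro x
    show e0 (f1 (s x) - e1 (h1 (s x))) = _
    rw [map_sub, e01, sub_zero, ← c0, hs']
  have hh01 : ∀ x, e1 (h1 x) + h0 (d1 x) = f1 x := by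
    intro x
    obtain ⟨y, hy⟩ := ex1 (x - s (d1 x)) (by rw [map_sub, hs', sub_self])
    have h3 : (f1 - e1 ∘ₗ h1) (x - s (d1 x)) = 0 := by
      rw [← hy]
      show f1 (d2 y) - e1 (h1 (d2 y)) = 0
      rw [hh1, c1, sub_self]
    have h4 : h0 (d1 x) = (f1 - e1 ∘ₗ h1) (s (d1 x)) := rfl
    rw [map_sub, sub_eq_zero] at h3
    rw [h4, ← h3]
    show e1 (h1 x) + (f1 x - e1 (h1 x)) = f1 x
    abel
  -- the homotopy
  let z : Cochain N K' (-1) :=
    Cochain.single (p := n) (q := n - 1) (ModuleCat.ofHom h0) (-1) +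
      Cochain.single (p := n - 1) (q := n - 2) (ModuleCat.ofHom h1) (-1)
  refine ⟨(Cochain.equivHomotopy f 0).symm ⟨z, ?_⟩⟩
  have hz : δ (-1) 0 z =
      Cochain.single (p := n) (q := n) (ModuleCat.ofHom h0 ≫ K'.d (n - 1) n) 0 +
      Cochain.single (p := n - 1) (q := n - 1) (N.d (n - 1) n ≫ ModuleCat.ofHom h0) 0 +
      (Cochain.single (p := n - 1) (q := n - 1) (ModuleCat.ofHom h1 ≫ K'.d (n - 2) (n - 1)) 0 +
      Cochain.single (p := n - 2) (q := n - 2) (N.d (n - 2) (n - 1) ≫ ModuleCat.ofHom h1) 0) := by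
    simp only [z, δ_add]
    rw [Cochain.δ_single _ (-1) 0 (by omega) (n - 1) n (by omega) (by omega),
      Cochain.δ_single _ (-1) 0 (by omega) (n - 2) (n - 1) (by omega) (by omega)]
    simp only [Int.negOnePow_zero, one_smul]
  rw [hz, Cochain.ofHom_zero, add_zero]
  refine Cochain.ext _ _ (fun p q hpq => ?_)
  have hq : p = q := by omega
  subst hq
  simp only [Cochain.add_v, Cochain.ofHom_v]
  by_cases hp0 : p = n
  · subst hp0
    rw [Cochain.single_v, Cochain.single_v_eq_zero _ _ _ _ _ (by omega),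
      Cochain.single_v_eq_zero _ _ _ _ _ (by omega),
      Cochain.single_v_eq_zero _ _ _ _ _ (by omega)]
    simp only [add_zero]
    ext x
    exact (hh0 x).symm
  by_cases hp1 : p = n - 1
  · subst hp1
    rw [Cochain.single_v_eq_zero _ _ _ _ _ (by omega), Cochain.single_v, Cochain.single_v,
      Cochain.single_v_eq_zero _ _ _ _ _ (by omega)]
    simp only [add_zero, zero_add]
    ext x
    have := hh01 x
    show f1 x = h0 (d1 x) + e1 (h1 x)
    rw [← this, add_comm]
  by_cases hp2 : p = n - 2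
  · subst hp2
    rw [Cochain.single_v_eq_zero _ _ _ _ _ (by omega),
      Cochain.single_v_eq_zero _ _ _ _ _ (by omega),
      Cochain.single_v_eq_zero _ _ _ _ _ (by omega), Cochain.single_v]
    simp only [zero_add]
    ext x
    exact (hh1 x).symm
  · rw [Cochain.single_v_eq_zero _ _ _ _ _ hp0, Cochain.single_v_eq_zero _ _ _ _ _ hp1,
      Cochain.single_v_eq_zero _ _ _ _ _ hp1, Cochain.single_v_eq_zero _ _ _ _ _ hp2]
    simp only [add_zero]
    by_cases hlt : p < n - 2
    · exact (hK p hlt).eq_of_tgt _ _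
    · exact (hN p (by omega)).eq_of_src _ _

end Groth.Agent.Helper6.TopProjV
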