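import Mathlib
import Groth.Prelude.Def_Wider
import Groth.Prelude.Def_DRing2
import Groth.Agent.Helper3.DRing1
import Groth.Agent.Helper3.DRingResP
import Groth.Agent.Helper3.DRingCone
import Groth.Agent.Helper3.DRingTor2
import Groth.Agent.Helper3.DRingTor4
import Groth.Agent.Helper6.TopProjV

/-!
# `Hom_K(M, K) ≃ Hom_D(M, K)` for `M` in degrees `≤ 0` with `M⁰` projective and `K` in
degrees `≥ -1`
-/

set_option autoImplicit false
universe u

open CategoryTheory Limits Pretriangulated CochainComplex DerivedCategory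
attribute [local instance] HasDerivedCategory.standard

namespace Groth.Agent.Helper6.TopProj

open Groth.Agent.Helper3.DRingLib

variable {R : Type u} [CommRing R]

variable (R) in
/-- the quotient functor to the homotopy category -/
noncomputable abbrev Hq' := HomotopyCategory.quotient (ModuleCat.{u} R) (ComplexShape.up ℤ)



/-- morphisms in the homotopy category out of an acyclic complex with projective top term -/
lemma hom_eq_zero (N K' : DRing.Cx R) (n : ℤ)
    (hN : ∀ i : ℤ, n < i → IsZero (N.X i)) (hNp : Module.Projective R (N.X n))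
    (hex : ∀ i : ℤ, N.ExactAt i)
    (hK : ∀ i : ℤ, i < n - 2 → IsZero (K'.X i)) (ψ : (Hq' R).obj N ⟶ (Hq' R).obj K') : ψ = 0 := by
  obtain ⟨f, rfl⟩ := (Hq' R).map_surjective ψ
  obtain ⟨h⟩ := TopProjV.nonempty_homotopy_zero N K' n hN hNp hex hK f
  rw [HomotopyCategory.eq_of_homotopy f 0 h, Functor.map_zero]

variable (M K : DRing.Cx R) (hM : ∀ i : ℤ, 0 < i → IsZero (M.X i))
  (hM0 : Module.Projective R (M.X 0)) (hK : ∀ i : ℤ, i ≤ -2 → IsZero (K.X i))

include hM hM0 hK in
/-- precomposition with a projective resolution is bijective on homotopy classes -/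
lemma precomp_bijective (P : DRing.Cx R) (π : P ⟶ M) (hPv : DRing.VanishesAbove P 0)
    (hPp : ∀ i : ℤ, Module.Projective R (P.X i)) (hπ : QuasiIso π) :
    Function.Bijective (fun φ : (Hq' R).obj M ⟶ (Hq' R).obj K => (Hq' R).map π ≫ φ) := by
  have hNex := (quasiIso_iff_acyclic_cone π).mp hπ
  have hNv : DRing.VanishesAbove (mappingCone π) 0 :=
    cone_vanishesAbove π 0 (fun i hi => hPv i (by omega)) hM
  have hNp : Module.Projective R ((mappingCone π).X 0) := by
    have := hPp (0 + 1)
    exact Module.Projective.of_equiv (coneXEquiv π 0).symm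
  have hT := HomotopyCategory.mappingCone_triangleh_distinguished π
  have inj0 : ∀ φ : (Hq' R).obj M ⟶ (Hq' R).obj K, (Hq' R).map π ≫ φ = 0 → φ = 0 := by
    intro φ h
    obtain ⟨g, hg⟩ := Triangle.yoneda_exact₂ _ hT φ h
    have hg0 : g = 0 :=
      hom_eq_zero (mappingCone π) K 0 hNv hNp hNex (fun i hi => hK i (by omega)) g
    subst hg0
    exact hg.trans comp_zero
  constructor
  · intro φ₁ φ₂ h
    have : (Hq' R).map π ≫ (φ₁ - φ₂) = 0 := by
      rw [Preadditive.comp_sub]
      exact sub_eq_zero.mpr h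
    exact sub_eq_zero.mp (inj0 _ this)
  · intro γ
    have hz : (mappingCone.triangleh π).invRotate.mor₁ ≫ γ = 0 := by
      let e := ((Hq' R).commShiftIso (-1 : ℤ)).app (mappingCone π)
      have e1 : (1 : ℤ) + -1 = 0 := by norm_num
      have hp : Module.Projective R (((mappingCone π)⟦(-1 : ℤ)⟧).X 1) :=
        Module.Projective.of_equiv ((mappingCone π).XIsoOfEq e1).toLinearEquiv.symm
      have key : e.hom ≫ ((mappingCone.triangleh π).invRotate.mor₁ ≫ γ) = 0 :=
        hom_eq_zero ((mappingCone π)⟦(-1 : ℤ)⟧) K 1 (fun i hi => hNv (i + -1) (by omega)) hp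
          (fun i => (exactAt_shift_iff (mappingCone π) (-1) i (-1 + i) rfl).mpr (hNex _))
          (fun i hi => hK i (by omega)) (e.hom ≫ ((mappingCone.triangleh π).invRotate.mor₁ ≫ γ))
      exact (cancel_epi e.hom).mp (key.trans comp_zero.symm)
    obtain ⟨g, hg⟩ := Triangle.yoneda_exact₂ _ (inv_rot_of_distTriang _ hT) γ hz
    exact ⟨g, hg.symm⟩

include hM hM0 hK in
theorem bijective_Qh_map :
    Function.Bijective (fun φ : (Hq' R).obj M ⟶ (Hq' R).obj K => DerivedCategory.Qh.map φ) := by
  have hb : (DRing.toD M).IsLE 0 := by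
    have := isStrictlyLE_of_vanishesAbove M 0 hM
    infer_instance
  obtain ⟨P, π, hPv, hPp, hπ⟩ := exists_projective_resolution M 0 hb
  have hPk : P.IsKProjective := isKProjective_of_vanishesAbove P 0 hPv hPp
  have hbij := precomp_bijective M K hM hM0 hK P π hPv hPp hπ
  have hQ := CochainComplex.IsKProjective.Qh_map_bijective P ((Hq' R).obj K)
  have hiso : IsIso (DerivedCategory.Qh.map ((Hq' R).map π)) := by
    rw [DerivedCategory.isIso_Qh_map_iff, HomotopyCategory.quotient_map_mem_quasiIso_iff]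
    exact hπ
  constructor
  · intro φ₁ φ₂ h
    apply hbij.1
    apply hQ.1
    show DerivedCategory.Qh.map ((Hq' R).map π ≫ φ₁) = DerivedCategory.Qh.map ((Hq' R).map π ≫ φ₂)
    rw [Functor.map_comp, Functor.map_comp]
    exact congrArg _ h
  · intro ψ
    obtain ⟨γ, hγ⟩ := hQ.2 (DerivedCategory.Qh.map ((Hq' R).map π) ≫ ψ)
    obtain ⟨φ, hφ⟩ := hbij.2 γ
    refine ⟨φ, ?_⟩
    show DerivedCategory.Qh.map φ = ψ
    rw [← cancel_epi (DerivedCategory.Qh.map ((Hq' R).map π)), ← hγ, ← Functor.map_comp]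
    exact congrArg _ hφ

end Groth.Agent.Helper6.TopProj
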