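import Mathlib
import Groth.Prelude.Def_Wider
import Groth.Prelude.Def_DRing2
import Groth.Agent.Helper6.TopProj

/-!
# Extension classes of a two-term complex against a map from a top-projective complex
-/

set_option autoImplicit false
universe u

open CategoryTheory Limits Pretriangulated CochainComplex DerivedCategory HomComplex
attribute [local instance] HasDerivedCategory.standard

namespace Groth.Agent.Helper6.TopProj

open Groth.Agent.Helper3.DRingLib

variable {R : Type u} [CommRing R]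

/-- the complex with `N` in degree `-1` -/
noncomputable abbrev sgl (N : ModuleCat.{u} R) : DRing.Cx R :=
  (HomologicalComplex.single (ModuleCat.{u} R) (ComplexShape.up ℤ) (-1)).obj N

/-- `N[0]⟦1⟧ ≅ Q (N in degree -1)` -/
noncomputable def θ (N : ModuleCat.{u} R) :
    ((DerivedCategory.singleFunctor (ModuleCat.{u} R) 0).obj N)⟦(1 : ℤ)⟧ ≅ DRing.toD (sgl N) :=
  ((DerivedCategory.singleFunctors (ModuleCat.{u} R)).shiftIso 1 (-1) 0 (by norm_num)).app N ≪≫
    (DerivedCategory.singleFunctorIsoCompQ (ModuleCat.{u} R) (-1)).app N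

lemma sgl_isZero (N : ModuleCat.{u} R) (i : ℤ) (hi : i ≠ -1) : IsZero ((sgl N).X i) :=
  HomologicalComplex.isZero_single_obj_X _ _ _ _ hi

/-- `Q.map f = 0` implies `f` null-homotopic, for `M` top-projective and target `sgl N` -/
lemma homotopy_of_Q_map_eq_zero (M : DRing.Cx R) (hM : ∀ i : ℤ, 0 < i → IsZero (M.X i))
    (hM0 : Module.Projective R (M.X 0)) (N : ModuleCat.{u} R) (f : M ⟶ sgl N)
    (hf : DerivedCategory.Q.map f = 0) : Nonempty (Homotopy f 0) := by
  have hbij := bijective_Qh_map M (sgl N) hM hM0 (fun i hi => sgl_isZero N i (by omega))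
  have h1 : DerivedCategory.Qh.map ((Hq' R).map f) = DerivedCategory.Qh.map ((Hq' R).map 0) := by
    let e := DerivedCategory.quotientCompQhIso (ModuleCat.{u} R)
    have nat : DerivedCategory.Qh.map ((Hq' R).map f) ≫ e.hom.app (sgl N) =
        e.hom.app M ≫ DerivedCategory.Q.map f := e.hom.naturality f
    have nat0 : DerivedCategory.Qh.map ((Hq' R).map (0 : M ⟶ sgl N)) ≫ e.hom.app (sgl N) =
        e.hom.app M ≫ DerivedCategory.Q.map (0 : M ⟶ sgl N) := e.hom.naturality 0
    rw [← cancel_mono (e.hom.app (sgl N))]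
    refine nat.trans ?_
    refine Eq.trans ?_ nat0.symm
    rw [hf, Functor.map_zero]
  exact ⟨HomotopyCategory.homotopyOfEq _ _ (hbij.1 h1)⟩

/-- every morphism `Q K ⟶ Q (sgl N)` comes from a chain map, for `K` top-projective -/
lemma exists_Q_map_eq (M : DRing.Cx R) (hM : ∀ i : ℤ, 0 < i → IsZero (M.X i))
    (hM0 : Module.Projective R (M.X 0)) (N : ModuleCat.{u} R)
    (ξ : DRing.toD M ⟶ DRing.toD (sgl N)) : ∃ g : M ⟶ sgl N, DerivedCategory.Q.map g = ξ := by
  have hbij := bijective_Qh_map M (sgl N) hM hM0 (fun i hi => sgl_isZero N i (by omega))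
  let e := DerivedCategory.quotientCompQhIso (ModuleCat.{u} R)
  obtain ⟨φ, hφ⟩ := hbij.2 (e.hom.app M ≫ ξ ≫ e.inv.app (sgl N))
  obtain ⟨g, rfl⟩ := (Hq' R).map_surjective φ
  refine ⟨g, ?_⟩
  have nat : DerivedCategory.Qh.map ((Hq' R).map g) ≫ e.hom.app (sgl N) =
      e.hom.app M ≫ DerivedCategory.Q.map g := e.hom.naturality g
  rw [← cancel_epi (e.hom.app M)]
  refine nat.symm.trans ?_
  have hφ' : DerivedCategory.Qh.map ((Hq' R).map g) = e.hom.app M ≫ ξ ≫ e.inv.app (sgl N) := hφ
  rw [hφ', Category.assoc, Category.assoc, ← NatTrans.comp_app, e.inv_hom_id]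
  erw [Category.comp_id]

end Groth.Agent.Helper6.TopProj
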