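import Mathlib
import Groth.Agent.Helper6.TenCxQis
import Groth.Agent.Helper6.KFlatRes
import Groth.Agent.Helper6.MixCompute

/-!
# A retract argument for `- ⊗ P` with `P` K-flat
-/

set_option autoImplicit false
set_option linter.style.haveILetI false
set_option linter.unusedSectionVars false

universe u
open CategoryTheory CategoryTheory.Limits MonoidalCategory DerivedCategory
attribute [local instance] HasDerivedCategory.standard

namespace Groth.Agent.Helper6.TorAR

open Groth.Agent.Helper6.TenCx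

variable {A : Type u} [CommRing A]

lemma zero_whiskerRight' (P : DRing.Cx A) (U V : DRing.Cx A) : (0 : U ⟶ V) ▷ P = 0 := by
  refine HomologicalComplex.hom_ext _ _ (fun n => hom_ext (fun p q hpq => ?_))
  rw [ι_whiskerRight, HomologicalComplex.zero_f, HomologicalComplex.zero_f,
    MonoidalPreadditive.zero_whiskerRight, zero_comp, comp_zero]

/-- a map which is zero in the derived category stays zero on cohomology after `- ⊗ P`,
`P` K-flat -/
theorem homologyMap_whiskerRight_eq_zero {U V : DRing.Cx A} (P : DRing.Cx A) (hP : KFlat P)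
    (f : U ⟶ V) (hf : Q.map f = 0) (i : ℤ) :
    HomologicalComplex.homologyMap (f ▷ P) i = 0 := by
  let H : DRing.Cx A ⥤ ModuleCat.{u} A :=
    tensorRight P ⋙ HomologicalComplex.homologyFunctor _ _ i
  have hinv : (HomologicalComplex.quasiIso (ModuleCat.{u} A) (ComplexShape.up ℤ)).IsInvertedBy H := by
    intro X Y g hg
    have hg' : QuasiIso g := (HomologicalComplex.mem_quasiIso_iff g).mp hg
    haveI : QuasiIso (g ▷ P) := quasiIso_whiskerRight hP g hg'
    exact (quasiIsoAt_iff_isIso_homologyMap (g ▷ P) i).mp inferInstance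
  let G := Localization.lift H hinv Q
  let e : Q ⋙ G ≅ H := Localization.fac H hinv Q
  have h1 : ∀ g : U ⟶ V, H.map g = e.inv.app U ≫ G.map (Q.map g) ≫ e.hom.app V := fun g =>
    ((Iso.inv_comp_eq (e.app U)).mpr (e.hom.naturality g)).symm
  have hq0 : Q.map (0 : U ⟶ V) = 0 := Functor.map_zero _ _ _
  have h2 : H.map f = H.map 0 := by rw [h1 f, h1 0, hf, hq0]
  have h3 : H.map (0 : U ⟶ V) = 0 := by
    show HomologicalComplex.homologyMap ((0 : U ⟶ V) ▷ P) i = 0
    rw [zero_whiskerRight', HomologicalComplex.homologyMap_zero]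
  exact h2.trans h3

/-- the retract argument -/
theorem main_abstract {Xn X Kz P N0 : DRing.Cx A} (φ : Xn ⟶ X) (hKz : KFlat Kz) (hP : KFlat P)
    (hz : Q.map (φ ▷ Kz) = 0) (s : P ⟶ Kz ⊗ P) (t : Kz ⊗ P ⟶ N0) (hst : QuasiIso (s ≫ t))
    (i : ℤ) : HomologicalComplex.homologyMap (φ ▷ P) i = 0 := by
  have h1 : HomologicalComplex.homologyMap ((φ ▷ Kz) ▷ P) i = 0 :=
    homologyMap_whiskerRight_eq_zero P hP _ hz i
  have h1' : HomologicalComplex.homologyMap (φ ▷ (Kz ⊗ P)) i = 0 := by
    have hn : ((φ ▷ Kz) ▷ P) ≫ (α_ X Kz P).hom = (α_ Xn Kz P).hom ≫ (φ ▷ (Kz ⊗ P)) :=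
      MonoidalCategory.associator_naturality_left φ Kz P
    have h2 : φ ▷ (Kz ⊗ P) = (α_ Xn Kz P).inv ≫ ((φ ▷ Kz) ▷ P) ≫ (α_ X Kz P).hom := by
      rw [hn, Iso.inv_hom_id_assoc]
    rw [h2, HomologicalComplex.homologyMap_comp, HomologicalComplex.homologyMap_comp, h1,
      zero_comp, comp_zero]
  have h2 : HomologicalComplex.homologyMap (φ ▷ P) i ≫
      HomologicalComplex.homologyMap (X ◁ s) i = 0 := by
    rw [← HomologicalComplex.homologyMap_comp, ← whisker_exchange,
      HomologicalComplex.homologyMap_comp, h1', comp_zero]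
  obtain ⟨F, q, hF, -, hq, -⟩ := KFlatRes.exists_resolution X
  haveI : QuasiIso (q ▷ P) := quasiIso_whiskerRight hP q hq
  haveI : QuasiIso (q ▷ (Kz ⊗ P)) :=
    quasiIso_whiskerRight (MixCompute.kflat_tensor hKz hP) q hq
  haveI : QuasiIso (F ◁ (s ≫ t)) := quasiIso_whiskerLeft hF _ hst
  have hsq : (q ▷ P) ≫ (X ◁ s) = (F ◁ s) ≫ (q ▷ (Kz ⊗ P)) := (whisker_exchange q s).symm
  haveI i1 : IsIso (HomologicalComplex.homologyMap (q ▷ P) i) :=
    (quasiIsoAt_iff_isIso_homologyMap _ i).mp inferInstance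
  haveI i2 : IsIso (HomologicalComplex.homologyMap (q ▷ (Kz ⊗ P)) i) :=
    (quasiIsoAt_iff_isIso_homologyMap _ i).mp inferInstance
  haveI i3 : IsIso (HomologicalComplex.homologyMap (F ◁ (s ≫ t)) i) :=
    (quasiIsoAt_iff_isIso_homologyMap _ i).mp inferInstance
  haveI hc : Mono (HomologicalComplex.homologyMap (F ◁ s) i) := by
    have h3 : HomologicalComplex.homologyMap (F ◁ s) i ≫ HomologicalComplex.homologyMap (F ◁ t) i =
        HomologicalComplex.homologyMap (F ◁ (s ≫ t)) i := by
      rw [← HomologicalComplex.homologyMap_comp, ← MonoidalCategory.whiskerLeft_comp]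
    exact mono_of_mono_fac h3
  haveI hb : Mono (HomologicalComplex.homologyMap (X ◁ s) i) := by
    have e1 : HomologicalComplex.homologyMap (q ▷ P) i ≫ HomologicalComplex.homologyMap (X ◁ s) i =
        HomologicalComplex.homologyMap (F ◁ s) i ≫
          HomologicalComplex.homologyMap (q ▷ (Kz ⊗ P)) i := by
      rw [← HomologicalComplex.homologyMap_comp, hsq, HomologicalComplex.homologyMap_comp]
    haveI : Mono (HomologicalComplex.homologyMap (q ▷ P) i ≫
        HomologicalComplex.homologyMap (X ◁ s) i) := by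
      rw [e1]
      infer_instance
    have e2 : HomologicalComplex.homologyMap (X ◁ s) i =
        inv (HomologicalComplex.homologyMap (q ▷ P) i) ≫
          (HomologicalComplex.homologyMap (q ▷ P) i ≫
            HomologicalComplex.homologyMap (X ◁ s) i) := by
      rw [IsIso.inv_hom_id_assoc]
    rw [e2]
    infer_instance
  exact (cancel_mono (HomologicalComplex.homologyMap (X ◁ s) i)).mp (h2.trans zero_comp.symm)

end Groth.Agent.Helper6.TorAR
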