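import Mathlib
import Groth.Agent.Helper6.LTenAR1
import Groth.Agent.Helper6.LTenAR2

/-!
# A module killed by `I` is a retract of `K(l) ⊗ -`
-/

set_option autoImplicit false
set_option linter.style.haveILetI false
set_option linter.unusedSectionVars false

universe u
open CategoryTheory CategoryTheory.Limits MonoidalCategory

namespace Groth.Agent.Helper6.TorAR

open Groth.Agent.Helper6.TenCx Groth.Agent.Helper6.SingleTen Groth.Agent.Helper6.LTenAR2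

variable {A : Type u} [CommRing A]

lemma leftUnitor_inv_f_apply (K : DRing.Cx A) (i : ℤ) (x : K.X i) :
    ((λ_ K).inv.f i).hom x = (ι (𝟙_ (DRing.Cx A)) K 0 i i (zero_add i)).hom
      (((HomologicalComplex.singleObjXSelf (ComplexShape.up ℤ) 0
        (𝟙_ (ModuleCat.{u} A))).inv.hom (1 : A)) ⊗ₜ[A] x) := by
  have h := HomologicalComplex.leftUnitor'_inv K i
  have h' : (λ_ K).inv.f i = (HomologicalComplex.leftUnitor' K).inv i := rfl
  rw [h', h]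
  rfl

section act

variable (I : Ideal A) (N : ModuleCat.{u} A) (hN : ∀ a ∈ I, ∀ y : N, a • y = 0)

/-- the action `(A/I) ⊗ N → N` -/
noncomputable def actLin : TensorProduct A (A ⧸ I) N →ₗ[A] N :=
  TensorProduct.lift (Submodule.liftQ I (LinearMap.lsmul A N)
    (fun a ha => LinearMap.mem_ker.mpr (LinearMap.ext fun y => hN a ha y)))

lemma actLin_tmul (a : A) (y : N) : actLin I N hN ((I.mkQ a) ⊗ₜ[A] y) = a • y := by
  unfold actLin
  rw [TensorProduct.lift.tmul]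
  rfl

/-- `A/I` in degree `0` -/
noncomputable abbrev SI : DRing.Cx A := sN (ModuleCat.of A (A ⧸ I))

/-- `A → A/I` as a map from the unit complex -/
noncomputable def qI : 𝟙_ (DRing.Cx A) ⟶ SI I := Sg.map (ModuleCat.ofHom I.mkQ)

noncomputable def m₀ : (SI I).X 0 ⊗ (sN N).X 0 ⟶ N :=
  ((isoS (ModuleCat.of A (A ⧸ I))).hom ⊗ₘ (isoS N).hom) ≫ ModuleCat.ofHom (actLin I N hN)

noncomputable def μ : SI I ⊗ sN N ⟶ sN N :=
  HomologicalComplex.mkHomToSingle (π (SI I) (sN N) 0 0 0 (add_zero 0) ≫ m₀ I N hN)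
    (fun i hi => (LTenAR2.isZero_X _ (sN N) i
      (HomologicalComplex.isZero_single_obj_X (ComplexShape.up ℤ) 0 N i (by
        have : i + 1 = 0 := hi
        omega))).eq_of_src _ _)

lemma μ_f_ι_apply (a : (SI I).X 0) (x : (sN N).X 0) :
    ((μ I N hN).f 0).hom ((ι (SI I) (sN N) 0 0 0 (zero_add 0)).hom (a ⊗ₜ[A] x)) =
      (isoS N).inv.hom (actLin I N hN
        (((isoS (ModuleCat.of A (A ⧸ I))).hom.hom a) ⊗ₜ[A] ((isoS N).hom.hom x))) := by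
  have hμ : (μ I N hN).f 0 = (π (SI I) (sN N) 0 0 0 (add_zero 0) ≫ m₀ I N hN) ≫ (isoS N).inv :=
    HomologicalComplex.mkHomToSingle_f _ _
  rw [hμ]
  show (isoS N).inv.hom ((m₀ I N hN).hom ((π (SI I) (sN N) 0 0 0 (add_zero 0)).hom
    ((ι (SI I) (sN N) 0 0 0 (zero_add 0)).hom (a ⊗ₜ[A] x)))) = _
  rw [π_ι_self]
  rfl

theorem unit_act : (λ_ (sN N)).inv ≫ (qI I ▷ sN N) ≫ μ I N hN = 𝟙 (sN N) := by
  refine HomologicalComplex.to_single_hom_ext ?_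
  refine ModuleCat.hom_ext (LinearMap.ext fun x => ?_)
  show ((μ I N hN).f 0).hom (((qI I ▷ sN N).f 0).hom (((λ_ (sN N)).inv.f 0).hom x)) = x
  rw [leftUnitor_inv_f_apply, whiskerRight_ι_apply]
  have h3 : ((qI I).f 0).hom ((HomologicalComplex.singleObjXSelf (ComplexShape.up ℤ) 0
      (𝟙_ (ModuleCat.{u} A))).inv.hom (1 : A)) =
      (isoS (ModuleCat.of A (A ⧸ I))).inv.hom (I.mkQ 1) := by
    have h := Sg_map_f_apply (ModuleCat.ofHom I.mkQ)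
      ((isoS (ModuleCat.of A A)).inv.hom (1 : A))
    rw [isoS_hom_inv] at h
    exact h
  have h4 : (((qI I).f 0 ▷ (sN N).X 0)).hom
      (((HomologicalComplex.singleObjXSelf (ComplexShape.up ℤ) 0
        (𝟙_ (ModuleCat.{u} A))).inv.hom (1 : A)) ⊗ₜ[A] x) =
      ((isoS (ModuleCat.of A (A ⧸ I))).inv.hom (I.mkQ 1)) ⊗ₜ[A] x := by
    rw [← h3]
    rfl
  rw [h4, μ_f_ι_apply, isoS_hom_inv, actLin_tmul, one_smul, isoS_inv_hom]

end act

section retract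

variable (I : Ideal A) (N : ModuleCat.{u} A) (hN : ∀ a ∈ I, ∀ y : N, a • y = 0)
  (l : List A) (hmem : ∀ x ∈ l, x ∈ I) (P : DRing.Cx A) (p : P ⟶ sN N)

/-- `P → K(l) ⊗ P` -/
noncomputable def sMap : P ⟶ Koszul.koszul A l ⊗ P := (λ_ P).inv ≫ (LTenAR.jK l ▷ P)

/-- `K(l) ⊗ P → N[0]` -/
noncomputable def tMap : Koszul.koszul A l ⊗ P ⟶ sN N :=
  (LTenAR.pK I l hmem ▷ P) ≫ (SI I ◁ p) ≫ μ I N hN

theorem sMap_tMap : sMap l P ≫ tMap I N hN l hmem P p = p := by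
  unfold sMap tMap
  have h1 : (LTenAR.jK l ▷ P) ≫ (LTenAR.pK I l hmem ▷ P) = qI I ▷ P := by
    rw [← MonoidalCategory.comp_whiskerRight, LTenAR.jK_pK]
    rfl
  have h2 : (qI I ▷ P) ≫ (SI I ◁ p) = (𝟙_ (DRing.Cx A) ◁ p) ≫ (qI I ▷ sN N) :=
    (whisker_exchange (qI I) p).symm
  have h3 : (λ_ P).inv ≫ (𝟙_ (DRing.Cx A) ◁ p) = p ≫ (λ_ (sN N)).inv :=
    (leftUnitor_inv_naturality p).symm
  calc ((λ_ P).inv ≫ (LTenAR.jK l ▷ P)) ≫ (LTenAR.pK I l hmem ▷ P) ≫ (SI I ◁ p) ≫ μ I N hN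
      = (λ_ P).inv ≫ ((LTenAR.jK l ▷ P) ≫ (LTenAR.pK I l hmem ▷ P)) ≫ (SI I ◁ p) ≫ μ I N hN := by
        simp only [Category.assoc]
    _ = (λ_ P).inv ≫ ((qI I ▷ P) ≫ (SI I ◁ p)) ≫ μ I N hN := by rw [h1, Category.assoc]
    _ = ((λ_ P).inv ≫ (𝟙_ (DRing.Cx A) ◁ p)) ≫ (qI I ▷ sN N) ≫ μ I N hN := by
        rw [h2]
        simp only [Category.assoc]
    _ = p ≫ ((λ_ (sN N)).inv ≫ (qI I ▷ sN N) ≫ μ I N hN) := by rw [h3, Category.assoc]
    _ = p := by rw [unit_act, Category.comp_id]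

end retract

end Groth.Agent.Helper6.TorAR
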