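import Mathlib
import Groth.Prelude.Def_ega3
import Groth.Agent.Helper1.TorBasic
import Groth.Agent.Helper6.HomElem3
import Groth.Agent.Helper6.TorAR1
import Groth.Agent.Helper6.TorAR2

/-!
# From cochain complexes back to `Tor`
-/

set_option autoImplicit false
set_option linter.style.haveILetI false
set_option linter.unusedSectionVars false

universe u
open CategoryTheory CategoryTheory.Limits MonoidalCategory DerivedCategory
attribute [local instance] HasDerivedCategory.standard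

namespace Groth.Agent.Helper6.TorAR

open Groth.Agent.Helper6.TenCx Groth.Agent.Helper6.SingleTen Groth.Agent.Helper6.LTenAR2
open Groth.Agent.Helper6.HomElem

variable {A : Type u} [CommRing A]

/-- `ι` as an isomorphism for a single complex on the left -/
noncomputable def ιIso (M : ModuleCat.{u} A) (P : DRing.Cx A) (n : ℤ) :
    (sN M).X 0 ⊗ P.X n ≅ (sN M ⊗ P).X n where
  hom := ι (sN M) P 0 n n (zero_add n)
  inv := π (sN M) P 0 n n (zero_add n)
  hom_inv_id := ModuleCat.hom_ext (LinearMap.ext fun t => π_ι_self' M P n t)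
  inv_hom_id := ModuleCat.hom_ext (LinearMap.ext fun w => (eq_ι_π' M P n w).symm)

lemma ι_d0 (M : ModuleCat.{u} A) (P : DRing.Cx A) (n : ℤ) :
    ι (sN M) P 0 n n (zero_add n) ≫ (sN M ⊗ P).d n (n + 1) =
      ((sN M).X 0 ◁ P.d n (n + 1)) ≫ ι (sN M) P 0 (n + 1) (n + 1) (zero_add _) :=
  ModuleCat.hom_ext (LinearMap.ext fun v => d_ι_zero M P n v)

lemma e_inv_naturality (M : ModuleCat.{u} A) (P : DRing.Cx A) (i j : ℤ) :
    (e M P i).inv ≫ ((sN M).X 0 ◁ P.d i j) = (P.d i j ▷ M) ≫ (e M P j).inv := by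
  rw [Iso.inv_comp_eq, ← Category.assoc, ← e_naturality, Category.assoc, Iso.hom_inv_id,
    Category.comp_id]

lemma e_natM {M' M : ModuleCat.{u} A} (g : M' ⟶ M) (P : DRing.Cx A) (i : ℤ) :
    ((Sg.map g).f 0 ▷ P.X i) ≫ (e M P i).hom = (e M' P i).hom ≫ (P.X i ◁ g) := by
  have h1 : (Sg.map g).f 0 ≫ (isoS M).hom = (isoS M').hom ≫ g := by
    have h := HomologicalComplex.single_map_f_self (c := ComplexShape.up ℤ)
      (V := ModuleCat.{u} A) 0 g
    rw [show (Sg.map g).f 0 = _ from h]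
    simp only [Category.assoc]
    erw [Iso.inv_hom_id, Category.comp_id]
    rfl
  simp only [e, Iso.trans_hom, whiskerLeftIso_hom]
  rw [BraidedCategory.braiding_naturality_left_assoc, ← MonoidalCategory.whiskerLeft_comp, h1,
    MonoidalCategory.whiskerLeft_comp, Category.assoc]

lemma e_inv_natM {M' M : ModuleCat.{u} A} (g : M' ⟶ M) (P : DRing.Cx A) (i : ℤ) :
    (e M' P i).inv ≫ ((Sg.map g).f 0 ▷ P.X i) = (P.X i ◁ g) ≫ (e M P i).inv := by
  rw [Iso.inv_comp_eq, ← Category.assoc, ← e_natM, Category.assoc, Iso.hom_inv_id,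
    Category.comp_id]

section bridge

variable {N : ModuleCat.{u} A} (Qr : ProjectiveResolution N)

/-- comparison of `Q_p ⊗ M` with `(M[0] ⊗ Q•)^{-p}` -/
noncomputable def θ (M : ModuleCat.{u} A) (p : ℕ) (n : ℤ) (h : -(p : ℤ) = n) :
    Qr.complex.X p ⊗ M ≅ (sN M ⊗ Qr.cochainComplex).X n :=
  whiskerRightIso (Qr.cochainComplexXIso n p h).symm M ≪≫
    (e M Qr.cochainComplex n).symm ≪≫ ιIso M Qr.cochainComplex n

lemma θ_hom (M : ModuleCat.{u} A) (p : ℕ) (n : ℤ) (h : -(p : ℤ) = n) :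
    (θ Qr M p n h).hom = ((Qr.cochainComplexXIso n p h).inv ▷ M) ≫
      (e M Qr.cochainComplex n).inv ≫ ι (sN M) Qr.cochainComplex 0 n n (zero_add n) := rfl

lemma θ_d (M : ModuleCat.{u} A) (p : ℕ) (n : ℤ) (h₁ : -((p + 1 : ℕ) : ℤ) = n)
    (h₀ : -(p : ℤ) = n + 1) :
    (Qr.complex.d (p + 1) p ▷ M) ≫ (θ Qr M p (n + 1) h₀).hom =
      (θ Qr M (p + 1) n h₁).hom ≫ (sN M ⊗ Qr.cochainComplex).d n (n + 1) := by
  have hx : (Qr.cochainComplexXIso n (p + 1) h₁).inv ≫ Qr.cochainComplex.d n (n + 1) =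
      Qr.complex.d (p + 1) p ≫ (Qr.cochainComplexXIso (n + 1) p h₀).inv := by
    rw [Qr.cochainComplex_d n (n + 1) (p + 1) p h₁ h₀, Iso.inv_hom_id_assoc]
  rw [θ_hom, θ_hom]
  simp only [Category.assoc]
  rw [ι_d0, ← Category.assoc (e M Qr.cochainComplex n).inv, e_inv_naturality]
  simp only [Category.assoc]
  have hx' : ((Qr.cochainComplexXIso n (p + 1) h₁).inv ▷ M) ≫
      (Qr.cochainComplex.d n (n + 1) ▷ M) =
      (Qr.complex.d (p + 1) p ▷ M) ≫ ((Qr.cochainComplexXIso (n + 1) p h₀).inv ▷ M) := by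
    rw [← MonoidalCategory.comp_whiskerRight, hx, MonoidalCategory.comp_whiskerRight]
  rw [reassoc_of% hx']

lemma θ_nat {M' M : ModuleCat.{u} A} (g : M' ⟶ M) (p : ℕ) (n : ℤ) (h : -(p : ℤ) = n) :
    (Qr.complex.X p ◁ g) ≫ (θ Qr M p n h).hom =
      (θ Qr M' p n h).hom ≫ (Sg.map g ▷ Qr.cochainComplex).f n := by
  rw [θ_hom, θ_hom]
  simp only [Category.assoc]
  rw [ι_whiskerRight, ← Category.assoc (e M' Qr.cochainComplex n).inv, e_inv_natM]
  simp only [Category.assoc]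
  rw [← whisker_exchange_assoc]

theorem bridge {M' M : ModuleCat.{u} A} (g : M' ⟶ M)
    (h : ∀ i : ℤ, HomologicalComplex.homologyMap (Sg.map g ▷ Qr.cochainComplex) i = 0) (p : ℕ) :
    HomologicalComplex.homologyMap (CohIII.tensorMap Qr.complex g) p = 0 := by
  rw [homologyMap_eq_zero_iff _ (p + 1) p ((ComplexShape.down ℕ).next p) (ChainComplex.prev ℕ p)
    rfl]
  intro z hz
  obtain ⟨n, hn⟩ : ∃ n : ℤ, -((p : ℤ) + 1) = n := ⟨_, rfl⟩
  have h₁ : -((p + 1 : ℕ) : ℤ) = n := by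
    rw [← hn]
    push_cast
    ring
  have h₀ : -(p : ℤ) = n + 1 := by
    rw [← hn]
    ring
  obtain ⟨z', hz'⟩ : ∃ z' : (sN M' ⊗ Qr.cochainComplex).X (n + 1),
      z' = (θ Qr M' p (n + 1) h₀).hom.hom z := ⟨_, rfl⟩
  have hdz' : (sN M' ⊗ Qr.cochainComplex).d (n + 1) (n + 1 + 1) z' = 0 := by
    cases p with
    | zero =>
      have hZ : IsZero ((sN M' ⊗ Qr.cochainComplex).X (n + 1 + 1)) :=
        LTenAR2.isZero_X M' Qr.cochainComplex (n + 1 + 1)
          (CochainComplex.isZero_of_isStrictlyLE _ 0 _ (by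
            simp only [Nat.cast_zero, neg_zero] at h₀
            omega))
      exact congrArg (fun f => f.hom z')
        (hZ.eq_of_tgt ((sN M' ⊗ Qr.cochainComplex).d (n + 1) (n + 1 + 1)) 0)
    | succ q =>
      have hz2 : (Qr.complex.d (q + 1) q ▷ M').hom z = 0 := by
        rw [ChainComplex.next_nat_succ] at hz
        exact hz
      have hq0 : -(q : ℤ) = n + 1 + 1 := by
        rw [← hn]
        push_cast
        ring
      have e1 := congrArg (fun f => f.hom z) (θ_d Qr M' q (n + 1) h₀ hq0)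
      have e1' : (θ Qr M' q (n + 1 + 1) hq0).hom.hom ((Qr.complex.d (q + 1) q ▷ M').hom z) =
          (sN M' ⊗ Qr.cochainComplex).d (n + 1) (n + 1 + 1)
            ((θ Qr M' (q + 1) (n + 1) h₀).hom.hom z) := e1
      rw [hz', ← e1', hz2, map_zero]
  obtain ⟨y', hy'⟩ := (homologyMap_eq_zero_iff (Sg.map g ▷ Qr.cochainComplex) n (n + 1)
    (n + 1 + 1) (by simp) (by simp)).mp (h (n + 1)) z' hdz'
  refine ⟨(θ Qr M (p + 1) n h₁).inv.hom y', ?_⟩
  have hinj : Function.Injective (θ Qr M p (n + 1) h₀).hom.hom :=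
    (ModuleCat.mono_iff_injective _).mp inferInstance
  apply hinj
  have e1 := congrArg (fun f => f.hom ((θ Qr M (p + 1) n h₁).inv.hom y')) (θ_d Qr M p n h₁ h₀)
  have e2 := congrArg (fun f => f.hom z) (θ_nat Qr g p (n + 1) h₀)
  have e3 : (θ Qr M (p + 1) n h₁).hom.hom ((θ Qr M (p + 1) n h₁).inv.hom y') = y' :=
    congrArg (fun f => f.hom y') (θ Qr M (p + 1) n h₁).inv_hom_id
  calc (θ Qr M p (n + 1) h₀).hom.hom
        ((CohIII.tensorObj Qr.complex M).d (p + 1) p ((θ Qr M (p + 1) n h₁).inv.hom y'))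
      = (sN M ⊗ Qr.cochainComplex).d n (n + 1)
          ((θ Qr M (p + 1) n h₁).hom.hom ((θ Qr M (p + 1) n h₁).inv.hom y')) := e1
    _ = (sN M ⊗ Qr.cochainComplex).d n (n + 1) y' := by rw [e3]
    _ = ((Sg.map g ▷ Qr.cochainComplex).f (n + 1)).hom z' := hy'
    _ = (θ Qr M p (n + 1) h₀).hom.hom ((CohIII.tensorMap Qr.complex g).f p z) := by
        rw [hz']
        exact e2.symm

end bridge

end Groth.Agent.Helper6.TorAR
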