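import Mathlib
import Groth.Agent.Helper6.LTenAR3
import Groth.Agent.Helper6.TorAR3

/-!
# `Tor_p(I^n M, N) → Tor_p(M, N)` vanishes for `n ≫ 0`, uniformly in `p`, when `I N = 0`
-/

set_option autoImplicit false
set_option linter.style.haveILetI false
set_option linter.unusedSectionVars false

universe u
open CategoryTheory CategoryTheory.Limits MonoidalCategory DerivedCategory
attribute [local instance] HasDerivedCategory.standard

namespace Groth.Agent.Helper6.TorAR

open Groth.Agent.Helper6.TenCx Groth.Agent.Helper6.SingleTen Groth.Agent.Helper6.LTenAR2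
open Groth.Agent.Helper6.LTenAR Groth.Agent.Helper6.GhostAR

variable {A : Type u} [CommRing A]

lemma kflat_cochainComplex {N : ModuleCat.{u} A} (Qr : ProjectiveResolution N) :
    KFlat Qr.cochainComplex := by
  refine kflat_of_boundedAbove_flat _ 0
    (fun i hi => CochainComplex.isZero_of_isStrictlyLE _ 0 i hi) (fun i => ?_)
  haveI : Module.Projective A (Qr.cochainComplex.X i) :=
    (IsProjective.iff_projective (R := A) (P := Qr.cochainComplex.X i)).mpr
      (inferInstance : Projective (Qr.cochainComplex.X i))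
  infer_instance

theorem tor_map_eq_zero (I : Ideal A) (N : ModuleCat.{u} A) (hN : ∀ a ∈ I, ∀ y : N, a • y = 0)
    (l : List A) (hmem : ∀ x ∈ l, x ∈ I) {M' M : ModuleCat.{u} A} (g : M' ⟶ M)
    (hz : Q.map (LTenAR2.Sg.map g ▷ Koszul.koszul A l) = 0) (p : ℕ) :
    ((Tor (ModuleCat.{u} A) p).map g).app N = 0 := by
  let Qr : ProjectiveResolution N := projectiveResolution N
  have hP : KFlat Qr.cochainComplex := kflat_cochainComplex Qr
  have hKz : KFlat (Koszul.koszul A l) :=
    kflat_of_boundedAbove_flat _ 0 (fun i hi => koszul_isZero l i (Or.inr hi)) (koszul_flat l)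
  obtain ⟨pi, hpi⟩ : ∃ pi : Qr.cochainComplex ⟶ sN N, QuasiIso pi := ⟨Qr.π', (inferInstance : QuasiIso Qr.π')⟩
  have hst : QuasiIso (sMap l Qr.cochainComplex ≫ tMap I N hN l hmem Qr.cochainComplex pi) := by
    rw [sMap_tMap]
    exact hpi
  have h := fun i : ℤ => main_abstract (LTenAR2.Sg.map g) hKz hP hz (sMap l Qr.cochainComplex)
    (tMap I N hN l hmem Qr.cochainComplex pi) hst i
  have hb : (CohIII.TFun Qr.complex p).map g = 0 := bridge Qr g h p
  have key := Groth.Agent.Helper1.TorLib.torIsoT_naturality Qr p g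
  rw [hb, comp_zero] at key
  exact (cancel_mono (Groth.Agent.Helper1.TorLib.torIsoT Qr p M).hom).mp (key.trans zero_comp.symm)

theorem main (A : Type u) [CommRing A] [IsNoetherianRing A] (I : Ideal A)
    (M N : Type u) [AddCommGroup M] [Module A M] [Module.Finite A M] [AddCommGroup N] [Module A N]
    (hN : ∀ a ∈ I, ∀ y : N, a • y = 0) :
    ∃ n : ℕ, 0 < n ∧ ∀ p : ℕ,
      ((CategoryTheory.Tor (ModuleCat.{u} A) p).map
        (ModuleCat.ofHom (I ^ n • ⊤ : Submodule A M).subtype)).app (ModuleCat.of A N) = 0 := by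
  obtain ⟨s, hs⟩ := (IsNoetherian.noetherian I : I.FG)
  obtain ⟨l, hl⟩ : ∃ l : List A, Ideal.span {x | x ∈ l} = I := by
    refine ⟨s.toList, ?_⟩
    have : {x : A | x ∈ s.toList} = (s : Set A) := by ext x; simp
    rw [this]
    exact hs
  have hmem : ∀ x ∈ l, x ∈ I := fun x hx => hl ▸ Ideal.subset_span hx
  have hflat : ∀ q, Module.Flat A ((Koszul.koszul A l).X q) := koszul_flat l
  obtain ⟨n0, hn0⟩ := (dataTen I M (Koszul.koszul A l) hflat).main (-(l.length : ℤ)) 0
    (fun q hq => isZero_X _ _ q (koszul_isZero l q hq))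
    (fun q => by
      haveI := koszul_finite l q
      exact finite_X (ModuleCat.of A M) (Koszul.koszul A l) q)
    (fun q x hx c => by
      obtain ⟨H⟩ := koszul_null l x (hl ▸ hx)
      exact smul_homology_eq_zero (Koszul.koszul A l) _ x H q c)
  have hz : Q.map ((dataTen I M (Koszul.koszul A l) hflat).μ (n0 + 1)) = 0 := by
    have h1 := hn0 1 (Nat.le_add_left 1 n0)
    rw [← (dataTen I M (Koszul.koszul A l) hflat).t_μ 1 (n0 + 1) (Nat.le_add_left 1 n0),
      Functor.map_comp, h1, zero_comp]
  refine ⟨n0 + 1, Nat.succ_pos _, fun p => ?_⟩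
  exact tor_map_eq_zero I (ModuleCat.of A N) hN l hmem
    (ModuleCat.ofHom (I ^ (n0 + 1) • (⊤ : Submodule A M)).subtype) hz p

end Groth.Agent.Helper6.TorAR
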