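import Mathlib
import Groth.Prelude.Def_DRing4
import Groth.Agent.S6942
import Groth.Agent.S6988

set_option autoImplicit false
universe u
open CategoryTheory Limits DerivedCategory

namespace Groth.Agent.Helper6.TorsHom

attribute [local instance] HasDerivedCategory.standard

variable (A : Type u) [CommRing A]

/-- the natural iso `H^i ((M[0])[-i]) ≅ M`. -/
noncomputable def Φ (i : ℤ) :
    singleFunctor (ModuleCat.{u} A) 0 ⋙ shiftFunctor (DerivedCategory (ModuleCat.{u} A)) (-i) ⋙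
      homologyFunctor (ModuleCat.{u} A) i ≅ 𝟭 (ModuleCat.{u} A) :=
  Functor.isoWhiskerLeft _ ((homologyFunctor (ModuleCat.{u} A) 0).shiftIso (-i) i 0 (by simp)) ≪≫
    singleFunctorCompHomologyFunctorIso (ModuleCat.{u} A) 0


variable {A}

lemma smul_top_quot_eq_bot {M : Type u} [AddCommGroup M] [Module A M] (I : Ideal A) :
    I • (⊤ : Submodule A (M ⧸ (I • ⊤ : Submodule A M))) = ⊥ := by
  have h1 : Submodule.map (I • ⊤ : Submodule A M).mkQ (I • ⊤) = I • ⊤ := by
    rw [Submodule.map_smul'', Submodule.map_top, Submodule.range_mkQ]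
  rw [← h1, Submodule.mkQ_map_self]

theorem main [IsNoetherianRing A] (K : Dual.D A)
    (hb : ∃ b : ℤ, ∀ j : ℤ, b < j → Subsingleton (Dual.HD A K j))
    (hfin : ∀ j : ℤ, Module.Finite A (Dual.HD A K j)) (m : Ideal A) [m.IsMaximal] (i : ℤ)
    (hi : m • (⊤ : Submodule A (Dual.HD A K i)) ≠ ⊤) :
    ∃ (E : Type u) (_ : AddCommGroup E) (_ : Module A E) (_ : Module.Finite A E) (n : ℕ)
      (_ : m ^ n • (⊤ : Submodule A E) = ⊥)
      (f : K ⟶ (shiftFunctor (Dual.D A) (-i)).obj (Dual.inD A E)),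
      (DerivedCategory.homologyFunctor (ModuleCat.{u} A) i).map f ≠ 0 := by
  have hK : DRing.IsPseudoCoherent' A K :=
    Groth.Agent.Helper3.DRingLib.isPseudoCoherent'_of_forall K
      (fun m' => ((Groth.Agent.S6942.result A m' K PUnit.{u+1}).1).2 ⟨hb, fun j _ => hfin j⟩)
  obtain ⟨M, _, _, hMfp, f, hf⟩ := Groth.Agent.S6988.result A K hK i
  haveI : Module.Finite A M := inferInstance
  -- the injection
  let ψc : (homologyFunctor (ModuleCat.{u} A) i).obj K ⟶ ModuleCat.of A M :=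
    (homologyFunctor (ModuleCat.{u} A) i).map f ≫ (Φ A i).hom.app (ModuleCat.of A M)
  haveI h1 : Mono ((homologyFunctor (ModuleCat.{u} A) i).map f) := hf
  haveI h2 : IsIso ((Φ A i).hom.app (ModuleCat.of A M)) := inferInstance
  haveI : Mono ψc := @mono_comp _ _ _ _ _ _ h1 _ (IsIso.mono_of_iso _)
  let ψ : Dual.HD A K i →ₗ[A] M := ψc.hom
  have hψ : Function.Injective ψ := (ModuleCat.mono_iff_injective ψc).1 inferInstance
  set N : Submodule A M := LinearMap.range ψ with hN
  have hN1 : m • N ≠ N := by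
    intro h
    apply hi
    apply Submodule.map_injective_of_injective hψ
    rw [Submodule.map_smul'', Submodule.map_top]
    exact h
  obtain ⟨k, hk⟩ := Ideal.exists_pow_inf_eq_pow_smul m N
  have hnot : ¬ N ≤ m ^ (k + 1) • (⊤ : Submodule A M) := by
    intro hle
    apply hN1
    apply le_antisymm Submodule.smul_le_right
    have h2 := hk (k + 1) (by omega)
    have h3 : N = m ^ (k + 1) • ⊤ ⊓ N := (inf_eq_right.2 hle).symm
    have h5 : k + 1 - k = 1 := by omega
    calc N = m ^ (k + 1) • ⊤ ⊓ N := h3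
      _ = m ^ (k + 1 - k) • (m ^ k • ⊤ ⊓ N) := h2
      _ = m • (m ^ k • ⊤ ⊓ N) := by rw [h5, pow_one]
      _ ≤ m • N := Submodule.smul_mono le_rfl inf_le_right
  let S : Submodule A M := m ^ (k + 1) • (⊤ : Submodule A M)
  let q : ModuleCat.of A M ⟶ ModuleCat.of A (M ⧸ S) := ModuleCat.ofHom S.mkQ
  let g : (shiftFunctor (Dual.D A) (-i)).obj (Dual.inD A M) ⟶
      (shiftFunctor (Dual.D A) (-i)).obj (Dual.inD A (M ⧸ S)) :=
    (shiftFunctor (Dual.D A) (-i)).map ((singleFunctor (ModuleCat.{u} A) 0).map q)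
  refine ⟨M ⧸ S, inferInstance, inferInstance, inferInstance, k + 1, smul_top_quot_eq_bot _, f ≫ g, ?_⟩
  intro h0
  apply hnot
  have hnat := (Φ A i).hom.naturality q
  have h4 : ψc ≫ q = 0 := by
    have : (homologyFunctor (ModuleCat.{u} A) i).map (f ≫ g) ≫
        (Φ A i).hom.app (ModuleCat.of A (M ⧸ S)) = ψc ≫ q := by
      rw [Functor.map_comp, Category.assoc]
      change _ ≫ ((singleFunctor (ModuleCat.{u} A) 0 ⋙ shiftFunctor _ (-i) ⋙
        homologyFunctor (ModuleCat.{u} A) i).map q ≫ _) = _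
      rw [hnat]
      rfl
    rw [← this, h0, zero_comp]
  rintro _ ⟨x, rfl⟩
  have h5 : S.mkQ (ψ x) = 0 := by
    have := congrArg (fun t => t.hom x) h4
    exact this
  exact (Submodule.Quotient.mk_eq_zero S).1 h5

end Groth.Agent.Helper6.TorsHom
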