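import Mathlib
import Groth.Agent.Helper6.FlatBCH
import Groth.Agent.Helper6.TorsMod

/-!
# Torsion parts in `D(A)` and flat base change
-/

set_option autoImplicit false
universe u
open CategoryTheory CategoryTheory.Limits DerivedCategory Pretriangulated

attribute [local instance] HasDerivedCategory.standard

namespace Groth.Agent.Helper6.TorsPart

open Groth.Agent.Helper6.FlatBC Groth.Agent.Helper6.TorsMod TensorProduct

variable {A : Type u} [CommRing A]

/-- the cohomology modules are `g`-power torsion -/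
def HTors (g : A) (X : Dual.D A) : Prop := ∀ i : ℤ, TorsEl g (Dual.HD A X i)

/-- `g` acts bijectively on the cohomology modules -/
def HBij (g : A) (X : Dual.D A) : Prop := ∀ i : ℤ, BijEl g (Dual.HD A X i)

lemma HTors.of_iso {g : A} {X Y : Dual.D A} (e : X ≅ Y) (h : HTors g X) : HTors g Y := fun i =>
  (h i).of_equiv ((DerivedCategory.homologyFunctor (ModuleCat.{u} A) i).mapIso e).toLinearEquiv

lemma HBij.of_iso {g : A} {X Y : Dual.D A} (e : X ≅ Y) (h : HBij g X) : HBij g Y := fun i =>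
  (h i).of_equiv ((DerivedCategory.homologyFunctor (ModuleCat.{u} A) i).mapIso e).toLinearEquiv

section general

variable (B : Type u) [CommRing B] [Algebra A B] [Module.Flat A B]

/-- `T X = R E X` -/
noncomputable abbrev TD (X : Dual.D A) : Dual.D A := (RD A B).obj ((ED A B).obj X)

/-- the unit `X ⟶ T X`, with explicit type -/
noncomputable def unitTD (X : Dual.D A) : X ⟶ TD B X := (adjD A B).unit.app X

lemma unitTD_eq (X : Dual.D A) : unitTD B X = (adjD A B).unit.app X := rfl

lemma HTors.TD {g : A} {X : Dual.D A} (h : HTors g X) : HTors g (TD B X) := fun i => by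
  obtain ⟨e, -⟩ := exists_HD_equiv (B := B) X i
  exact ((h i).tensor B).of_equiv e.symm

lemma HBij.TD {g : A} {X : Dual.D A} (h : HBij g X) : HBij g (TD B X) := fun i => by
  obtain ⟨e, -⟩ := exists_HD_equiv (B := B) X i
  exact ((h i).tensor B).of_equiv e.symm

/-- (A1) the unit is an isomorphism if it is so on cohomology -/
theorem isIso_unit_of_bijective (X : Dual.D A)
    (h : ∀ i : ℤ, Function.Bijective (fun x : Dual.HD A X i => (1 : B) ⊗ₜ[A] x)) :
    IsIso ((adjD A B).unit.app X) := by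
  rw [DerivedCategory.isIso_iff]
  intro i
  obtain ⟨e, he⟩ := exists_HD_equiv (B := B) X i
  rw [ConcreteCategory.isIso_iff_bijective]
  have h1 : (fun x : Dual.HD A X i => (1 : B) ⊗ₜ[A] x) =
      e ∘ (((DerivedCategory.homologyFunctor (ModuleCat.{u} A) i).map
          ((adjD A B).unit.app X)).hom) := by
    funext x
    exact (he x).symm
  have h2 := h i
  rw [h1] at h2
  exact (Function.Bijective.of_comp_iff' e.bijective _).mp h2

/-- maps out of objects killed by `E` into the image of `R` vanish -/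
lemma subsingleton_hom_RD (X : Dual.D A) (hX : IsZero ((ED A B).obj X)) (Y : Dual.D B) (i : ℤ) :
    Subsingleton (X ⟶ ((RD A B).obj Y)⟦i⟧) := by
  let c : ((RD A B).obj Y)⟦i⟧ ≅ (RD A B).obj (Y⟦i⟧) := ((RD A B).commShiftIso i).symm.app Y
  have key : ∀ φ : X ⟶ ((RD A B).obj Y)⟦i⟧, φ = 0 := by
    intro φ
    have h1 : ((adjD A B).homEquiv X (Y⟦i⟧)).symm (φ ≫ c.hom) = 0 := hX.eq_of_src _ _
    have h2 : φ ≫ c.hom = 0 := by
      have := congrArg ((adjD A B).homEquiv X (Y⟦i⟧)) h1
      rw [Equiv.apply_symm_apply] at this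
      rw [this]
      exact Adjunction.homAddEquiv_zero (adjD A B) X (Y⟦i⟧)
    rw [← cancel_mono c.hom, h2, zero_comp]
  exact ⟨fun x y => by rw [key x, key y]⟩

end general

section away

variable (f : A)

lemma hBij_TD_away (X : Dual.D A) : HBij f (TD (Localization.Away f) X) := fun i => by
  obtain ⟨e, -⟩ := exists_HD_equiv (B := Localization.Away f) X i
  exact (away_bijEl f).of_equiv e.symm

lemma isIso_unit_away (W : Dual.D A) (h : HBij f W) :
    IsIso ((adjD A (Localization.Away f)).unit.app W) :=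
  isIso_unit_of_bijective (Localization.Away f) W (fun i => away_mk_bijective f (h i))

end away


section single

open Groth.Agent.Helper3.DRingLib

variable (B : Type u) [CommRing B] [Algebra A B] [Module.Flat A B]

/-- `E` of a module in degree `0` -/
noncomputable def EDinD (M : Type u) [AddCommGroup M] [Module A M] :
    (ED A B).obj (Dual.inD A M) ≅ Dual.inD B (B ⊗[A] M) :=
  ((Ef A B).mapDerivedCategorySingleFunctor 0).app (ModuleCat.of A M) ≪≫
    (DerivedCategory.singleFunctor (ModuleCat.{u} B) 0).mapIso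
      (extendScalarsEquiv (B := B) (ModuleCat.of A M)).toModuleIso

end single

section vanishing

variable (f : A)

/-- (A5) maps from `f`-power torsion modules to objects with `f` acting bijectively vanish -/
theorem subsingleton_hom_of_tors_bij (M : Type u) [AddCommGroup M] [Module A M]
    (hM : TorsEl f M) (W : Dual.D A) (hW : HBij f W) (i : ℤ) :
    Subsingleton (Dual.inD A M ⟶ W⟦i⟧) := by
  haveI := isIso_unit_away f W hW
  let e : W ≅ TD (Localization.Away f) W := asIso ((adjD A (Localization.Away f)).unit.app W)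
  haveI : Subsingleton (Localization.Away f ⊗[A] M) :=
    subsingleton_of_tors_bij (hM.tensor (Localization.Away f)) (away_bijEl f)
  have hz : IsZero ((ED A (Localization.Away f)).obj (Dual.inD A M)) := by
    refine IsZero.of_iso ?_ (EDinD (Localization.Away f) M)
    exact Functor.map_isZero _ (ModuleCat.isZero_of_subsingleton _)
  haveI := subsingleton_hom_RD (Localization.Away f) (Dual.inD A M) hz
    ((ED A (Localization.Away f)).obj W) i
  exact ⟨fun x y => by
    rw [← cancel_mono ((shiftFunctor (Dual.D A) i).mapIso e).hom]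
    exact Subsingleton.elim _ _⟩

end vanishing

section triangles

variable (T : Triangle (Dual.D A)) (hT : T ∈ distTriang _)

include hT

/-- composition with `mor₁` is bijective on maps from objects orthogonal to `obj₃` -/
theorem bijective_comp_mor₁ (X : Dual.D A) (h : ∀ n : ℤ, Subsingleton (X ⟶ T.obj₃⟦n⟧)) (n : ℤ) :
    Function.Bijective (fun φ : X ⟶ T.obj₁⟦n⟧ => φ ≫ (shiftFunctor (Dual.D A) n).map T.mor₁) := by
  have hT' := Triangle.shift_distinguished T hT n
  have hm1 : ((CategoryTheory.shiftFunctor (Triangle (Dual.D A)) n).obj T).mor₁ =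
      n.negOnePow • (shiftFunctor (Dual.D A) n).map T.mor₁ := rfl
  have hunit : ∀ ψ : X ⟶ T.obj₂⟦n⟧, n.negOnePow • (n.negOnePow • ψ) = ψ := by
    intro ψ
    rw [smul_smul, Int.units_mul_self, one_smul]
  constructor
  · intro φ₁ φ₂ hφ
    dsimp only at hφ
    have hcomp : (φ₁ - φ₂) ≫ (n.negOnePow • (shiftFunctor (Dual.D A) n).map T.mor₁) = 0 := by
      rw [Linear.comp_units_smul, Preadditive.sub_comp, hφ, sub_self, smul_zero]
    have h0 : (φ₁ - φ₂) ≫ ((CategoryTheory.shiftFunctor (Triangle (Dual.D A)) n).obj T).mor₁ = 0 :=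
      hcomp
    have hT'' := inv_rot_of_distTriang _ hT'
    obtain ⟨g, hg⟩ := Triangle.coyoneda_exact₂ _ hT'' (φ₁ - φ₂) h0
    have e : ((CategoryTheory.shiftFunctor (Triangle (Dual.D A)) n).obj T).invRotate.obj₁ ≅
        T.obj₃⟦n - 1⟧ :=
      (shiftFunctorAdd' (Dual.D A) n (-1) (n - 1) (by omega)).symm.app T.obj₃
    haveI := h (n - 1)
    have hg0 : g = 0 := by
      rw [← cancel_mono e.hom]
      exact Subsingleton.elim _ _
    rw [hg0, zero_comp] at hg
    exact sub_eq_zero.mp hg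
  · intro ψ
    haveI := h n
    have h0 : (show X ⟶ ((CategoryTheory.shiftFunctor (Triangle (Dual.D A)) n).obj T).obj₂ from ψ) ≫
        ((CategoryTheory.shiftFunctor (Triangle (Dual.D A)) n).obj T).mor₂ = 0 :=
      Subsingleton.elim (α := X ⟶ T.obj₃⟦n⟧) _ _
    obtain ⟨(g : X ⟶ T.obj₁⟦n⟧), hg⟩ := Triangle.coyoneda_exact₂ _ hT' _ h0
    refine ⟨n.negOnePow • g, ?_⟩
    dsimp only
    have hg' : ψ = g ≫ (n.negOnePow • (shiftFunctor (Dual.D A) n).map T.mor₁) := hg
    rw [hg', Linear.units_smul_comp, Linear.comp_units_smul]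

/-- the additive equivalence -/
theorem nonempty_addEquiv_comp_mor₁ (X : Dual.D A) (h : ∀ n : ℤ, Subsingleton (X ⟶ T.obj₃⟦n⟧))
    (n : ℤ) : Nonempty ((X ⟶ T.obj₁⟦n⟧) ≃+ (X ⟶ T.obj₂⟦n⟧)) :=
  ⟨AddEquiv.ofBijective (Preadditive.rightComp X ((shiftFunctor (Dual.D A) n).map T.mor₁))
    (bijective_comp_mor₁ T hT X h n)⟩

end triangles

section les

variable (g : A) (T : Triangle (Dual.D A)) (hT : T ∈ distTriang _)

include hT

/-- (A6) the fibre of a map whose cohomological kernels and cokernels are `g`-torsion has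
`g`-torsion cohomology -/
theorem hTors_obj₁
    (h1 : ∀ (i : ℤ) (w : Dual.HD A T.obj₃ i), ∃ (n : ℕ) (z : Dual.HD A T.obj₂ i),
      g ^ n • w = (DerivedCategory.homologyFunctor (ModuleCat.{u} A) i).map T.mor₂ z)
    (h2 : ∀ (i : ℤ) (z : Dual.HD A T.obj₂ i),
      (DerivedCategory.homologyFunctor (ModuleCat.{u} A) i).map T.mor₂ z = 0 →
        ∃ n : ℕ, g ^ n • z = 0) :
    HTors g T.obj₁ := by
  intro i y
  have hab : (DerivedCategory.homologyFunctor (ModuleCat.{u} A) i).map T.mor₂
      ((DerivedCategory.homologyFunctor (ModuleCat.{u} A) i).map T.mor₁ y) = 0 := by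
    rw [← ConcreteCategory.comp_apply, ← Functor.map_comp, comp_distTriang_mor_zero₁₂ _ hT,
      Functor.map_zero]
    rfl
  obtain ⟨n, hn⟩ := h2 i _ hab
  have hex := DerivedCategory.HomologySequence.exact₁ T hT (i - 1) i (by omega)
  rw [ShortComplex.moduleCat_exact_iff] at hex
  obtain ⟨w, hw⟩ := hex (g ^ n • y) (by
    show (DerivedCategory.homologyFunctor (ModuleCat.{u} A) i).map T.mor₁ (g ^ n • y) = 0
    rw [map_smul, hn])
  obtain ⟨m, z, hz⟩ := h1 (i - 1) w
  refine ⟨m + n, ?_⟩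
  have hw' : DerivedCategory.HomologySequence.δ T (i - 1) i (by omega) w = g ^ n • y := hw
  rw [pow_add, mul_smul, ← hw', ← map_smul, hz, ← ConcreteCategory.comp_apply,
    DerivedCategory.HomologySequence.comp_δ T hT (i - 1) i (by omega)]
  rfl

/-- variant: both outer terms torsion -/
theorem hTors_obj₁' (h2 : HTors g T.obj₂) (h3 : HTors g T.obj₃) : HTors g T.obj₁ := by
  refine hTors_obj₁ g T hT ?_ ?_
  · intro i w
    obtain ⟨n, hn⟩ := h3 i w
    exact ⟨n, 0, by rw [hn, map_zero]⟩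
  · intro i z _
    exact h2 i z

end les

section awayunit

variable (f : A) (Z : Dual.D A) (i : ℤ)

lemma unit_away_coker (w : Dual.HD A (TD (Localization.Away f) Z) i) :
    ∃ (n : ℕ) (z : Dual.HD A Z i), f ^ n • w =
      ((DerivedCategory.homologyFunctor (ModuleCat.{u} A) i).map
        (unitTD (Localization.Away f) Z)).hom z := by
  obtain ⟨e, he⟩ := exists_HD_equiv (B := Localization.Away f) Z i
  obtain ⟨n, y, hy⟩ := away_mk_surj f (e w)
  refine ⟨n, y, ?_⟩
  apply e.injective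
  rw [map_smul, hy]
  exact (he y).symm

lemma unit_away_ker (z : Dual.HD A Z i)
    (hz : ((DerivedCategory.homologyFunctor (ModuleCat.{u} A) i).map
        (unitTD (Localization.Away f) Z)).hom z = 0) : ∃ n : ℕ, f ^ n • z = 0 := by
  obtain ⟨e, he⟩ := exists_HD_equiv (B := Localization.Away f) Z i
  apply away_mk_ker f z
  rw [← he z]
  have hz' : ((DerivedCategory.homologyFunctor (ModuleCat.{u} A) i).map
      ((adjD A (Localization.Away f)).unit.app Z)).hom z = 0 := hz
  rw [hz', map_zero]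

end awayunit

section torspart

/-- `Y` is an "`fs`-torsion part" of `X`, built by iterated fibres of localization maps -/
def IsTorsPart : List A → Dual.D A → Dual.D A → Prop
  | [], X, Y => Nonempty (Y ≅ X)
  | f :: fs, X, Y => ∃ (Z W : Dual.D A) (a : Y ⟶ Z) (b : Z ⟶ W) (c : W ⟶ Y⟦(1 : ℤ)⟧),
      IsTorsPart fs X Z ∧ Triangle.mk a b c ∈ distTriang _ ∧ HBij f W ∧ ∀ g ∈ f :: fs, HTors g Y

lemma IsTorsPart.hTors : ∀ (fs : List A) (X Y : Dual.D A), IsTorsPart fs X Y →
    ∀ g ∈ fs, HTors g Y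
  | [], _, _, _ => fun g hg => by simp at hg
  | _ :: _, _, _, ⟨_, _, _, _, _, _, _, _, h4⟩ => h4

theorem exists_isTorsPart : ∀ (fs : List A) (X : Dual.D A), ∃ Y, IsTorsPart fs X Y
  | [], X => ⟨X, ⟨Iso.refl _⟩⟩
  | f :: fs, X => by
    obtain ⟨Z, hZ⟩ := exists_isTorsPart fs X
    obtain ⟨Y, a, c, hT⟩ := distinguished_cocone_triangle₁ (unitTD (Localization.Away f) Z)
    refine ⟨Y, Z, _, a, _, c, hZ, hT, hBij_TD_away f Z, ?_⟩
    intro g hg
    rcases List.mem_cons.mp hg with rfl | hg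
    · exact hTors_obj₁ g _ hT (fun i w => unit_away_coker g Z i w)
        (fun i z hz => unit_away_ker g Z i z hz)
    · exact hTors_obj₁' g _ hT (IsTorsPart.hTors fs X Z hZ g hg)
        ((IsTorsPart.hTors fs X Z hZ g hg).TD _)

end torspart

section congr

variable {C : Type*} [Category C] [Preadditive C]

/-- conjugation by isomorphisms, as an additive equivalence -/
def addEquivCongr {X X' Y Y' : C} (e : X ≅ X') (e' : Y ≅ Y') : (X ⟶ Y) ≃+ (X' ⟶ Y') where
  toFun φ := e.inv ≫ φ ≫ e'.hom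
  invFun φ := e.hom ≫ φ ≫ e'.inv
  left_inv φ := by simp
  right_inv φ := by simp
  map_add' φ ψ := by simp

end congr

section torspart2

theorem IsTorsPart.nonempty_addEquiv : ∀ (fs : List A) (X Y : Dual.D A), IsTorsPart fs X Y →
    ∀ (M : Type u) [AddCommGroup M] [Module A M], (∀ f ∈ fs, TorsEl f M) → ∀ i : ℤ,
      Nonempty ((Dual.inD A M ⟶ Y⟦i⟧) ≃+ (Dual.inD A M ⟶ X⟦i⟧))
  | [], _, _, ⟨e⟩ => fun M _ _ _ i =>
    ⟨addEquivCongr (Iso.refl _) ((shiftFunctor (Dual.D A) i).mapIso e)⟩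
  | f :: fs, X, Y, ⟨Z, W, a, b, c, h1, h2, h3, _⟩ => fun M _ _ hM i => by
    obtain ⟨e1⟩ := nonempty_addEquiv_comp_mor₁ (Triangle.mk a b c) h2 (Dual.inD A M)
      (fun n => subsingleton_hom_of_tors_bij f M (hM f List.mem_cons_self) W h3 n) i
    obtain ⟨e2⟩ := IsTorsPart.nonempty_addEquiv fs X Z h1 M
      (fun g hg => hM g (List.mem_cons_of_mem _ hg)) i
    exact ⟨e1.trans e2⟩

variable (B : Type u) [CommRing B] [Algebra A B] [Module.Flat A B]

theorem IsTorsPart.TD : ∀ (fs : List A) (X Y : Dual.D A), IsTorsPart fs X Y →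
    IsTorsPart fs (TD B X) (TD B Y)
  | [], _, _, ⟨e⟩ => ⟨(RD A B).mapIso ((ED A B).mapIso e)⟩
  | f :: fs, X, Y, ⟨Z, W, a, b, c, h1, h2, h3, h4⟩ => by
    have hT1 := (ED A B).map_distinguished _ h2
    have hT2 := (RD A B).map_distinguished _ hT1
    exact ⟨TorsPart.TD B Z, TorsPart.TD B W, _, _, _, IsTorsPart.TD fs X Z h1, hT2, h3.TD B,
      fun g hg => (h4 g hg).TD B⟩

variable {B}

theorem isIso_unitTD_of_hTors (I : Ideal A)
    (hs : Function.Surjective
      ((Ideal.Quotient.mk (I.map (algebraMap A B))).comp (algebraMap A B)))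
    (hk : RingHom.ker ((Ideal.Quotient.mk (I.map (algebraMap A B))).comp (algebraMap A B)) = I)
    (fs : List A) (hfs : Ideal.span {a | a ∈ fs} = I) (Y : Dual.D A)
    (h : ∀ f ∈ fs, HTors f Y) : IsIso (unitTD B Y) := by
  subst hfs
  exact isIso_unit_of_bijective B Y (fun i =>
    mkB_bijective_of_powerTorsion _ hs hk (Dual.HD A Y i)
      (powerTorsion_of_torsEl fs _ (fun f hf => h f hf i)))

/-- **flat base change for Ext out of power torsion modules** -/
theorem ext_baseChange (I : Ideal A)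
    (hs : Function.Surjective
      ((Ideal.Quotient.mk (I.map (algebraMap A B))).comp (algebraMap A B)))
    (hk : RingHom.ker ((Ideal.Quotient.mk (I.map (algebraMap A B))).comp (algebraMap A B)) = I)
    (fs : List A) (hfs : Ideal.span {a | a ∈ fs} = I)
    (M N : Type u) [AddCommGroup M] [Module A M] [AddCommGroup N] [Module A N]
    (hM : ∀ f ∈ fs, TorsEl f M) (i : ℤ) :
    Nonempty ((Dual.inD A M ⟶ (Dual.inD A N)⟦i⟧) ≃+
      (Dual.inD B (B ⊗[A] M) ⟶ (Dual.inD B (B ⊗[A] N))⟦i⟧)) := by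
  obtain ⟨Y, hY⟩ := exists_isTorsPart fs (Dual.inD A N)
  obtain ⟨e1⟩ := IsTorsPart.nonempty_addEquiv fs _ Y hY M hM i
  obtain ⟨e2⟩ := IsTorsPart.nonempty_addEquiv fs _ _ (IsTorsPart.TD B fs _ Y hY) M hM i
  haveI := isIso_unitTD_of_hTors I hs hk fs hfs Y (IsTorsPart.hTors fs _ Y hY)
  let e3 : (Dual.inD A M ⟶ Y⟦i⟧) ≃+ (Dual.inD A M ⟶ (TorsPart.TD B Y)⟦i⟧) :=
    addEquivCongr (Iso.refl _) ((shiftFunctor (Dual.D A) i).mapIso (asIso (unitTD B Y)))
  let e4 : (Dual.inD A M ⟶ (TorsPart.TD B (Dual.inD A N))⟦i⟧) ≃+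
      (Dual.inD A M ⟶ (RD A B).obj (((ED A B).obj (Dual.inD A N))⟦i⟧)) :=
    addEquivCongr (Iso.refl _) (((RD A B).commShiftIso i).symm.app _)
  let e5 : (Dual.inD A M ⟶ (RD A B).obj (((ED A B).obj (Dual.inD A N))⟦i⟧)) ≃+
      ((ED A B).obj (Dual.inD A M) ⟶ ((ED A B).obj (Dual.inD A N))⟦i⟧) :=
    ((adjD A B).homAddEquiv _ _).symm
  let e6 : ((ED A B).obj (Dual.inD A M) ⟶ ((ED A B).obj (Dual.inD A N))⟦i⟧) ≃+
      (Dual.inD B (B ⊗[A] M) ⟶ (Dual.inD B (B ⊗[A] N))⟦i⟧) :=
    addEquivCongr (EDinD B M) ((shiftFunctor (Dual.D B) i).mapIso (EDinD B N))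
  exact ⟨e1.symm.trans (e3.trans (e2.trans (e4.trans (e5.trans e6))))⟩

end torspart2

end Groth.Agent.Helper6.TorsPart
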