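import Mathlib
import Groth.Agent.Helper6.TorsRepA
import Groth.Agent.Helper6.FlcRepF
import Groth.Agent.Helper6.FlcRepG
import Groth.Agent.Helper9.EtShriekOpen
import Groth.Agent.Helper9.EtJCont

/-! Torsors under finite locally constant sheaves are representable by finite étale surjective
schemes. -/

set_option autoImplicit false
set_option linter.style.haveILetI false
set_option linter.unusedSectionVars false
set_option linter.unusedVariables false
set_option linter.unusedSimpArgs false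

universe u

open CategoryTheory CategoryTheory.Limits Opposite AlgebraicGeometry

namespace Groth.Agent.Helper6.TorsRepB

open Groth.Agent.Helper4.ConstLoc Groth.Agent.Helper6.FlcRepB Groth.Agent.Helper6.FlcRepG
  Groth.Agent.Helper6.TorsRepA

variable {Y : Scheme.{u}}

/-- trivialisations of a finite locally constant sheaf -/
theorem exists_triv (F : EtCoh.Ab Y) (h : EtCoh.IsFiniteLocallyConstant F) :
    ∃ (ι : Type u) (V : ι → Y.Etale), EtCoh.Covers V ∧
      ∃ (N : ι → AddCommGrpCat.{u + 1}) (_ : ∀ i, Finite (N i)),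
        ∀ i, Nonempty ((EtShriek.compEtale (V i).hom).op ⋙ F.obj ≅ (cS (V i).left (N i)).obj) := by
  obtain ⟨ι, V, hV, hM⟩ := (Groth.Agent.Helper4.OverEtC.flc_iff F).1 h
  choose M iM fM eM using hM
  haveI : ∀ i, EtShriek.JCont (V i).hom := fun i =>
    Groth.Agent.Helper9.EtJCont.jCont_of_etale _
  refine ⟨ι, V, hV, fun i => AddCommGrpCat.of (ULift.{u + 1} (M i)),
    fun i => inferInstanceAs (Finite (ULift.{u + 1} (M i))), fun i => ⟨?_⟩⟩
  exact (sheafToPresheaf _ _).mapIso
    ((Groth.Agent.Helper9.EtShriekOpen.pullIsoRestr (V i).hom).symm.app F ≪≫ (eM i).some)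

variable (S : ShortComplex (EtCoh.Ab Y)) (q : S.X₃.obj.obj (op (EtCoh.top Y)))
  (hS : S.ShortExact)

lemma lift_map {W W' : Y.Etale} (a : W' ⟶ W) (p : S.X₂.obj.obj (op W))
    (hp : S.g.hom.app (op W) p = qAt S q W) :
    S.g.hom.app (op W') (S.X₂.obj.map a.op p) = qAt S q W' := by
  rw [TorsRepA.hom_map, hp, qAt_map]

include hS in
/-- local liftings of `q` -/
theorem exists_local_lift (V : Y.Etale) (v : V.left) :
    ∃ (W : Y.Etale) (b : W ⟶ V) (w : W.left) (p : S.X₂.obj.obj (op W)),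
      b.left w = v ∧ S.g.hom.app (op W) p = qAt S q W := by
  haveI := hS.epi_g
  have hls : Sheaf.IsLocallySurjective S.g :=
    (Sheaf.isLocallySurjective_iff_epi' _ S.g).2 inferInstance
  have hmem := Presheaf.imageSieve_mem Y.smallEtaleTopology S.g.hom (qAt S q V)
  obtain ⟨W, b, w, ⟨t, ht⟩, hw⟩ := (Groth.Agent.Helper4.EtGeom.mem_iff V _).1 hmem v
  refine ⟨W, b, w, t, hw, ?_⟩
  rw [ht]
  exact qAt_map S q b

section data

variable {ι κ : Type u} (V : ι → Y.Etale) (N : ι → AddCommGrpCat.{u + 1})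
  (E : ∀ i, (EtShriek.compEtale (V i).hom).op ⋙ S.X₁.obj ≅ (cS (V i).left (N i)).obj)
  (U : κ → Y.Etale) (i : κ → ι) (b : ∀ k, U k ⟶ V (i k))
  (p : ∀ k, S.X₂.obj.obj (op (U k))) (hp : ∀ k, S.g.hom.app (op (U k)) (p k) = qAt S q (U k))

/-- the local trivialisation data of the torsor of liftings -/
noncomputable def locData : LocData.{u + 1} (P S q) U where
  K k := N (i k)
  sec k W a := (diffEquiv S q hS W (S.X₂.obj.map a.op (p k)) (lift_map S q a (p k) (hp k))).trans
    (Equiv.ofBijective (secFun S.X₁ (V (i k)) (N (i k)) (E (i k)) (a ≫ b k))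
      (secFun_bijective S.X₁ (V (i k)) (N (i k)) (E (i k)) (a ≫ b k)))
  nat k W W' h a s w' := by
    have e1 := diffEquiv_nat S q hS h (S.X₂.obj.map a.op (p k)) (lift_map S q a (p k) (hp k))
      (S.X₂.obj.map (h ≫ a).op (p k)) (lift_map S q (h ≫ a) (p k) (hp k))
      (map_comp_apply S.X₂ h a (p k)) s
    show secFun S.X₁ (V (i k)) (N (i k)) (E (i k)) ((h ≫ a) ≫ b k)
        (diffEquiv S q hS W' (S.X₂.obj.map (h ≫ a).op (p k)) _ ((P S q).map h.op s)) w' =
      secFun S.X₁ (V (i k)) (N (i k)) (E (i k)) (a ≫ b k)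
        (diffEquiv S q hS W (S.X₂.obj.map a.op (p k)) _ s) (h.left w')
    rw [e1]
    have e2 := secFun_nat S.X₁ (V (i k)) (N (i k)) (E (i k)) h (a ≫ b k)
      (diffEquiv S q hS W (S.X₂.obj.map a.op (p k)) (lift_map S q a (p k) (hp k)) s) w'
    refine Eq.trans ?_ e2
    exact congrArg (fun m => secFun S.X₁ (V (i k)) (N (i k)) (E (i k)) m
      (S.X₁.obj.map h.op (diffEquiv S q hS W (S.X₂.obj.map a.op (p k))
        (lift_map S q a (p k) (hp k)) s)) w') (Category.assoc h a (b k))

include hS V N E i b p hp in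
/-- the torsor of liftings is represented by a finite étale surjective scheme, over which `q`
lifts -/
theorem exists_rep_torsor [∀ j, Finite (N j)] (hU : EtCoh.Covers U) :
    ∃ (T : Y.Etale) (_ : IsFinite T.hom) (_ : Surjective T.hom) (pT : S.X₂.obj.obj (op T)),
      S.g.hom.app (op T) pT = qAt S q T := by
  let D := locData S q hS V N E U i b p hp
  haveI : ∀ k, Finite (D.K k) := fun k => inferInstanceAs (Finite (N (i k)))
  obtain ⟨T, hfin, ⟨e⟩⟩ := Groth.Agent.Helper6.FlcRepF.exists_rep D (isSheaf_P S q) hU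
  refine ⟨T, hfin, ⟨fun y => ?_⟩, (e.inv.app (op T) ⟨𝟙 T⟩).1, (e.inv.app (op T) ⟨𝟙 T⟩).2⟩
  obtain ⟨k, u, hu⟩ := hU y
  let m : U k ⟶ T := (e.hom.app (op (U k)) (mkP S q (U k) (p k) (hp k))).down
  refine ⟨m.left u, ?_⟩
  have h1 : m.left ≫ T.hom = (U k).hom := MorphismProperty.Over.w m
  have h2 : T.hom (m.left u) = (m.left ≫ T.hom) u := rfl
  rw [h2, h1]
  exact hu

end data

include hS in
/-- a global section of the cokernel of a monomorphism from a finite locally constant sheaf lifts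
over a finite étale surjective scheme -/
theorem exists_lift (hF : EtCoh.IsFiniteLocallyConstant S.X₁) :
    ∃ (T : Y.Etale) (_ : IsFinite T.hom) (_ : Surjective T.hom) (pT : S.X₂.obj.obj (op T)),
      S.g.hom.app (op T) pT = qAt S q T := by
  obtain ⟨ι, V, hV, N, hN, hE⟩ := exists_triv S.X₁ hF
  have key : ∀ y : Y, ∃ (j : ι) (W : Y.Etale) (b : W ⟶ V j) (p : S.X₂.obj.obj (op W)),
      S.g.hom.app (op W) p = qAt S q W ∧ ∃ w : W.left, W.hom w = y := by
    intro y
    obtain ⟨j, v, hv⟩ := hV y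
    obtain ⟨W, b, w, p, hw, hp⟩ := exists_local_lift S q hS (V j) v
    refine ⟨j, W, b, p, hp, w, ?_⟩
    have h1 : b.left ≫ (V j).hom = W.hom := MorphismProperty.Over.w b
    have h2 : W.hom w = (V j).hom (b.left w) := by rw [← h1]; rfl
    rw [h2, hw]
    exact hv
  choose j W b p hp hw using key
  refine exists_rep_torsor S q hS V N (fun i => (hE i).some) W j b p hp ?_
  intro y
  obtain ⟨w, hw'⟩ := hw y
  exact ⟨y, w, hw'⟩

end Groth.Agent.Helper6.TorsRepB
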