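import Mathlib
import Groth.Prelude.Def_EtBase
import Groth.Prelude.Def_EtCore
import Groth.Agent.Helper6.TorsRepA
import Groth.Agent.Helper9.EtShriekOpen
import Groth.Agent.Helper9.EtJCont
import Groth.Agent.Helper9.HpullLES

/-! Pull-back of a degree one class along an étale morphism over which the corresponding
torsor acquires a section. -/

set_option autoImplicit false
set_option linter.style.haveILetI false
set_option linter.unusedSectionVars false
set_option linter.unusedVariables false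
set_option linter.unusedSimpArgs false

universe u

open CategoryTheory CategoryTheory.Limits Opposite AlgebraicGeometry Abelian

namespace Groth.Agent.Helper6.TorsRepC

open Groth.Agent.Helper6.TorsRepA Groth.Agent.Helper9.EtShriekOpen

variable {Y : Scheme.{u}}

/-- morphisms from the constant sheaf `ℤ` are global sections -/
noncomputable def secEquiv (H : EtCoh.Ab Y) :
    (EtCoh.const Y ℤ ⟶ H) ≃ H.obj.obj (op (EtCoh.top Y)) :=
  ((EtCore.constAdj Y).homEquiv _ H).trans (AddCommGrpCat.uliftZMultiplesAddEquiv _).toEquiv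

lemma secEquiv_nat {H H' : EtCoh.Ab Y} (ψ : EtCoh.const Y ℤ ⟶ H) (θ : H ⟶ H') :
    secEquiv H' (ψ ≫ θ) = θ.hom.app (op (EtCoh.top Y)) (secEquiv H ψ) := by
  unfold secEquiv
  simp only [Equiv.trans_apply, AddEquiv.toEquiv_eq_coe, AddEquiv.coe_toEquiv,
    Adjunction.homEquiv_naturality_right]
  rfl

section main

variable (T : Y.Etale)

instance : EtShriek.JCont T.hom := Groth.Agent.Helper9.EtJCont.jCont_of_etale _

/-- the object `T ×_Y Y`, viewed over `Y` -/
noncomputable abbrev Y2 : Y.Etale :=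
  (EtShriek.compEtale T.hom).obj ((EtCoh.bc T.hom).obj (EtCoh.top Y))

/-- the projection to `T` -/
noncomputable def κ : Y2 T ⟶ T :=
  MorphismProperty.Over.homMk (pullback.snd (EtCoh.top Y).hom T.hom) rfl

set_option backward.isDefEq.respectTransparency false in
lemma sheafAdj_unit_app_hom_app (F : EtCoh.Ab Y) (V : Y.Etale) :
    (((sheafAdj T.hom).unit.app F).hom).app (op V) =
      F.obj.map ((siteAdj T.hom).counit.app V).op := by
  dsimp [sheafAdj]
  simp

lemma unit_eq (Q : EtCoh.Ab Y) :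
    (EtCoh.pullPushAdj T.hom).unit.app Q =
      (sheafAdj T.hom).unit.app Q ≫ (EtCoh.push T.hom).map ((pullIsoRestr T.hom).inv.app Q) := by
  have h := Adjunction.unit_leftAdjointUniq_hom_app (EtCoh.pullPushAdj T.hom) (sheafAdj T.hom) Q
  have h' : (EtCoh.pullPushAdj T.hom).unit.app Q ≫
      (EtCoh.push T.hom).map ((pullIsoRestr T.hom).hom.app Q) = (sheafAdj T.hom).unit.app Q := h
  rw [← h', Category.assoc, ← Functor.map_comp, Iso.hom_inv_id_app, CategoryTheory.Functor.map_id]
  exact (Category.comp_id _).symm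

variable (S : ShortComplex (EtCoh.Ab Y)) (φ : EtCoh.const Y ℤ ⟶ S.X₃)
  (pT : S.X₂.obj.obj (op T))
  (hpT : S.g.hom.app (op T) pT = qAt S (secEquiv S.X₃ φ) T)

/-- the lifted section, over `T ×_Y Y` -/
noncomputable def a' : S.X₂.obj.obj (op (Y2 T)) := S.X₂.obj.map (κ T).op pT

include hpT in
lemma g_a' : S.g.hom.app (op (Y2 T)) (a' T S pT) = qAt S (secEquiv S.X₃ φ) (Y2 T) := by
  unfold a'
  rw [TorsRepA.hom_map, hpT, qAt_map]

/-- the lifted section as a global section of `g_* g⁻¹ I` -/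
noncomputable def aa : ((EtCoh.push T.hom).obj ((EtCoh.pull T.hom).obj S.X₂)).obj.obj
    (op (EtCoh.top Y)) :=
  ((EtCoh.push T.hom).map ((pullIsoRestr T.hom).inv.app S.X₂)).hom.app (op (EtCoh.top Y))
    (a' T S pT)

/-- the lifted morphism to `g_* g⁻¹ I` -/
noncomputable def ψ2 : EtCoh.const Y ℤ ⟶ (EtCoh.push T.hom).obj ((EtCoh.pull T.hom).obj S.X₂) :=
  (secEquiv _).symm (aa T S pT)

include hpT in
lemma ψ2_comp : ψ2 T S pT ≫ (EtCoh.push T.hom).map ((EtCoh.pull T.hom).map S.g) =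
    φ ≫ (EtCoh.pullPushAdj T.hom).unit.app S.X₃ := by
  apply (secEquiv _).injective
  rw [secEquiv_nat, secEquiv_nat]
  unfold ψ2
  rw [Equiv.apply_symm_apply]
  -- the left hand side
  have hL : ((EtCoh.push T.hom).map ((EtCoh.pull T.hom).map S.g)).hom.app (op (EtCoh.top Y))
      (aa T S pT) =
      ((EtCoh.push T.hom).map ((pullIsoRestr T.hom).inv.app S.X₃)).hom.app (op (EtCoh.top Y))
        (S.g.hom.app (op (Y2 T)) (a' T S pT)) := by
    have hn : (pullIsoRestr T.hom).inv.app S.X₂ ≫ (EtCoh.pull T.hom).map S.g =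
        (EtShriek.restrAlong T.hom).map S.g ≫ (pullIsoRestr T.hom).inv.app S.X₃ :=
      ((pullIsoRestr T.hom).inv.naturality S.g).symm
    have h1 := congrArg (fun m => ((EtCoh.push T.hom).map m).hom.app (op (EtCoh.top Y))) hn
    simp only [Functor.map_comp] at h1
    have h2 := ConcreteCategory.congr_hom h1 (a' T S pT)
    exact h2
  -- the right hand side
  have hR : ((EtCoh.pullPushAdj T.hom).unit.app S.X₃).hom.app (op (EtCoh.top Y))
      (secEquiv S.X₃ φ) =
      ((EtCoh.push T.hom).map ((pullIsoRestr T.hom).inv.app S.X₃)).hom.app (op (EtCoh.top Y))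
        (S.X₃.obj.map ((siteAdj T.hom).counit.app (EtCoh.top Y)).op (secEquiv S.X₃ φ)) := by
    rw [unit_eq, ← sheafAdj_unit_app_hom_app]
    rfl
  rw [hL, hR, g_a' T S φ pT hpT]
  congr 1
  unfold qAt
  have e : toTop (Y2 T) = (siteAdj T.hom).counit.app (EtCoh.top Y) :=
    (EtCore.topIsTerminal Y).hom_ext _ _
  rw [e]

/-- the lifted morphism `g⁻¹ℤ → g⁻¹ I` -/
noncomputable def ψ1 :
    (EtCoh.pull T.hom).obj (EtCoh.const Y ℤ) ⟶ (EtCoh.pull T.hom).obj S.X₂ :=
  ((EtCoh.pullPushAdj T.hom).homEquiv _ _).symm (ψ2 T S pT)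

include hpT in
lemma ψ1_comp : ψ1 T S pT ≫ (EtCoh.pull T.hom).map S.g = (EtCoh.pull T.hom).map φ := by
  unfold ψ1
  rw [← Adjunction.homEquiv_naturality_right_symm, ψ2_comp T S φ pT hpT,
    Adjunction.homEquiv_naturality_left_symm, ← Adjunction.homEquiv_id,
    Equiv.symm_apply_apply]
  exact Category.comp_id _

include hpT in
/-- the pull-back of the class attached to `φ` vanishes -/
theorem Hpull_eq_zero (hS : S.ShortExact) [PreservesFiniteLimits (EtCoh.pull T.hom)] :
    EtCore.Hpull T.hom S.X₁ 1 ((Ext.mk₀ φ).comp hS.extClass (zero_add 1)) = 0 := by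
  rw [Groth.Agent.Helper9.HpullLES.Hpull_delta T.hom hS (Ext.mk₀ φ) (zero_add 1)]
  have h0 : EtCore.Hpull T.hom S.X₃ 0 (Ext.mk₀ φ) =
      Ext.mk₀ ((EtCore.pullConst T.hom ℤ).inv ≫ (EtCoh.pull T.hom).map φ) := by
    simp only [EtCore.Hpull, AddMonoidHom.coe_comp, AddMonoidHom.mk'_apply, Function.comp_apply,
      Functor.mapExtAddHom_apply, Abelian.Ext.mapExactFunctor_mk₀, Ext.mk₀_comp_mk₀]
  rw [h0, ← ψ1_comp T S φ pT hpT, ← Category.assoc, ← Ext.mk₀_comp_mk₀,
    Ext.comp_assoc _ _ _ (zero_add 0) (zero_add 1) (by omega)]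
  have h2 : ∀ (hS' : (S.map (EtCoh.pull T.hom)).ShortExact),
      (Ext.mk₀ ((EtCoh.pull T.hom).map S.g)).comp hS'.extClass (zero_add 1) = 0 :=
    fun hS' => hS'.comp_extClass
  rw [h2, Ext.comp_zero]
  rfl

end main

end Groth.Agent.Helper6.TorsRepC
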