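import Mathlib
import Groth.Agent.Helper6.TorsRepB
import Groth.Agent.Helper6.TorsRepC

/-! Degree one cohomology classes of finite locally constant sheaves are killed by finite étale
surjective covers. -/

set_option autoImplicit false
set_option linter.style.haveILetI false
set_option linter.unusedSectionVars false
set_option linter.unusedVariables false
set_option linter.unusedSimpArgs false

universe u

open CategoryTheory CategoryTheory.Limits Opposite AlgebraicGeometry Abelian

namespace Groth.Agent.Helper6.TorsRepD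

open Groth.Agent.Helper6.TorsRepA Groth.Agent.Helper6.TorsRepB Groth.Agent.Helper6.TorsRepC

theorem main (Y : Scheme.{u}) (F : EtCoh.Ab Y) (hF : EtCoh.IsFiniteLocallyConstant F)
    (ζ : EtCoh.H Y F 1) :
    ∃ (Y' : Scheme.{u}) (g : Y' ⟶ Y), IsFinite g ∧ Etale g ∧ Surjective g ∧
      ∀ [PreservesFiniteLimits (EtCoh.pull g)], EtCore.Hpull g F 1 ζ = 0 := by
  let I : EtCoh.Ab Y := Injective.under F
  let ι : F ⟶ I := Injective.ι F
  let S : ShortComplex (EtCoh.Ab Y) := ShortComplex.mk ι (cokernel.π ι) (cokernel.condition ι)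
  have hS : S.ShortExact :=
    { exact := ShortComplex.exact_cokernel ι
      mono_f := inferInstanceAs (Mono (Injective.ι F))
      epi_g := inferInstanceAs (Epi (cokernel.π ι)) }
  have hζ : ζ.comp (Ext.mk₀ S.f) (add_zero 1) = 0 :=
    Ext.eq_zero_of_injective (I := I) _
  obtain ⟨x₃, hx₃⟩ := Ext.covariant_sequence_exact₁ _ hS ζ hζ (zero_add 1)
  let φ : EtCoh.const Y ℤ ⟶ S.X₃ := Ext.homEquiv₀ x₃
  have hφ : Ext.mk₀ φ = x₃ := Ext.mk₀_homEquiv₀_apply x₃
  obtain ⟨T, hfin, hsurj, pT, hpT⟩ := exists_lift S (secEquiv S.X₃ φ) hS hF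
  refine ⟨T.left, T.hom, hfin, T.prop, hsurj, ?_⟩
  intro inst
  have h := @Hpull_eq_zero _ T S φ pT hpT hS inst
  rw [hφ, hx₃] at h
  exact h

end Groth.Agent.Helper6.TorsRepD
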