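import Mathlib

set_option autoImplicit false
set_option linter.style.haveILetI false
set_option linter.unusedSectionVars false

/-!
# Helper library for S8566 (part 1)

* coproducts of retracts of a family exist in an abelian category;
* `GradedObject.HasMap` for a retract of a graded object;
* the mono / epi halves of the five lemma for the middle term of a morphism of short exact
  sequences of homological complexes.
-/

open CategoryTheory Limits

namespace Groth.Agent.Helper6.Tot1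

universe u v

section Retract

variable {A : Type u} [Category.{v} A] [Abelian A]

theorem hasCoproduct_of_retract {J : Type*} {X Y : J → A} (i : ∀ j, Y j ⟶ X j)
    (r : ∀ j, X j ⟶ Y j) (h : ∀ j, i j ≫ r j = 𝟙 _) [HasCoproduct X] : HasCoproduct Y := by
  obtain ⟨e, he⟩ : ∃ e : ∐ X ⟶ ∐ X, e = Sigma.desc (fun j => r j ≫ i j ≫ Sigma.ι X j) := ⟨_, rfl⟩
  have ιe : ∀ j, Sigma.ι X j ≫ e = r j ≫ i j ≫ Sigma.ι X j := fun j => by
    rw [he, Sigma.ι_desc]
  have ee : e ≫ e = e := by
    apply Sigma.hom_ext; intro j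
    rw [← Category.assoc, ιe]
    simp only [Category.assoc]
    rw [ιe, reassoc_of% (h j)]
  have hk : kernel.ι (𝟙 (∐ X) - e) ≫ e = kernel.ι (𝟙 (∐ X) - e) := by
    have := kernel.condition (𝟙 (∐ X) - e)
    rw [Preadditive.comp_sub, Category.comp_id, sub_eq_zero] at this
    exact this.symm
  have hc : ∀ j, (i j ≫ Sigma.ι X j) ≫ (𝟙 (∐ X) - e) = 0 := fun j => by
    rw [Preadditive.comp_sub, Category.comp_id, Category.assoc, ιe, reassoc_of% (h j), sub_self]
  have hπ : e ≫ (𝟙 (∐ X) - e) = 0 := by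
    rw [Preadditive.comp_sub, Category.comp_id, ee, sub_self]
  have hπ' : kernel.ι (𝟙 (∐ X) - e) ≫ kernel.lift _ e hπ = 𝟙 _ := by
    rw [← cancel_mono (kernel.ι (𝟙 (∐ X) - e)), Category.assoc, kernel.lift_ι, hk,
      Category.id_comp]
  have hιπ' : ∀ j, Sigma.ι X j ≫ kernel.lift _ e hπ =
      r j ≫ kernel.lift _ (i j ≫ Sigma.ι X j) (hc j) := fun j => by
    rw [← cancel_mono (kernel.ι (𝟙 (∐ X) - e)), Category.assoc, kernel.lift_ι, Category.assoc,
      kernel.lift_ι, ιe]
  refine HasColimit.mk ⟨Cofan.mk (kernel (𝟙 (∐ X) - e))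
    (fun j => kernel.lift _ (i j ≫ Sigma.ι X j) (hc j)),
    Cofan.IsColimit.mk _ (fun s => kernel.ι _ ≫ Sigma.desc (fun j => r j ≫ s.inj j)) ?_ ?_⟩
  · intro s j
    show kernel.lift _ (i j ≫ Sigma.ι X j) (hc j) ≫ kernel.ι _ ≫ _ = _
    rw [kernel.lift_ι_assoc, Category.assoc, Sigma.ι_desc, reassoc_of% (h j)]
  · intro s m hm
    have key : kernel.lift _ e hπ ≫ m = Sigma.desc (fun j => r j ≫ s.inj j) := by
      apply Sigma.hom_ext; intro j
      rw [reassoc_of% (hιπ' j), Sigma.ι_desc]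
      congr 1
      exact hm j
    rw [← key, ← Category.assoc, hπ']
    exact (Category.id_comp m).symm

theorem hasMap_of_retract {I J : Type*} {X Y : GradedObject I A} (i : Y ⟶ X) (r : X ⟶ Y)
    (h : ∀ x, i x ≫ r x = 𝟙 _) (p : I → J) [hX : X.HasMap p] : Y.HasMap p := fun j => by
  haveI : HasCoproduct (X.mapObjFun p j) := hX j
  exact hasCoproduct_of_retract (X := X.mapObjFun p j) (Y := Y.mapObjFun p j)
    (fun x => i x.1) (fun x => r x.1) (fun x => h x.1)

end Retract

section Five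

open HomologicalComplex ComposableArrows

variable {C : Type*} [Category C] [Abelian C] {ι : Type*} {c : ComplexShape ι}
  {S₁ S₂ : ShortComplex (HomologicalComplex C c)} (φ : S₁ ⟶ S₂)
  (hS₁ : S₁.ShortExact) (hS₂ : S₂.ShortExact)

include hS₁ hS₂

lemma mono_homologyMap_τ₂ (i j : ι) (hij : c.Rel i j)
    (h₀ : Epi (homologyMap φ.τ₃ i)) (h₁ : Mono (homologyMap φ.τ₁ j))
    (h₃ : Mono (homologyMap φ.τ₃ j)) :
    Mono (homologyMap φ.τ₂ j) := by
  apply Abelian.mono_of_epi_of_mono_of_mono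
    ((δ₀Functor ⋙ δ₀Functor).map (HomologySequence.mapComposableArrows₅ φ hS₁ hS₂ i j hij))
  · exact (HomologySequence.composableArrows₅_exact hS₁ i j hij).δ₀.δ₀
  · exact (HomologySequence.composableArrows₅_exact hS₂ i j hij).δ₀.δ₀
  · exact h₀
  · exact h₁
  · exact h₃

lemma epi_homologyMap_τ₂ (j k : ι) (hjk : c.Rel j k)
    (h₀ : Epi (homologyMap φ.τ₁ j)) (h₂ : Epi (homologyMap φ.τ₃ j))
    (h₃ : Mono (homologyMap φ.τ₁ k)) :
    Epi (homologyMap φ.τ₂ j) := by
  apply Abelian.epi_of_epi_of_epi_of_mono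
    ((δlastFunctor ⋙ δlastFunctor).map (HomologySequence.mapComposableArrows₅ φ hS₁ hS₂ j k hjk))
  · exact (HomologySequence.composableArrows₅_exact hS₁ j k hjk).δlast.δlast
  · exact (HomologySequence.composableArrows₅_exact hS₂ j k hjk).δlast.δlast
  · exact h₀
  · exact h₂
  · exact h₃

end Five

end Groth.Agent.Helper6.Tot1
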