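import Mathlib
import Groth.Agent.Helper6.Tot1

set_option autoImplicit false
set_option linter.style.haveILetI false
set_option linter.unusedSectionVars false

/-!
# Helper library for S8566 (part 2)

For a double complex `K` (a complex, in the outer index `p`, of complexes in the inner index `q`)
vanishing for `q < b`: the quotient double complex "row `b`" `(RF b).obj K`, the sub double complex
`sub K b h` of the rows `> b`, and the short exact sequence of total complexes.
-/

open CategoryTheory Limits HomologicalComplex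

namespace Groth.Agent.Helper6.Tot2

universe u v

variable {A : Type u} [Category.{v} A] [Abelian A]

local notation "cℤ" => ComplexShape.up ℤ

/-- the functor "row `b`, as a double complex concentrated in inner degree `b`". -/
noncomputable def RF (b : ℤ) : HomologicalComplex₂ A cℤ cℤ ⥤ HomologicalComplex₂ A cℤ cℤ :=
  (eval A cℤ b ⋙ single A cℤ b).mapHomologicalComplex cℤ

/-- the functor "row `q`" as a complex in the outer index. -/
noncomputable def rowF (q : ℤ) : HomologicalComplex₂ A cℤ cℤ ⥤ HomologicalComplex A cℤ :=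
  (eval A cℤ q).mapHomologicalComplex cℤ

lemma total_map_zero (K L : HomologicalComplex₂ A cℤ cℤ) [K.HasTotal cℤ] [L.HasTotal cℤ] :
    HomologicalComplex₂.total.map (0 : K ⟶ L) cℤ = 0 := by
  ext n : 1
  apply HomologicalComplex₂.total.hom_ext
  intro p q hpq
  rw [HomologicalComplex₂.ιTotal_map]
  simp

lemma quasiIso_of_isZero_X {K L : HomologicalComplex A cℤ} (f : K ⟶ L)
    (hK : ∀ i, IsZero (K.X i)) (hL : ∀ i, IsZero (L.X i)) : QuasiIso f := by
  rw [quasiIso_iff]
  intro i
  rw [quasiIsoAt_iff_isIso_homologyMap]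
  have h1 : IsZero (K.homology i) := ShortComplex.isZero_homology_of_isZero_X₂ _ (hK i)
  have h2 : IsZero (L.homology i) := ShortComplex.isZero_homology_of_isZero_X₂ _ (hL i)
  exact ⟨⟨0, h1.eq_of_src _ _, h2.eq_of_src _ _⟩⟩

section

variable (K : HomologicalComplex₂ A cℤ cℤ) (b : ℤ) (h : ∀ p q : ℤ, q < b → IsZero ((K.X p).X q))

/-- the projection of the `p`-th column onto its bottom term. -/
noncomputable def πp (p : ℤ) : K.X p ⟶ (single A cℤ b).obj ((K.X p).X b) :=
  mkHomToSingle (𝟙 _) (fun i hi => (h p i (by simp at hi; omega)).eq_of_src _ _)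

lemma πp_f (p : ℤ) : (πp K b h p).f b = (singleObjXSelf cℤ b ((K.X p).X b)).inv := by
  rw [πp, mkHomToSingle_f, Category.id_comp]

lemma RF_d_f (p p' : ℤ) : (((RF b).obj K).d p p').f b =
    (singleObjXSelf cℤ b ((K.X p).X b)).hom ≫ (K.d p p').f b ≫
      (singleObjXSelf cℤ b ((K.X p').X b)).inv :=
  single_map_f_self cℤ b ((K.d p p').f b)

lemma RF_map_f_f {K L : HomologicalComplex₂ A cℤ cℤ} (φ : K ⟶ L) (b p : ℤ) :
    (((RF b).map φ).f p).f b =
    (singleObjXSelf cℤ b ((K.X p).X b)).hom ≫ (φ.f p).f b ≫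
      (singleObjXSelf cℤ b ((L.X p).X b)).inv :=
  single_map_f_self cℤ b ((φ.f p).f b)

/-- the projection of `K` onto its bottom row. -/
noncomputable def π : K ⟶ (RF b).obj K where
  f p := πp K b h p
  comm' p p' _ := by
    apply to_single_hom_ext (c := cℤ) (j := b) (A := (K.X p').X b)
    show (πp K b h p).f b ≫ (((RF b).obj K).d p p').f b = (K.d p p').f b ≫ (πp K b h p').f b
    rw [πp_f, πp_f, RF_d_f]
    exact Iso.inv_hom_id_assoc _ _

lemma π_f_f (p : ℤ) : ((π K b h).f p).f b = (singleObjXSelf cℤ b ((K.X p).X b)).inv :=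
  πp_f K b h p

instance (p : ℤ) : IsIso (((π K b h).f p).f b) := by
  rw [π_f_f]
  exact (inferInstance : IsIso (singleObjXSelf cℤ b ((K.X p).X b)).inv)

lemma isZero_RF (p q : ℤ) (hq : q ≠ b) : IsZero ((((RF b).obj K).X p).X q) :=
  isZero_single_obj_X cℤ b _ q hq

instance epi_π : Epi (π K b h) := by
  refine epi_of_epi_f _ (fun p => epi_of_epi_f _ (fun q => ?_))
  by_cases hq : q = b
  · rw [hq]; infer_instance
  · exact ⟨fun g g' _ => (isZero_RF K b p q hq).eq_of_src g g'⟩

/-- the sub double complex of the rows `> b`. -/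
noncomputable def sub : HomologicalComplex₂ A cℤ cℤ := kernel (π K b h)

/-- the inclusion of the rows `> b`. -/
noncomputable def ι : sub K b h ⟶ K := kernel.ι (π K b h)

lemma ι_π : ι K b h ≫ π K b h = 0 := kernel.condition _

/-- the short exact sequence `0 → sub → K → row b → 0`. -/
noncomputable def S : ShortComplex (HomologicalComplex₂ A cℤ cℤ) :=
  ShortComplex.mk (ι K b h) (π K b h) (ι_π K b h)

lemma S_shortExact : (S K b h).ShortExact where
  exact := ShortComplex.exact_of_f_is_kernel _ (kernelIsKernel (π K b h))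
  mono_f := show Mono (kernel.ι (π K b h)) from inferInstance
  epi_g := show Epi (π K b h) from inferInstance

/-- evaluation at `(p, q)`. -/
noncomputable abbrev E (p q : ℤ) : HomologicalComplex₂ A cℤ cℤ ⥤ A :=
  eval (HomologicalComplex A cℤ) cℤ p ⋙ eval A cℤ q

lemma Spq_shortExact (p q : ℤ) : ((S K b h).map (E p q)).ShortExact :=
  (S_shortExact K b h).map_of_exact _

lemma exists_sec (p q : ℤ) : ∃ s : (((RF b).obj K).X p).X q ⟶ (K.X p).X q,
    s ≫ ((π K b h).f p).f q = 𝟙 _ := by
  by_cases hq : q = b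
  · rw [hq]
    exact ⟨inv (((π K b h).f p).f b), IsIso.inv_hom_id _⟩
  · exact ⟨0, (isZero_RF K b p q hq).eq_of_src _ _⟩

/-- the splitting of the short exact sequence in bidegree `(p, q)`. -/
noncomputable def spl (p q : ℤ) : ((S K b h).map (E p q)).Splitting :=
  ShortComplex.Splitting.ofExactOfSection _ (Spq_shortExact K b h p q).exact
    (exists_sec K b h p q).choose (exists_sec K b h p q).choose_spec
    (Spq_shortExact K b h p q).mono_f

/-- the graded section of `π`. -/
noncomputable def sG : ((RF b).obj K).toGradedObject ⟶ K.toGradedObject :=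
  fun ⟨p, q⟩ => (spl K b h p q).s

/-- the graded retraction of `ι`. -/
noncomputable def rG : K.toGradedObject ⟶ (sub K b h).toGradedObject :=
  fun ⟨p, q⟩ => (spl K b h p q).r

lemma ι_rG (x : ℤ × ℤ) :
    HomologicalComplex₂.toGradedObjectMap (ι K b h) x ≫ rG K b h x = 𝟙 _ := by
  obtain ⟨p, q⟩ := x
  exact (spl K b h p q).f_r

lemma sG_π (x : ℤ × ℤ) :
    sG K b h x ≫ HomologicalComplex₂.toGradedObjectMap (π K b h) x = 𝟙 _ := by
  obtain ⟨p, q⟩ := x
  exact (spl K b h p q).s_g

lemma rG_ι_add (x : ℤ × ℤ) :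
    rG K b h x ≫ HomologicalComplex₂.toGradedObjectMap (ι K b h) x +
      HomologicalComplex₂.toGradedObjectMap (π K b h) x ≫ sG K b h x = 𝟙 _ := by
  obtain ⟨p, q⟩ := x
  exact (spl K b h p q).id

instance hasTotal_sub [K.HasTotal cℤ] : (sub K b h).HasTotal cℤ :=
  Tot1.hasMap_of_retract (HomologicalComplex₂.toGradedObjectMap (ι K b h)) (rG K b h)
    (fun x => ι_rG K b h x) _

lemma exists_retract_RF (p q : ℤ) : ∃ (i : (((RF b).obj K).X p).X q ⟶ (K.X p).X q)
    (r : (K.X p).X q ⟶ (((RF b).obj K).X p).X q), i ≫ r = 𝟙 _ := by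
  by_cases hq : q = b
  · rw [hq]
    exact ⟨(singleObjXSelf cℤ b ((K.X p).X b)).hom, (singleObjXSelf cℤ b ((K.X p).X b)).inv,
      Iso.hom_inv_id _⟩
  · exact ⟨0, 0, (isZero_RF K b p q hq).eq_of_src _ _⟩

instance hasTotal_RF [K.HasTotal cℤ] : ((RF b).obj K).HasTotal cℤ :=
  Tot1.hasMap_of_retract (X := K.toGradedObject) (Y := ((RF b).obj K).toGradedObject)
    (fun ⟨p, q⟩ => (exists_retract_RF K b p q).choose)
    (fun ⟨p, q⟩ => (exists_retract_RF K b p q).choose_spec.choose)
    (fun ⟨p, q⟩ => (exists_retract_RF K b p q).choose_spec.choose_spec) _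

variable [K.HasTotal cℤ]

/-- the short exact sequence of total complexes. -/
noncomputable def ST : ShortComplex (HomologicalComplex A cℤ) :=
  ShortComplex.mk (HomologicalComplex₂.total.map (ι K b h) cℤ)
    (HomologicalComplex₂.total.map (π K b h) cℤ) (by
      rw [← HomologicalComplex₂.total.map_comp, ι_π, total_map_zero])

lemma splT_id (n : ℤ) : GradedObject.mapMap (rG K b h) (ComplexShape.π cℤ cℤ cℤ) n ≫
      GradedObject.mapMap (HomologicalComplex₂.toGradedObjectMap (ι K b h)) _ n +
    GradedObject.mapMap (HomologicalComplex₂.toGradedObjectMap (π K b h)) _ n ≫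
      GradedObject.mapMap (sG K b h) _ n =
    𝟙 (K.toGradedObject.mapObj (ComplexShape.π cℤ cℤ cℤ) n) := by
  apply GradedObject.mapObj_ext
  intro x hx
  rw [Preadditive.comp_add, GradedObject.ι_mapMap_assoc, GradedObject.ι_mapMap,
    GradedObject.ι_mapMap_assoc, GradedObject.ι_mapMap, ← Category.assoc, ← Category.assoc,
    ← Preadditive.add_comp, rG_ι_add, Category.id_comp, Category.comp_id]

/-- the degreewise splitting of the sequence of total complexes. -/
noncomputable def splT (n : ℤ) : ((ST K b h).map (eval A cℤ n)).Splitting where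
  r := GradedObject.mapMap (rG K b h) (ComplexShape.π cℤ cℤ cℤ) n
  s := GradedObject.mapMap (sG K b h) (ComplexShape.π cℤ cℤ cℤ) n
  f_r := by
    show GradedObject.mapMap (HomologicalComplex₂.toGradedObjectMap (ι K b h)) _ n ≫
      GradedObject.mapMap (rG K b h) _ n =
      𝟙 ((sub K b h).toGradedObject.mapObj (ComplexShape.π cℤ cℤ cℤ) n)
    apply GradedObject.mapObj_ext
    intro x hx
    rw [GradedObject.ι_mapMap_assoc, GradedObject.ι_mapMap, ← Category.assoc, ι_rG,
      Category.id_comp, Category.comp_id]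
  s_g := by
    show GradedObject.mapMap (sG K b h) _ n ≫
      GradedObject.mapMap (HomologicalComplex₂.toGradedObjectMap (π K b h)) _ n =
      𝟙 (((RF b).obj K).toGradedObject.mapObj (ComplexShape.π cℤ cℤ cℤ) n)
    apply GradedObject.mapObj_ext
    intro x hx
    rw [GradedObject.ι_mapMap_assoc, GradedObject.ι_mapMap, ← Category.assoc, sG_π,
      Category.id_comp, Category.comp_id]
  id := splT_id K b h n

lemma ST_shortExact : (ST K b h).ShortExact := by
  apply HomologicalComplex.shortExact_of_degreewise_shortExact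
  intro n
  exact (splT K b h n).shortExact

end

end Groth.Agent.Helper6.Tot2
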