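import Mathlib
import Groth.Agent.Helper6.Tot2

set_option autoImplicit false
set_option linter.style.haveILetI false
set_option linter.unusedSectionVars false

/-!
# Helper library for S8566 (part 3)

Naturality of the row filtration, the total complex of a single row, and the main induction.
-/

open CategoryTheory Limits HomologicalComplex

namespace Groth.Agent.Helper6.Tot3

open Groth.Agent.Helper6.Tot2

universe u v

variable {A : Type u} [Category.{v} A] [Abelian A]

local notation "cℤ" => ComplexShape.up ℤ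

section Sub

variable (K : HomologicalComplex₂ A cℤ cℤ) (b : ℤ) (hK : ∀ p q : ℤ, q < b → IsZero ((K.X p).X q))

lemma isZero_sub_b (p : ℤ) : IsZero (((sub K b hK).X p).X b) :=
  (Spq_shortExact K b hK p b).isIso_g_iff.mp (inferInstance : IsIso (((π K b hK).f p).f b))

lemma isZero_sub (a : ℤ) (hKa : ∀ p q : ℤ, p < a → IsZero ((K.X p).X q)) (p q : ℤ)
    (hpq : p < a ∨ q < b + 1) : IsZero (((sub K b hK).X p).X q) := by
  by_cases hq : q = b
  · rw [hq]; exact isZero_sub_b K b hK p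
  · have hS := Spq_shortExact K b hK p q
    haveI : Mono (((ι K b hK).f p).f q) := hS.mono_f
    have : IsZero ((K.X p).X q) := by
      rcases hpq with h1 | h1
      · exact hKa p q h1
      · exact hK p q (by omega)
    exact IsZero.of_mono (((ι K b hK).f p).f q) this

lemma isIso_rowF_ι (q : ℤ) (hq : q ≠ b) : IsIso ((rowF q).map (ι K b hK)) := by
  haveI : ∀ p, IsIso (((rowF q).map (ι K b hK)).f p) := fun p => by
    show IsIso (((ι K b hK).f p).f q)
    exact (Spq_shortExact K b hK p q).isIso_f_iff.mpr (isZero_RF K b p q hq)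
  exact HomologicalComplex.Hom.isIso_of_components _

end Sub

section Nat

variable {K L : HomologicalComplex₂ A cℤ cℤ} (φ : K ⟶ L) (b : ℤ)
  (hK : ∀ p q : ℤ, q < b → IsZero ((K.X p).X q)) (hL : ∀ p q : ℤ, q < b → IsZero ((L.X p).X q))

lemma π_nat : π K b hK ≫ (RF b).map φ = φ ≫ π L b hL := by
  ext p : 1
  apply to_single_hom_ext (c := cℤ) (j := b) (A := (L.X p).X b)
  show ((π K b hK).f p).f b ≫ (((RF b).map φ).f p).f b = (φ.f p).f b ≫ ((π L b hL).f p).f b
  rw [π_f_f, π_f_f, RF_map_f_f]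
  exact Iso.inv_hom_id_assoc _ _

/-- the induced map on the sub double complexes. -/
noncomputable def φsub : sub K b hK ⟶ sub L b hL :=
  kernel.map _ _ φ ((RF b).map φ) (π_nat φ b hK hL)

lemma φsub_ι : φsub φ b hK hL ≫ ι L b hL = ι K b hK ≫ φ :=
  kernel.lift_ι _ _ _

lemma quasiIso_rowF_φsub (hφ : ∀ q, QuasiIso ((rowF q).map φ)) (q : ℤ) :
    QuasiIso ((rowF q).map (φsub φ b hK hL)) := by
  by_cases hq : q = b
  · apply quasiIso_of_isZero_X
    · intro p
      show IsZero (((sub K b hK).X p).X q)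
      rw [hq]; exact isZero_sub_b K b hK p
    · intro p
      show IsZero (((sub L b hL).X p).X q)
      rw [hq]; exact isZero_sub_b L b hL p
  · haveI := isIso_rowF_ι K b hK q hq
    haveI := isIso_rowF_ι L b hL q hq
    haveI := hφ q
    have e : (rowF q).map (φsub φ b hK hL) ≫ (rowF q).map (ι L b hL) =
        (rowF q).map (ι K b hK) ≫ (rowF q).map φ := by
      rw [← Functor.map_comp, φsub_ι, Functor.map_comp]
    haveI : QuasiIso ((rowF q).map (φsub φ b hK hL) ≫ (rowF q).map (ι L b hL)) := by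
      rw [e]; infer_instance
    exact quasiIso_of_comp_right _ ((rowF q).map (ι L b hL))

variable [K.HasTotal cℤ] [L.HasTotal cℤ]

/-- the morphism of short exact sequences of total complexes. -/
noncomputable def Φ : Tot2.ST K b hK ⟶ Tot2.ST L b hL :=
  ShortComplex.homMk (HomologicalComplex₂.total.map (φsub φ b hK hL) cℤ)
    (HomologicalComplex₂.total.map φ cℤ)
    (HomologicalComplex₂.total.map ((RF b).map φ) cℤ)
    (by show HomologicalComplex₂.total.map (φsub φ b hK hL) cℤ ≫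
          HomologicalComplex₂.total.map (ι L b hL) cℤ =
          HomologicalComplex₂.total.map (ι K b hK) cℤ ≫ HomologicalComplex₂.total.map φ cℤ
        rw [← HomologicalComplex₂.total.map_comp, ← HomologicalComplex₂.total.map_comp, φsub_ι])
    (by show HomologicalComplex₂.total.map φ cℤ ≫ HomologicalComplex₂.total.map (π L b hL) cℤ =
          HomologicalComplex₂.total.map (π K b hK) cℤ ≫
            HomologicalComplex₂.total.map ((RF b).map φ) cℤ
        rw [← HomologicalComplex₂.total.map_comp, ← HomologicalComplex₂.total.map_comp, π_nat])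

end Nat

section Row

variable (K : HomologicalComplex₂ A cℤ cℤ) (b : ℤ) [K.HasTotal cℤ]

lemma isIso_ιTotal_RF (m n : ℤ) (hmn : m + b = n) :
    IsIso (((RF b).obj K).ιTotal cℤ m b n hmn) := by
  classical
  refine ⟨⟨((RF b).obj K).totalDesc (fun p' q' h' => if hq : q' = b then eqToHom (by
      have hp : p' = m := by dsimp at h'; omega
      subst hq hp; rfl) else 0), ?_, ?_⟩⟩
  · rw [HomologicalComplex₂.ι_totalDesc, dif_pos rfl, eqToHom_refl]
  · apply HomologicalComplex₂.total.hom_ext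
    intro p' q' h'
    rw [HomologicalComplex₂.ι_totalDesc_assoc, Category.comp_id]
    by_cases hq : q' = b
    · have hp : p' = m := by dsimp at h'; omega
      subst hq hp
      rw [dif_pos rfl, eqToHom_refl, Category.id_comp]
    · exact (isZero_RF K b p' q' hq).eq_of_src _ _

/-- the identification `K^{m,b} ≅ (row b)^{m,b}`. -/
noncomputable def sIso (m : ℤ) : (K.X m).X b ≅ (((RF b).obj K).X m).X b :=
  (singleObjXSelf cℤ b ((K.X m).X b)).symm

omit [K.HasTotal cℤ] in
lemma RF_d_f' (p p' : ℤ) : (((RF b).obj K).d p p').f b =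
    (sIso K b p).inv ≫ (K.d p p').f b ≫ (sIso K b p').hom := RF_d_f K b p p'

/-- the comparison `K^{m,b} ⟶ Tot^n(row b)` -/
noncomputable def jRow (m n : ℤ) (hmn : m + b = n) :
    (K.X m).X b ⟶ (((RF b).obj K).total cℤ).X n :=
  (sIso K b m).hom ≫ ((RF b).obj K).ιTotal cℤ m b n hmn

instance (m n : ℤ) (hmn : m + b = n) : IsIso (jRow K b m n hmn) := by
  haveI := isIso_ιTotal_RF K b m n hmn
  unfold jRow
  infer_instance

lemma jRow_d (m m' n n' : ℤ) (hmn : m + b = n) (hmn' : m' + b = n') (hm : m + 1 = m') :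
    jRow K b m n hmn ≫ (((RF b).obj K).total cℤ).d n n' =
      (K.d m m').f b ≫ jRow K b m' n' hmn' := by
  have h2 : (((RF b).obj K).X m).d b (b + 1) = 0 := rfl
  have h1 : ComplexShape.ε₁ cℤ cℤ cℤ (m, b) = 1 := rfl
  unfold jRow
  rw [HomologicalComplex₂.total_d, Preadditive.comp_add, Category.assoc, Category.assoc,
    HomologicalComplex₂.ι_D₁, HomologicalComplex₂.ι_D₂,
    HomologicalComplex₂.d₁_eq _ cℤ (show (ComplexShape.up ℤ).Rel m m' from hm) b n' hmn',
    HomologicalComplex₂.d₂_eq _ cℤ m (show (ComplexShape.up ℤ).Rel b (b + 1) from rfl) n' (by dsimp; omega),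
    h2, zero_comp, smul_zero, comp_zero, add_zero, h1, one_smul, RF_d_f', Category.assoc,
    Category.assoc, Iso.hom_inv_id_assoc]

end Row

section RowNat

variable {K L : HomologicalComplex₂ A cℤ cℤ} (φ : K ⟶ L) (b : ℤ) [K.HasTotal cℤ] [L.HasTotal cℤ]

omit [K.HasTotal cℤ] [L.HasTotal cℤ] in
lemma RF_map_f_f' (p : ℤ) : (((RF b).map φ).f p).f b =
    (sIso K b p).inv ≫ (φ.f p).f b ≫ (sIso L b p).hom := RF_map_f_f φ b p

lemma jRow_nat (m n : ℤ) (hmn : m + b = n) :
    (φ.f m).f b ≫ jRow L b m n hmn =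
      jRow K b m n hmn ≫ (HomologicalComplex₂.total.map ((RF b).map φ) cℤ).f n := by
  unfold jRow
  rw [Category.assoc, HomologicalComplex₂.ιTotal_map, RF_map_f_f', Category.assoc,
    Category.assoc, Iso.hom_inv_id_assoc]

lemma quasiIsoAt_total_RF (hφ : QuasiIso ((rowF b).map φ)) (n : ℤ) :
    QuasiIsoAt (HomologicalComplex₂.total.map ((RF b).map φ) cℤ) n := by
  rw [quasiIsoAt_iff' _ (n - 1) n (n + 1) (by simp) (by simp)]
  have h1 : QuasiIsoAt ((rowF b).map φ) (n - b) := inferInstance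
  rw [quasiIsoAt_iff' _ (n - b - 1) (n - b) (n - b + 1) (by simp) (by simp)] at h1
  have e1 : n - b - 1 + b = n - 1 := by omega
  have e2 : n - b + b = n := by omega
  have e3 : n - b + 1 + b = n + 1 := by omega
  obtain ⟨i1, hi1⟩ : ∃ i : (K.X (n - b - 1)).X b ≅ (((RF b).obj K).total cℤ).X (n - 1),
    i.hom = jRow K b (n - b - 1) (n - 1) e1 := ⟨asIso (jRow K b (n - b - 1) (n - 1) e1), rfl⟩
  obtain ⟨i2, hi2⟩ : ∃ i : (K.X (n - b)).X b ≅ (((RF b).obj K).total cℤ).X n,
    i.hom = jRow K b (n - b) n e2 := ⟨asIso (jRow K b (n - b) n e2), rfl⟩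
  obtain ⟨i3, hi3⟩ : ∃ i : (K.X (n - b + 1)).X b ≅ (((RF b).obj K).total cℤ).X (n + 1),
    i.hom = jRow K b (n - b + 1) (n + 1) e3 := ⟨asIso (jRow K b (n - b + 1) (n + 1) e3), rfl⟩
  obtain ⟨j1, hj1⟩ : ∃ i : (L.X (n - b - 1)).X b ≅ (((RF b).obj L).total cℤ).X (n - 1),
    i.hom = jRow L b (n - b - 1) (n - 1) e1 := ⟨asIso (jRow L b (n - b - 1) (n - 1) e1), rfl⟩
  obtain ⟨j2, hj2⟩ : ∃ i : (L.X (n - b)).X b ≅ (((RF b).obj L).total cℤ).X n,
    i.hom = jRow L b (n - b) n e2 := ⟨asIso (jRow L b (n - b) n e2), rfl⟩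
  obtain ⟨j3, hj3⟩ : ∃ i : (L.X (n - b + 1)).X b ≅ (((RF b).obj L).total cℤ).X (n + 1),
    i.hom = jRow L b (n - b + 1) (n + 1) e3 := ⟨asIso (jRow L b (n - b + 1) (n + 1) e3), rfl⟩
  refine (ShortComplex.quasiIso_iff_of_arrow_mk_iso _ _ ?_).mp h1
  refine Arrow.isoMk (ShortComplex.isoMk i1 i2 i3 ?_ ?_) (ShortComplex.isoMk j1 j2 j3 ?_ ?_) ?_
  · rw [hi1, hi2]
    exact jRow_d K b (n - b - 1) (n - b) (n - 1) n e1 e2 (by omega)
  · rw [hi2, hi3]
    exact jRow_d K b (n - b) (n - b + 1) n (n + 1) e2 e3 rfl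
  · rw [hj1, hj2]
    exact jRow_d L b (n - b - 1) (n - b) (n - 1) n e1 e2 (by omega)
  · rw [hj2, hj3]
    exact jRow_d L b (n - b) (n - b + 1) n (n + 1) e2 e3 rfl
  · ext
    · show i1.hom ≫ _ = _ ≫ j1.hom
      rw [hi1, hj1]
      exact (jRow_nat φ b (n - b - 1) (n - 1) e1).symm
    · show i2.hom ≫ _ = _ ≫ j2.hom
      rw [hi2, hj2]
      exact (jRow_nat φ b (n - b) n e2).symm
    · show i3.hom ≫ _ = _ ≫ j3.hom
      rw [hi3, hj3]
      exact (jRow_nat φ b (n - b + 1) (n + 1) e3).symm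

end RowNat

end Groth.Agent.Helper6.Tot3
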