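import Mathlib
import Groth.Agent.Helper6.Tot3

set_option autoImplicit false
set_option linter.style.haveILetI false
set_option linter.unusedSectionVars false

/-!
# Helper library for S8566 (part 4): the main induction

A morphism of double complexes, supported in `p ≥ a`, `q ≥ b`, which is a quasi-isomorphism on
every row induces a quasi-isomorphism of the total complexes.
-/

open CategoryTheory Limits HomologicalComplex

namespace Groth.Agent.Helper6.Tot4

open Groth.Agent.Helper6.Tot2 Groth.Agent.Helper6.Tot3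

universe u v

variable {A : Type u} [Category.{v} A] [Abelian A]

local notation "cℤ" => ComplexShape.up ℤ

lemma isZero_total_X (M : HomologicalComplex₂ A cℤ cℤ) [M.HasTotal cℤ] (a b : ℤ)
    (hM : ∀ p q : ℤ, p < a ∨ q < b → IsZero ((M.X p).X q)) (n : ℤ) (hn : n < a + b) :
    IsZero ((M.total cℤ).X n) := by
  rw [IsZero.iff_id_eq_zero]
  apply HomologicalComplex₂.total.hom_ext
  intro p q hpq
  exact (hM p q (by dsimp at hpq; omega)).eq_of_src _ _

lemma isZero_total_homology (M : HomologicalComplex₂ A cℤ cℤ) [M.HasTotal cℤ] (a b : ℤ)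
    (hM : ∀ p q : ℤ, p < a ∨ q < b → IsZero ((M.X p).X q)) (n : ℤ) (hn : n < a + b) :
    IsZero ((M.total cℤ).homology n) :=
  ShortComplex.isZero_homology_of_isZero_X₂ _ (isZero_total_X M a b hM n hn)

theorem key (k : ℕ) : ∀ (a b N : ℤ) (K L : HomologicalComplex₂ A cℤ cℤ) (φ : K ⟶ L)
    [K.HasTotal cℤ] [L.HasTotal cℤ]
    (_ : ∀ p q : ℤ, p < a ∨ q < b → IsZero ((K.X p).X q))
    (_ : ∀ p q : ℤ, p < a ∨ q < b → IsZero ((L.X p).X q))
    (_ : ∀ q, QuasiIso ((rowF q).map φ)) (_ : N + 2 - a - b ≤ k),
    (∀ n ≤ N, IsIso (homologyMap (HomologicalComplex₂.total.map φ cℤ) n)) ∧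
      Mono (homologyMap (HomologicalComplex₂.total.map φ cℤ) (N + 1)) := by
  induction k with
  | zero =>
    intro a b N K L φ _ _ hK hL hφ hk
    have hzK : ∀ n, n ≤ N + 1 → IsZero ((K.total cℤ).homology n) := fun n hn =>
      isZero_total_homology K a b hK n (by omega)
    have hzL : ∀ n, n ≤ N + 1 → IsZero ((L.total cℤ).homology n) := fun n hn =>
      isZero_total_homology L a b hL n (by omega)
    refine ⟨fun n hn => ⟨⟨0, (hzK n (by omega)).eq_of_src _ _, (hzL n (by omega)).eq_of_src _ _⟩⟩,
      ⟨fun g g' _ => (hzK (N + 1) le_rfl).eq_of_tgt g g'⟩⟩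
  | succ k ih =>
    intro a b N K L φ _ _ hK hL hφ hk
    have hK' : ∀ p q : ℤ, q < b → IsZero ((K.X p).X q) := fun p q h => hK p q (Or.inr h)
    have hL' : ∀ p q : ℤ, q < b → IsZero ((L.X p).X q) := fun p q h => hL p q (Or.inr h)
    obtain ⟨ih1, ih2⟩ := ih a (b + 1) N (sub K b hK') (sub L b hL') (φsub φ b hK' hL')
      (isZero_sub K b hK' a (fun p q h => hK p q (Or.inl h)))
      (isZero_sub L b hL' a (fun p q h => hL p q (Or.inl h)))
      (quasiIso_rowF_φsub φ b hK' hL' hφ) (by omega)
    have hR : ∀ n, IsIso (homologyMap (HomologicalComplex₂.total.map ((RF b).map φ) cℤ) n) :=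
      fun n => (quasiIsoAt_iff_isIso_homologyMap _ _).mp (quasiIsoAt_total_RF φ b (hφ b) n)
    have hS₁ := ST_shortExact K b hK'
    have hS₂ := ST_shortExact L b hL'
    constructor
    · intro n hn
      haveI := hR (n - 1)
      haveI := hR n
      haveI := ih1 n hn
      haveI : Mono (homologyMap (HomologicalComplex₂.total.map (φsub φ b hK' hL') cℤ) (n + 1)) := by
        by_cases h : n + 1 ≤ N
        · haveI := ih1 (n + 1) h
          infer_instance
        · obtain rfl : n = N := by omega
          exact ih2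
      haveI : Mono (homologyMap (HomologicalComplex₂.total.map φ cℤ) n) :=
        Tot1.mono_homologyMap_τ₂ (Φ φ b hK' hL') hS₁ hS₂ (n - 1) n (by simp)
          (inferInstanceAs (Epi (homologyMap (HomologicalComplex₂.total.map ((RF b).map φ) cℤ)
            (n - 1))))
          (inferInstanceAs (Mono (homologyMap (HomologicalComplex₂.total.map (φsub φ b hK' hL') cℤ)
            n)))
          (inferInstanceAs (Mono (homologyMap (HomologicalComplex₂.total.map ((RF b).map φ) cℤ) n)))
      haveI : Epi (homologyMap (HomologicalComplex₂.total.map φ cℤ) n) :=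
        Tot1.epi_homologyMap_τ₂ (Φ φ b hK' hL') hS₁ hS₂ n (n + 1) (by simp)
          (inferInstanceAs (Epi (homologyMap (HomologicalComplex₂.total.map (φsub φ b hK' hL') cℤ)
            n)))
          (inferInstanceAs (Epi (homologyMap (HomologicalComplex₂.total.map ((RF b).map φ) cℤ) n)))
          (inferInstanceAs (Mono (homologyMap (HomologicalComplex₂.total.map (φsub φ b hK' hL') cℤ)
            (n + 1))))
      exact isIso_of_mono_of_epi _
    · haveI := hR N
      haveI := hR (N + 1)
      exact Tot1.mono_homologyMap_τ₂ (Φ φ b hK' hL') hS₁ hS₂ N (N + 1) (by simp)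
        (inferInstanceAs (Epi (homologyMap (HomologicalComplex₂.total.map ((RF b).map φ) cℤ) N)))
        ih2
        (inferInstanceAs (Mono (homologyMap (HomologicalComplex₂.total.map ((RF b).map φ) cℤ)
          (N + 1))))

theorem main (K L : HomologicalComplex₂ A cℤ cℤ) (φ : K ⟶ L) (a b : ℤ)
    (hK : ∀ p q : ℤ, p < a ∨ q < b → IsZero ((K.X p).X q))
    (hL : ∀ p q : ℤ, p < a ∨ q < b → IsZero ((L.X p).X q))
    [K.HasTotal cℤ] [L.HasTotal cℤ] [QuasiIso φ] :
    QuasiIso (HomologicalComplex₂.total.map φ cℤ) := by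
  have hφ : ∀ q, QuasiIso ((rowF q).map φ) := fun q => by
    unfold rowF
    infer_instance
  rw [quasiIso_iff]
  intro n
  rw [quasiIsoAt_iff_isIso_homologyMap]
  exact (key (n + 2 - a - b).toNat a b n K L φ hK hL hφ (Int.self_le_toNat _)).1 n le_rfl

end Groth.Agent.Helper6.Tot4
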