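import Mathlib

set_option autoImplicit false
open CategoryTheory Limits Opposite Simplicial MonoidalCategory CartesianMonoidalCategory

namespace Groth.Agent.Helper6.TrivFib

universe u

variable {X Y : SSet.{u}}

/-- the map `X ⨿ X ⟶ X ⊗ Δ[1]`. -/
noncomputable def j (X : SSet.{u}) : X ⨿ X ⟶ X ⊗ Δ[1] := coprod.desc SSet.ι₀ SSet.ι₁

lemma jointly_surj (X : SSet.{u}) (k : SimplexCategoryᵒᵖ) (x : (X ⨿ X).obj k) :
    (∃ a : X.obj k, (coprod.inl : X ⟶ X ⨿ X).app k a = x) ∨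
      (∃ b : X.obj k, (coprod.inr : X ⟶ X ⨿ X).app k b = x) := by
  have hc := isColimitOfPreserves ((evaluation SimplexCategoryᵒᵖ (Type u)).obj k)
    (coprodIsCoprod X X)
  obtain ⟨⟨i⟩, y, hy⟩ := Types.jointly_surjective_of_isColimit hc x
  rcases i with _ | _
  · exact Or.inl ⟨y, hy⟩
  · exact Or.inr ⟨y, hy⟩


lemma j_inl (X : SSet.{u}) (k : SimplexCategoryᵒᵖ) (a : X.obj k) :
    (j X).app k ((coprod.inl : X ⟶ X ⨿ X).app k a) = SSet.ι₀.app k a := by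
  have : (coprod.inl : X ⟶ X ⨿ X) ≫ j X = SSet.ι₀ := coprod.inl_desc _ _
  exact ConcreteCategory.congr_hom (congr_app this k) a

lemma j_inr (X : SSet.{u}) (k : SimplexCategoryᵒᵖ) (a : X.obj k) :
    (j X).app k ((coprod.inr : X ⟶ X ⨿ X).app k a) = SSet.ι₁.app k a := by
  have : (coprod.inr : X ⟶ X ⨿ X) ≫ j X = SSet.ι₁ := coprod.inr_desc _ _
  exact ConcreteCategory.congr_hom (congr_app this k) a

lemma ι₀_ne_ι₁ (X : SSet.{u}) (m : ℕ) (a b : X _⦋m⦌) : SSet.ι₀.app _ a ≠ SSet.ι₁.app _ b := by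
  intro h
  have h2 : (SSet.ι₀.app _ a).2 = (SSet.ι₁.app _ b).2 := congrArg Prod.snd h
  have h3 : (0 : Fin 2) = 1 := congrArg (fun (s : Δ[1] _⦋m⦌) => s 0) h2
  exact absurd h3 (by decide)

instance mono_j (X : SSet.{u}) : Mono (j X) := by
  rw [NatTrans.mono_iff_mono_app]
  intro k
  rw [mono_iff_injective]
  obtain ⟨k⟩ := k
  induction k using SimplexCategory.rec with
  | _ m =>
    intro x x' hxx'
    rcases jointly_surj X _ x with ⟨a, rfl⟩ | ⟨a, rfl⟩ <;>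
    rcases jointly_surj X _ x' with ⟨b, rfl⟩ | ⟨b, rfl⟩
    · rw [j_inl, j_inl] at hxx'
      have : a = b := congrArg Prod.fst hxx'
      rw [this]
    · rw [j_inl, j_inr] at hxx'
      exact absurd hxx' (ι₀_ne_ι₁ X m a b)
    · rw [j_inr, j_inl] at hxx'
      exact absurd hxx'.symm (ι₀_ne_ι₁ X m b a)
    · rw [j_inr, j_inr] at hxx'
      have : a = b := congrArg Prod.fst hxx'
      rw [this]


/-- build a homotopy from the map -/
noncomputable def mkHomotopy {a b : X ⟶ Y} (h : X ⊗ Δ[1] ⟶ Y) (h₀ : SSet.ι₀ ≫ h = a)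
    (h₁ : SSet.ι₁ ≫ h = b) : SSet.Homotopy a b := by
  change SSet.RelativeMorphism.Homotopy _ _
  exact
    { h := h
      h₀ := h₀
      h₁ := h₁
      rel := by
        ext k ⟨⟨x, hx⟩, s⟩
        exact hx.elim }

theorem main (f : X ⟶ Y) (hf : SSet.modelCategoryQuillen.I.rlp f) :
    ∃ g : Y ⟶ X, g ≫ f = 𝟙 Y ∧ Nonempty (SSet.Homotopy (𝟙 X) (f ≫ g)) ∧
      Nonempty (SSet.Homotopy (f ≫ g) (𝟙 X)) := by
  have hf' : (MorphismProperty.monomorphisms SSet.{u}).rlp f := by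
    rw [SSet.rlp_monomorphisms]; exact hf
  haveI h1 : HasLiftingProperty ((⊥ : Y.Subcomplex).ι) f :=
    hf' _ (MorphismProperty.monomorphisms.infer_property _)
  have sq1 : CommSq (SSet.Subcomplex.isInitialBot.to X) ((⊥ : Y.Subcomplex).ι) f (𝟙 Y) :=
    ⟨SSet.Subcomplex.isInitialBot.hom_ext _ _⟩
  have hg : sq1.lift ≫ f = 𝟙 Y := sq1.fac_right
  haveI h2 : HasLiftingProperty (j X) f :=
    hf' _ (MorphismProperty.monomorphisms.infer_property _)
  have sq2 : CommSq (coprod.desc (𝟙 X) (f ≫ sq1.lift)) (j X) f (fst X _ ≫ f) := ⟨by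
    apply coprod.hom_ext
    · simp [j]
    · simp [j, hg]⟩
  have sq3 : CommSq (coprod.desc (f ≫ sq1.lift) (𝟙 X)) (j X) f (fst X _ ≫ f) := ⟨by
    apply coprod.hom_ext
    · simp [j, hg]
    · simp [j]⟩
  refine ⟨sq1.lift, hg, ⟨mkHomotopy sq2.lift ?_ ?_⟩, ⟨mkHomotopy sq3.lift ?_ ?_⟩⟩
  · have := sq2.fac_left
    have h : (coprod.inl : X ⟶ X ⨿ X) ≫ j X = SSet.ι₀ := coprod.inl_desc _ _
    rw [← h, Category.assoc, this, coprod.inl_desc]
  · have := sq2.fac_left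
    have h : (coprod.inr : X ⟶ X ⨿ X) ≫ j X = SSet.ι₁ := coprod.inr_desc _ _
    rw [← h, Category.assoc, this, coprod.inr_desc]
  · have := sq3.fac_left
    have h : (coprod.inl : X ⟶ X ⨿ X) ≫ j X = SSet.ι₀ := coprod.inl_desc _ _
    rw [← h, Category.assoc, this, coprod.inl_desc]
  · have := sq3.fac_left
    have h : (coprod.inr : X ⟶ X ⨿ X) ≫ j X = SSet.ι₁ := coprod.inr_desc _ _
    rw [← h, Category.assoc, this, coprod.inr_desc]

end Groth.Agent.Helper6.TrivFib
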