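import Mathlib

/-!
# Splitting off a contractible quotient from a termwise split exact sequence of complexes
-/

set_option autoImplicit false
set_option linter.style.haveILetI false
set_option linter.unusedSectionVars false

universe v u'
open CategoryTheory CategoryTheory.Limits

namespace Groth.Agent.Helper6.TrivSum

variable {ι : Type*} {c : ComplexShape ι} {V : Type u'} [Category.{v} V] [Preadditive V]
variable {A B C : HomologicalComplex V c} (i : A ⟶ B) (p : B ⟶ C)
  (r : ∀ n, B.X n ⟶ A.X n) (s : ∀ n, C.X n ⟶ B.X n)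
  (hC : Homotopy (𝟙 C) 0)

/-- the section of `p` obtained from the contraction of `C` -/
noncomputable def sec : C ⟶ B := Homotopy.nullHomotopicMap (fun n m => hC.hom n m ≫ s m)

variable (h1 : ∀ n, i.f n ≫ r n = 𝟙 (A.X n)) (h2 : ∀ n, s n ≫ p.f n = 𝟙 (C.X n))
  (h3 : ∀ n, r n ≫ i.f n + p.f n ≫ s n = 𝟙 (B.X n)) (h4 : i ≫ p = 0)

include h2 in
lemma sec_comp : sec s hC ≫ p = 𝟙 C := by
  unfold sec
  rw [Homotopy.nullHomotopicMap_comp]
  have h : (fun n m => (hC.hom n m ≫ s m) ≫ p.f m) = fun n m => hC.hom n m := by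
    funext n m
    rw [Category.assoc, h2, Category.comp_id]
  rw [h]
  ext n
  have hn := hC.comm n
  rw [HomologicalComplex.zero_f, add_zero] at hn
  exact hn.symm

/-- the idempotent onto the kernel of `p` -/
noncomputable def idem : B ⟶ B := 𝟙 B - p ≫ sec s hC

include h2 in
lemma idem_comp : idem p s hC ≫ p = 0 := by
  unfold idem
  rw [Preadditive.sub_comp, Category.id_comp, Category.assoc, sec_comp p s hC h2,
    Category.comp_id, sub_self]

include h2 h3 in
lemma key0 (n : ι) : (idem p s hC).f n ≫ r n ≫ i.f n = (idem p s hC).f n := by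
  have h3' : r n ≫ i.f n = 𝟙 _ - p.f n ≫ s n := eq_sub_of_add_eq (h3 n)
  have h0 : (idem p s hC).f n ≫ p.f n = 0 := by
    rw [← HomologicalComplex.comp_f, idem_comp p s hC h2, HomologicalComplex.zero_f]
  rw [h3', Preadditive.comp_sub, Category.comp_id, ← Category.assoc, h0, zero_comp, sub_zero]

/-- the retraction of `i` -/
noncomputable def retr : B ⟶ A where
  f n := (idem p s hC).f n ≫ r n
  comm' n m _ := by
    have hm : ∀ {X : V} (g g' : X ⟶ A.X m), g ≫ i.f m = g' ≫ i.f m → g = g' :=
      fun g g' h => by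
        have h' := congrArg (fun t => t ≫ r m) h
        simp only [Category.assoc, h1, Category.comp_id] at h'
        exact h'
    apply hm
    have e1 : (((idem p s hC).f n ≫ r n) ≫ A.d n m) ≫ i.f m =
        (idem p s hC).f n ≫ B.d n m := by
      rw [Category.assoc, Category.assoc, ← i.comm n m, ← Category.assoc (r n),
        ← Category.assoc ((idem p s hC).f n), ← Category.assoc ((idem p s hC).f n),
        Category.assoc ((idem p s hC).f n) (r n), key0 i p r s hC h2 h3]
    have e2 : (B.d n m ≫ (idem p s hC).f m ≫ r m) ≫ i.f m =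
        B.d n m ≫ (idem p s hC).f m := by
      rw [Category.assoc, Category.assoc, key0 i p r s hC h2 h3]
    rw [e1, e2, (idem p s hC).comm n m]

include h2 h3 in
lemma retr_comp : retr i p r s hC h1 h2 h3 ≫ i = idem p s hC := by
  ext n
  show ((idem p s hC).f n ≫ r n) ≫ i.f n = (idem p s hC).f n
  rw [Category.assoc, key0 i p r s hC h2 h3]

include h4 in
lemma comp_retr : i ≫ retr i p r s hC h1 h2 h3 = 𝟙 A := by
  have h : i ≫ idem p s hC = i := by
    unfold idem
    rw [Preadditive.comp_sub, Category.comp_id, ← Category.assoc, h4, zero_comp, sub_zero]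
  ext n
  show i.f n ≫ (idem p s hC).f n ≫ r n = 𝟙 _
  rw [← Category.assoc, ← HomologicalComplex.comp_f, h, h1]

lemma sec_retr : sec s hC ≫ retr i p r s hC h1 h2 h3 = 0 := by
  have h : sec s hC ≫ idem p s hC = 0 := by
    unfold idem
    rw [Preadditive.comp_sub, Category.comp_id, ← Category.assoc, sec_comp p s hC h2,
      Category.id_comp, sub_self]
  ext n
  show (sec s hC).f n ≫ (idem p s hC).f n ≫ r n = 0
  rw [← Category.assoc, ← HomologicalComplex.comp_f, h, HomologicalComplex.zero_f, zero_comp]

/-- the resulting decomposition `B = A ⊕ C` -/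
noncomputable def bicone : BinaryBicone A C where
  pt := B
  fst := retr i p r s hC h1 h2 h3
  snd := p
  inl := i
  inr := sec s hC
  inl_fst := comp_retr i p r s hC h1 h2 h3 h4
  inl_snd := h4
  inr_fst := sec_retr i p r s hC h1 h2 h3
  inr_snd := sec_comp p s hC h2

lemma bicone_total :
    (bicone i p r s hC h1 h2 h3 h4).fst ≫ (bicone i p r s hC h1 h2 h3 h4).inl +
      (bicone i p r s hC h1 h2 h3 h4).snd ≫ (bicone i p r s hC h1 h2 h3 h4).inr =
      𝟙 (bicone i p r s hC h1 h2 h3 h4).pt := by
  show retr i p r s hC h1 h2 h3 ≫ i + p ≫ sec s hC = 𝟙 B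
  rw [retr_comp i p r s hC h1 h2 h3]
  unfold idem
  exact sub_add_cancel _ _

/-- the decomposition is a biproduct -/
noncomputable def bicone_isBilimit : (bicone i p r s hC h1 h2 h3 h4).IsBilimit :=
  isBinaryBilimitOfTotal _ (bicone_total i p r s hC h1 h2 h3 h4)

end Groth.Agent.Helper6.TrivSum
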