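import Mathlib
import Groth.Agent.Helper6.TrivSum1

/-!
# `M ⊕ Cone(α) ≅ N ⊕ Cone(𝟙 M)` when `Cone(α)` is contractible
-/

set_option autoImplicit false
set_option linter.style.haveILetI false
set_option linter.unusedSectionVars false

universe u
open CategoryTheory CategoryTheory.Limits CochainComplex HomComplex

namespace Groth.Agent.Helper6.TrivSum

variable {R : Type u} [Ring R]

section Biprod
variable (X Y : CochainComplex (ModuleCat.{u} R) ℤ) (n : ℤ)

lemma inl_fst_f : (biprod.inl : X ⟶ X ⊞ Y).f n ≫ (biprod.fst : X ⊞ Y ⟶ X).f n = 𝟙 _ := by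
  rw [← HomologicalComplex.comp_f, biprod.inl_fst, HomologicalComplex.id_f]

lemma inl_snd_f : (biprod.inl : X ⟶ X ⊞ Y).f n ≫ (biprod.snd : X ⊞ Y ⟶ Y).f n = 0 := by
  rw [← HomologicalComplex.comp_f, biprod.inl_snd, HomologicalComplex.zero_f]

lemma inr_fst_f : (biprod.inr : Y ⟶ X ⊞ Y).f n ≫ (biprod.fst : X ⊞ Y ⟶ X).f n = 0 := by
  rw [← HomologicalComplex.comp_f, biprod.inr_fst, HomologicalComplex.zero_f]

lemma inr_snd_f : (biprod.inr : Y ⟶ X ⊞ Y).f n ≫ (biprod.snd : X ⊞ Y ⟶ Y).f n = 𝟙 _ := by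
  rw [← HomologicalComplex.comp_f, biprod.inr_snd, HomologicalComplex.id_f]

lemma total_f : (biprod.fst : X ⊞ Y ⟶ X).f n ≫ (biprod.inl : X ⟶ X ⊞ Y).f n +
    (biprod.snd : X ⊞ Y ⟶ Y).f n ≫ (biprod.inr : Y ⟶ X ⊞ Y).f n = 𝟙 _ := by
  rw [← HomologicalComplex.comp_f, ← HomologicalComplex.comp_f, ← HomologicalComplex.add_f_apply,
    biprod.total, HomologicalComplex.id_f]

variable {X Y n} in
lemma biprod_hom_ext_f {Z : ModuleCat.{u} R} (f g : (X ⊞ Y).X n ⟶ Z)
    (h₁ : (biprod.inl : X ⟶ X ⊞ Y).f n ≫ f = (biprod.inl : X ⟶ X ⊞ Y).f n ≫ g)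
    (h₂ : (biprod.inr : Y ⟶ X ⊞ Y).f n ≫ f = (biprod.inr : Y ⟶ X ⊞ Y).f n ≫ g) : f = g := by
  rw [← Category.id_comp f, ← Category.id_comp g, ← total_f X Y n, Preadditive.add_comp,
    Preadditive.add_comp, Category.assoc, Category.assoc, Category.assoc, Category.assoc, h₁, h₂]

end Biprod

variable {M N : CochainComplex (ModuleCat.{u} R) ℤ} (α : M ⟶ N)

/-- the comparison of cones -/
noncomputable def chi : mappingCone (𝟙 M) ⟶ mappingCone α :=
  mappingCone.map (𝟙 M) α (𝟙 M) α rfl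

lemma inr_chi : mappingCone.inr (𝟙 M) ≫ chi α = α ≫ mappingCone.inr α := by
  simp [chi, mappingCone.map]

lemma inr_chi_f (n : ℤ) :
    (mappingCone.inr (𝟙 M)).f n ≫ (chi α).f n = α.f n ≫ (mappingCone.inr α).f n := by
  rw [← HomologicalComplex.comp_f, inr_chi, HomologicalComplex.comp_f]

lemma inl_chi (n : ℤ) :
    (mappingCone.inl (𝟙 M)).v (n + 1) n (by omega) ≫ (chi α).f n =
      (mappingCone.inl α).v (n + 1) n (by omega) := by
  simp [chi, mappingCone.map]

/-- `M → N ⊕ Cone(𝟙 M)` -/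
noncomputable def iMap : M ⟶ N ⊞ mappingCone (𝟙 M) :=
  biprod.lift α (mappingCone.inr (𝟙 M))

/-- `N ⊕ Cone(𝟙 M) → Cone(α)` -/
noncomputable def pMap : N ⊞ mappingCone (𝟙 M) ⟶ mappingCone α :=
  biprod.desc (mappingCone.inr α) (-(chi α))

/-- termwise retraction -/
noncomputable def rMap (n : ℤ) : (N ⊞ mappingCone (𝟙 M)).X n ⟶ M.X n :=
  (biprod.snd : N ⊞ mappingCone (𝟙 M) ⟶ mappingCone (𝟙 M)).f n ≫
    (mappingCone.snd (𝟙 M)).v n n (add_zero n)

/-- termwise section -/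
noncomputable def sMap (n : ℤ) : (mappingCone α).X n ⟶ (N ⊞ mappingCone (𝟙 M)).X n :=
  (mappingCone.snd α).v n n (add_zero n) ≫
      (biprod.inl : N ⟶ N ⊞ mappingCone (𝟙 M)).f n -
    (mappingCone.fst α).1.v n (n + 1) rfl ≫ (mappingCone.inl (𝟙 M)).v (n + 1) n (by omega) ≫
      (biprod.inr : mappingCone (𝟙 M) ⟶ N ⊞ mappingCone (𝟙 M)).f n

lemma inl_p (n : ℤ) : (biprod.inl : N ⟶ N ⊞ mappingCone (𝟙 M)).f n ≫ (pMap α).f n =
    (mappingCone.inr α).f n := by
  rw [← HomologicalComplex.comp_f, pMap, biprod.inl_desc]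

lemma inr_p (n : ℤ) : (biprod.inr : mappingCone (𝟙 M) ⟶ N ⊞ mappingCone (𝟙 M)).f n ≫
    (pMap α).f n = -(chi α).f n := by
  rw [← HomologicalComplex.comp_f, pMap, biprod.inr_desc, HomologicalComplex.neg_f_apply]

lemma i_snd (n : ℤ) : (iMap α).f n ≫
    (biprod.snd : N ⊞ mappingCone (𝟙 M) ⟶ mappingCone (𝟙 M)).f n =
      (mappingCone.inr (𝟙 M)).f n := by
  rw [← HomologicalComplex.comp_f, iMap, biprod.lift_snd]

lemma i_eq (n : ℤ) : (iMap α).f n =
    α.f n ≫ (biprod.inl : N ⟶ N ⊞ mappingCone (𝟙 M)).f n +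
      (mappingCone.inr (𝟙 M)).f n ≫
        (biprod.inr : mappingCone (𝟙 M) ⟶ N ⊞ mappingCone (𝟙 M)).f n := by
  rw [← HomologicalComplex.comp_f, ← HomologicalComplex.comp_f, ← HomologicalComplex.add_f_apply,
    iMap, biprod.lift_eq]

lemma inrα_s (n : ℤ) : (mappingCone.inr α).f n ≫ sMap α n =
    (biprod.inl : N ⟶ N ⊞ mappingCone (𝟙 M)).f n := by
  unfold sMap
  rw [Preadditive.comp_sub, ← Category.assoc, mappingCone.inr_f_snd_v, Category.id_comp,
    ← Category.assoc, mappingCone.inr_f_fst_v, zero_comp, sub_zero]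

lemma inlα_s (n : ℤ) : (mappingCone.inl α).v (n + 1) n (by omega) ≫ sMap α n =
    -((mappingCone.inl (𝟙 M)).v (n + 1) n (by omega) ≫
      (biprod.inr : mappingCone (𝟙 M) ⟶ N ⊞ mappingCone (𝟙 M)).f n) := by
  unfold sMap
  rw [Preadditive.comp_sub, ← Category.assoc, mappingCone.inl_v_snd_v, zero_comp,
    ← Category.assoc, mappingCone.inl_v_fst_v, Category.id_comp, zero_sub]

lemma h1 (n : ℤ) : (iMap α).f n ≫ rMap (N := N) n = 𝟙 (M.X n) := by
  unfold rMap
  rw [← Category.assoc, i_snd, mappingCone.inr_f_snd_v]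

lemma h2 (n : ℤ) : sMap α n ≫ (pMap α).f n = 𝟙 ((mappingCone α).X n) := by
  unfold sMap
  rw [Preadditive.sub_comp, Category.assoc, inl_p, Category.assoc, Category.assoc, inr_p,
    Preadditive.comp_neg, Preadditive.comp_neg, sub_neg_eq_add, inl_chi, add_comm]
  exact mappingCone.id_X α n (n + 1) rfl

lemma h4 : iMap α ≫ pMap α = 0 := by
  unfold iMap pMap
  rw [biprod.lift_desc, Preadditive.comp_neg, inr_chi, add_neg_cancel]

lemma h3 (n : ℤ) : rMap (N := N) n ≫ (iMap α).f n + (pMap α).f n ≫ sMap α n =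
    𝟙 ((N ⊞ mappingCone (𝟙 M)).X n) := by
  apply biprod_hom_ext_f
  · rw [Preadditive.comp_add, Category.comp_id]
    have e1 : (biprod.inl : N ⟶ N ⊞ mappingCone (𝟙 M)).f n ≫ rMap (N := N) n = 0 := by
      unfold rMap
      rw [← Category.assoc, inl_snd_f, zero_comp]
    rw [← Category.assoc, e1, zero_comp, zero_add, ← Category.assoc, inl_p, inrα_s]
  · rw [Preadditive.comp_add, Category.comp_id]
    have e1 : (biprod.inr : mappingCone (𝟙 M) ⟶ N ⊞ mappingCone (𝟙 M)).f n ≫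
        rMap (N := N) n = (mappingCone.snd (𝟙 M)).v n n (add_zero n) := by
      unfold rMap
      rw [← Category.assoc, inr_snd_f, Category.id_comp]
    rw [← Category.assoc, e1, ← Category.assoc, inr_p, Preadditive.neg_comp]
    apply mappingCone.ext_from (𝟙 M) (n + 1) n rfl
    · rw [Preadditive.comp_add, Preadditive.comp_neg, ← Category.assoc,
        mappingCone.inl_v_snd_v, zero_comp, zero_add, ← Category.assoc, inl_chi, inlα_s,
        neg_neg]
    · rw [Preadditive.comp_add, Preadditive.comp_neg, ← Category.assoc,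
        mappingCone.inr_f_snd_v, Category.id_comp, ← Category.assoc, inr_chi_f,
        Category.assoc, inrα_s, i_eq]
      abel

/-- the decomposition `N ⊕ Cone(𝟙 M) = M ⊕ Cone(α)` given a contraction of `Cone(α)` -/
noncomputable def coneBicone (hC : Homotopy (𝟙 (mappingCone α)) 0) :
    BinaryBicone M (mappingCone α) :=
  bicone (iMap α) (pMap α) (rMap (N := N)) (sMap α) hC (h1 α) (h2 α) (h3 α) (h4 α)

lemma coneBicone_pt (hC : Homotopy (𝟙 (mappingCone α)) 0) :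
    (coneBicone α hC).pt = (N ⊞ mappingCone (𝟙 M)) := rfl

/-- it is a biproduct -/
noncomputable def coneBicone_isBilimit (hC : Homotopy (𝟙 (mappingCone α)) 0) :
    (coneBicone α hC).IsBilimit :=
  bicone_isBilimit (iMap α) (pMap α) (rMap (N := N)) (sMap α) hC (h1 α) (h2 α) (h3 α) (h4 α)

end Groth.Agent.Helper6.TrivSum
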