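import Mathlib

/-!
# Finitely many finite projective modules become free on a common basic open
-/

set_option autoImplicit false
set_option linter.style.haveILetI false
set_option linter.unusedSectionVars false

universe u
open TensorProduct

namespace Groth.Agent.Helper6.TrivSum

variable {R : Type u} [CommRing R]

/-- freeness after inverting `f` passes to multiples of `f` -/
lemma free_away_of_dvd (f g : R) (hfg : f ∣ g) (X : Type u) [AddCommGroup X] [Module R X]
    (h : Module.Free (Localization.Away f) (Localization.Away f ⊗[R] X)) :
    Module.Free (Localization.Away g) (Localization.Away g ⊗[R] X) := by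
  have hu : IsUnit (algebraMap R (Localization.Away g) f) := by
    obtain ⟨c, rfl⟩ := hfg
    have h1 := IsLocalization.Away.algebraMap_isUnit (S := Localization.Away (f * c)) (f * c)
    rw [map_mul] at h1
    exact isUnit_of_mul_isUnit_left h1
  letI : Algebra (Localization.Away f) (Localization.Away g) :=
    (IsLocalization.Away.lift (S := Localization.Away f) f hu).toAlgebra
  haveI : IsScalarTower R (Localization.Away f) (Localization.Away g) :=
    IsScalarTower.of_algebraMap_eq' (IsLocalization.Away.lift_comp f hu).symm
  haveI := h
  exact Module.Free.of_equiv (AlgebraTensorModule.cancelBaseChange R (Localization.Away f)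
    (Localization.Away g) (Localization.Away g) X)

/-- a finite projective module is free on a basic open neighbourhood of `p` -/
lemma exists_free_away_one (p : Ideal R) [p.IsPrime] (X : Type u) [AddCommGroup X] [Module R X]
    [Module.Finite R X] [Module.Projective R X] :
    ∃ f : R, f ∉ p ∧ Module.Free (Localization.Away f) (Localization.Away f ⊗[R] X) := by
  haveI : Module.FinitePresentation R X := Module.finitePresentation_of_projective R X
  haveI : Module.Free (Localization.AtPrime p) (LocalizedModule p.primeCompl X) :=
    Module.free_of_flat_of_isLocalRing
  obtain ⟨r, hr, hfree, -⟩ := Module.FinitePresentation.exists_free_localizedModule_powers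
    p.primeCompl (LocalizedModule.mkLinearMap p.primeCompl X) (Localization.AtPrime p)
  refine ⟨r, hr, ?_⟩
  haveI := hfree
  exact Module.Free.of_equiv (LocalizedModule.equivTensorProduct (Submonoid.powers r) X)

/-- finitely many finite projective modules are free on a common basic open neighbourhood -/
lemma exists_free_away (p : Ideal R) [p.IsPrime] (X : ℤ → ModuleCat.{u} R) (s : Finset ℤ)
    (hX : ∀ j ∈ s, Module.Finite R (X j) ∧ Module.Projective R (X j)) :
    ∃ f : R, f ∉ p ∧
      ∀ j ∈ s, Module.Free (Localization.Away f) (Localization.Away f ⊗[R] X j) := by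
  classical
  induction s using Finset.induction_on with
  | empty => exact ⟨1, fun h => (Ideal.IsPrime.ne_top ‹_›) ((Ideal.eq_top_iff_one p).mpr h),
      fun j hj => absurd hj (Finset.notMem_empty j)⟩
  | insert a s ha ih =>
    obtain ⟨f, hf, hfree⟩ := ih (fun j hj => hX j (Finset.mem_insert_of_mem hj))
    haveI := (hX a (Finset.mem_insert_self a s)).1
    haveI := (hX a (Finset.mem_insert_self a s)).2
    obtain ⟨g, hg, hgfree⟩ := exists_free_away_one p (X a)
    refine ⟨f * g, fun h => (Ideal.IsPrime.mem_or_mem ‹_› h).elim hf hg, fun j hj => ?_⟩
    rcases Finset.mem_insert.mp hj with rfl | hj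
    · exact free_away_of_dvd g (f * g) (Dvd.intro_left f rfl) _ hgfree
    · exact free_away_of_dvd f (f * g) (Dvd.intro g rfl) _ (hfree j hj)

end Groth.Agent.Helper6.TrivSum
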