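import Mathlib
import Groth.Prelude.Def_DRing4
import Groth.Agent.Helper6.TrivSum2
import Groth.Agent.Helper6.TrivSum3
import Groth.Agent.Helper6.LiftCx3
import Groth.Agent.Helper6.LBCFibre
import Groth.Agent.Helper9.Leray2

/-!
# Quasi-isomorphic bounded complexes of finite projectives are locally stably isomorphic
-/

set_option autoImplicit false
set_option linter.style.haveILetI false
set_option linter.unusedSectionVars false

universe u
open CategoryTheory CategoryTheory.Limits Pretriangulated DerivedCategory TensorProduct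
  CochainComplex HomComplex
attribute [local instance] HasDerivedCategory.standard

namespace Groth.Agent.Helper6.TrivSum
open Groth.Agent.Helper3.DRingLib Groth.Agent.Helper6.LBCCompute Groth.Agent.Helper6.LiftCx

variable {R : Type u} [CommRing R]

/-- bounded contractible complexes of finite projective modules -/
structure IsTriv (C : DRing.Cx R) : Prop where
  bdd : ∃ a b : ℤ, DRing.VanishesOutside C a b
  fp : DRing.TermwiseFiniteProjective C
  htpy : Nonempty (Homotopy (𝟙 C) 0)

/-- the boundaries of a contractible complex of finite projectives are finite projective -/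
lemma range_fp (C : DRing.Cx R) (hC : IsTriv C) (i : ℤ) :
    Module.Finite R (LinearMap.range (C.d i (i + 1)).hom) ∧
      Module.Projective R (LinearMap.range (C.d i (i + 1)).hom) := by
  obtain ⟨h⟩ := hC.htpy
  haveI := (hC.fp i).1
  haveI := (hC.fp (i + 1)).2
  refine ⟨Module.Finite.range _, ?_⟩
  have hcomm := h.comm i
  rw [HomologicalComplex.zero_f, add_zero, dNext_eq h.hom (show (ComplexShape.up ℤ).Rel i (i + 1) from rfl),
    prevD_eq h.hom (show (ComplexShape.up ℤ).Rel (i - 1) i from by simp)] at hcomm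
  have hd : C.d i (i + 1) = C.d i (i + 1) ≫ h.hom (i + 1) i ≫ C.d i (i + 1) := by
    have h1 := congrArg (fun g => g ≫ C.d i (i + 1)) hcomm
    simp only [HomologicalComplex.id_f, Category.id_comp, Preadditive.add_comp, Category.assoc,
      HomologicalComplex.d_comp_d, comp_zero, add_zero] at h1
    exact h1
  refine Module.Projective.of_split (LinearMap.range (C.d i (i + 1)).hom).subtype
    ((C.d i (i + 1)).hom.rangeRestrict ∘ₗ (h.hom (i + 1) i).hom) ?_
  apply LinearMap.ext
  rintro ⟨y, x, rfl⟩
  apply Subtype.ext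
  show (C.d i (i + 1)).hom ((h.hom (i + 1) i).hom ((C.d i (i + 1)).hom x)) = (C.d i (i + 1)).hom x
  exact (congrArg (fun g => g.hom x) hd).symm

section BC
variable (S : Type u) [CommRing S] [Algebra R S]

/-- naturality of `extendScalarsEquiv`, as linear maps -/
lemma bc_nat {X X' : ModuleCat.{u} R} (g : X ⟶ X') :
    (extendScalarsEquiv (B := S) X').toLinearMap ∘ₗ
        ((ModuleCat.extendScalars (algebraMap R S)).map g).hom =
      (g.hom.baseChange S) ∘ₗ (extendScalarsEquiv (B := S) X).toLinearMap := by
  apply LinearMap.ext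
  intro x
  exact Groth.Agent.Helper6.LBCFibre.extendScalarsEquiv_naturality S g x

lemma free_range_bc [Module.Flat R S] {X X' : ModuleCat.{u} R} (g : X ⟶ X')
    (h : Module.Free S (S ⊗[R] LinearMap.range g.hom)) :
    Module.Free S (LinearMap.range ((ModuleCat.extendScalars (algebraMap R S)).map g).hom) := by
  haveI := h
  let e' := extendScalarsEquiv (B := S) X'
  let e := extendScalarsEquiv (B := S) X
  let φ := ((ModuleCat.extendScalars (algebraMap R S)).map g).hom
  have h1 : (LinearMap.range φ).map e'.toLinearMap = LinearMap.range (g.hom.baseChange S) := by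
    rw [← LinearMap.range_comp, bc_nat S g]
    exact LinearMap.range_comp_of_range_eq_top _ (LinearMap.range_eq_top.mpr e.surjective)
  have hg : g.hom = (LinearMap.range g.hom).subtype ∘ₗ g.hom.rangeRestrict := rfl
  have hs : Function.Surjective (g.hom.rangeRestrict.baseChange S) :=
    LinearMap.lTensor_surjective S g.hom.surjective_rangeRestrict
  have h2 : LinearMap.range (g.hom.baseChange S) =
      LinearMap.range ((LinearMap.range g.hom).subtype.baseChange S) := by
    conv_lhs => rw [hg, LinearMap.baseChange_comp]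
    exact LinearMap.range_comp_of_range_eq_top _ (LinearMap.range_eq_top.mpr hs)
  have hinj : Function.Injective ((LinearMap.range g.hom).subtype.baseChange S) :=
    Module.Flat.lTensor_preserves_injective_linearMap _ (LinearMap.range g.hom).injective_subtype
  let E1 : LinearMap.range φ ≃ₗ[S] (LinearMap.range φ).map e'.toLinearMap :=
    e'.submoduleMap (LinearMap.range φ)
  let E2 : (LinearMap.range φ).map e'.toLinearMap ≃ₗ[S]
      LinearMap.range ((LinearMap.range g.hom).subtype.baseChange S) :=
    LinearEquiv.ofEq _ _ (h1.trans h2)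
  let E3 : S ⊗[R] LinearMap.range g.hom ≃ₗ[S]
      LinearMap.range ((LinearMap.range g.hom).subtype.baseChange S) :=
    LinearEquiv.ofInjective _ hinj
  exact Module.Free.of_equiv ((E1.trans E2).trans E3.symm).symm

end BC

/-- the base change of a trivial complex with free localised terms and boundaries -/
lemma bc_triv (C : DRing.Cx R) (hC : IsTriv C) (f : R)
    (hX : ∀ i, Module.Free (Localization.Away f) (Localization.Away f ⊗[R] C.X i))
    (hB : ∀ i, Module.Free (Localization.Away f)
      (Localization.Away f ⊗[R] LinearMap.range (C.d i (i + 1)).hom)) :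
    (∃ a' b' : ℤ, DRing.VanishesOutside
      ((bcCxF (algebraMap R (Localization.Away f))).obj C) a' b') ∧
    DRing.TermwiseFiniteFree ((bcCxF (algebraMap R (Localization.Away f))).obj C) ∧
    (∀ i : ℤ, Module.Free (Localization.Away f) (LinearMap.range
      (((bcCxF (algebraMap R (Localization.Away f))).obj C).d i (i + 1)).hom)) ∧
    Nonempty (Homotopy (𝟙 ((bcCxF (algebraMap R (Localization.Away f))).obj C)) 0) := by
  obtain ⟨a, b, hv⟩ := hC.bdd
  obtain ⟨h⟩ := hC.htpy
  refine ⟨⟨a, b, fun i hi => Functor.map_isZero (ModuleCat.extendScalars.{u, u, u}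
    (algebraMap R (Localization.Away f))) (hv i hi)⟩, fun i => ⟨?_, ?_⟩, fun i => ?_, ?_⟩
  · haveI := (hC.fp i).1
    exact Module.Finite.equiv (extendScalarsEquiv (B := Localization.Away f) (C.X i)).symm
  · haveI := hX i
    exact Module.Free.of_equiv (extendScalarsEquiv (B := Localization.Away f) (C.X i)).symm
  · exact free_range_bc (Localization.Away f) (C.d i (i + 1)) (hB i)
  · have h' := (ModuleCat.extendScalars.{u, u, u}
      (algebraMap R (Localization.Away f))).mapHomotopy h
    rw [CategoryTheory.Functor.map_id, CategoryTheory.Functor.map_zero] at h'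
    exact ⟨h'⟩

/-- a trivial complex becomes "free" on a basic open neighbourhood of `p` -/
lemma exists_free_of_isTriv (p : Ideal R) [p.IsPrime] (C : DRing.Cx R) (hC : IsTriv C) :
    ∃ f : R, f ∉ p ∧
      (∀ i, Module.Free (Localization.Away f) (Localization.Away f ⊗[R] C.X i)) ∧
      ∀ i, Module.Free (Localization.Away f)
        (Localization.Away f ⊗[R] LinearMap.range (C.d i (i + 1)).hom) := by
  obtain ⟨a, b, hv⟩ := hC.bdd
  obtain ⟨f₁, hf₁, h1⟩ := exists_free_away p (fun i => C.X i) (Finset.Icc (a - 1) b)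
    (fun j _ => hC.fp j)
  obtain ⟨f₂, hf₂, h2⟩ := exists_free_away p
    (fun i => ModuleCat.of R (LinearMap.range (C.d i (i + 1)).hom)) (Finset.Icc (a - 1) b)
    (fun j _ => range_fp C hC j)
  refine ⟨f₁ * f₂, fun h => (Ideal.IsPrime.mem_or_mem ‹_› h).elim hf₁ hf₂, fun i => ?_, fun i => ?_⟩
  · by_cases hi : i ∈ Finset.Icc (a - 1) b
    · exact free_away_of_dvd f₁ (f₁ * f₂) (Dvd.intro f₂ rfl) _ (h1 i hi)
    · have hz : IsZero (C.X i) := hv i (by
        rw [Finset.mem_Icc] at hi
        omega)
      haveI : Subsingleton (C.X i) := ModuleCat.subsingleton_of_isZero hz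
      exact Module.Free.of_subsingleton _ _
  · by_cases hi : i ∈ Finset.Icc (a - 1) b
    · exact free_away_of_dvd f₂ (f₁ * f₂) (Dvd.intro_left f₁ rfl) _ (h2 i hi)
    · have hz : IsZero (C.X (i + 1)) := hv (i + 1) (by
        rw [Finset.mem_Icc] at hi
        omega)
      haveI : Subsingleton (C.X (i + 1)) := ModuleCat.subsingleton_of_isZero hz
      haveI : Subsingleton (LinearMap.range (C.d i (i + 1)).hom) :=
        Subtype.val_injective.subsingleton
      exact Module.Free.of_subsingleton _ _

/-- cones of quasi-isomorphisms of bounded complexes of finite projectives are trivial -/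
lemma isTriv_cone (M N : DRing.Cx R) (a b : ℤ) (hM : DRing.VanishesOutside M a b)
    (hN : DRing.VanishesOutside N a b) (hMp : DRing.TermwiseFiniteProjective M)
    (hNp : DRing.TermwiseFiniteProjective N) (α : M ⟶ N) (hα : QuasiIso α) :
    IsTriv (mappingCone α) := by
  have hfp : DRing.TermwiseFiniteProjective (mappingCone α) := fun i => by
    haveI := (hMp (i + 1)).1
    haveI := (hMp (i + 1)).2
    haveI := (hNp i).1
    haveI := (hNp i).2
    exact ⟨Module.Finite.equiv (coneEquiv α i).symm, Module.Projective.of_equiv (coneEquiv α i).symm⟩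
  have hv : DRing.VanishesOutside (mappingCone α) (a - 1) b := fun i hi => by
    haveI : Subsingleton (M.X (i + 1)) := ModuleCat.subsingleton_of_isZero (hM (i + 1) (by omega))
    haveI : Subsingleton (N.X i) := ModuleCat.subsingleton_of_isZero (hN i (by omega))
    haveI : Subsingleton ((mappingCone α).X i) := (coneEquiv α i).toEquiv.subsingleton
    exact ModuleCat.isZero_of_subsingleton _
  refine ⟨⟨a - 1, b, hv⟩, hfp, ?_⟩
  haveI : (mappingCone α).IsKProjective :=
    isKProjective_of_vanishesAbove _ b (fun i hi => hv i (Or.inr hi)) (fun i => (hfp i).2)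
  have hz : IsZero (DerivedCategory.Q.obj (mappingCone α)) :=
    (Groth.Agent.Helper9.Leray2.isZero_Q_obj_iff _).mpr
      ((Groth.Agent.Helper9.Leray2.quasiIso_iff_acyclic_mappingCone α).mp hα)
  exact homotopy_of_Q_map_eq (mappingCone α) (mappingCone α) (𝟙 _) 0
    (hz.eq_of_src _ _)

/-- additive functors preserve biproduct decompositions -/
noncomputable def map_isBilimit {C D : Type*} [Category C] [Category D] [Preadditive C]
    [Preadditive D] (F : C ⥤ D) [F.Additive] {X Y : C} (b : BinaryBicone X Y)
    (hb : b.IsBilimit) : (F.mapBinaryBicone b).IsBilimit :=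
  isBinaryBilimitOfTotal _ (by
    show F.map b.fst ≫ F.map b.inl + F.map b.snd ≫ F.map b.inr = 𝟙 (F.obj b.pt)
    rw [← F.map_comp, ← F.map_comp, ← F.map_add, IsBilimit.binary_total hb, F.map_id])

/-- **Main theorem** -/
theorem main (p : Ideal R) [p.IsPrime] (M N : DRing.Cx R) (a b : ℤ)
    (hM : DRing.VanishesOutside M a b) (hN : DRing.VanishesOutside N a b)
    (hMp : DRing.TermwiseFiniteProjective M) (hNp : DRing.TermwiseFiniteProjective N)
    (h : Nonempty (DRing.toD M ≅ DRing.toD N)) :
    ∃ f : R, f ∉ p ∧ ∃ P Q : DRing.Cx (Localization.Away f),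
      ((∃ a' b' : ℤ, DRing.VanishesOutside P a' b') ∧ DRing.TermwiseFiniteFree P ∧
          (∀ i : ℤ, Module.Free (Localization.Away f) (LinearMap.range (P.d i (i + 1)).hom)) ∧
          Nonempty (Homotopy (𝟙 P) 0)) ∧
      ((∃ a' b' : ℤ, DRing.VanishesOutside Q a' b') ∧ DRing.TermwiseFiniteFree Q ∧
          (∀ i : ℤ, Module.Free (Localization.Away f) (LinearMap.range (Q.d i (i + 1)).hom)) ∧
          Nonempty (Homotopy (𝟙 Q) 0)) ∧
      Nonempty ((bcCxF (algebraMap R (Localization.Away f))).obj M ⊞ P ≅
        (bcCxF (algebraMap R (Localization.Away f))).obj N ⊞ Q) := by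
  obtain ⟨e⟩ := h
  haveI : M.IsKProjective := isKProjective_of_vanishesAbove M b (fun i hi => hM i (Or.inr hi))
    (fun i => (hMp i).2)
  obtain ⟨α, hα⟩ := exists_Q_map_eq M N e.hom
  have hqi : QuasiIso α := (DerivedCategory.isIso_Q_map_iff_quasiIso _ _).mp (by
    rw [hα]
    infer_instance)
  have hT1 : IsTriv (mappingCone α) := isTriv_cone M N a b hM hN hMp hNp α hqi
  have hT2 : IsTriv (mappingCone (𝟙 M)) :=
    isTriv_cone M M a b hM hM hMp hMp (𝟙 M) inferInstance
  obtain ⟨f₁, hf₁, hX1, hB1⟩ := exists_free_of_isTriv p _ hT1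
  obtain ⟨f₂, hf₂, hX2, hB2⟩ := exists_free_of_isTriv p _ hT2
  have hfp : f₁ * f₂ ∉ p := fun h => (Ideal.IsPrime.mem_or_mem ‹_› h).elim hf₁ hf₂
  refine ⟨f₁ * f₂, hfp, (bcCxF (algebraMap R (Localization.Away (f₁ * f₂)))).obj (mappingCone α),
    (bcCxF (algebraMap R (Localization.Away (f₁ * f₂)))).obj (mappingCone (𝟙 M)),
    bc_triv _ hT1 (f₁ * f₂)
      (fun i => free_away_of_dvd f₁ (f₁ * f₂) (Dvd.intro f₂ rfl) _ (hX1 i))
      (fun i => free_away_of_dvd f₁ (f₁ * f₂) (Dvd.intro f₂ rfl) _ (hB1 i)),
    bc_triv _ hT2 (f₁ * f₂)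
      (fun i => free_away_of_dvd f₂ (f₁ * f₂) (Dvd.intro_left f₁ rfl) _ (hX2 i))
      (fun i => free_away_of_dvd f₂ (f₁ * f₂) (Dvd.intro_left f₁ rfl) _ (hB2 i)), ?_⟩
  obtain ⟨hC⟩ := hT1.htpy
  let i1 := biprod.uniqueUpToIso _ _ (map_isBilimit
    (bcCxF (algebraMap R (Localization.Away (f₁ * f₂)))) _ (coneBicone_isBilimit α hC))
  let i2 := biprod.uniqueUpToIso _ _ (map_isBilimit
    (bcCxF (algebraMap R (Localization.Away (f₁ * f₂)))) _
    (BinaryBiproduct.isBilimit N (mappingCone (𝟙 M))))
  exact ⟨i1.symm ≪≫ i2⟩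

end Groth.Agent.Helper6.TrivSum
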