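import Mathlib

universe u

open Polynomial

namespace Groth.Agent.Helper6.TruncAdd1

section numth

variable (p : ℕ) [hp : Fact p.Prime]

lemma exists_choose_coprime (n : ℕ) (h2 : 2 ≤ n) (hlt : n < p ^ 2) (hne : n ≠ p) :
    ∃ i, 0 < i ∧ i < n ∧ Nat.Coprime (n.choose i) p := by
  by_cases hdvd : p ∣ n
  · obtain ⟨m, rfl⟩ := hdvd
    have hp0 : 0 < p := hp.out.pos
    have hm2 : 2 ≤ m := by
      by_contra h
      have : m = 0 ∨ m = 1 := by omega
      rcases this with h | h
      · rw [h] at h2; omega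
      · rw [h, mul_one] at hne; exact hne rfl
    have hmp : m < p := by
      rw [pow_two] at hlt
      exact lt_of_mul_lt_mul_left hlt (Nat.zero_le p)
    refine ⟨p, hp0, ?_, ?_⟩
    · calc p = p * 1 := (mul_one p).symm
        _ < p * m := Nat.mul_lt_mul_of_pos_left (by omega) hp0
    · have hl := @Choose.choose_modEq_choose_mod_mul_choose_div_nat (p * m) p p hp
      rw [Nat.mul_mod_right, Nat.mod_self, Nat.choose_zero_right, one_mul,
        Nat.mul_div_cancel_left m hp0, Nat.div_self hp0, Nat.choose_one_right] at hl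
      apply Nat.Coprime.symm
      rw [Nat.Prime.coprime_iff_not_dvd hp.out, hl.dvd_iff (dvd_refl p)]
      exact Nat.not_dvd_of_pos_of_lt (by omega) hmp
  · refine ⟨1, Nat.one_pos, by omega, ?_⟩
    rw [Nat.choose_one_right]
    exact ((Nat.Prime.coprime_iff_not_dvd hp.out).mpr hdvd).symm

lemma isUnit_natCast_of_coprime (A : Type u) [CommRing A] [CharP A p] (m : ℕ)
    (h : Nat.Coprime m p) : IsUnit (m : A) := by
  have h' : IsCoprime (m : ℤ) (p : ℤ) := Nat.isCoprime_iff_coprime.mpr h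
  obtain ⟨a, b, hab⟩ := h'
  have h1 := congrArg (Int.cast : ℤ → A) hab
  push_cast at h1
  rw [CharP.cast_eq_zero A p, mul_zero, add_zero] at h1
  exact IsUnit.of_mul_eq_one _ (by rw [mul_comm]; exact h1)

end numth

section coeffs

variable (A : Type u) [CommRing A]

open MvPolynomial in
lemma coeff_eq_zero_of_mem (N : ℕ) (D : MvPolynomial (Fin 2) A)
    (hD : D ∈ Ideal.span ({MvPolynomial.X 0 ^ N, MvPolynomial.X 1 ^ N} : Set (MvPolynomial (Fin 2) A)))
    (d : Fin 2 →₀ ℕ) (h0 : d 0 < N) (h1 : d 1 < N) : D.coeff d = 0 := by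
  have hset : ({MvPolynomial.X 0 ^ N, MvPolynomial.X 1 ^ N} : Set (MvPolynomial (Fin 2) A)) =
      (fun s => MvPolynomial.monomial s (1 : A)) '' ({Finsupp.single 0 N, Finsupp.single 1 N} : Set (Fin 2 →₀ ℕ)) := by
    rw [Set.image_pair, MvPolynomial.X_pow_eq_monomial, MvPolynomial.X_pow_eq_monomial]
  rw [hset, MvPolynomial.mem_ideal_span_monomial_image] at hD
  by_contra hne
  obtain ⟨si, hsi, hle⟩ := hD d (MvPolynomial.mem_support_iff.mpr hne)
  rcases hsi with rfl | rfl
  · have := hle 0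
    simp at this
    omega
  · have := hle 1
    simp at this
    omega

lemma fin2_eq_iff (m k i j : ℕ) :
    (Finsupp.single (0 : Fin 2) m + Finsupp.single (1 : Fin 2) k =
      Finsupp.single (0 : Fin 2) i + Finsupp.single (1 : Fin 2) j) ↔ m = i ∧ k = j := by
  constructor
  · intro h
    have h0 := DFunLike.congr_fun h 0
    have h1 := DFunLike.congr_fun h 1
    simp at h0 h1
    exact ⟨h0, h1⟩
  · rintro ⟨rfl, rfl⟩
    rfl

open MvPolynomial in
lemma coeff_add_pow (i j n : ℕ) :
    MvPolynomial.coeff (Finsupp.single (0 : Fin 2) i + Finsupp.single (1 : Fin 2) j)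
      ((MvPolynomial.X 0 + MvPolynomial.X 1 : MvPolynomial (Fin 2) A) ^ n) =
      if n = i + j then (n.choose i : A) else 0 := by
  classical
  rw [add_pow, MvPolynomial.coeff_sum]
  have hterm : ∀ m ∈ Finset.range (n + 1),
      MvPolynomial.coeff (Finsupp.single (0 : Fin 2) i + Finsupp.single (1 : Fin 2) j)
        ((MvPolynomial.X 0 : MvPolynomial (Fin 2) A) ^ m * MvPolynomial.X 1 ^ (n - m) * (n.choose m : MvPolynomial (Fin 2) A)) =
      if m = i then (if n = i + j then (n.choose i : A) else 0) else 0 := by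
    intro m hm
    have hmn : m ≤ n := Nat.lt_succ_iff.mp (Finset.mem_range.mp hm)
    have h1 : (MvPolynomial.X 0 : MvPolynomial (Fin 2) A) ^ m * MvPolynomial.X 1 ^ (n - m) * (n.choose m : MvPolynomial (Fin 2) A) =
        MvPolynomial.monomial (Finsupp.single (0 : Fin 2) m + Finsupp.single (1 : Fin 2) (n - m)) ((n.choose m : ℕ) : A) := by
      rw [MvPolynomial.X_pow_eq_monomial, MvPolynomial.X_pow_eq_monomial, MvPolynomial.monomial_mul, one_mul, ← MvPolynomial.C_eq_coe_nat,
        mul_comm, MvPolynomial.C_mul_monomial, mul_one]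
    rw [h1, MvPolynomial.coeff_monomial]
    by_cases hmi : m = i
    · subst hmi
      by_cases hnj : n = m + j
      · have : n - m = j := by omega
        rw [if_pos ((fin2_eq_iff m (n - m) m j).mpr ⟨rfl, this⟩), if_pos rfl, if_pos hnj]
      · have : ¬ (n - m = j) := by omega
        rw [if_neg (fun h => this ((fin2_eq_iff m (n - m) m j).mp h).2), if_pos rfl, if_neg hnj]
    · rw [if_neg (fun h => hmi ((fin2_eq_iff m (n - m) i j).mp h).1), if_neg hmi]
  rw [Finset.sum_congr rfl hterm, Finset.sum_ite_eq']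
  by_cases hn : n = i + j
  · have : i ∈ Finset.range (n + 1) := Finset.mem_range.mpr (by omega)
    rw [if_pos this]
  · rw [if_neg hn]
    split_ifs <;> rfl

open MvPolynomial in
lemma coeff_X0_pow (i j n : ℕ) :
    MvPolynomial.coeff (Finsupp.single (0 : Fin 2) i + Finsupp.single (1 : Fin 2) j)
      ((MvPolynomial.X 0 : MvPolynomial (Fin 2) A) ^ n) = if (n = i ∧ j = 0) then 1 else 0 := by
  classical
  rw [MvPolynomial.X_pow_eq_monomial, MvPolynomial.coeff_monomial]
  have : Finsupp.single (0 : Fin 2) n = Finsupp.single (0 : Fin 2) n + Finsupp.single (1 : Fin 2) 0 := by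
    simp
  rw [this]
  by_cases h : n = i ∧ j = 0
  · rw [if_pos h, if_pos ((fin2_eq_iff n 0 i j).mpr ⟨h.1, h.2.symm⟩)]
  · rw [if_neg h, if_neg (fun h' => h ⟨((fin2_eq_iff n 0 i j).mp h').1, ((fin2_eq_iff n 0 i j).mp h').2.symm⟩)]

open MvPolynomial in
lemma coeff_X1_pow (i j n : ℕ) :
    MvPolynomial.coeff (Finsupp.single (0 : Fin 2) i + Finsupp.single (1 : Fin 2) j)
      ((MvPolynomial.X 1 : MvPolynomial (Fin 2) A) ^ n) = if (i = 0 ∧ n = j) then 1 else 0 := by
  classical
  rw [MvPolynomial.X_pow_eq_monomial, MvPolynomial.coeff_monomial]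
  have : Finsupp.single (1 : Fin 2) n = Finsupp.single (0 : Fin 2) 0 + Finsupp.single (1 : Fin 2) n := by
    simp
  rw [this]
  by_cases h : i = 0 ∧ n = j
  · rw [if_pos h, if_pos ((fin2_eq_iff 0 n i j).mpr ⟨h.1.symm, h.2⟩)]
  · rw [if_neg h, if_neg (fun h' => h ⟨((fin2_eq_iff 0 n i j).mp h').1.symm, ((fin2_eq_iff 0 n i j).mp h').2⟩)]

end coeffs

end Groth.Agent.Helper6.TruncAdd1
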