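import Mathlib
import Groth.Agent.Helper6.TruncAdd1

universe u

open Polynomial

namespace Groth.Agent.Helper6.TruncAdd2

open Groth.Agent.Helper6.TruncAdd1

variable (p : ℕ) [hp : Fact p.Prime] (A : Type u) [CommRing A] [CharP A p]

/-- the defect polynomial -/
noncomputable def defect (q : A[X]) : MvPolynomial (Fin 2) A :=
  Polynomial.aeval (MvPolynomial.X 0 + MvPolynomial.X 1 : MvPolynomial (Fin 2) A) q -
    Polynomial.aeval (MvPolynomial.X 0 : MvPolynomial (Fin 2) A) q -
    Polynomial.aeval (MvPolynomial.X 1 : MvPolynomial (Fin 2) A) q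

omit hp [CharP A p] in
lemma coeff_defect (q : A[X]) (N : ℕ) (hq : q.natDegree < N) (i j : ℕ) :
    (defect A q).coeff (Finsupp.single (0 : Fin 2) i + Finsupp.single (1 : Fin 2) j) =
      ∑ n ∈ Finset.range N, q.coeff n *
        ((if n = i + j then (n.choose i : A) else 0) - (if (n = i ∧ j = 0) then 1 else 0) -
          (if (i = 0 ∧ n = j) then 1 else 0)) := by
  unfold defect
  rw [Polynomial.aeval_eq_sum_range' hq, Polynomial.aeval_eq_sum_range' hq,
    Polynomial.aeval_eq_sum_range' hq]
  simp only [MvPolynomial.coeff_sub, MvPolynomial.coeff_sum, MvPolynomial.coeff_smul,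
    coeff_add_pow, coeff_X0_pow, coeff_X1_pow, smul_eq_mul]
  rw [← Finset.sum_sub_distrib, ← Finset.sum_sub_distrib]
  apply Finset.sum_congr rfl
  intro n _
  ring

theorem part1_forward (q : A[X]) (hq : q.natDegree < p ^ 2)
    (h : defect A q ∈ Ideal.span ({MvPolynomial.X 0 ^ p ^ 2, MvPolynomial.X 1 ^ p ^ 2} :
      Set (MvPolynomial (Fin 2) A))) :
    ∃ a₁ ap : A, q = Polynomial.C a₁ * X + Polynomial.C ap * X ^ p := by
  set N := p ^ 2 with hN
  have hp2 : 2 ≤ p := hp.out.two_le
  have hpN : p < N := by rw [hN, pow_two]; nlinarith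
  have key : ∀ i j, i < N → j < N →
      (defect A q).coeff (Finsupp.single (0 : Fin 2) i + Finsupp.single (1 : Fin 2) j) = 0 := by
    intro i j hi hj
    apply coeff_eq_zero_of_mem A N _ h
    · simpa using hi
    · simpa using hj
  -- constant term
  have h0 : q.coeff 0 = 0 := by
    have := key 0 0 (by omega) (by omega)
    rw [coeff_defect A q N hq, Finset.sum_eq_single 0] at this
    · simpa using this
    · intro n _ hn
      have h1 : ¬ (n = 0 + 0) := by omega
      have h2 : ¬ (n = 0 ∧ (0 : ℕ) = 0) := by omega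
      have h3 : ¬ ((0 : ℕ) = 0 ∧ n = 0) := by omega
      rw [if_neg h1, if_neg h2, if_neg h3]
      ring
    · intro h'
      exact absurd (Finset.mem_range.mpr (by omega)) h'
  -- mixed terms
  have hmix : ∀ i j, 0 < i → 0 < j → i + j < N → q.coeff (i + j) * ((i + j).choose i : A) = 0 := by
    intro i j hi hj hij
    have := key i j (by omega) (by omega)
    rw [coeff_defect A q N hq, Finset.sum_eq_single (i + j)] at this
    · have h2 : ¬ (i + j = i ∧ j = 0) := by omega
      have h3 : ¬ (i = 0 ∧ i + j = j) := by omega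
      rw [if_pos rfl, if_neg h2, if_neg h3, sub_zero, sub_zero] at this
      exact this
    · intro n _ hn
      have h2 : ¬ (n = i ∧ j = 0) := by omega
      have h3 : ¬ (i = 0 ∧ n = j) := by omega
      rw [if_neg hn, if_neg h2, if_neg h3]
      ring
    · intro h'
      exact absurd (Finset.mem_range.mpr hij) h'
  have hvanish : ∀ n, 2 ≤ n → n < N → n ≠ p → q.coeff n = 0 := by
    intro n h2 hlt hne
    obtain ⟨i, hi0, hin, hcop⟩ := exists_choose_coprime p n h2 hlt hne
    have := hmix i (n - i) hi0 (by omega) (by omega)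
    have hn : i + (n - i) = n := by omega
    rw [hn] at this
    exact (isUnit_natCast_of_coprime p A _ hcop).mul_left_eq_zero.mp this
  refine ⟨q.coeff 1, q.coeff p, ?_⟩
  ext n
  simp only [Polynomial.coeff_add, Polynomial.coeff_C_mul, Polynomial.coeff_X, Polynomial.coeff_X_pow]
  by_cases hn1 : n = 1
  · subst hn1
    have : ¬ (1 = p) := by omega
    simp [this]
  · by_cases hnp : n = p
    · subst hnp
      have : ¬ (1 = n) := by omega
      simp [this]
    · have h1 : ¬ (1 = n) := fun h => hn1 h.symm
      rw [if_neg h1, if_neg hnp, mul_zero, mul_zero, add_zero]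
      by_cases hn0 : n = 0
      · rw [hn0, h0]
      · by_cases hnN : n < N
        · exact hvanish n (by omega) hnN hnp
        · exact Polynomial.coeff_eq_zero_of_natDegree_lt (by omega)

theorem part1_backward (a₁ ap : A) :
    defect A (Polynomial.C a₁ * X + Polynomial.C ap * X ^ p) = 0 := by
  unfold defect
  simp only [map_add, map_mul, Polynomial.aeval_C, Polynomial.aeval_X, map_pow]
  rw [add_pow_char]
  ring

end Groth.Agent.Helper6.TruncAdd2
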