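import Mathlib

universe u

open Polynomial

namespace Groth.Agent.Helper6.TruncAdd3

variable (p : ℕ) [hp : Fact p.Prime] (A : Type u) [CommRing A] [CharP A p]

local notation "T" => AdjoinRoot (X ^ p ^ 2 : A[X])
local notation "θ" => AdjoinRoot.root (X ^ p ^ 2 : A[X])

omit hp [CharP A p] in
lemma theta_pow : (θ) ^ (p ^ 2) = 0 := by
  have : (θ) ^ (p ^ 2) = AdjoinRoot.mk (X ^ p ^ 2 : A[X]) (X ^ p ^ 2) := by
    rw [map_pow, AdjoinRoot.mk_X]
  rw [this, AdjoinRoot.mk_self]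

omit [CharP A p] in
lemma algebraMap_injective : Function.Injective (algebraMap A T) := by
  rw [injective_iff_map_eq_zero]
  intro a ha
  rw [AdjoinRoot.algebraMap_eq, ← AdjoinRoot.mk_C, AdjoinRoot.mk_eq_zero] at ha
  obtain ⟨r, hr⟩ := ha
  have := congrArg (fun q => q.coeff 0) hr
  simp only [Polynomial.coeff_C_zero, Polynomial.coeff_X_pow_mul'] at this
  have hN : ¬ (p ^ 2 ≤ 0) := by
    have := pow_pos hp.out.pos 2
    omega
  rw [if_neg hN] at this
  exact this

instance : CharP T p := charP_of_injective_algebraMap (algebraMap_injective p A) p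

omit hp [CharP A p] in
lemma surj_of_root_mem (φ : T →ₐ[A] T) (w : T) (hw : φ w = θ) : Function.Surjective φ := by
  intro t
  obtain ⟨r, rfl⟩ := AdjoinRoot.mk_surjective t
  refine ⟨Polynomial.aeval w r, ?_⟩
  rw [← Polynomial.aeval_algHom_apply, hw, AdjoinRoot.aeval_eq]

theorem part2_backward (a₁ ap : A) (φ : T →ₐ[A] T)
    (hφ : φ (θ) = AdjoinRoot.mk (X ^ p ^ 2 : A[X]) (Polynomial.C a₁ * X + Polynomial.C ap * X ^ p))
    (ha : IsUnit a₁) : Function.Bijective φ := by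
  obtain ⟨b, hb⟩ := ha.exists_left_inv
  have hu : φ (θ) = algebraMap A T a₁ * θ + algebraMap A T ap * (θ) ^ p := by
    rw [hφ, map_add, map_mul, map_mul, map_pow, AdjoinRoot.mk_X, AdjoinRoot.mk_C,
      AdjoinRoot.mk_C, AdjoinRoot.algebraMap_eq]
  set u := φ (θ) with hudef
  have hpp : (θ) ^ (p * p) = 0 := by rw [← pow_two]; exact theta_pow p A
  have hup : u ^ p = algebraMap A T (a₁ ^ p) * (θ) ^ p := by
    rw [hu, add_pow_char, mul_pow, mul_pow, ← pow_mul, hpp, mul_zero, add_zero, map_pow]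
  have hθp : (θ) ^ p = algebraMap A T (b ^ p) * u ^ p := by
    rw [hup, ← mul_assoc, ← map_mul, ← mul_pow, hb, one_pow, map_one, one_mul]
  have hθ : θ = algebraMap A T b * u - algebraMap A T (b * ap * b ^ p) * u ^ p := by
    have h1 : algebraMap A T b * u = θ + algebraMap A T (b * ap) * (θ) ^ p := by
      rw [hu, mul_add, ← mul_assoc, ← mul_assoc, ← map_mul, ← map_mul, hb, map_one, one_mul]
    rw [h1]
    rw [hθp, ← mul_assoc, ← map_mul]
    ring
  have hsurj : Function.Surjective φ := by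
    apply surj_of_root_mem p A φ (algebraMap A T b * θ - algebraMap A T (b * ap * b ^ p) * (θ) ^ p)
    rw [map_sub, map_mul, map_mul, map_pow, AlgHom.commutes, AlgHom.commutes]
    exact hθ.symm
  haveI : Module.Finite A T := (Polynomial.monic_X_pow (p ^ 2)).finite_adjoinRoot
  exact ⟨OrzechProperty.injective_of_surjective_endomorphism φ.toLinearMap hsurj, hsurj⟩

open DualNumber in
theorem part2_forward (a₁ ap : A) (φ : T →ₐ[A] T)
    (hφ : φ (θ) = AdjoinRoot.mk (X ^ p ^ 2 : A[X]) (Polynomial.C a₁ * X + Polynomial.C ap * X ^ p))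
    (hbij : Function.Bijective φ) : IsUnit a₁ := by
  have hp2 : 2 ≤ p := hp.out.two_le
  have hu : φ (θ) = algebraMap A T a₁ * θ + algebraMap A T ap * (θ) ^ p := by
    rw [hφ, map_add, map_mul, map_mul, map_pow, AdjoinRoot.mk_X, AdjoinRoot.mk_C,
      AdjoinRoot.mk_C, AdjoinRoot.algebraMap_eq]
  -- the map to dual numbers
  have hepsN : (ε : A[ε]) ^ (p ^ 2) = 0 := by
    have : p ^ 2 = 2 + (p ^ 2 - 2) := by
      have : 4 ≤ p ^ 2 := by nlinarith
      omega
    rw [this, pow_add, DualNumber.eps_pow_two, zero_mul]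
  have hepsp : (ε : A[ε]) ^ p = 0 := by
    have : p = 2 + (p - 2) := by omega
    rw [this, pow_add, DualNumber.eps_pow_two, zero_mul]
  let ψ : T →ₐ[A] A[ε] := AdjoinRoot.liftAlgHom (X ^ p ^ 2 : A[X]) (Algebra.ofId A A[ε]) (ε : A[ε]) (by
    rw [Polynomial.eval₂_pow, Polynomial.eval₂_X, hepsN])
  have hψθ : ψ (θ) = ε := by
    simp [ψ]
  obtain ⟨w, hw⟩ := hbij.2 (θ)
  obtain ⟨r, rfl⟩ := AdjoinRoot.mk_surjective w
  have h1 : (ψ.comp φ) (AdjoinRoot.mk (X ^ p ^ 2 : A[X]) r) = ε := by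
    rw [AlgHom.comp_apply, hw, hψθ]
  have h2 : (ψ.comp φ) (AdjoinRoot.mk (X ^ p ^ 2 : A[X]) r) =
      Polynomial.aeval ((ψ.comp φ) (θ)) r := by
    rw [← AdjoinRoot.aeval_eq, Polynomial.aeval_algHom_apply]
  have h3 : (ψ.comp φ) (θ) = a₁ • (ε : A[ε]) := by
    rw [AlgHom.comp_apply, hu, map_add, map_mul, map_mul, map_pow, hψθ, hepsp, mul_zero, add_zero,
      AlgHom.commutes, Algebra.smul_def]
  have hsq : (a₁ • (ε : A[ε])) ^ 2 = 0 := by
    rw [_root_.smul_pow, DualNumber.eps_pow_two, smul_zero]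
  have h4 : Polynomial.aeval (a₁ • (ε : A[ε])) r =
      Polynomial.aeval (0 : A[ε]) r + Polynomial.aeval (0 : A[ε]) (Polynomial.derivative r) * (a₁ • (ε : A[ε])) := by
    have := Polynomial.aeval_add_of_sq_eq_zero r (0 : A[ε]) (a₁ • (ε : A[ε])) hsq
    rwa [zero_add] at this
  rw [h2, h3, h4] at h1
  have h5 := congrArg TrivSqZeroExt.snd h1
  simp only [Polynomial.aeval_def, Polynomial.eval₂_at_zero, TrivSqZeroExt.snd_add,
    TrivSqZeroExt.snd_mul, TrivSqZeroExt.algebraMap_eq_inl, TrivSqZeroExt.snd_inl,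
    TrivSqZeroExt.fst_inl, TrivSqZeroExt.snd_smul, TrivSqZeroExt.fst_smul, DualNumber.snd_eps,
    DualNumber.fst_eps, smul_eq_mul, mul_zero, zero_add, mul_one, MulOpposite.smul_eq_mul_unop,
    MulOpposite.unop_op, add_zero] at h5
  have h6 : (Polynomial.derivative r).coeff 0 = r.coeff 1 := by
    rw [Polynomial.coeff_derivative]
    simp
  exact IsUnit.of_mul_eq_one (r.coeff 1) (by rw [mul_comm, ← h6]; simpa using h5)

end Groth.Agent.Helper6.TruncAdd3
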