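import Mathlib
import Groth.Prelude.Def_DRing4
import Groth.Agent.Helper6.SubCx
import Groth.Agent.Helper6.TenCxQis
import Groth.Agent.Helper3.DRingTor3

/-!
# Canonical truncation (from below) of a K-flat complex of flat modules
-/

set_option autoImplicit false
universe u
open CategoryTheory CategoryTheory.Limits MonoidalCategory

namespace Groth.Agent.Helper6.TruncKFlat

open Groth.Agent.Helper6.TenCx Groth.Agent.Helper6.SubCx Groth.Agent.Helper3.DRingLib

variable {R : Type u} [CommRing R] (P : DRing.Cx R) (a : ℤ)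

/-- the submodules defining the "kernel" complex `… → P^{a-2} → P^{a-1} → B^a → 0` -/
noncomputable def S (i : ℤ) : Submodule R (P.X i) :=
  if a < i then ⊥ else if a ≤ i then LinearMap.range (P.d (i - 1) i).hom else ⊤

lemma S_of_lt (i : ℤ) (h : i < a) : S P a i = ⊤ := by
  unfold S
  rw [if_neg (by omega), if_neg (by omega)]

lemma S_of_gt (i : ℤ) (h : a < i) : S P a i = ⊥ := by
  unfold S
  rw [if_pos h]

lemma S_self : S P a a = LinearMap.range (P.d (a - 1) a).hom := by
  unfold S
  rw [if_neg (by omega), if_pos le_rfl]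

lemma d_apply_d (i j k : ℤ) (x : P.X i) : P.d j k (P.d i j x) = 0 :=
  congrArg (fun f => f.hom x) (P.d_comp_d i j k)

lemma S_stable (i : ℤ) (x : P.X i) (hx : x ∈ S P a i) : P.d i (i + 1) x ∈ S P a (i + 1) := by
  rcases lt_trichotomy (i + 1) a with h | h | h
  · rw [S_of_lt P a _ h]
    exact Submodule.mem_top
  · subst h
    rw [S_self]
    rw [show i + 1 - 1 = i by omega]
    exact ⟨x, rfl⟩
  · rw [S_of_gt P a _ h, Submodule.mem_bot]
    rcases eq_or_lt_of_le (show a ≤ i by omega) with h1 | h1
    · subst h1
      rw [S_self] at hx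
      obtain ⟨y, rfl⟩ := hx
      exact d_apply_d P _ _ _ y
    · rw [S_of_gt P a _ h1, Submodule.mem_bot] at hx
      rw [hx, map_zero]

/-- the kernel complex -/
noncomputable def Kc : DRing.Cx R := sub P (S P a) (S_stable P a)

noncomputable def inc : Kc P a ⟶ P := incl P (S P a) (S_stable P a)

instance : Mono (inc P a) := by
  exact HomologicalComplex.mono_of_mono_f (inc P a) (fun i =>
    (ModuleCat.mono_iff_injective _).mpr (incl_injective P _ (S_stable P a) i))

/-- the truncation -/
noncomputable def E : DRing.Cx R := cokernel (inc P a)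

noncomputable def π : P ⟶ E P a := cokernel.π (inc P a)

noncomputable def sc : ShortComplex (DRing.Cx R) :=
  ShortComplex.mk (inc P a) (π P a) (cokernel.condition _)

lemma sc_shortExact : (sc P a).ShortExact :=
  { exact := ShortComplex.exact_cokernel (inc P a)
    mono_f := inferInstanceAs (Mono (inc P a))
    epi_g := inferInstanceAs (Epi (cokernel.π (inc P a))) }

lemma π_surjective (i : ℤ) : Function.Surjective ((π P a).f i) := by
  have hdeg := (HomologicalComplex.shortExact_iff_degreewise_shortExact (sc P a)).mp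
    (sc_shortExact P a) i
  have := hdeg.epi_g
  exact (ModuleCat.epi_iff_surjective _).mp this

lemma ker_π (i : ℤ) : LinearMap.ker ((π P a).f i).hom = S P a i := by
  have hdeg := (HomologicalComplex.shortExact_iff_degreewise_shortExact (sc P a)).mp
    (sc_shortExact P a) i
  have hex := (ShortComplex.moduleCat_exact_iff _).mp hdeg.exact
  ext x
  constructor
  · intro hx
    obtain ⟨y, hy⟩ := hex x hx
    rw [← hy]
    exact incl_mem P _ (S_stable P a) i y
  · intro hx
    obtain ⟨y, hy⟩ := mem_range_incl P _ (S_stable P a) i x hx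
    rw [← hy]
    exact congrArg (fun f => f.hom y) ((HomologicalComplex.congr_hom (sc P a).zero i))

/-- the terms of the truncation -/
noncomputable def EXEquiv (i : ℤ) : (P.X i ⧸ S P a i) ≃ₗ[R] (E P a).X i :=
  (Submodule.quotEquivOfEq _ _ (ker_π P a i).symm).trans
    (LinearMap.quotKerEquivOfSurjective _ (π_surjective P a i))

lemma isZero_E_X (i : ℤ) (h : i < a) : IsZero ((E P a).X i) := by
  haveI : Subsingleton (P.X i ⧸ S P a i) := by
    rw [S_of_lt P a i h]
    infer_instance
  haveI : Subsingleton ((E P a).X i) := (EXEquiv P a i).symm.toEquiv.subsingleton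
  exact ModuleCat.isZero_of_subsingleton _

variable (fP : DRing.TermwiseFlat P)
  (hex : ∀ (N : ModuleCat.{u} R) (i : ℤ), i < a → (DRing.tensorCx P N).ExactAt i)

include fP hex in
lemma flat_E_X (i : ℤ) : Module.Flat R ((E P a).X i) := by
  haveI := fP i
  suffices h : Module.Flat R (P.X i ⧸ S P a i) from Module.Flat.of_linearEquiv (EXEquiv P a i).symm
  rcases lt_trichotomy i a with h | h | h
  · haveI : Subsingleton (P.X i ⧸ S P a i) := by
      rw [S_of_lt P a i h]
      infer_instance
    infer_instance
  · subst h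
    rw [S_self]
    exact flat_coker_of_exactAt_tensorCx P i (fP i) (fun N => hex N (i - 1) (by omega))
  · rw [S_of_gt P a i h]
    exact Module.Flat.of_linearEquiv (Submodule.quotEquivOfEqBot ⊥ rfl)

include fP hex in
lemma flat_Kc_X (i : ℤ) : Module.Flat R ((Kc P a).X i) := by
  haveI := fP i
  haveI := flat_E_X P a fP hex i
  exact flat_of_exact ((inc P a).f i).hom ((π P a).f i).hom (incl_injective P _ _ i)
    (π_surjective P a i) (by
      intro x
      constructor
      · intro hx
        have : x ∈ S P a i := by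
          rw [← ker_π P a i]
          exact hx
        exact mem_range_incl P _ (S_stable P a) i x this
      · rintro ⟨y, rfl⟩
        have : ((inc P a).f i).hom y ∈ LinearMap.ker ((π P a).f i).hom := by
          rw [ker_π P a i]
          exact incl_mem P _ (S_stable P a) i y
        exact this)

lemma Kc_vanishesAbove : DRing.VanishesAbove (Kc P a) a := by
  intro i hi
  haveI : Subsingleton (S P a i) := by
    rw [S_of_gt P a i hi]
    infer_instance
  exact ModuleCat.isZero_of_subsingleton (ModuleCat.of R (S P a i))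

include hex in
lemma Kc_acyclic (i : ℤ) : IsZero ((Kc P a).homology i) := by
  rw [← HomologicalComplex.exactAt_iff_isZero_homology,
    exactAt_iff_forall (Kc P a) (i - 1) i (i + 1) (by omega) rfl]
  intro z hz
  have hz' : P.d i (i + 1) ((inc P a).f i z) = 0 := by
    have := TenCx.hom_comm_apply (inc P a) i (i + 1) z
    rw [this]
    have hz0 : (Kc P a).d i (i + 1) z = 0 := hz
    rw [hz0, map_zero]
  have hlift : ∀ w₀ : P.X (i - 1), w₀ ∈ S P a (i - 1) → P.d (i - 1) i w₀ = (inc P a).f i z →
      ∃ w : (Kc P a).X (i - 1), (Kc P a).d (i - 1) i w = z := by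
    intro w₀ hw₀ hd
    obtain ⟨w, hw⟩ := mem_range_incl P _ (S_stable P a) (i - 1) w₀ hw₀
    refine ⟨w, ?_⟩
    apply incl_injective P _ (S_stable P a) i
    have := TenCx.hom_comm_apply (inc P a) (i - 1) i w
    refine this.symm.trans ?_
    have hw' : (inc P a).f (i - 1) w = w₀ := hw
    rw [hw', hd]
    rfl
  rcases lt_trichotomy i a with h | h | h
  · have hPex : P.ExactAt i :=
      exactAt_of_exactAt_tensorCx_unit P i (hex _ i h)
    rw [exactAt_iff_forall P (i - 1) i (i + 1) (by omega) rfl] at hPex
    obtain ⟨w₀, hw₀⟩ := hPex _ hz'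
    exact hlift w₀ (by rw [S_of_lt P a _ (by omega)]; exact Submodule.mem_top) hw₀
  · subst h
    have hm := incl_mem P _ (S_stable P i) i z
    rw [S_self] at hm
    obtain ⟨w₀, hw₀⟩ := hm
    exact hlift w₀ (by rw [S_of_lt P i _ (by omega)]; exact Submodule.mem_top) hw₀
  · refine ⟨0, ?_⟩
    rw [map_zero]
    apply incl_injective P _ (S_stable P a) i
    have hm := incl_mem P _ (S_stable P a) i z
    rw [S_of_gt P a i h, Submodule.mem_bot] at hm
    exact (map_zero _).trans hm.symm

lemma quasiIso_g_of_acyc₁ {T : ShortComplex (DRing.Cx R)} (hT : T.ShortExact)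
    (h1 : Acyc T.X₁) : QuasiIso T.g := by
  rw [quasiIso_iff]
  intro i
  rw [quasiIsoAt_iff_isIso_homologyMap]
  haveI : Mono (HomologicalComplex.homologyMap T.g i) :=
    (hT.homology_exact₂ i).mono_g ((h1 i).eq_of_src _ _)
  haveI : Epi (HomologicalComplex.homologyMap T.g i) :=
    (hT.homology_exact₃ i (i + 1) (by simp)).epi_f ((h1 (i + 1)).eq_of_tgt _ _)
  exact isIso_of_mono_of_epi _

include hex in
lemma quasiIso_π : QuasiIso (π P a) :=
  quasiIso_g_of_acyc₁ (sc_shortExact P a) (Kc_acyclic P a hex)

include fP hex in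
lemma kflat_E (hP : KFlat P) : KFlat (E P a) := by
  have hv := Kc_vanishesAbove P a
  have hf : DRing.TermwiseFlat (Kc P a) := fun i => flat_Kc_X P a fP hex i
  have hK : KFlat (Kc P a) := TenCx.kflat_of_boundedAbove_flat (Kc P a) a hv hf
  have h3 : DRing.TermwiseFlat (sc P a).X₃ := fun i => flat_E_X P a fP hex i
  have h1 : KFlat (sc P a).X₁ := hK
  have h2 : KFlat (sc P a).X₂ := hP
  have hs := sc_shortExact P a
  have := kflat₃ hs h3 h1 h2
  exact this

end Groth.Agent.Helper6.TruncKFlat
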