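import Mathlib
import Groth.Prelude.Def_W4c1hilbpnTgt
import Groth.Agent.Helper6.TgtPow2

set_option autoImplicit false
set_option linter.style.haveILetI false
set_option linter.unusedSectionVars false

/-!
# Degree-zero tangent vectors at the union of two linear subspaces: the one-dimensional pieces
-/

namespace Groth.Agent.Helper6.TwoPlanes

open MvPolynomial W4c1hilbpn Groth.Agent.Helper7.HTa Groth.Agent.Helper7.HTb
  Groth.Agent.Helper7.HTc Groth.Agent.Helper7.HTd Groth.Agent.Helper6.TgtVanish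
  Groth.Agent.Helper6.TgtDecomp Groth.Agent.Helper6.TgtPow Groth.Agent.Helper6.TgtPow2

variable {σ : Type*} {k : Type*} [Field k] [Fintype σ] [DecidableEq σ]

/-- membership in `E` for integer vectors -/
def inE (X Y : Finset σ) (w : σ → ℤ) : Prop := (∃ x ∈ X, 1 ≤ w x) ∧ (∃ y ∈ Y, 1 ≤ w y)

/-- the multidegree `e_b - e_j` -/
def alpha (j b : σ) : σ → ℤ := fun l => (if l = b then 1 else 0) - (if l = j then 1 else 0)

/-- nonnegative region points for `alpha j b` -/
def InN (X Y : Finset σ) (b : σ) (v : σ → ℤ) : Prop :=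
  nn v ∧ 1 ≤ v b ∧ (∀ y ∈ Y, v y = 0) ∧ ∃ x ∈ X, 1 ≤ v x - (if x = b then 1 else 0)

section abstract

variable {I : Ideal (MvPolynomial σ k)} {X Y : Finset σ}

theorem toN_mem_iff (hE : ∀ β : σ →₀ ℕ, β ∈ exps I ↔ (∃ x ∈ X, 1 ≤ β x) ∧ (∃ y ∈ Y, 1 ≤ β y))
    (w : σ → ℤ) : toN w ∈ exps I ↔ inE X Y w := by
  rw [hE]
  unfold inE
  simp only [toN_apply]
  constructor
  · rintro ⟨⟨x, hx, h1⟩, ⟨y, hy, h2⟩⟩
    exact ⟨⟨x, hx, by omega⟩, ⟨y, hy, by omega⟩⟩
  · rintro ⟨⟨x, hx, h1⟩, ⟨y, hy, h2⟩⟩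
    exact ⟨⟨x, hx, by omega⟩, ⟨y, hy, by omega⟩⟩

theorem mem_region_iff3 (hE : ∀ β : σ →₀ ℕ, β ∈ exps I ↔ (∃ x ∈ X, 1 ≤ β x) ∧ (∃ y ∈ Y, 1 ≤ β y))
    (α γ : σ → ℤ) :
    γ ∈ region I α ↔ nn (fun l => γ l - α l) ∧ inE X Y (fun l => γ l - α l) ∧
      ¬ (nn γ ∧ inE X Y γ) := by
  constructor
  · rintro ⟨⟨β, hβ, rfl⟩, h2⟩
    have e : (fun l => (fun i => (β i : ℤ) + α i) l - α l) = toInt β := by
      funext l
      simp [toInt]
    refine ⟨?_, ?_, ?_⟩
    · rw [e]
      exact nn_toInt β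
    · rw [e, ← toN_mem_iff hE, toN_toInt]
      exact hβ
    · rintro ⟨h3, h4⟩
      exact h2 ⟨h3, (toN_mem_iff hE _).mpr h4⟩
  · rintro ⟨h1, h2, h3⟩
    exact mem_region_of γ h1 ((toN_mem_iff hE _).mpr h2)
      (fun hn hm => h3 ⟨hn, (toN_mem_iff hE _).mp hm⟩)

variable (hI : IsMonomial I) (hXY : Disjoint X Y)
  (hE : ∀ β : σ →₀ ℕ, β ∈ exps I ↔ (∃ x ∈ X, 1 ≤ β x) ∧ (∃ y ∈ Y, 1 ≤ β y))

include hXY hE in
theorem nnreg_iff {j b : σ} (hj : j ∈ Y) (hb : b ∉ Y) (v : σ → ℤ) :
    (v ∈ region I (alpha j b) ∧ nn v) ↔ InN X Y b v := by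
  have hbj : b ≠ j := fun h => hb (h ▸ hj)
  have hXj : ∀ x ∈ X, x ≠ j := fun x hx h => (Finset.disjoint_left.mp hXY hx) (h ▸ hj)
  have hab : alpha j b b = 1 := by
    show (if b = b then (1:ℤ) else 0) - (if b = j then 1 else 0) = 1
    rw [if_pos rfl, if_neg hbj]; norm_num
  have haj : alpha j b j = -1 := by
    show (if j = b then (1:ℤ) else 0) - (if j = j then 1 else 0) = -1
    rw [if_pos rfl, if_neg hbj.symm]; norm_num
  have hax : ∀ x, x ≠ j → alpha j b x = if x = b then 1 else 0 := by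
    intro x hx
    show (if x = b then (1:ℤ) else 0) - (if x = j then 1 else 0) = _
    rw [if_neg hx, sub_zero]
  rw [mem_region_iff3 hE]
  constructor
  · rintro ⟨⟨h1, h2, h3⟩, hv⟩
    obtain ⟨⟨x, hx, hx1⟩, ⟨y, hy, hy1⟩⟩ := h2
    change 1 ≤ v x - alpha j b x at hx1
    rw [hax x (hXj x hx)] at hx1
    have hx3 : 1 ≤ v x := by
      split_ifs at hx1 <;> omega
    refine ⟨hv, ?_, ?_, ⟨x, hx, hx1⟩⟩
    · have := h1 b
      change 0 ≤ v b - alpha j b b at this
      rw [hab] at this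
      omega
    · intro y' hy'
      have h4 : ¬ (1 ≤ v y') := fun h => h3 ⟨hv, ⟨x, hx, hx3⟩, ⟨y', hy', h⟩⟩
      have := hv y'
      omega
  · rintro ⟨hv, hb1, hY, ⟨x, hx, hx1⟩⟩
    refine ⟨⟨?_, ⟨⟨x, hx, ?_⟩, ⟨j, hj, ?_⟩⟩, ?_⟩, hv⟩
    · intro l
      have := hv l
      show 0 ≤ v l - alpha j b l
      by_cases hlb : l = b
      · rw [hlb, hab]; omega
      · by_cases hlj : l = j
        · rw [hlj, haj]
          have := hv j
          omega
        · rw [hax l hlj, if_neg hlb]; omega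
    · show 1 ≤ v x - alpha j b x
      rw [hax x (hXj x hx)]
      exact hx1
    · have := hY j hj
      show 1 ≤ v j - alpha j b j
      rw [haj]; omega
    · rintro ⟨-, -, ⟨y, hy, hy1⟩⟩
      have := hY y hy
      omega

include hXY hE in
theorem adm_le {j b : σ} (hj : j ∈ Y) (hb : b ∉ Y) {f : region I (alpha j b) → k}
    (hf : IsAdm I (alpha j b) f) :
    ∀ (n : ℕ) (v w : region I (alpha j b)), nn v.1 → nn w.1 → (∀ l, v.1 l ≤ w.1 l) →
      (∑ l, (w.1 l - v.1 l)) = (n : ℤ) → f v = f w := by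
  intro n
  induction n with
  | zero =>
    intro v w _ _ hle hsum
    have h0 : ∀ l ∈ Finset.univ, w.1 l - v.1 l = 0 := by
      have := (Finset.sum_eq_zero_iff_of_nonneg
        (fun l _ => sub_nonneg.mpr (hle l))).mp (by simpa using hsum)
      exact this
    have e : v = w := by
      apply Subtype.ext
      funext l
      have := h0 l (Finset.mem_univ l)
      omega
    rw [e]
  | succ n ih =>
    intro v w hv hw hle hsum
    obtain ⟨l, hl⟩ : ∃ l, v.1 l < w.1 l := by
      by_contra hcon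
      push Not at hcon
      have h0 : ∑ l, (w.1 l - v.1 l) = 0 := by
        refine Finset.sum_eq_zero fun l _ => ?_
        have := hcon l
        have := hle l
        omega
      rw [h0] at hsum
      push_cast at hsum
      omega
    obtain ⟨hv1, hvb, hvY, ⟨x, hx, hx1⟩⟩ := (nnreg_iff hXY hE hj hb v.1).mp ⟨v.2, hv⟩
    obtain ⟨hw1, hwb, hwY, -⟩ := (nnreg_iff hXY hE hj hb w.1).mp ⟨w.2, hw⟩
    have hlY : l ∉ Y := by
      intro hlY
      have := hwY l hlY
      have := hv l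
      omega
    have hu : InN X Y b (stp v.1 l) := by
      refine ⟨?_, ?_, ?_, ⟨x, hx, ?_⟩⟩
      · intro l'
        have := hv l'
        simp only [stp]
        split_ifs <;> omega
      · simp only [stp]
        split_ifs <;> omega
      · intro y hy
        have hyl : y ≠ l := fun h => hlY (h ▸ hy)
        simp only [stp, if_neg hyl, add_zero]
        exact hvY y hy
      · have hstp : v.1 x ≤ stp v.1 l x := by
          simp only [stp]
          split_ifs <;> omega
        omega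
    obtain ⟨hureg, hunn⟩ := (nnreg_iff hXY hE hj hb (stp v.1 l)).mpr hu
    have h1 : f v = f ⟨stp v.1 l, hureg⟩ := hf.step v ⟨stp v.1 l, hureg⟩ l rfl
    rw [h1]
    refine ih ⟨stp v.1 l, hureg⟩ w hunn hw ?_ ?_
    · intro l'
      have := hle l'
      show stp v.1 l l' ≤ w.1 l'
      simp only [stp]
      split_ifs with h
      · subst h
        omega
      · omega
    · show ∑ l', (w.1 l' - stp v.1 l l') = (n : ℤ)
      rw [Finset.sum_sub_distrib, sum_stp]
      rw [Finset.sum_sub_distrib] at hsum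
      push_cast at hsum
      omega

include hXY hE in
theorem adm_const {j b : σ} (hj : j ∈ Y) (hb : b ∉ Y) {f : region I (alpha j b) → k}
    (hf : IsAdm I (alpha j b) f) (v w : region I (alpha j b)) (hv : nn v.1) (hw : nn w.1) :
    f v = f w := by
  obtain ⟨hv1, hvb, hvY, ⟨x, hx, hx1⟩⟩ := (nnreg_iff hXY hE hj hb v.1).mp ⟨v.2, hv⟩
  obtain ⟨hw1, hwb, hwY, -⟩ := (nnreg_iff hXY hE hj hb w.1).mp ⟨w.2, hw⟩
  have hm : InN X Y b (fun l => max (v.1 l) (w.1 l)) := by
    refine ⟨fun l => le_max_of_le_left (hv l), le_max_of_le_left hvb, ?_, ⟨x, hx, ?_⟩⟩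
    · intro y hy
      show max (v.1 y) (w.1 y) = 0
      rw [hvY y hy, hwY y hy, max_self]
    · have : v.1 x ≤ max (v.1 x) (w.1 x) := le_max_left _ _
      show 1 ≤ max (v.1 x) (w.1 x) - _
      omega
  obtain ⟨hmreg, hmnn⟩ := (nnreg_iff hXY hE hj hb _).mpr hm
  have key : ∀ u : region I (alpha j b), nn u.1 →
      (∀ l, u.1 l ≤ max (v.1 l) (w.1 l)) → f u = f ⟨_, hmreg⟩ := by
    intro u hu hle
    refine adm_le hXY hE hj hb hf (∑ l, (max (v.1 l) (w.1 l) - u.1 l)).toNat u ⟨_, hmreg⟩ hu hmnn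
      hle ?_
    rw [Int.toNat_of_nonneg]
    exact Finset.sum_nonneg fun l _ => sub_nonneg.mpr (hle l)
  rw [key v hv (fun l => le_max_left _ _), key w hw (fun l => le_max_right _ _)]

open Classical in
/-- the indicator function of the nonnegative points -/
noncomputable def ind (I : Ideal (MvPolynomial σ k)) (α : σ → ℤ) (v : region I α) : k :=
  if nn v.1 then 1 else 0

include hXY hE in
theorem isAdm_ind {j b : σ} (hj : j ∈ Y) (hb : b ∉ Y) :
    IsAdm I (alpha j b) (ind I (alpha j b)) where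
  neg v hv := by rw [ind, if_neg hv]
  step v w l hw := by
    have hbj : b ≠ j := fun h => hb (h ▸ hj)
    have hiff : nn v.1 ↔ nn w.1 := by
      constructor
      · intro hv l'
        have := hv l'
        rw [hw]
        show 0 ≤ v.1 l' + if l' = l then 1 else 0
        split_ifs <;> omega
      · intro hwn
        by_contra hvn
        unfold nn at hvn
        push Not at hvn
        obtain ⟨l', hl'⟩ := hvn
        have hwl' := hwn l'
        have hwl'' : w.1 l' = v.1 l' + if l' = l then 1 else 0 := by rw [hw]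
        have hll : l' = l := by
          by_contra hne
          rw [if_neg hne] at hwl''
          omega
        subst hll
        rw [if_pos rfl] at hwl''
        obtain ⟨hw1, hwb, hwY, -⟩ := (nnreg_iff hXY hE hj hb w.1).mp ⟨w.2, hwn⟩
        obtain ⟨h1, h2, h3⟩ := (mem_region_iff3 hE _ _).mp v.2
        have h4 := h1 l'
        simp only [alpha] at h4
        have hlj : l' = j := by
          by_contra hne
          rw [if_neg hne] at h4
          split_ifs at h4 <;> omega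
        subst hlj
        obtain ⟨y, hy, hy1⟩ := h2.2
        by_cases hyj : y = l'
        · subst hyj
          simp only [alpha, if_pos rfl, if_neg hbj.symm] at hy1
          omega
        · have hyb : y ≠ b := fun h => hb (h ▸ hy)
          have hwy := hwY y hy
          have hwy' : w.1 y = v.1 y + if y = l' then 1 else 0 := by rw [hw]
          rw [if_neg hyj] at hwy'
          simp only [alpha, if_neg hyj, if_neg hyb] at hy1
          omega
    unfold ind
    by_cases hv : nn v.1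
    · rw [if_pos hv, if_pos (hiff.mp hv)]
    · rw [if_neg hv, if_neg (fun h => hv (hiff.mpr h))]

/-- the base point `e_{x₀} + e_b` -/
def vb (x₀ b : σ) : σ → ℤ := fun l => (if l = x₀ then 1 else 0) + (if l = b then 1 else 0)

include hXY in
theorem inN_vb {x₀ b : σ} (hx₀ : x₀ ∈ X) (hb : b ∉ Y) : InN X Y b (vb x₀ b) := by
  refine ⟨?_, ?_, ?_, ⟨x₀, hx₀, ?_⟩⟩
  · intro l
    simp only [vb]
    split_ifs <;> omega
  · simp only [vb, if_pos rfl]
    split_ifs <;> omega
  · intro y hy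
    have h1 : y ≠ x₀ := fun h => (Finset.disjoint_left.mp hXY hx₀) (h ▸ hy)
    have h2 : y ≠ b := fun h => hb (h ▸ hy)
    simp only [vb, if_neg h1, if_neg h2, add_zero]
  · simp only [vb, if_pos rfl]
    split_ifs <;> omega

include hI hXY hE in
theorem exists_phi {j b x₀ : σ} (hj : j ∈ Y) (hb : b ∉ Y) (hx₀ : x₀ ∈ X) :
    ∃ φ ∈ tPiece I (alpha j b), ∃ γ β : σ →₀ ℕ, β ∈ exps I ∧ γ ∉ exps I ∧
      toInt γ = tr (alpha j b) β ∧ evL I γ β φ = 1 ∧
      ∀ ψ ∈ tPiece I (alpha j b), ψ = (evL I γ β ψ) • φ := by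
  have hadm := isAdm_ind (k := k) hXY hE hj hb
  obtain ⟨hv₀reg, hv₀nn⟩ := (nnreg_iff hXY hE hj hb _).mpr (inN_vb hXY hx₀ hb)
  obtain ⟨v₀, hv₀⟩ : ∃ v₀ : region I (alpha j b), v₀ = ⟨vb x₀ b, hv₀reg⟩ := ⟨_, rfl⟩
  have hv₀nn' : nn v₀.1 := by rw [hv₀]; exact hv₀nn
  refine ⟨phiOf hI hadm, phiOf_mem hI hadm, toN v₀.1, bOf (alpha j b) v₀.1,
    bOf_mem I _ v₀.2, notMem_of_region_nn v₀.2 hv₀nn', ?_, ?_, ?_⟩
  · rw [toInt_toN hv₀nn', tr_bOf I _ v₀.2]
  · rw [← co_eq_evL, co_phiOf, ind, if_pos hv₀nn']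
  · intro ψ hψ
    have hψadm := isAdm_co hI hψ
    refine eq_of_co_eq hI hψ (Submodule.smul_mem _ _ (phiOf_mem hI hadm)) (fun v => ?_)
    have hsm : co I (alpha j b) (evL I (toN v₀.1) (bOf (alpha j b) v₀.1) ψ • phiOf hI hadm) v =
        evL I (toN v₀.1) (bOf (alpha j b) v₀.1) ψ * co I (alpha j b) (phiOf hI hadm) v := by
      have h1 := congrFun ((coL I (alpha j b)).map_smul
        (evL I (toN v₀.1) (bOf (alpha j b) v₀.1) ψ) (phiOf hI hadm)) v
      exact h1
    rw [hsm, co_phiOf, ind]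
    by_cases hv : nn v.1
    · rw [if_pos hv, mul_one, ← co_eq_evL]
      exact adm_const hXY hE hj hb hψadm v v₀ hv hv₀nn'
    · rw [if_neg hv, mul_zero]
      exact co_eq_zero_of_not_nn hψ v hv

end abstract

end Groth.Agent.Helper6.TwoPlanes
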