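import Mathlib
import Groth.Prelude.Def_W4c1hilbpnTgt
import Groth.Agent.Helper6.TwoPlanes1

set_option autoImplicit false
set_option linter.style.haveILetI false
set_option linter.unusedSectionVars false

/-!
# Degree-zero tangent vectors at the union of two linear subspaces: the count
-/

namespace Groth.Agent.Helper6.TwoPlanes

open MvPolynomial W4c1hilbpn Groth.Agent.Helper7.HTa Groth.Agent.Helper7.HTb
  Groth.Agent.Helper7.HTc Groth.Agent.Helper7.HTd Groth.Agent.Helper6.TgtVanish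
  Groth.Agent.Helper6.TgtDecomp Groth.Agent.Helper6.TgtPow Groth.Agent.Helper6.TgtPow2

variable {σ : Type*} {k : Type*} [Field k] [Fintype σ] [DecidableEq σ]

/-- generators `x_i x_j` -/
noncomputable def gens (X Y : Finset σ) : Finset (σ →₀ ℕ) :=
  Finset.image₂ (fun x y => Finsupp.single x 1 + Finsupp.single y 1) X Y

/-- the ideal of the union of two coordinate subspaces -/
noncomputable def IXY (k : Type*) [Field k] (X Y : Finset σ) : Ideal (MvPolynomial σ k) :=
  Ideal.span ((fun β => monomial β (1 : k)) '' (gens X Y : Set (σ →₀ ℕ)))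

theorem mem_exps_IXY {X Y : Finset σ} (hXY : Disjoint X Y) (β : σ →₀ ℕ) :
    β ∈ exps (IXY k X Y) ↔ (∃ x ∈ X, 1 ≤ β x) ∧ (∃ y ∈ Y, 1 ≤ β y) := by
  classical
  show monomial β (1 : k) ∈ IXY k X Y ↔ _
  rw [IXY, mem_ideal_span_monomial_image]
  have hsupp : (monomial β (1 : k)).support = {β} := by
    rw [support_monomial, if_neg one_ne_zero]
  rw [hsupp]
  constructor
  · intro h
    obtain ⟨g, hg, hle⟩ := h β (Finset.mem_singleton_self β)
    rw [Finset.mem_coe, gens, Finset.mem_image₂] at hg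
    obtain ⟨x, hx, y, hy, rfl⟩ := hg
    refine ⟨⟨x, hx, ?_⟩, ⟨y, hy, ?_⟩⟩
    · have := hle x
      rw [Finsupp.add_apply, Finsupp.single_eq_same] at this
      omega
    · have := hle y
      rw [Finsupp.add_apply, Finsupp.single_eq_same] at this
      omega
  · rintro ⟨⟨x, hx, h1⟩, ⟨y, hy, h2⟩⟩ ξ hξ
    rw [Finset.mem_singleton] at hξ
    rw [hξ]
    have hxy : x ≠ y := fun h => (Finset.disjoint_left.mp hXY hx) (h ▸ hy)
    refine ⟨Finsupp.single x 1 + Finsupp.single y 1, ?_, ?_⟩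
    · rw [Finset.mem_coe, gens, Finset.mem_image₂]
      exact ⟨x, hx, y, hy, rfl⟩
    · intro l
      rw [Finsupp.add_apply]
      by_cases hlx : l = x
      · have hly : l ≠ y := fun h => hxy (hlx.symm.trans h)
        rw [hlx, Finsupp.single_eq_same, Finsupp.single_eq_of_ne hxy]
        omega
      · rw [Finsupp.single_eq_of_ne hlx]
        by_cases hly : l = y
        · rw [hly, Finsupp.single_eq_same]
          omega
        · rw [Finsupp.single_eq_of_ne hly]
          omega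

theorem isMonomial_IXY (X Y : Finset σ) : IsMonomial (IXY k X Y) := by
  classical
  intro p hp β hβ
  rw [IXY, mem_ideal_span_monomial_image] at hp ⊢
  intro ξ hξ
  rw [support_monomial, if_neg one_ne_zero, Finset.mem_singleton] at hξ
  rw [hξ]
  exact hp β hβ

theorem sum_alpha (j b : σ) : ∑ l, alpha j b l = 0 := by
  simp [alpha, Finset.sum_sub_distrib]

theorem alpha_inj {j b j' b' : σ} (hbj : b ≠ j) (h : alpha j b = alpha j' b') :
    j = j' ∧ b = b' := by
  have h1 : (if j = b then (1 : ℤ) else 0) - (if j = j then 1 else 0) =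
      (if j = b' then 1 else 0) - (if j = j' then 1 else 0) := congrFun h j
  have h2 : (if b = b then (1 : ℤ) else 0) - (if b = j then 1 else 0) =
      (if b = b' then 1 else 0) - (if b = j' then 1 else 0) := congrFun h b
  rw [if_neg hbj.symm, if_pos rfl] at h1
  rw [if_pos rfl, if_neg hbj] at h2
  constructor
  · by_contra hne
    rw [if_neg hne] at h1
    split_ifs at h1 <;> omega
  · by_contra hne
    rw [if_neg hne] at h2
    split_ifs at h2 <;> omega

theorem exists_single (w : σ → ℤ) (hw : ∀ l, 0 ≤ w l) (hs : ∑ l, w l = 1) :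
    ∃ b, ∀ l, w l = if l = b then 1 else 0 := by
  obtain ⟨b, hb⟩ : ∃ b, 1 ≤ w b := by
    by_contra hcon
    push Not at hcon
    have h0 : ∑ l, w l = 0 := Finset.sum_eq_zero (fun l _ => by
      have := hcon l
      have := hw l
      omega)
    omega
  refine ⟨b, fun l => ?_⟩
  have h1 : w b ≤ ∑ l, w l := Finset.single_le_sum (fun i _ => hw i) (Finset.mem_univ b)
  by_cases hl : l = b
  · rw [if_pos hl, hl]
    omega
  · rw [if_neg hl]
    have h2 : ∑ i ∈ ({b, l} : Finset σ), w i ≤ ∑ i, w i :=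
      Finset.sum_le_sum_of_subset_of_nonneg (Finset.subset_univ _) (fun i _ _ => hw i)
    rw [Finset.sum_pair (Ne.symm hl)] at h2
    have := hw l
    omega

theorem card_pairs (Y : Finset σ) :
    Fintype.card {p : σ × σ // p.1 ∈ Y ∧ p.2 ∉ Y} = Y.card * (Fintype.card σ - Y.card) := by
  rw [Fintype.card_subtype]
  have : (Finset.univ.filter (fun p : σ × σ => p.1 ∈ Y ∧ p.2 ∉ Y)) = Y ×ˢ Yᶜ := by
    ext p
    simp [Finset.mem_product, Finset.mem_compl]
  rw [this, Finset.card_product, Finset.card_compl]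

/-- index type -/
abbrev Idx (X Y : Finset σ) : Type _ :=
  {p : σ × σ // p.1 ∈ Y ∧ p.2 ∉ Y} ⊕ {p : σ × σ // p.1 ∈ X ∧ p.2 ∉ X}

/-- multidegree of an index -/
def al {X Y : Finset σ} : Idx X Y → (σ → ℤ)
  | Sum.inl p => alpha p.1.1 p.1.2
  | Sum.inr p => alpha p.1.1 p.1.2

section abstract

variable {I : Ideal (MvPolynomial σ k)} {X Y : Finset σ}

theorem mem_gen (hE : ∀ β : σ →₀ ℕ, β ∈ exps I ↔ (∃ x ∈ X, 1 ≤ β x) ∧ (∃ y ∈ Y, 1 ≤ β y))
    {x y : σ} (hx : x ∈ X) (hy : y ∈ Y) : Finsupp.single x 1 + Finsupp.single y 1 ∈ exps I := by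
  rw [hE]
  refine ⟨⟨x, hx, ?_⟩, ⟨y, hy, ?_⟩⟩
  · rw [Finsupp.add_apply, Finsupp.single_eq_same]
    omega
  · rw [Finsupp.add_apply, Finsupp.single_eq_same]
    omega

theorem kill {α : σ → ℤ} {φ : Tgt I} (hφ : φ ∈ tPiece I α) {β β' : σ →₀ ℕ}
    (hβ : β ∈ exps I) (hβ' : β' ∈ exps I) (u u' : σ)
    (e : β + Finsupp.single u' 1 = β' + Finsupp.single u 1) (hneg : tr α β' u < 0) :
    (MvPolynomial.X u' : MvPolynomial σ k) • φ (mon I hβ) = 0 := by
  have h0 : φ (mon I hβ') = 0 := eq_zero_of_not_nn hφ hβ' (fun h => by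
    have := h u
    omega)
  rw [← map_smul, ← mon_add_single I hβ u', mon_congr I (exps_add hβ _) e,
    mon_add_single I hβ' u, map_smul, h0, smul_zero]

theorem zero_of_kill (hI : IsMonomial I) {α : σ → ℤ} {φ : Tgt I} (hφ : φ ∈ tPiece I α)
    {β : σ →₀ ℕ} (hβ : β ∈ exps I) (hnn : nn (tr α β)) (u' : σ)
    (h0 : (MvPolynomial.X u' : MvPolynomial σ k) • φ (mon I hβ) = 0)
    (hne : toN (tr α β) + Finsupp.single u' 1 ∉ exps I) : φ (mon I hβ) = 0 := by
  obtain ⟨a, ha⟩ := exists_eq_of_nn hφ hβ hnn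
  rw [ha, X_smul_mk_monomial] at h0
  have h1 := congrArg (cf I (toN (tr α β) + Finsupp.single u' 1)) h0
  rw [cf_mk_monomial hI hne, map_zero] at h1
  rw [ha, h1, map_zero, map_zero]

variable (hI : IsMonomial I) (hXY : Disjoint X Y)
  (hE : ∀ β : σ →₀ ℕ, β ∈ exps I ↔ (∃ x ∈ X, 1 ≤ β x) ∧ (∃ y ∈ Y, 1 ≤ β y))

include hI hXY hE in
theorem caseA {α : σ → ℤ} (hs : ∑ l, α l = 0) {φ : Tgt I} (hφ : φ ∈ tPiece I α) {x y : σ}
    (hx : x ∈ X) (hy : y ∈ Y) (hX2 : ∃ x' ∈ X, x' ≠ x) {β : σ →₀ ℕ} (hβ : β ∈ exps I)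
    (hβeq : β = Finsupp.single x 1 + Finsupp.single y 1) (hnn : nn (tr α β))
    (hnoY : ∀ y₁ ∈ Y, tr α β y₁ ≤ 0)
    (hfam : ¬ ∃ j b, j ∈ Y ∧ b ∉ Y ∧ α = alpha j b) : φ (mon I hβ) = 0 := by
  have hxy : x ≠ y := fun h => (Finset.disjoint_left.mp hXY hx) (h ▸ hy)
  have hβl : ∀ l, ((β l : ℕ) : ℤ) = (if l = x then 1 else 0) + (if l = y then 1 else 0) := by
    intro l
    rw [hβeq, Finsupp.add_apply]
    by_cases h1 : l = x
    · rw [h1, Finsupp.single_eq_same, Finsupp.single_eq_of_ne hxy, if_pos rfl, if_neg hxy]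
      norm_num
    · rw [Finsupp.single_eq_of_ne h1, if_neg h1]
      by_cases h2 : l = y
      · rw [h2, Finsupp.single_eq_same, if_pos rfl]
        norm_num
      · rw [Finsupp.single_eq_of_ne h2, if_neg h2]
        norm_num
  have ht : ∀ l, tr α β l = (if l = x then 1 else 0) + (if l = y then 1 else 0) + α l := by
    intro l
    show ((β l : ℕ) : ℤ) + α l = _
    rw [hβl]
  have hty := hnoY y hy
  have hnny := hnn y
  rw [ht y, if_neg hxy.symm, if_pos rfl] at hty hnny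
  have hαy : α y = -1 := by omega
  by_cases hαx : α x ≤ -1
  · obtain ⟨x', hx', hne⟩ := hX2
    have hβ' : Finsupp.single x' 1 + Finsupp.single y 1 ∈ exps I := mem_gen hE hx' hy
    have e : β + Finsupp.single x' 1 =
        (Finsupp.single x' 1 + Finsupp.single y 1) + Finsupp.single x 1 := by
      rw [hβeq]
      abel
    have hneg : tr α (Finsupp.single x' 1 + Finsupp.single y 1) x < 0 := by
      show (((Finsupp.single x' 1 + Finsupp.single y 1 : σ →₀ ℕ) x : ℕ) : ℤ) + α x < 0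
      rw [Finsupp.add_apply, Finsupp.single_eq_of_ne hne.symm, Finsupp.single_eq_of_ne hxy]
      push_cast
      omega
    have h0 := kill hφ hβ hβ' x x' e hneg
    refine zero_of_kill hI hφ hβ hnn x' h0 ?_
    rw [hE]
    rintro ⟨-, ⟨y₁, hy₁, h1⟩⟩
    have h2 := hnoY y₁ hy₁
    have hx'y₁ : y₁ ≠ x' := fun h => (Finset.disjoint_left.mp hXY hx') (h ▸ hy₁)
    rw [Finsupp.add_apply, toN_apply, Finsupp.single_eq_of_ne hx'y₁] at h1
    omega
  · exfalso
    apply hfam
    have hαl : ∀ l, l ≠ y → 0 ≤ α l := by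
      intro l hl
      by_cases hlx : l = x
      · rw [hlx]
        omega
      · have := hnn l
        rw [ht l, if_neg hlx, if_neg hl] at this
        omega
    have hw : ∀ l, 0 ≤ α l + if l = y then 1 else 0 := by
      intro l
      by_cases hl : l = y
      · rw [if_pos hl, hl]
        omega
      · rw [if_neg hl]
        have := hαl l hl
        omega
    have hsum : ∑ l, (α l + if l = y then 1 else 0) = 1 := by
      rw [Finset.sum_add_distrib, hs]
      simp
    obtain ⟨b, hb⟩ := exists_single (fun l => α l + if l = y then 1 else 0) hw hsum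
    have hby : b ≠ y := by
      intro h
      have h3 : α y + (if y = y then 1 else 0) = if y = b then 1 else 0 := hb y
      rw [if_pos rfl, if_pos h.symm] at h3
      omega
    have hαb : α b + (if b = y then 1 else 0) = if b = b then 1 else 0 := hb b
    rw [if_neg hby, if_pos rfl] at hαb
    refine ⟨y, b, hy, ?_, ?_⟩
    · intro hbY
      have h1 := hnoY b hbY
      rw [ht b, if_neg hby] at h1
      split_ifs at h1 <;> omega
    · funext l
      have h3 : α l + (if l = y then 1 else 0) = if l = b then 1 else 0 := hb l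
      show α l = (if l = b then 1 else 0) - (if l = y then 1 else 0)
      omega

include hI hXY hE in
theorem gen_zero {α : σ → ℤ} (hs : ∑ l, α l = 0) {φ : Tgt I} (hφ : φ ∈ tPiece I α)
    (hX2 : ∀ x ∈ X, ∃ x' ∈ X, x' ≠ x) (hY2 : ∀ y ∈ Y, ∃ y' ∈ Y, y' ≠ y)
    (hfam1 : ¬ ∃ j b, j ∈ Y ∧ b ∉ Y ∧ α = alpha j b)
    (hfam2 : ¬ ∃ j b, j ∈ X ∧ b ∉ X ∧ α = alpha j b)
    {x y : σ} (hx : x ∈ X) (hy : y ∈ Y) (hβ : Finsupp.single x 1 + Finsupp.single y 1 ∈ exps I) :
    φ (mon I hβ) = 0 := by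
  by_cases hnn : nn (tr α (Finsupp.single x 1 + Finsupp.single y 1))
  · by_cases hin : toN (tr α (Finsupp.single x 1 + Finsupp.single y 1)) ∈ exps I
    · obtain ⟨a, ha⟩ := exists_eq_of_nn hφ hβ hnn
      rw [ha]
      exact mk_monomial_eq_zero hin a
    · have hnot : ¬ inE X Y (tr α (Finsupp.single x 1 + Finsupp.single y 1)) :=
        fun h => hin ((toN_mem_iff hE _).mpr h)
      by_cases hY : ∀ y₁ ∈ Y, tr α (Finsupp.single x 1 + Finsupp.single y 1) y₁ ≤ 0
      · exact caseA hI hXY hE hs hφ hx hy (hX2 x hx) hβ rfl hnn hY hfam1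
      · have hXn : ∀ x₁ ∈ X, tr α (Finsupp.single x 1 + Finsupp.single y 1) x₁ ≤ 0 := by
          intro x₁ hx₁
          by_contra hcon
          push Not at hY
          obtain ⟨y₁, hy₁, h1⟩ := hY
          exact hnot ⟨⟨x₁, hx₁, by omega⟩, ⟨y₁, hy₁, by omega⟩⟩
        have hE' : ∀ β : σ →₀ ℕ, β ∈ exps I ↔ (∃ y ∈ Y, 1 ≤ β y) ∧ (∃ x ∈ X, 1 ≤ β x) :=
          fun β => (hE β).trans and_comm
        exact caseA hI hXY.symm hE' hs hφ hy hx (hY2 y hy) hβ (add_comm _ _) hnn hXn hfam2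
  · exact eq_zero_of_not_nn hφ hβ hnn

include hI hXY hE in
theorem eq_bot_or
    (hG : Ideal.span ((fun β => monomial β (1 : k)) '' (gens X Y : Set (σ →₀ ℕ))) = I)
    (hX2 : ∀ x ∈ X, ∃ x' ∈ X, x' ≠ x) (hY2 : ∀ y ∈ Y, ∃ y' ∈ Y, y' ≠ y)
    (α : σ → ℤ) (hs : ∑ l, α l = 0) :
    (∃ j b, j ∈ Y ∧ b ∉ Y ∧ α = alpha j b) ∨ (∃ j b, j ∈ X ∧ b ∉ X ∧ α = alpha j b) ∨
      tPiece I α = ⊥ := by
  by_cases h1 : ∃ j b, j ∈ Y ∧ b ∉ Y ∧ α = alpha j b
  · exact Or.inl h1
  by_cases h2 : ∃ j b, j ∈ X ∧ b ∉ X ∧ α = alpha j b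
  · exact Or.inr (Or.inl h2)
  refine Or.inr (Or.inr ?_)
  rw [eq_bot_iff]
  intro φ hφ
  rw [Submodule.mem_bot]
  have hGmem : ∀ β ∈ gens X Y, β ∈ exps I := by
    intro β hβ
    rw [gens, Finset.mem_image₂] at hβ
    obtain ⟨x, hx, y, hy, rfl⟩ := hβ
    exact mem_gen hE hx hy
  refine tgt_ext (gens X Y) hGmem hG φ 0 (fun β hβ => ?_)
  rw [LinearMap.zero_apply]
  have hβ' := hβ
  rw [gens, Finset.mem_image₂] at hβ'
  obtain ⟨x, hx, y, hy, rfl⟩ := hβ'
  exact gen_zero hI hXY hE hs hφ hX2 hY2 h1 h2 hx hy _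

include hI hXY hE in
theorem finrank_eq
    (hG : Ideal.span ((fun β => monomial β (1 : k)) '' (gens X Y : Set (σ →₀ ℕ))) = I)
    (hX2 : 2 ≤ X.card) (hY2 : 2 ≤ Y.card) :
    Module.finrank k ↥(⨆ α : {α : σ → ℤ // ∑ i, α i = 0}, tPiece I α.1) =
      Y.card * (Fintype.card σ - Y.card) + X.card * (Fintype.card σ - X.card) := by
  have hX2' : ∀ x ∈ X, ∃ x' ∈ X, x' ≠ x := fun x _ => Finset.exists_mem_ne (by omega) x
  have hY2' : ∀ y ∈ Y, ∃ y' ∈ Y, y' ≠ y := fun y _ => Finset.exists_mem_ne (by omega) y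
  obtain ⟨x₀, hx₀⟩ : ∃ x₀, x₀ ∈ X := Finset.card_pos.mp (by omega)
  obtain ⟨y₀, hy₀⟩ : ∃ y₀, y₀ ∈ Y := Finset.card_pos.mp (by omega)
  have hE' : ∀ β : σ →₀ ℕ, β ∈ exps I ↔ (∃ y ∈ Y, 1 ≤ β y) ∧ (∃ x ∈ X, 1 ≤ β x) :=
    fun β => (hE β).trans and_comm
  have hex : ∀ s : Idx X Y, ∃ φ ∈ tPiece I (al s), ∃ γ β : σ →₀ ℕ, β ∈ exps I ∧ γ ∉ exps I ∧
      toInt γ = tr (al s) β ∧ evL I γ β φ = 1 ∧
      ∀ ψ ∈ tPiece I (al s), ψ = (evL I γ β ψ) • φ := by
    rintro (p | p)
    · exact exists_phi hI hXY hE p.2.1 p.2.2 hx₀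
    · exact exists_phi hI hXY.symm hE' p.2.1 p.2.2 hy₀
  choose Φ hΦmem Γ B hB hΓ htr hev huniq using hex
  have hal_inj : ∀ s s' : Idx X Y, al s = al s' → s = s' := by
    rintro (p | p) (q | q) h
    · have h' : alpha p.1.1 p.1.2 = alpha q.1.1 q.1.2 := h
      obtain ⟨h1, h2⟩ := alpha_inj (fun e => p.2.2 (by rw [e]; exact p.2.1)) h'
      exact congrArg Sum.inl (Subtype.ext (Prod.ext h1 h2))
    · exfalso
      have h' : alpha p.1.1 p.1.2 = alpha q.1.1 q.1.2 := h
      obtain ⟨h1, h2⟩ := alpha_inj (fun e => p.2.2 (by rw [e]; exact p.2.1)) h'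
      exact (Finset.disjoint_left.mp hXY q.2.1) (by rw [← h1]; exact p.2.1)
    · exfalso
      have h' : alpha p.1.1 p.1.2 = alpha q.1.1 q.1.2 := h
      obtain ⟨h1, h2⟩ := alpha_inj (fun e => p.2.2 (by rw [e]; exact p.2.1)) h'
      exact (Finset.disjoint_left.mp hXY p.2.1) (by rw [h1]; exact q.2.1)
    · have h' : alpha p.1.1 p.1.2 = alpha q.1.1 q.1.2 := h
      obtain ⟨h1, h2⟩ := alpha_inj (fun e => p.2.2 (by rw [e]; exact p.2.1)) h'
      exact congrArg Sum.inr (Subtype.ext (Prod.ext h1 h2))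
  have hdual : ∀ s s' : Idx X Y, evL I (Γ s) (B s) (Φ s') = if s = s' then 1 else 0 := by
    intro s s'
    by_cases hss : s = s'
    · rw [if_pos hss, ← hss]
      exact hev s
    · rw [if_neg hss]
      refine evL_eq_zero_of_ne hI (hΦmem s') (hB s) (hΓ s) ?_
      rw [htr s]
      intro e
      apply hss
      apply hal_inj
      funext l
      have := congrFun e l
      simp only [tr] at this
      omega
  have hli : LinearIndependent k Φ := by
    rw [linearIndependent_iff']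
    intro t g hsum i hi
    have h1 := congrArg (evL I (Γ i) (B i)) hsum
    rw [map_sum, map_zero, Finset.sum_eq_single i] at h1
    · rw [map_smul, hdual i i, if_pos rfl, smul_eq_mul, mul_one] at h1
      exact h1
    · intro j _ hji
      rw [map_smul, hdual i j, if_neg (Ne.symm hji), smul_zero]
    · intro h
      exact absurd hi h
  have hW : (⨆ α : {α : σ → ℤ // ∑ i, α i = 0}, tPiece I α.1) =
      Submodule.span k (Set.range Φ) := by
    apply le_antisymm
    · refine iSup_le (fun α => ?_)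
      rcases eq_bot_or hI hXY hE hG hX2' hY2' α.1 α.2 with
        ⟨j, b, hj, hb, hα⟩ | ⟨j, b, hj, hb, hα⟩ | h
      · intro ψ hψ
        have hs : al (Sum.inl ⟨(j, b), hj, hb⟩ : Idx X Y) = α.1 := hα.symm
        have hψ' : ψ ∈ tPiece I (al (Sum.inl ⟨(j, b), hj, hb⟩ : Idx X Y)) := by
          rw [hs]
          exact hψ
        rw [huniq _ ψ hψ']
        exact Submodule.smul_mem _ _ (Submodule.subset_span ⟨_, rfl⟩)
      · intro ψ hψ
        have hs : al (Sum.inr ⟨(j, b), hj, hb⟩ : Idx X Y) = α.1 := hα.symm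
        have hψ' : ψ ∈ tPiece I (al (Sum.inr ⟨(j, b), hj, hb⟩ : Idx X Y)) := by
          rw [hs]
          exact hψ
        rw [huniq _ ψ hψ']
        exact Submodule.smul_mem _ _ (Submodule.subset_span ⟨_, rfl⟩)
      · rw [h]
        exact bot_le
    · rw [Submodule.span_le]
      rintro _ ⟨s, rfl⟩
      refine Submodule.mem_iSup_of_mem ⟨al s, ?_⟩ (hΦmem s)
      rcases s with p | p
      · exact sum_alpha _ _
      · exact sum_alpha _ _
  rw [hW, finrank_span_eq_card hli, Fintype.card_sum, card_pairs, card_pairs]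

end abstract

theorem main (k : Type*) [Field k] (n c d : ℕ) (hc : 2 ≤ c) (hcd : c ≤ d) (hn : c + d ≤ n) :
    Module.finrank k ↥(⨆ α : {α : Fin (n + 1) → ℤ // ∑ i, α i = 0},
      tPiece (Ideal.span {f : MvPolynomial (Fin (n + 1)) k | ∃ i j : Fin (n + 1),
        i.val + 1 ≤ c ∧ n + 1 ≤ j.val + d ∧
        f = MvPolynomial.X i * MvPolynomial.X j}) α.1) = c * (n - c + 1) + d * (n - d + 1) := by
  obtain ⟨P, hP⟩ : ∃ P : Finset (Fin (n + 1)),
      P = Finset.univ.filter (fun i => i.val + 1 ≤ c) := ⟨_, rfl⟩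
  obtain ⟨Q, hQ⟩ : ∃ Q : Finset (Fin (n + 1)),
      Q = Finset.univ.filter (fun j => n + 1 ≤ j.val + d) := ⟨_, rfl⟩
  have hmP : ∀ i, i ∈ P ↔ i.val + 1 ≤ c := by
    intro i
    rw [hP, Finset.mem_filter]
    simp
  have hmQ : ∀ j, j ∈ Q ↔ n + 1 ≤ j.val + d := by
    intro j
    rw [hQ, Finset.mem_filter]
    simp
  have hPQ : Disjoint P Q := by
    rw [Finset.disjoint_left]
    intro i hi hj
    rw [hmP] at hi
    rw [hmQ] at hj
    omega
  have hcardP : P.card = c := by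
    have h1 : P = Finset.univ.filter (fun i : Fin (n + 1) => (i : ℕ) < c) := by
      ext i
      rw [hmP, Finset.mem_filter]
      simp only [Finset.mem_univ, true_and]
      omega
    rw [h1, Fin.card_filter_val_lt]
    omega
  have hcardQ : Q.card = d := by
    have h1 : Q = (Finset.univ.filter (fun j : Fin (n + 1) => (j : ℕ) < n + 1 - d))ᶜ := by
      ext j
      rw [hmQ, Finset.mem_compl, Finset.mem_filter]
      simp only [Finset.mem_univ, true_and]
      omega
    rw [h1, Finset.card_compl, Fin.card_filter_val_lt, Fintype.card_fin]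
    omega
  have hideal : Ideal.span {f : MvPolynomial (Fin (n + 1)) k | ∃ i j : Fin (n + 1),
      i.val + 1 ≤ c ∧ n + 1 ≤ j.val + d ∧ f = MvPolynomial.X i * MvPolynomial.X j} =
      IXY k P Q := by
    rw [IXY]
    congr 1
    ext f
    constructor
    · rintro ⟨i, j, hi, hj, rfl⟩
      refine ⟨Finsupp.single i 1 + Finsupp.single j 1, ?_, ?_⟩
      · rw [Finset.mem_coe, gens, Finset.mem_image₂]
        exact ⟨i, (hmP i).mpr hi, j, (hmQ j).mpr hj, rfl⟩
      · show monomial (Finsupp.single i 1 + Finsupp.single j 1) (1 : k) = X i * X j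
        rw [X, X, monomial_mul, one_mul]
    · rintro ⟨β, hβ, rfl⟩
      rw [Finset.mem_coe, gens, Finset.mem_image₂] at hβ
      obtain ⟨i, hi, j, hj, rfl⟩ := hβ
      refine ⟨i, j, (hmP i).mp hi, (hmQ j).mp hj, ?_⟩
      show monomial (Finsupp.single i 1 + Finsupp.single j 1) (1 : k) = X i * X j
      rw [X, X, monomial_mul, one_mul]
  rw [hideal]
  have hfin := finrank_eq (isMonomial_IXY (k := k) P Q) hPQ (fun β => mem_exps_IXY hPQ β) rfl
    (by omega) (by omega)
  rw [hfin, hcardP, hcardQ, Fintype.card_fin]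
  have e1 : n + 1 - d = n - d + 1 := by omega
  have e2 : n + 1 - c = n - c + 1 := by omega
  rw [e1, e2, add_comm]

end Groth.Agent.Helper6.TwoPlanes
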