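import Mathlib
import Groth.Prelude.Def_DRing4
import Groth.Agent.Helper3.DRingDev
import Groth.Agent.Helper3.DRingTwoTerm2
import Groth.Agent.Helper3.DRingTwoTerm3
import Groth.Agent.Helper6.DerNak

/-!
# `Ext¹` of an object of `D(R)` with cohomology in degrees `-1, 0`
-/

set_option autoImplicit false
universe u
open CategoryTheory CategoryTheory.Limits Pretriangulated DerivedCategory

attribute [local instance] HasDerivedCategory.standard

namespace Groth.Agent.Helper6.TwoTermExt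

open Groth.Agent.Helper3.DRingLib

variable {R : Type u} [CommRing R]

/-- the truncation triangle of an object with cohomology in degrees `-1` and `0` -/
lemma exists_triangle (K : Dual.D R)
    (hK : ∀ i : ℤ, i ≠ -1 → i ≠ 0 → Subsingleton (Dual.HD R K i)) :
    ∃ (X Y : Dual.D R) (u : X ⟶ K) (v : K ⟶ Y) (w : Y ⟶ X⟦(1 : ℤ)⟧),
      Triangle.mk u v w ∈ distTriang (Dual.D R) ∧ X.IsLE (-1) ∧ X.IsGE (-1) ∧ Y.IsLE 0 ∧ Y.IsGE 0 ∧
      IsIso ((homologyFunctor (ModuleCat.{u} R) (-1)).map u) ∧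
      IsIso ((homologyFunctor (ModuleCat.{u} R) 0).map v) := by
  obtain ⟨X, Y, hX, hY, u, v, w, hT⟩ := TStructure.t.exists_triangle K (-1) 0 (by omega)
  have iX : X.IsLE (-1) := ⟨hX⟩
  have iY : Y.IsGE 0 := ⟨hY⟩
  have iY' : (Triangle.mk u v w).obj₃.IsGE (-1 + 1) := iY
  have iX' : (Triangle.mk u v w).obj₁.IsLE (-1) := iX
  have h1 : ∀ i : ℤ, i ≤ -1 → IsIso ((homologyFunctor (ModuleCat.{u} R) i).map u) :=
    fun i hi => isIso_HD_mor₁ (Triangle.mk u v w) hT (-1) i hi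
  have h2 : ∀ i : ℤ, 0 ≤ i → IsIso ((homologyFunctor (ModuleCat.{u} R) i).map v) :=
    fun i hi => isIso_HD_mor₂ (Triangle.mk u v w) hT (-1) i (by omega)
  refine ⟨X, Y, u, v, w, hT, iX, ?_, ?_, iY, h1 (-1) le_rfl, h2 0 le_rfl⟩
  · apply isGE_of_HD
    intro i hi
    haveI := h1 i (by omega)
    haveI := hK i (by omega) (by omega)
    exact ModuleCat.subsingleton_of_isZero
      ((ModuleCat.isZero_of_subsingleton _).of_iso
        (asIso ((homologyFunctor (ModuleCat.{u} R) i).map u)))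
  · apply isLE_of_HD
    intro i hi
    haveI := h2 i (by omega)
    haveI := hK i (by omega) (by omega)
    exact ModuleCat.subsingleton_of_isZero
      ((ModuleCat.isZero_of_subsingleton _).of_iso
        (asIso ((homologyFunctor (ModuleCat.{u} R) i).map v)).symm)

/-- an object concentrated in degree `n` is the single complex on its cohomology -/
lemma exists_iso_single (Z : Dual.D R) (n : ℤ) [Z.IsGE n] [Z.IsLE n] :
    Nonempty (Z ≅ (singleFunctor (ModuleCat.{u} R) n).obj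
      ((homologyFunctor (ModuleCat.{u} R) n).obj Z)) := by
  obtain ⟨Y, ⟨eY⟩⟩ := exists_iso_singleFunctor_obj_of_isGE_of_isLE Z n
  let eH : Y ≅ (homologyFunctor (ModuleCat.{u} R) n).obj Z :=
    ((singleFunctorCompHomologyFunctorIso (ModuleCat.{u} R) n).app Y).symm ≪≫
      ((homologyFunctor (ModuleCat.{u} R) n).mapIso eY).symm
  exact ⟨eY ≪≫ (singleFunctor (ModuleCat.{u} R) n).mapIso eH⟩

/-- if `a` kills the module `M`, then `a • 𝟙 = 0` on `M[-n]` -/
lemma smul_id_single_eq_zero (M : ModuleCat.{u} R) (n : ℤ) (a : R) (h : ∀ x : M, a • x = 0) :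
    a • 𝟙 ((singleFunctor (ModuleCat.{u} R) n).obj M) = 0 := by
  have h0 : a • 𝟙 M = 0 := by
    refine ModuleCat.hom_ext (LinearMap.ext fun x => ?_)
    exact h x
  rw [← CategoryTheory.Functor.map_id, ← Functor.map_smul, h0, Functor.map_zero]

/-- if `a` kills `H^n(Z)` and `Z` is concentrated in degree `n` then `a • 𝟙 Z = 0` -/
lemma smul_id_eq_zero (Z : Dual.D R) (n : ℤ) [Z.IsGE n] [Z.IsLE n] (a : R)
    (h : ∀ x : Dual.HD R Z n, a • x = 0) : a • 𝟙 Z = 0 := by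
  obtain ⟨e⟩ := exists_iso_single Z n
  have h1 := smul_id_single_eq_zero ((homologyFunctor (ModuleCat.{u} R) n).obj Z) n a h
  have h2 : a • 𝟙 Z = e.hom ≫ (a • 𝟙 _) ≫ e.inv := by
    rw [Linear.smul_comp, Linear.comp_smul, Category.id_comp, e.hom_inv_id]
  rw [h2, h1, zero_comp, comp_zero]

/-- if `d ≫ h = a • 𝟙`, then `a` acts by zero on the homology at the source of `d` -/
lemma homologyMap_smul_id_eq_zero (E : DRing.Cx R) (a : R) (i j : ℤ)
    (h : E.X j ⟶ E.X i) (hh : E.d i j ≫ h = a • 𝟙 (E.X i)) :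
    HomologicalComplex.homologyMap (a • 𝟙 E) i = 0 := by
  have hc : HomologicalComplex.cyclesMap (a • 𝟙 E) i = 0 := by
    rw [← cancel_mono (E.iCycles i), zero_comp, HomologicalComplex.cyclesMap_i]
    have : (a • 𝟙 E).f i = E.d i j ≫ h := by
      rw [hh]
      rfl
    rw [this, HomologicalComplex.iCycles_d_assoc, zero_comp]
  rw [← cancel_epi (E.homologyπ i), HomologicalComplex.homologyπ_naturality, hc, zero_comp,
    comp_zero]

lemma smul_homology_eq_zero (E : DRing.Cx R) (a : R) (i j : ℤ)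
    (h : E.X j ⟶ E.X i) (hh : E.d i j ≫ h = a • 𝟙 (E.X i)) (x : E.homology i) : a • x = 0 := by
  have h1 := homologyMap_smul_id_eq_zero E a i j h hh
  rw [Groth.Agent.Helper6.DerNak.homologyMap_smul, HomologicalComplex.homologyMap_id] at h1
  exact congrArg (fun g : E.homology i ⟶ E.homology i => g.hom x) h1

lemma smul_eq_zero_of_iso {M M' : ModuleCat.{u} R} (e : M ≅ M') (a : R)
    (h : ∀ x : M', a • x = 0) (x : M) : a • x = 0 := by
  have h1 : e.hom (a • x) = 0 := by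
    rw [map_smul]
    exact h _
  have h2 : e.inv (e.hom (a • x)) = a • x :=
    congrArg (fun g : M ⟶ M => g.hom (a • x)) e.hom_inv_id
  rw [← h2, h1, map_zero]

section main

variable (K : Dual.D R) (hK : ∀ i : ℤ, i ≠ -1 → i ≠ 0 → Subsingleton (Dual.HD R K i))

include hK

/-- (1) ⇒ (2a) -/
lemma smul_HD_eq_zero (a : R)
    (h : ∀ (N : ModuleCat.{u} R)
      (ξ : K ⟶ ((singleFunctor (ModuleCat.{u} R) 0).obj N)⟦(1 : ℤ)⟧), a • ξ = 0)
    (x : Dual.HD R K (-1)) : a • x = 0 := by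
  obtain ⟨E, hE, -, -, -, ⟨e⟩⟩ := exists_twoTerm_cx K hK (Dual.HD R K 0 →₀ R)
    (Finsupp.linearCombination R id) (Finsupp.linearCombination_id_surjective R _)
  obtain ⟨hh, hhd⟩ := exists_factor_of_smul_ext_eq_zero E hE a (fun ξ => by
    have h2 := h (E.X (-1)) (e.inv ≫ ξ)
    have h3 : a • ξ = e.hom ≫ (a • (e.inv ≫ ξ)) := by
      rw [Linear.comp_smul, e.hom_inv_id_assoc]
    rw [h3, h2, comp_zero])
  let e2 : (homologyFunctor (ModuleCat.{u} R) (-1)).obj K ≅ E.homology (-1) :=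
    (homologyFunctor (ModuleCat.{u} R) (-1)).mapIso e.symm ≪≫
      (homologyFunctorFactors (ModuleCat.{u} R) (-1)).app E
  exact smul_eq_zero_of_iso e2 a (smul_homology_eq_zero E a (-1) 0 hh hhd) x

/-- (1) ⇒ (2b) -/
lemma smul_ext_H0_eq_zero (a : R)
    (h : ∀ (N : ModuleCat.{u} R)
      (ξ : K ⟶ ((singleFunctor (ModuleCat.{u} R) 0).obj N)⟦(1 : ℤ)⟧), a • ξ = 0)
    (N : ModuleCat.{u} R)
    (ξ : (singleFunctor (ModuleCat.{u} R) 0).obj ((homologyFunctor (ModuleCat.{u} R) 0).obj K) ⟶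
      ((singleFunctor (ModuleCat.{u} R) 0).obj N)⟦(1 : ℤ)⟧) : a • ξ = 0 := by
  obtain ⟨X, Y, u, v, w, hT, iX1, iX2, iY1, iY2, hu, hv⟩ := exists_triangle K hK
  obtain ⟨eY⟩ := exists_iso_single Y 0
  let e' : Y ≅ (singleFunctor (ModuleCat.{u} R) 0).obj
      ((homologyFunctor (ModuleCat.{u} R) 0).obj K) :=
    eY ≪≫ (singleFunctor (ModuleCat.{u} R) 0).mapIso
      (asIso ((homologyFunctor (ModuleCat.{u} R) 0).map v)).symm
  have key : ∀ η : Y ⟶ ((singleFunctor (ModuleCat.{u} R) 0).obj N)⟦(1 : ℤ)⟧,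
      v ≫ η = 0 → η = 0 := by
    intro η hη
    obtain ⟨(θ : X⟦(1 : ℤ)⟧ ⟶ ((singleFunctor (ModuleCat.{u} R) 0).obj N)⟦(1 : ℤ)⟧), hθ⟩ :=
      Triangle.yoneda_exact₃ _ hT η hη
    obtain ⟨θ₀, rfl⟩ := (shiftFunctor (Dual.D R) (1 : ℤ)).map_surjective θ
    have h0 : θ₀ = 0 :=
      TStructure.t.zero_of_isLE_of_isGE θ₀ (-1) 0 (by omega) iX1 inferInstance
    have hθ' : η = w ≫ (shiftFunctor (Dual.D R) (1 : ℤ)).map θ₀ := hθ
    rw [hθ', h0, Functor.map_zero, comp_zero]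
  have h1 : a • (e'.hom ≫ ξ) = 0 := by
    apply key
    rw [Linear.comp_smul]
    exact h N (v ≫ e'.hom ≫ ξ)
  have h2 : a • ξ = e'.inv ≫ (a • (e'.hom ≫ ξ)) := by
    rw [Linear.comp_smul, e'.inv_hom_id_assoc]
  rw [h2, h1, comp_zero]

/-- (2) ⇒ (1) -/
lemma mul_smul_ext_eq_zero (a b : R) (ha : ∀ x : Dual.HD R K (-1), a • x = 0)
    (hb : ∀ (N : ModuleCat.{u} R)
      (ξ : (singleFunctor (ModuleCat.{u} R) 0).obj
        ((homologyFunctor (ModuleCat.{u} R) 0).obj K) ⟶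
          ((singleFunctor (ModuleCat.{u} R) 0).obj N)⟦(1 : ℤ)⟧), b • ξ = 0)
    (N : ModuleCat.{u} R)
    (ξ : K ⟶ ((singleFunctor (ModuleCat.{u} R) 0).obj N)⟦(1 : ℤ)⟧) : (b * a) • ξ = 0 := by
  obtain ⟨X, Y, u, v, w, hT, iX1, iX2, iY1, iY2, hu, hv⟩ := exists_triangle K hK
  have hX : a • 𝟙 X = 0 := by
    apply smul_id_eq_zero X (-1) a
    intro x
    exact smul_eq_zero_of_iso (asIso ((homologyFunctor (ModuleCat.{u} R) (-1)).map u)) a ha x
  have h1 : u ≫ (a • ξ) = 0 := by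
    have : u ≫ (a • ξ) = (a • 𝟙 X) ≫ u ≫ ξ := by
      rw [Linear.comp_smul, Linear.smul_comp, Category.id_comp]
    rw [this, hX, zero_comp]
  obtain ⟨(ζ : Y ⟶ ((singleFunctor (ModuleCat.{u} R) 0).obj N)⟦(1 : ℤ)⟧), hζ⟩ :=
    Triangle.yoneda_exact₂ _ hT (a • ξ) h1
  obtain ⟨eY⟩ := exists_iso_single Y 0
  let e' : Y ≅ (singleFunctor (ModuleCat.{u} R) 0).obj
      ((homologyFunctor (ModuleCat.{u} R) 0).obj K) :=
    eY ≪≫ (singleFunctor (ModuleCat.{u} R) 0).mapIso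
      (asIso ((homologyFunctor (ModuleCat.{u} R) 0).map v)).symm
  have h2 : b • ζ = 0 := by
    have h3 := hb N (e'.inv ≫ ζ)
    have h4 : b • ζ = e'.hom ≫ (b • (e'.inv ≫ ζ)) := by
      rw [Linear.comp_smul, e'.hom_inv_id_assoc]
    rw [h4, h3, comp_zero]
  have h5 : a • ξ = v ≫ ζ := hζ
  rw [mul_smul, h5, ← Linear.comp_smul, h2, comp_zero]

end main

end Groth.Agent.Helper6.TwoTermExt
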