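import Mathlib.CategoryTheory.Types.Basic
import Mathlib.CategoryTheory.Limits.FunctorCategory.Shapes.Pullbacks
import Mathlib.CategoryTheory.Limits.Types.Pullbacks
import Mathlib.CategoryTheory.Limits.Preserves.Shapes.Pullbacks
import Mathlib.CategoryTheory.Limits.Types.Products
import Mathlib.CategoryTheory.Limits.Preserves.Shapes.BinaryProducts
import Mathlib.CategoryTheory.Limits.FunctorCategory.Shapes.Products

set_option autoImplicit false
universe u v w
open CategoryTheory CategoryTheory.Limits

namespace Groth.Agent.Helper6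

section TypePullback

variable {C : Type w} [Category.{u} C] {F G H : C ⥤ Type v} (η : F ⟶ G) (θ : H ⟶ G)

/-- evaluated pullback cone in a functor category to types is a limit -/
noncomputable def evalPullbackIsLimit (A : C) :
    IsLimit (PullbackCone.mk ((pullback.fst η θ).app A) ((pullback.snd η θ).app A)
      (by rw [← NatTrans.comp_app, ← NatTrans.comp_app, pullback.condition])) :=
  isLimitOfHasPullbackOfPreservesLimit ((evaluation C (Type v)).obj A) η θ

theorem pullback_app_ext (A : C) (z z' : (pullback η θ).obj A)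
    (h1 : (pullback.fst η θ).app A z = (pullback.fst η θ).app A z')
    (h2 : (pullback.snd η θ).app A z = (pullback.snd η θ).app A z') : z = z' :=
  PullbackCone.IsLimit.type_ext (evalPullbackIsLimit η θ A) h1 h2

theorem pullback_app_exists (A : C) (x : F.obj A) (h : H.obj A) (hxh : η.app A x = θ.app A h) :
    ∃ z : (pullback η θ).obj A, (pullback.fst η θ).app A z = x ∧ (pullback.snd η θ).app A z = h := by
  refine ⟨(PullbackCone.IsLimit.equivPullbackObj (evalPullbackIsLimit η θ A)).symm ⟨(x, h), hxh⟩, ?_, ?_⟩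
  · exact PullbackCone.IsLimit.equivPullbackObj_symm_apply_fst (evalPullbackIsLimit η θ A) ⟨(x, h), hxh⟩
  · exact PullbackCone.IsLimit.equivPullbackObj_symm_apply_snd (evalPullbackIsLimit η θ A) ⟨(x, h), hxh⟩

end TypePullback

end Groth.Agent.Helper6

namespace Groth.Agent.Helper6

section TypeProd

variable {C : Type w} [Category.{u} C] (F G : C ⥤ Type v)

/-- evaluated binary fan is a limit -/
noncomputable def evalProdIsLimit (A : C) :
    IsLimit (BinaryFan.mk ((Limits.prod.fst : F ⨯ G ⟶ F).app A) ((Limits.prod.snd : F ⨯ G ⟶ G).app A)) :=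
  isLimitOfHasBinaryProductOfPreservesLimit ((evaluation C (Type v)).obj A) F G

/-- The evaluation of a product of type-valued functors is the product of the evaluations. -/
noncomputable def evalProdEquiv (A : C) : (F ⨯ G).obj A ≃ F.obj A × G.obj A :=
  (IsLimit.conePointUniqueUpToIso (evalProdIsLimit F G A)
    (Types.binaryProductLimit (F.obj A) (G.obj A))).toEquiv

theorem evalProdEquiv_fst (A : C) (z : (F ⨯ G).obj A) :
    (evalProdEquiv F G A z).1 = (Limits.prod.fst : F ⨯ G ⟶ F).app A z :=
  by
    have := ConcreteCategory.congr_hom (IsLimit.conePointUniqueUpToIso_hom_comp (evalProdIsLimit F G A)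
      (Types.binaryProductLimit (F.obj A) (G.obj A)) ⟨WalkingPair.left⟩) z
    exact this

theorem evalProdEquiv_snd (A : C) (z : (F ⨯ G).obj A) :
    (evalProdEquiv F G A z).2 = (Limits.prod.snd : F ⨯ G ⟶ G).app A z :=
  by
    have := ConcreteCategory.congr_hom (IsLimit.conePointUniqueUpToIso_hom_comp (evalProdIsLimit F G A)
      (Types.binaryProductLimit (F.obj A) (G.obj A)) ⟨WalkingPair.right⟩) z
    exact this

theorem prod_app_ext (A : C) (z z' : (F ⨯ G).obj A)
    (h1 : (Limits.prod.fst : F ⨯ G ⟶ F).app A z = (Limits.prod.fst : F ⨯ G ⟶ F).app A z')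
    (h2 : (Limits.prod.snd : F ⨯ G ⟶ G).app A z = (Limits.prod.snd : F ⨯ G ⟶ G).app A z') : z = z' := by
  apply (evalProdEquiv F G A).injective
  apply Prod.ext
  · rw [evalProdEquiv_fst, evalProdEquiv_fst, h1]
  · rw [evalProdEquiv_snd, evalProdEquiv_snd, h2]

theorem prod_app_exists (A : C) (x : F.obj A) (y : G.obj A) :
    ∃ z : (F ⨯ G).obj A, (Limits.prod.fst : F ⨯ G ⟶ F).app A z = x ∧
      (Limits.prod.snd : F ⨯ G ⟶ G).app A z = y := by
  refine ⟨(evalProdEquiv F G A).symm (x, y), ?_, ?_⟩
  · rw [← evalProdEquiv_fst, Equiv.apply_symm_apply]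
  · rw [← evalProdEquiv_snd, Equiv.apply_symm_apply]

end TypeProd

end Groth.Agent.Helper6
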