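import Mathlib
import Groth.Prelude.Def_EtBase
import Groth.Prelude.Def_PBC
import Groth.Agent.Helper6.UHomB
import Groth.Agent.Helper9.EtPushClosedZero
import Groth.Agent.Helper9.EtStalkAlgClosed

set_option autoImplicit false
set_option linter.style.haveILetI false
set_option linter.unusedSectionVars false
set_option linter.unusedVariables false
set_option linter.unusedSimpArgs false

/-!
# Essential image of the direct image along an integral universally injective morphism
-/

universe u

open CategoryTheory CategoryTheory.Limits Opposite AlgebraicGeometry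

namespace Groth.Agent.Helper6.UHomC

open Groth.Agent.Helper9.EtStalkPull Groth.Agent.Helper9.EtStalkExact
  Groth.Agent.Helper9.EtPushClosedZero

variable {X Y : Scheme.{u}} (f : X ⟶ Y)

section Lift

/-- an algebraically closed point of `Y` whose image lies in the image of an integral morphism
lifts -/
theorem exists_lift_geomPt [IsIntegralHom f] {Ω : Type u} [Field Ω] [IsAlgClosed Ω]
    (ξ : Spec (CommRingCat.of Ω) ⟶ Y) (h : ξ default ∈ Set.range f) :
    ∃ ζ : Spec (CommRingCat.of Ω) ⟶ X, ζ ≫ f = ξ := by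
  obtain ⟨x, hx⟩ := h
  let T := pullback ξ f
  let q : T ⟶ Spec (CommRingCat.of Ω) := pullback.fst ξ f
  have hqint : IsIntegralHom q := inferInstanceAs (IsIntegralHom (pullback.fst ξ f))
  obtain ⟨t, -, -⟩ := Scheme.Pullback.exists_preimage_pullback (f := ξ) (g := f) default x hx.symm
  have hT : IsAffine T := isAffine_of_isAffineHom q
  let R := Γ(T, ⊤)
  let e : T ≅ Spec R := T.isoSpec
  let ψ : CommRingCat.of Ω ⟶ R := Spec.preimage (e.inv ≫ q)
  have hψ : Spec.map ψ = e.inv ≫ q := Spec.map_preimage _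
  have hint : ψ.hom.IsIntegral := by
    have : IsIntegralHom (Spec.map ψ) := by rw [hψ]; infer_instance
    exact IsIntegralHom.SpecMap_iff.mp this
  have hne : Nontrivial R := by
    have : Nonempty (Spec R) := ⟨e.hom t⟩
    by_contra hcon
    rw [not_nontrivial_iff_subsingleton] at hcon
    exact (PrimeSpectrum.instIsEmptyOfSubsingleton (R := R)).false (e.hom t)
  obtain ⟨m, hm⟩ := Ideal.exists_maximal R
  let χ : Ω →+* R ⧸ m := (Ideal.Quotient.mk m).comp ψ.hom
  have hχint : χ.IsIntegral :=
    RingHom.IsIntegral.trans _ _ hint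
      (RingHom.isIntegral_of_surjective _ Ideal.Quotient.mk_surjective)
  letI : Field (R ⧸ m) := Ideal.Quotient.field m
  have hbij : Function.Bijective χ := IsAlgClosed.ringHom_bijective_of_isIntegral χ hχint
  let σ : R →+* Ω := ((RingEquiv.ofBijective χ hbij).symm : (R ⧸ m) →+* Ω).comp (Ideal.Quotient.mk m)
  have hσ : σ.comp ψ.hom = RingHom.id Ω := by
    ext a
    show (RingEquiv.ofBijective χ hbij).symm (χ a) = a
    exact (RingEquiv.ofBijective χ hbij).symm_apply_apply a
  let ζ₀ : Spec (CommRingCat.of Ω) ⟶ T := Spec.map (CommRingCat.ofHom σ) ≫ e.inv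
  have hζ₀ : ζ₀ ≫ q = 𝟙 _ := by
    show (Spec.map (CommRingCat.ofHom σ) ≫ e.inv) ≫ q = 𝟙 _
    rw [Category.assoc, ← hψ, ← Spec.map_comp]
    have : ψ ≫ CommRingCat.ofHom σ = 𝟙 _ := by
      ext a
      exact congrArg (fun g : Ω →+* Ω => g a) hσ
    rw [this, Spec.map_id]
  refine ⟨ζ₀ ≫ pullback.snd ξ f, ?_⟩
  rw [Category.assoc, ← pullback.condition, ← Category.assoc]
  show (ζ₀ ≫ q) ≫ ξ = ξ
  rw [hζ₀, Category.id_comp]

end Lift

section Away

variable (hcl : IsClosed (Set.range f.base))

/-- the open complement of the image -/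
noncomputable def compl : Y.Opens := ⟨(Set.range f.base)ᶜ, hcl.isOpen_compl⟩

/-- the part of an étale `Y`-scheme lying over the complement -/
noncomputable def away (U : Y.Etale) : Y.Etale :=
  Scheme.Etale.mk ((U.hom ⁻¹ᵁ compl f hcl).ι ≫ U.hom)

set_option backward.isDefEq.respectTransparency.types false in
noncomputable def awayι (U : Y.Etale) : away f hcl U ⟶ U :=
  MorphismProperty.Over.homMk (U.hom ⁻¹ᵁ compl f hcl).ι rfl trivial

set_option backward.isDefEq.respectTransparency.types false in
theorem isEmpty_bc_away (U : Y.Etale) : IsEmpty ((EtCoh.bc f).obj (away f hcl U)).left := by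
  constructor
  intro p
  let p' : ↥(pullback (away f hcl U).hom f) := p
  have h1 : (away f hcl U).hom (pullback.fst (away f hcl U).hom f p') =
      f (pullback.snd (away f hcl U).hom f p') := by
    rw [← Scheme.Hom.comp_apply, ← Scheme.Hom.comp_apply, pullback.condition]
  have h2 : (away f hcl U).hom (pullback.fst (away f hcl U).hom f p') ∈ (compl f hcl : Set Y) := by
    show (((U.hom ⁻¹ᵁ compl f hcl).ι ≫ U.hom)) _ ∈ _
    rw [Scheme.Hom.comp_apply]
    have h3 : (U.hom ⁻¹ᵁ compl f hcl).ι (pullback.fst (away f hcl U).hom f p') ∈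
        ((U.hom ⁻¹ᵁ compl f hcl : U.left.Opens) : Set U.left) := by
      rw [← Scheme.Opens.range_ι]
      exact ⟨_, rfl⟩
    exact h3
  rw [h1] at h2
  exact h2 ⟨_, rfl⟩

attribute [local instance] preservesFilteredColimits_forget_ab

set_option backward.isDefEq.respectTransparency.types false in
/-- the direct image has zero stalks outside the (closed) image -/
theorem isZero_stalk_push (hcl : IsClosed (Set.range f.base)) (G : EtCoh.Ab X) {Ω : Type u}
    [Field Ω] [IsSepClosed Ω] (ξ : Spec (CommRingCat.of Ω) ⟶ Y)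
    (hξ : Disjoint (Set.range ξ.base) (Set.range f.base)) :
    IsZero ((EtCoh.stalk ξ).obj ((EtCoh.push f).obj G)) := by
  have hsub : Subsingleton ↑((EtCoh.stalk ξ).obj ((EtCoh.push f).obj G)) := by
    refine ⟨fun t₁ t₂ => ?_⟩
    suffices h : ∀ t : ↑((EtCoh.stalk ξ).obj ((EtCoh.push f).obj G)), t = 0 by rw [h t₁, h t₂]
    intro t
    obtain ⟨U, l, s, rfl⟩ := (Scheme.pointSmallEtale ξ).toPresheafFiber_jointly_surjective
      (P := ((EtCoh.push f).obj G).obj) t
    let lU : Spec (CommRingCat.of Ω) ⟶ U.left := l.left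
    have hlU : lU ≫ U.hom = ξ := Over.w l
    have hr : Set.range lU ⊆ Set.range (U.hom ⁻¹ᵁ compl f hcl).ι := by
      rw [Scheme.Opens.range_ι]
      rintro _ ⟨p, rfl⟩
      show U.hom (lU p) ∈ (compl f hcl : Set Y)
      rw [← Scheme.Hom.comp_apply, hlU]
      intro hcon
      exact (Set.disjoint_left.1 hξ) ⟨p, rfl⟩ hcon
    let W : U.left.Opens := U.hom ⁻¹ᵁ compl f hcl
    let l'' : Spec (CommRingCat.of Ω) ⟶ W.toScheme := IsOpenImmersion.lift W.ι lU hr
    have hl'' : l'' ≫ W.ι = lU := IsOpenImmersion.lift_fac W.ι lU hr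
    let l' : Spec (CommRingCat.of Ω) ⟶ (away f hcl U).left := l''
    have hl' : l' ≫ (U.hom ⁻¹ᵁ compl f hcl).ι = lU := hl''
    let lW : (Scheme.pointSmallEtale ξ).fiber.obj (away f hcl U) := Over.homMk l' (by
      show l' ≫ ((U.hom ⁻¹ᵁ compl f hcl).ι ≫ U.hom) = ξ
      rw [← Category.assoc, hl', hlU])
    have hl : (Scheme.pointSmallEtale ξ).fiber.map (awayι f hcl U) lW = l := by
      apply Over.OverMorphism.ext
      exact hl'
    have e := (Scheme.pointSmallEtale ξ).toPresheafFiber_w_apply (awayι f hcl U) lW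
      ((EtCoh.push f).obj G).obj s
    rw [hl] at e
    have hz : ((EtCoh.push f).obj G).obj.map (awayι f hcl U).op s = 0 := by
      haveI := isEmpty_bc_away f hcl U
      have : Subsingleton ↑(G.obj.obj (op ((EtCoh.bc f).obj (away f hcl U)))) :=
        subsingleton_of_isEmpty G _
      exact Subsingleton.elim (α := ↑(G.obj.obj (op ((EtCoh.bc f).obj (away f hcl U))))) _ _
    rw [← e, hz]
    exact map_zero ((Scheme.pointSmallEtale ξ).toPresheafFiber (away f hcl U) lW
      ((EtCoh.push f).obj G).obj).hom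
  exact AddCommGrpCat.isZero_of_subsingleton _

end Away

section Unit

variable [IsIntegralHom f] [UniversallyInjective f]

attribute [local instance] preservesFilteredColimits_forget_ab

theorem isIso_pull_map_unit (F : EtCoh.Ab Y) :
    IsIso ((EtCoh.pull f).map ((EtCoh.pullPushAdj f).unit.app F)) := by
  have h := (EtCoh.pullPushAdj f).left_triangle_components F
  have : IsIso ((EtCoh.pullPushAdj f).counit.app ((EtCoh.pull f).obj F)) :=
    Groth.Agent.Helper6.UHomB.isIso_counit_app f _
  have h3 : IsIso ((EtCoh.pull f).map ((EtCoh.pullPushAdj f).unit.app F) ≫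
      (EtCoh.pullPushAdj f).counit.app ((EtCoh.pull f).obj F)) := by
    rw [h]
    exact IsIso.id _
  exact IsIso.of_isIso_comp_right ((EtCoh.pull f).map ((EtCoh.pullPushAdj f).unit.app F))
    ((EtCoh.pullPushAdj f).counit.app ((EtCoh.pull f).obj F))

theorem isIso_stalk_map_unit (F : EtCoh.Ab Y) {Ω : Type u} [Field Ω] [IsSepClosed Ω]
    (ζ : Spec (CommRingCat.of Ω) ⟶ X) :
    IsIso ((EtCoh.stalk (ζ ≫ f)).map ((EtCoh.pullPushAdj f).unit.app F)) := by
  have h1 := isIso_pull_map_unit f F
  have h2 : IsIso ((EtCoh.pull f ⋙ EtCoh.stalk ζ).map ((EtCoh.pullPushAdj f).unit.app F)) := by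
    rw [Functor.comp_map]
    infer_instance
  exact (NatIso.isIso_map_iff (stalkPullIso f ζ) ((EtCoh.pullPushAdj f).unit.app F)).1 h2

theorem range_closed : IsClosed (Set.range f.base) := f.isClosedMap.isClosed_range

/-- the unit is an isomorphism on sheaves supported in the image -/
theorem isIso_unit_of_supp (F : EtCoh.Ab Y) (hF : EtPBC.supp F ⊆ Set.range f.base) :
    IsIso ((EtCoh.pullPushAdj f).unit.app F) := by
  apply Groth.Agent.Helper9.EtStalkAlgClosed.isIso_of_stalks
  intro Ω _ _ ξ
  by_cases hξ : ξ default ∈ Set.range f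
  · obtain ⟨ζ, rfl⟩ := exists_lift_geomPt f ξ hξ
    exact (ConcreteCategory.isIso_iff_bijective _).1 (isIso_stalk_map_unit f F ζ)
  · have hdisj : Disjoint (Set.range ξ.base) (Set.range f.base) := by
      rw [Set.disjoint_left]
      rintro _ ⟨p, rfl⟩ hcon
      rw [Subsingleton.elim p default] at hcon
      exact hξ hcon
    have h1 : Subsingleton ↑((EtCoh.stalk ξ).obj F) := by
      by_contra hcon
      have hmem : ξ default ∈ EtPBC.supp F := by
        refine ⟨Ω, inferInstance, inferInstance, ξ, ?_, ?_⟩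
        · ext y
          constructor
          · rintro ⟨p, rfl⟩
            rw [Subsingleton.elim p default]
            rfl
          · intro hy
            exact ⟨default, hy.symm⟩
        · intro hz
          exact hcon (AddCommGrpCat.subsingleton_of_isZero hz)
      exact hξ (hF hmem)
    have h2 : Subsingleton ↑((EtCoh.stalk ξ).obj ((EtCoh.push f).obj ((EtCoh.pull f).obj F))) :=
      AddCommGrpCat.subsingleton_of_isZero (isZero_stalk_push f (range_closed f) _ ξ hdisj)
    exact ⟨fun a b _ => @Subsingleton.elim _ h1 a b,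
      fun y => ⟨0, @Subsingleton.elim _ h2 _ _⟩⟩

theorem essImage_iff (F : EtCoh.Ab Y) :
    (EtCoh.push f).essImage F ↔ EtPBC.supp F ⊆ Set.range f.base := by
  constructor
  · rintro ⟨G, ⟨e⟩⟩ y ⟨Ω, _, _, ξ, hξ, hne⟩
    by_contra hy
    apply hne
    have hdisj : Disjoint (Set.range ξ.base) (Set.range f.base) := by
      rw [Set.disjoint_left]
      rintro _ ⟨p, rfl⟩ hcon
      have : ξ p ∈ Set.range ξ := ⟨p, rfl⟩
      rw [hξ] at this
      rw [Set.mem_singleton_iff] at this
      rw [this] at hcon
      exact hy hcon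
    exact (isZero_stalk_push f (range_closed f) G ξ hdisj).of_iso ((EtCoh.stalk ξ).mapIso e.symm)
  · intro hF
    have := isIso_unit_of_supp f F hF
    exact ⟨(EtCoh.pull f).obj F, ⟨(asIso ((EtCoh.pullPushAdj f).unit.app F)).symm⟩⟩

end Unit

end Groth.Agent.Helper6.UHomC
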