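import Mathlib
import Groth.Prelude.Def_EtBase
import Groth.Prelude.Def_EtCore
import Groth.Agent.Helper6.UHomC

set_option autoImplicit false
set_option linter.style.haveILetI false
set_option linter.unusedSectionVars false
set_option linter.unusedVariables false
set_option linter.unusedSimpArgs false

/-!
# Universal homeomorphisms induce equivalences of étale topoi and isomorphisms on cohomology
-/

universe u

open CategoryTheory CategoryTheory.Limits Opposite AlgebraicGeometry

namespace Groth.Agent.Helper6.UHomD

variable {X₀ X : Scheme.{u}} (i : X₀ ⟶ X) [IsIntegralHom i] [UniversallyInjective i] [Surjective i]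

theorem isIso_unit_app (F : EtCoh.Ab X) : IsIso ((EtCoh.pullPushAdj i).unit.app F) :=
  Groth.Agent.Helper6.UHomC.isIso_unit_of_supp i F (fun y _ => i.surjective y)

/-- the equivalence of categories of abelian sheaves -/
noncomputable def equiv : EtCoh.Ab X ≌ EtCoh.Ab X₀ :=
  haveI : ∀ F, IsIso ((EtCoh.pullPushAdj i).unit.app F) := isIso_unit_app i
  haveI : ∀ G, IsIso ((EtCoh.pullPushAdj i).counit.app G) :=
    Groth.Agent.Helper6.UHomB.isIso_counit_app i
  (EtCoh.pullPushAdj i).toEquivalence

theorem pull_isEquivalence : (EtCoh.pull i).IsEquivalence :=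
  (equiv i).isEquivalence_functor

theorem push_isEquivalence : (EtCoh.push i).IsEquivalence :=
  (equiv i).isEquivalence_inverse

theorem pull_preservesInjectiveObjects : (EtCoh.pull i).PreservesInjectiveObjects := by
  have adj : EtCoh.push i ⊣ EtCoh.pull i := (equiv i).symm.toAdjunction
  haveI : (EtCoh.push i).IsEquivalence := push_isEquivalence i
  exact Functor.preservesInjectiveObjects_of_adjunction_of_preservesMonomorphisms adj

theorem mapExt_bijective [PreservesFiniteLimits (EtCoh.pull i)] (A B : EtCoh.Ab X) (n : ℕ) :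
    Function.Bijective ((EtCoh.pull i).mapExtAddHom A B n) := by
  haveI : (EtCoh.pull i).IsEquivalence := pull_isEquivalence i
  haveI := pull_preservesInjectiveObjects i
  exact Functor.mapExt_bijective_of_preservesInjectiveObjects (EtCoh.pull i) A B n

theorem Hpull_bijective [PreservesFiniteLimits (EtCoh.pull i)] (F : EtCoh.Ab X) (q : ℕ) :
    Function.Bijective (EtCore.Hpull i F q) := by
  have h1 := mapExt_bijective i ((constantSheaf X.smallEtaleTopology AddCommGrpCat.{u+1}).obj
    (AddCommGrpCat.of (ULift.{u+1} ℤ))) F q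
  unfold EtCore.Hpull
  rw [AddMonoidHom.coe_comp]
  refine Function.Bijective.comp ?_ h1
  constructor
  · intro a b hab
    have hab' : (Abelian.Ext.mk₀ (EtCore.pullConst i ℤ).inv).comp a (zero_add q) =
        (Abelian.Ext.mk₀ (EtCore.pullConst i ℤ).inv).comp b (zero_add q) := hab
    have := congrArg (fun e => (Abelian.Ext.mk₀ (EtCore.pullConst i ℤ).hom).comp e (zero_add q)) hab'
    simp only [Abelian.Ext.mk₀_comp_mk₀_assoc, Iso.hom_inv_id, Abelian.Ext.mk₀_id_comp] at this
    exact this
  · intro b
    refine ⟨(Abelian.Ext.mk₀ (EtCore.pullConst i ℤ).hom).comp b (zero_add q), ?_⟩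
    show (Abelian.Ext.mk₀ (EtCore.pullConst i ℤ).inv).comp
      ((Abelian.Ext.mk₀ (EtCore.pullConst i ℤ).hom).comp b (zero_add q)) (zero_add q) = b
    simp only [Abelian.Ext.mk₀_comp_mk₀_assoc, Iso.inv_hom_id, Abelian.Ext.mk₀_id_comp]

end Groth.Agent.Helper6.UHomD
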