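import Mathlib
import Groth.Agent.Helper6.JacAff
import Groth.Agent.Helper5.FGUnram4
import Groth.Agent.Helper5.FFWeak
import Groth.Agent.Helper5.FFGeom3
import Groth.Agent.Helper5.FFWeier
import Groth.Agent.Helper5.FFGaps2

set_option autoImplicit false
set_option linter.style.haveILetI false
set_option linter.unusedSectionVars false

/-!
# A second generator all of whose place have a uniformizer in the span of `1, x, y`
-/

namespace Groth.Agent.Helper6.UnifGen

open FunFld
open Groth.Agent.Helper5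
open scoped IntermediateField

universe u v
variable {k : Type u} {K : Type v} [Field k] [Field K] [Algebra k K]

theorem transcendental_of_isSeparable (hK : IsFunctionField k K) (x : K)
    (hsep : Algebra.IsSeparable k⟮x⟯ K) : Transcendental k x := by
  intro halg
  obtain ⟨⟨x₀, hx₀, _⟩, _⟩ := hK
  apply hx₀
  haveI : Algebra.IsAlgebraic k k⟮x⟯ :=
    IntermediateField.isAlgebraic_adjoin_simple halg.isIntegral
  haveI : Algebra.IsAlgebraic k⟮x⟯ K := Algebra.IsSeparable.isAlgebraic _ _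
  haveI : Algebra.IsAlgebraic k K := Algebra.IsAlgebraic.trans k k⟮x⟯ K
  exact Algebra.IsAlgebraic.isAlgebraic x₀

/-- at a place unramified over `k(x)` at which `x` is regular, `x - x(P)` is a uniformizer. -/
theorem val_eq_of_unramified (P : Place k K) {x : K} (htr : Transcendental k x) {a : k}
    (ha : P.1 (x - algebraMap k K a) < 1) (w : k⟮x⟯)
    (hw : P.1 (w : K) = WithZero.exp (-1 : ℤ)) :
    P.1 (x - algebraMap k K a) = WithZero.exp (-1 : ℤ) := by
  have hx1 : P.1 x ≤ 1 := FF.val_le_one_of_residue P ha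
  obtain ⟨t, ht⟩ : ∃ t : K, t = x - algebraMap k K a := ⟨_, rfl⟩
  rw [← ht] at ha ⊢
  have ht0 : t ≠ 0 := by
    intro h0
    rw [h0] at ht
    apply htr
    have h1 : x = algebraMap k K a := sub_eq_zero.mp ht.symm
    rw [h1]; exact isAlgebraic_algebraMap a
  have key : ∀ p : Polynomial k, p ≠ 0 →
      ∃ r : ℕ, P.1 (Polynomial.aeval x p) = P.1 t ^ r := by
    intro p hp
    obtain ⟨q, hq, hnd⟩ := Polynomial.exists_eq_pow_rootMultiplicity_mul_and_not_dvd p hp a
    refine ⟨p.rootMultiplicity a, ?_⟩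
    have hqa : q.eval a ≠ 0 := by
      intro h0; exact hnd (Polynomial.dvd_iff_isRoot.mpr h0)
    obtain ⟨q', hq'⟩ := Polynomial.X_sub_C_dvd_sub_C_eval (a := a) (p := q)
    have h1 : Polynomial.aeval x q - algebraMap k K (q.eval a) =
        t * Polynomial.aeval x q' := by
      have h := congrArg (Polynomial.aeval x) hq'
      rw [map_sub, Polynomial.aeval_C, map_mul, map_sub, Polynomial.aeval_X,
        Polynomial.aeval_C] at h
      rw [h, ht]
    have h2 : P.1 (Polynomial.aeval x q - algebraMap k K (q.eval a)) < 1 := by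
      rw [h1, map_mul]
      calc P.1 t * P.1 (Polynomial.aeval x q') ≤ P.1 t * 1 :=
            mul_le_mul' le_rfl (FF.val_aeval_le P hx1 q')
        _ = P.1 t := mul_one _
        _ < 1 := ha
    have h3 : P.1 (Polynomial.aeval x q) = 1 := FF.val_eq_one_of_residue P h2 hqa
    have h4 := congrArg (Polynomial.aeval x) hq
    rw [map_mul, map_pow, map_sub, Polynomial.aeval_X, Polynomial.aeval_C, ← ht] at h4
    rw [h4, map_mul, map_pow, h3, mul_one]
  obtain ⟨p, q, hpq⟩ := (IntermediateField.mem_adjoin_simple_iff k (w : K)).mp w.2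
  have hw0 : (w : K) ≠ 0 := by
    intro h0; rw [h0, map_zero] at hw; exact WithZero.exp_ne_zero hw.symm
  have hp0 : p ≠ 0 := by
    intro h0; rw [h0, map_zero, zero_div] at hpq; exact hw0 hpq
  have hq0 : q ≠ 0 := by
    intro h0; rw [h0, map_zero, div_zero] at hpq; exact hw0 hpq
  obtain ⟨r, hr⟩ := key p hp0
  obtain ⟨s, hs⟩ := key q hq0
  have hqx0 : Polynomial.aeval x q ≠ 0 := by
    intro h0; rw [h0, div_zero] at hpq; exact hw0 hpq
  have hv : WithZero.exp (-1 : ℤ) * P.1 t ^ s = P.1 t ^ r := by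
    rw [← hw, ← hs, ← hr, ← map_mul, hpq, div_mul_cancel₀ _ hqx0]
  rw [FF.val_eq_exp_neg_ord P ht0] at hv ha ⊢
  rw [← WithZero.exp_nsmul, ← WithZero.exp_nsmul, ← WithZero.exp_add, WithZero.exp_inj] at hv
  rw [← WithZero.exp_zero, WithZero.exp_lt_exp] at ha
  rw [WithZero.exp_inj]
  simp only [smul_eq_mul, nsmul_eq_mul] at hv
  have h1 : ((r : ℤ) - s) * P.ord t = 1 := by linarith
  rcases Int.mul_eq_one_iff_eq_one_or_neg_one.mp h1 with ⟨_, h⟩ | ⟨_, h⟩
  · omega
  · omega

theorem exists_primitive_uniformizing (x : K) [FiniteDimensional k⟮x⟯ K]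
    [Algebra.IsSeparable k⟮x⟯ K] [Infinite k] (T : Finset (Place k K)) :
    ∃ y : K, IntermediateField.adjoin k⟮x⟯ ({y} : Set K) = ⊤ ∧
      ∀ P ∈ T, P.1 y = WithZero.exp (-1 : ℤ) := by
  classical
  obtain ⟨y₀, hy₀⟩ := Field.exists_primitive_element k⟮x⟯ K
  by_cases hT : T = ∅
  · exact ⟨y₀, hy₀, by rw [hT]; intro P hP; exact absurd hP (Finset.notMem_empty P)⟩
  obtain ⟨P₀, hP₀⟩ := Finset.nonempty_iff_ne_empty.mpr hT
  choose tt htt using fun P : Place k K => P.2.2 (WithZero.exp (-1 : ℤ))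
  obtain ⟨y₁, hy₁⟩ := FF.weak_approx T tt 1
  have hy₁v : ∀ P ∈ T, P.1 y₁ = WithZero.exp (-1 : ℤ) := by
    intro P hP
    have h1 := hy₁ P hP
    have h2 : y₁ = tt P + (y₁ - tt P) := by ring
    rw [h2, Valuation.map_add_eq_of_lt_left _ (by rw [htt P]; exact h1), htt P]
  have hy₁0 : y₁ ≠ 0 := by
    intro h0
    have h1 := hy₁v P₀ hP₀
    rw [h0, map_zero] at h1
    exact WithZero.exp_ne_zero h1.symm
  obtain ⟨m, hm⟩ : ∃ m : ℕ, ∀ P ∈ T, P.1 y₀ ≤ WithZero.exp (m : ℤ) := by
    by_cases hy₀0 : y₀ = 0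
    · exact ⟨0, fun P _ => by rw [hy₀0, map_zero]; exact zero_le⟩
    · refine ⟨T.sup (fun P => (-(P.ord y₀)).toNat), fun P hP => ?_⟩
      rw [FF.val_eq_exp_neg_ord P hy₀0, WithZero.exp_le_exp]
      have h1 : (-(P.ord y₀)).toNat ≤ T.sup (fun P => (-(P.ord y₀)).toNat) :=
        Finset.le_sup (f := fun P => (-(P.ord y₀)).toNat) hP
      have h2 := Int.self_le_toNat (-(P.ord y₀))
      have h3 : ((-(P.ord y₀)).toNat : ℤ) ≤
          ((T.sup (fun P => (-(P.ord y₀)).toNat) : ℕ) : ℤ) := by exact_mod_cast h1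
      omega
  obtain ⟨z, hz⟩ : ∃ z : K, z = y₁ ^ (m + 2) * y₀ := ⟨_, rfl⟩
  have hzv : ∀ P ∈ T, P.1 z < WithZero.exp (-1 : ℤ) := by
    intro P hP
    rw [hz, map_mul, map_pow, hy₁v P hP]
    calc WithZero.exp (-1 : ℤ) ^ (m + 2) * P.1 y₀
        ≤ WithZero.exp (-1 : ℤ) ^ (m + 2) * WithZero.exp (m : ℤ) :=
          mul_le_mul' le_rfl (hm P hP)
      _ = WithZero.exp (-2 : ℤ) := by
          rw [← WithZero.exp_nsmul, ← WithZero.exp_add, WithZero.exp_inj, nsmul_eq_mul]
          push_cast; ring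
      _ < WithZero.exp (-1 : ℤ) := by rw [WithZero.exp_lt_exp]; norm_num
  haveI : Finite (IntermediateField k⟮x⟯ K) :=
    Field.finite_intermediateField_of_exists_primitive_element k⟮x⟯ K ⟨y₀, hy₀⟩
  obtain ⟨l₁, l₂, hne, heq⟩ := Finite.exists_ne_map_eq_of_infinite
    (fun l : k => IntermediateField.adjoin k⟮x⟯ ({y₁ + algebraMap k K l * z} : Set K))
  have heq' : IntermediateField.adjoin k⟮x⟯ ({y₁ + algebraMap k K l₁ * z} : Set K) =
      IntermediateField.adjoin k⟮x⟯ ({y₁ + algebraMap k K l₂ * z} : Set K) := heq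
  obtain ⟨L, hL⟩ : ∃ L : IntermediateField k⟮x⟯ K,
      L = IntermediateField.adjoin k⟮x⟯ ({y₁ + algebraMap k K l₁ * z} : Set K) := ⟨_, rfl⟩
  have h1 : y₁ + algebraMap k K l₁ * z ∈ L := by
    rw [hL]; exact IntermediateField.mem_adjoin_simple_self _ _
  have h2 : y₁ + algebraMap k K l₂ * z ∈ L := by
    rw [hL, heq']; exact IntermediateField.mem_adjoin_simple_self _ _
  have hkL : ∀ c : k, algebraMap k K c ∈ L := by
    intro c
    rw [IsScalarTower.algebraMap_apply k k⟮x⟯ K c]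
    exact L.algebraMap_mem _
  have hd : algebraMap k K (l₁ - l₂) * z ∈ L := by
    have h3 := L.sub_mem h1 h2
    have e : y₁ + algebraMap k K l₁ * z - (y₁ + algebraMap k K l₂ * z) =
        algebraMap k K (l₁ - l₂) * z := by
      rw [map_sub]; ring
    rwa [e] at h3
  have hzL : z ∈ L := by
    have h3 := L.mul_mem (hkL (l₁ - l₂)⁻¹) hd
    have e : algebraMap k K (l₁ - l₂)⁻¹ * (algebraMap k K (l₁ - l₂) * z) = z := by
      rw [← mul_assoc, ← map_mul, inv_mul_cancel₀ (sub_ne_zero.mpr hne), map_one, one_mul]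
    rwa [e] at h3
  have hy₁L : y₁ ∈ L := by
    have h3 := L.sub_mem h1 (L.mul_mem (hkL l₁) hzL)
    rwa [add_sub_cancel_right] at h3
  have hy₀L : y₀ ∈ L := by
    have h3 := L.mul_mem (L.inv_mem (pow_mem hy₁L (m + 2))) hzL
    have e : (y₁ ^ (m + 2))⁻¹ * z = y₀ := by
      rw [hz, inv_mul_cancel_left₀ (pow_ne_zero _ hy₁0)]
    rwa [e] at h3
  have hLtop : L = ⊤ := by
    rw [eq_top_iff, ← hy₀, IntermediateField.adjoin_le_iff]
    intro w hw
    rw [Set.mem_singleton_iff] at hw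
    rw [hw]; exact hy₀L
  refine ⟨y₁ + algebraMap k K l₁ * z, by rw [← hL]; exact hLtop, fun P hP => ?_⟩
  have h4 : P.1 (algebraMap k K l₁ * z) < P.1 y₁ := by
    rw [map_mul, hy₁v P hP]
    calc P.1 (algebraMap k K l₁) * P.1 z ≤ 1 * P.1 z := mul_le_mul' (P.2.1 l₁) le_rfl
      _ = P.1 z := one_mul _
      _ < WithZero.exp (-1 : ℤ) := hzv P hP
  rw [Valuation.map_add_eq_of_lt_left _ h4, hy₁v P hP]

theorem s11051 [IsAlgClosed k] (hK : IsFunctionField k K) (x : K)
    (hsep : Algebra.IsSeparable k⟮x⟯ K) :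
    ∃ y : K, IntermediateField.adjoin k ({x, y} : Set K) = ⊤ ∧
      ∀ P : Place k K, ∃ f ∈ Submodule.span k ({1, x, y} : Set K),
        P.1 f = WithZero.exp (-1 : ℤ) := by
  classical
  have htr := transcendental_of_isSeparable hK x hsep
  haveI := FF.finiteDimensional_adjoin hK htr
  have hK₀ : IsFunctionField k k⟮x⟯ :=
    FF.isFunctionField_intermediateField hK k⟮x⟯
      ⟨x, IntermediateField.mem_adjoin_simple_self k x, htr⟩
  have hram := FG.finite_ramified (k := k) (K := k⟮x⟯) (K' := K) hK₀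
  have hpole : {P : Place k K | 1 < P.1 x}.Finite := by
    apply (FF.finite_support_ord hK x).subset
    intro P hP
    rw [Function.mem_support]
    have hs0 : x ≠ 0 := by
      rintro rfl
      rw [Set.mem_setOf_eq, map_zero] at hP
      exact not_lt_zero hP
    have := (FF.ord_neg_iff P hs0).mpr hP
    omega
  obtain ⟨T, hT⟩ : ∃ T : Finset (Place k K), T = (hpole.union hram).toFinset := ⟨_, rfl⟩
  obtain ⟨y, hy, hyT⟩ := exists_primitive_uniformizing x T
  refine ⟨y, ?_, fun P => ?_⟩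
  · have h1 := IntermediateField.adjoin_adjoin_left (F := k) (S := ({x} : Set K)) ({y} : Set K)
    rw [hy, Set.singleton_union] at h1
    rw [← h1, IntermediateField.restrictScalars_top]
  · by_cases hPT : P ∈ T
    · exact ⟨y, Submodule.subset_span (by simp), hyT P hPT⟩
    · rw [hT, Set.Finite.mem_toFinset, Set.mem_union, not_or] at hPT
      obtain ⟨hP1, hP2⟩ := hPT
      rw [Set.mem_setOf_eq, not_lt] at hP1
      rw [Set.mem_setOf_eq, not_not] at hP2
      obtain ⟨w, hw⟩ := hP2 (WithZero.exp (-1 : ℤ))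
      obtain ⟨a, ha⟩ := FF.exists_const_of_deg_one P (FF.deg_eq_one_of_isAlgClosed hK P) hP1
      refine ⟨x - algebraMap k K a, ?_, val_eq_of_unramified P htr ha w hw⟩
      rw [Algebra.algebraMap_eq_smul_one]
      exact Submodule.sub_mem _ (Submodule.subset_span (by simp))
        (Submodule.smul_mem _ _ (Submodule.subset_span (by simp)))

end Groth.Agent.Helper6.UnifGen
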