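import Mathlib
import Groth.Prelude.Def_FlatCA
import Groth.Agent.Helper7.Kap5

set_option autoImplicit false
set_option linter.style.haveILetI false
set_option linter.unusedSectionVars false

/-!
# Universal injectivity of maps out of free modules over a local ring

If `R` is local, `N` is a free `R`-module, `M` a flat `R`-module and `u : N → M` is injective modulo
the maximal ideal, then `u` is universally injective.
-/

open TensorProduct IsLocalRing Function

namespace Groth.Agent.Helper6.UnivInjFree

universe u

section UI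

variable {R : Type u} [CommRing R] [IsLocalRing R]
variable {N M : Type u} [AddCommGroup N] [Module R N] [Module.Free R N] [AddCommGroup M]
  [Module R M] [Module.Flat R M]

theorem lTensor_injective_of_free_flat (u : N →ₗ[R] M)
    (hu : Injective (u.lTensor (ResidueField R)))
    (Q : Type u) [AddCommGroup Q] [Module R Q] : Injective (u.lTensor Q) := by
  classical
  rw [injective_iff_map_eq_zero]
  intro x hx
  let b := Module.Free.chooseBasis R N
  let e := TensorProduct.equivFinsuppOfBasisRight (M := Q) b
  obtain ⟨ξ, hξ⟩ : ∃ ξ, ξ = e x := ⟨_, rfl⟩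
  have hxsum : x = ∑ i : ξ.support, ξ i ⊗ₜ[R] b i := by
    have h0 : x = e.symm ξ := by rw [hξ, LinearEquiv.symm_apply_apply]
    rw [h0, TensorProduct.equivFinsuppOfBasisRight_symm_apply, Finsupp.sum,
      ← Finset.sum_coe_sort]
  have hrel : ∑ i : ξ.support, ξ i ⊗ₜ[R] u (b i) = 0 := by
    rw [← hx, hxsum, map_sum]
    simp only [LinearMap.lTensor_tmul]
  have hflat : Injective (LinearMap.rTensor M
      (Submodule.span R (Set.range fun i : ξ.support => ξ i)).subtype) :=
    Module.Flat.rTensor_preserves_injective_linearMap _ Subtype.val_injective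
  obtain ⟨k, a, y, hay, ham⟩ :=
    TensorProduct.vanishesTrivially_of_sum_tmul_eq_zero_of_rTensor_injective R hflat hrel
  obtain ⟨β, hβ⟩ : ∃ β : (ξ.support → R) →ₗ[R] N,
      β = Fintype.linearCombination R (fun i : ξ.support => b i) := ⟨_, rfl⟩
  obtain ⟨α, hα⟩ : ∃ α : (ξ.support → R) →ₗ[R] (Fin k → R),
      α = Fintype.linearCombination R (fun i : ξ.support => a i) := ⟨_, rfl⟩
  obtain ⟨Y, hY⟩ : ∃ Y : (Fin k → R) →ₗ[R] M, Y = Fintype.linearCombination R y := ⟨_, rfl⟩
  have hβs : ∀ i : ξ.support, β (Pi.single i 1) = b i := fun i => by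
    rw [hβ, Fintype.linearCombination_apply_single, one_smul]
  have hαs : ∀ i : ξ.support, α (Pi.single i 1) = a i := fun i => by
    rw [hα, Fintype.linearCombination_apply_single, one_smul]
  have hfac : u ∘ₗ β = Y ∘ₗ α := by
    refine LinearMap.pi_ext fun i r => ?_
    have hs : (Pi.single i r : ξ.support → R) = r • Pi.single i 1 := by
      rw [← Pi.single_smul, smul_eq_mul, mul_one]
    rw [hs, map_smul, map_smul]
    congr 1
    show u (β (Pi.single i 1)) = Y (α (Pi.single i 1))
    rw [hβs, hαs, hY, Fintype.linearCombination_apply]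
    exact hay i
  obtain ⟨β', hβ'⟩ : ∃ β' : N →ₗ[R] (ξ.support → R),
      β' = LinearMap.pi (fun i : ξ.support => b.coord i) := ⟨_, rfl⟩
  have hββ : β' ∘ₗ β = LinearMap.id := by
    refine LinearMap.pi_ext fun i r => ?_
    have hs : (Pi.single i r : ξ.support → R) = r • Pi.single i 1 := by
      rw [← Pi.single_smul, smul_eq_mul, mul_one]
    rw [hs, map_smul, map_smul]
    congr 1
    show β' (β (Pi.single i 1)) = Pi.single i 1
    rw [hβs, hβ']
    funext j
    show b.coord j (b i) = (Pi.single i 1 : ξ.support → R) j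
    rw [Module.Basis.coord_apply, Module.Basis.repr_self, Finsupp.single_apply, Pi.single_apply]
    by_cases hij : i = j
    · subst hij; simp
    · rw [if_neg (fun h => hij (Subtype.ext h)), if_neg (fun h => hij h.symm)]
  have hβinj : Injective (β.lTensor (ResidueField R)) := by
    have h : (β'.lTensor (ResidueField R)) ∘ₗ (β.lTensor (ResidueField R)) = LinearMap.id := by
      rw [← LinearMap.lTensor_comp, hββ, LinearMap.lTensor_id]
    exact Function.HasLeftInverse.injective ⟨_, LinearMap.congr_fun h⟩
  have h1 : Injective ((Y ∘ₗ α).lTensor (ResidueField R)) := by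
    rw [← hfac, LinearMap.lTensor_comp, LinearMap.coe_comp]
    exact hu.comp hβinj
  rw [LinearMap.lTensor_comp, LinearMap.coe_comp] at h1
  have h2 : Injective (α.lTensor (ResidueField R)) := Function.Injective.of_comp h1
  obtain ⟨α', hα'⟩ := (IsLocalRing.split_injective_iff_lTensor_residueField_injective α).mpr h2
  obtain ⟨ξJ, hξJ⟩ : ∃ ξJ : Q ⊗[R] (ξ.support → R),
      ξJ = ∑ i : ξ.support, ξ i ⊗ₜ[R] Pi.single i 1 := ⟨_, rfl⟩
  have hβξ : (β.lTensor Q) ξJ = x := by
    rw [hξJ, hxsum, map_sum]
    simp only [LinearMap.lTensor_tmul, hβs]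
  have hαξ : (α.lTensor Q) ξJ = 0 := by
    apply (TensorProduct.piScalarRight R R Q (Fin k)).injective
    rw [map_zero, hξJ, map_sum, map_sum]
    funext j
    simp only [LinearMap.lTensor_tmul, hαs, TensorProduct.piScalarRight_apply,
      TensorProduct.piScalarRightHom_tmul, Finset.sum_apply, Pi.zero_apply]
    exact ham j
  have hzero : ξJ = 0 := by
    have h : (α'.lTensor Q) ((α.lTensor Q) ξJ) = ξJ := by
      rw [← LinearMap.comp_apply, ← LinearMap.lTensor_comp, hα', LinearMap.lTensor_id]
      rfl
    rw [← h, hαξ, map_zero]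
  rw [← hβξ, hzero, map_zero]

end UI

section bridge

variable {R S : Type u} [CommRing R] [IsLocalRing R] [CommRing S] [Algebra R S]
  (N : Type u) [AddCommGroup N] [Module S N] [Module R N] [IsScalarTower R S N]

attribute [local instance] Algebra.TensorProduct.rightAlgebra

/-- the fibre module over the closed point is `N ⊗[R] κ(𝔪)` -/
noncomputable def fiberEquiv : FlatCA.fiberMod (maximalIdeal R) S N ≃ₗ[S]
    N ⊗[R] (maximalIdeal R).ResidueField :=
  let e1 : ((maximalIdeal R).ResidueField ⊗[R] S) ≃ₗ[S]
      (S ⊗[R] (maximalIdeal R).ResidueField) :=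
    (Algebra.TensorProduct.commRight R S (maximalIdeal R).ResidueField).symm.toLinearEquiv
  let e2 : ((maximalIdeal R).ResidueField ⊗[R] S) ⊗[S] N ≃ₗ[S]
      (S ⊗[R] (maximalIdeal R).ResidueField) ⊗[S] N :=
    TensorProduct.congr e1 (LinearEquiv.refl S N)
  let e3 : (S ⊗[R] (maximalIdeal R).ResidueField) ⊗[S] N ≃ₗ[S]
      N ⊗[S] (S ⊗[R] (maximalIdeal R).ResidueField) :=
    TensorProduct.comm S (S ⊗[R] (maximalIdeal R).ResidueField) N
  let e4 : N ⊗[S] (S ⊗[R] (maximalIdeal R).ResidueField) ≃ₗ[S]
      N ⊗[R] (maximalIdeal R).ResidueField :=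
    TensorProduct.AlgebraTensorModule.cancelBaseChange R S S N (maximalIdeal R).ResidueField
  e2 ≪≫ₗ e3 ≪≫ₗ e4

variable {N}

lemma rTensor_lsmul_apply (s : S) (Q : Type u) [AddCommGroup Q] [Module R Q] (z : N ⊗[R] Q) :
    ((LinearMap.lsmul S N s).restrictScalars R).rTensor Q z = s • z := by
  induction z using TensorProduct.induction_on with
  | zero => simp
  | tmul n c =>
    rw [LinearMap.rTensor_tmul, TensorProduct.smul_tmul']
    rfl
  | add x y hx hy => rw [map_add, hx, hy, smul_add]

lemma rTensor_injective_of_mem (s : S) (hs : s ∈ FlatCA.nzdFiber R S N) :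
    Injective (((LinearMap.lsmul S N s).restrictScalars R).rTensor
      (maximalIdeal R).ResidueField) := by
  rw [injective_iff_map_eq_zero]
  intro z hz
  rw [rTensor_lsmul_apply] at hz
  have h2 : s • (fiberEquiv (R := R) (S := S) N).symm z = 0 := by rw [← map_smul, hz, map_zero]
  have h3 := (mem_nonZeroSMulDivisors_iff.mp hs) _ h2
  exact (fiberEquiv (R := R) (S := S) N).symm.injective (by rw [h3, map_zero])

lemma lTensor_residueField_injective (u : N →ₗ[R] N)
    (h : Injective (u.rTensor (maximalIdeal R).ResidueField)) :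
    Injective (u.lTensor (ResidueField R)) := by
  have h' : Injective (u.lTensor (maximalIdeal R).ResidueField) :=
    (LinearMap.lTensor_inj_iff_rTensor_inj _ _).mpr h
  let e : ResidueField R ≃ₗ[R] (maximalIdeal R).ResidueField :=
    LinearEquiv.ofBijective
      ((Algebra.linearMap (R ⧸ maximalIdeal R) (maximalIdeal R).ResidueField).restrictScalars R)
      (Ideal.bijective_algebraMap_quotient_residueField _)
  let E := TensorProduct.congr e (LinearEquiv.refl R N)
  have hcomm : ∀ z, E (u.lTensor _ z) = u.lTensor _ (E z) := by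
    intro z
    induction z using TensorProduct.induction_on with
    | zero => simp
    | tmul c n => simp [E]
    | add x y hx hy => rw [map_add, map_add, hx, hy, map_add, map_add]
  intro z1 z2 hz
  apply E.injective
  apply h'
  rw [← hcomm, ← hcomm, hz]

theorem main [Module.Projective R N] :
    (∀ s ∈ FlatCA.nzdFiber R S N,
      FlatCA.UnivInj R ((LinearMap.lsmul S N s).restrictScalars R)) ∧
    FlatCA.UnivInj R
      ((LocalizedModule.mkLinearMap (FlatCA.nzdFiber R S N) N).restrictScalars R) := by
  haveI : Module.Free R N := Groth.Agent.Helper7.Kap.result0582 R N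
  have part1 : ∀ s ∈ FlatCA.nzdFiber R S N,
      FlatCA.UnivInj R ((LinearMap.lsmul S N s).restrictScalars R) := by
    intro s hs Q _ _
    exact lTensor_injective_of_free_flat _
      (lTensor_residueField_injective _ (rTensor_injective_of_mem s hs)) Q
  refine ⟨part1, ?_⟩
  intro Q _ _
  rw [LinearMap.lTensor_inj_iff_rTensor_inj, injective_iff_map_eq_zero]
  intro x hx
  have hx' : TensorProduct.AlgebraTensorModule.rTensor R Q
      (LocalizedModule.mkLinearMap (FlatCA.nzdFiber R S N) N) x = 0 := by
    rw [← hx]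
    clear hx
    induction x using TensorProduct.induction_on with
    | zero => simp
    | tmul n c => rfl
    | add x y hx hy => rw [map_add, map_add, hx, hy]
  obtain ⟨c, hc⟩ := (IsLocalizedModule.eq_zero_iff (FlatCA.nzdFiber R S N)
    (TensorProduct.AlgebraTensorModule.rTensor R Q
      (LocalizedModule.mkLinearMap (FlatCA.nzdFiber R S N) N))).mp hx'
  have hinj := (LinearMap.lTensor_inj_iff_rTensor_inj _ _).mp (part1 c.1 c.2 Q)
  apply hinj
  rw [map_zero, rTensor_lsmul_apply]
  exact hc

end bridge

end Groth.Agent.Helper6.UnivInjFree
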