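import Mathlib
import Groth.Prelude.Def_W4stkalgstUpp

/-!
# Helper6: the class `uppR` of `u_pp 𝒮` has a right calculus of fractions
-/

set_option autoImplicit false
set_option linter.style.haveILetI false
set_option linter.unusedVariables false
universe v₃ u₃ v₂ u₂ v u

namespace Groth.Agent.Helper6.UppFrac
open CategoryTheory Limits Stk Functor

variable {C : Type u} [Category.{v} C] {D : Type u₂} [Category.{v₂} D] (u : C ⥤ D)
  (𝒮 : BasedCategory.{v₃, u₃} C)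

/-- a strongly cartesian morphism is strongly cartesian over its image -/
theorem sc_map {𝒳 : Type u₃} [Category.{v₃} 𝒳] (p : 𝒳 ⥤ C) {R S : C} (f : R ⟶ S) {a b : 𝒳}
    (φ : a ⟶ b) [hφ : p.IsStronglyCartesian f φ] : p.IsStronglyCartesian (p.map φ) φ := by
  subst_hom_lift p f φ
  exact hφ

instance uppR_mult : (uppR u 𝒮).IsMultiplicative where
  id_mem X := by
    refine ⟨?_, ?_⟩
    · change 𝒮.p.IsStronglyCartesian (𝒮.p.map (𝟙 X.x)) (𝟙 X.x)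
      infer_instance
    · change IsIso (𝟙 X.V)
      infer_instance
  comp_mem f g hf hg := by
    obtain ⟨hf1, hf2⟩ := hf
    obtain ⟨hg1, hg2⟩ := hg
    refine ⟨?_, ?_⟩
    · change 𝒮.p.IsStronglyCartesian (𝒮.p.map (f.top ≫ g.top)) (f.top ≫ g.top)
      rw [CategoryTheory.Functor.map_comp]
      infer_instance
    · change IsIso (f.bot ≫ g.bot)
      infer_instance

theorem ore [𝒮.p.IsFibered] [HasPullbacks C] [PreservesLimitsOfShape WalkingCospan u]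
    {X Y Y' : UppObj u 𝒮} (f : X ⟶ Y') (s : Y ⟶ Y') (hs : uppR u 𝒮 s) :
    ∃ (X' : UppObj u 𝒮) (s' : X' ⟶ X) (f' : X' ⟶ Y), uppR u 𝒮 s' ∧ s' ≫ f = f' ≫ s := by
  obtain ⟨hs1, hs2⟩ := hs
  obtain ⟨x', c, hc⟩ := Functor.IsPreFibered.exists_isCartesian' (p := 𝒮.p) (a := X.x)
    (pullback.fst (𝒮.p.map f.top) (𝒮.p.map s.top))
  haveI := hc
  haveI hsc : 𝒮.p.IsStronglyCartesian (pullback.fst (𝒮.p.map f.top) (𝒮.p.map s.top)) c :=
    inferInstance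
  have hx' : 𝒮.p.obj x' = pullback (𝒮.p.map f.top) (𝒮.p.map s.top) :=
    IsHomLift.domain_eq 𝒮.p (pullback.fst (𝒮.p.map f.top) (𝒮.p.map s.top)) c
  haveI hlift : 𝒮.p.IsHomLift
      (pullback.snd (𝒮.p.map f.top) (𝒮.p.map s.top) ≫ 𝒮.p.map s.top) (c ≫ f.top) := by
    rw [← pullback.condition]
    infer_instance
  obtain ⟨t, ⟨ht1, ht2⟩, -⟩ := IsStronglyCartesian.universal_property 𝒮.p (𝒮.p.map s.top) s.top
    (pullback.snd (𝒮.p.map f.top) (𝒮.p.map s.top))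
    (pullback.snd (𝒮.p.map f.top) (𝒮.p.map s.top) ≫ 𝒮.p.map s.top) rfl (c ≫ f.top)
  haveI := hs2
  have hq : X.φ ≫ u.map (𝒮.p.map f.top) =
      (f.bot ≫ inv s.bot ≫ Y.φ) ≫ u.map (𝒮.p.map s.top) := by
    have h1 := f.w
    have h2 := s.w
    rw [Category.assoc, Category.assoc, h2, IsIso.inv_hom_id_assoc]
    exact h1
  obtain ⟨φP, hφ1', hφ2'⟩ : ∃ φP : X.V ⟶ u.obj (pullback (𝒮.p.map f.top) (𝒮.p.map s.top)),
      φP ≫ u.map (pullback.fst (𝒮.p.map f.top) (𝒮.p.map s.top)) = X.φ ∧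
      φP ≫ u.map (pullback.snd (𝒮.p.map f.top) (𝒮.p.map s.top)) =
        f.bot ≫ inv s.bot ≫ Y.φ := by
    obtain ⟨l, h1, h2⟩ := PullbackCone.IsLimit.lift'
      (isLimitOfHasPullbackOfPreservesLimit u (𝒮.p.map f.top) (𝒮.p.map s.top)) X.φ
      (f.bot ≫ inv s.bot ≫ Y.φ) hq
    exact ⟨l, h1, h2⟩
  have e1 : eqToHom hx'.symm ≫ 𝒮.p.map c = pullback.fst (𝒮.p.map f.top) (𝒮.p.map s.top) := by
    rw [IsHomLift.fac' 𝒮.p (pullback.fst (𝒮.p.map f.top) (𝒮.p.map s.top)) c]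
    simp
  have e2 : eqToHom hx'.symm ≫ 𝒮.p.map t = pullback.snd (𝒮.p.map f.top) (𝒮.p.map s.top) := by
    rw [@IsHomLift.fac' _ _ _ _ 𝒮.p _ _ _ _ (pullback.snd (𝒮.p.map f.top) (𝒮.p.map s.top)) t ht1]
    simp
  let X' : UppObj u 𝒮 := ⟨x', X.V, φP ≫ u.map (eqToHom hx'.symm)⟩
  let s' : X' ⟶ X := ⟨c, 𝟙 X.V, by
    change (φP ≫ u.map (eqToHom hx'.symm)) ≫ u.map (𝒮.p.map c) = 𝟙 X.V ≫ X.φ
    rw [Category.assoc, ← u.map_comp, e1, hφ1', Category.id_comp]⟩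
  let f' : X' ⟶ Y := ⟨t, f.bot ≫ inv s.bot, by
    change (φP ≫ u.map (eqToHom hx'.symm)) ≫ u.map (𝒮.p.map t) = (f.bot ≫ inv s.bot) ≫ Y.φ
    rw [Category.assoc, ← u.map_comp, e2, hφ2', Category.assoc]⟩
  refine ⟨X', s', f', ⟨?_, ?_⟩, ?_⟩
  · change 𝒮.p.IsStronglyCartesian (𝒮.p.map c) c
    exact sc_map 𝒮.p (pullback.fst (𝒮.p.map f.top) (𝒮.p.map s.top)) c
  · change IsIso (𝟙 X.V)
    infer_instance
  · apply UppObj.hom_ext
    · change c ≫ f.top = t ≫ s.top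
      exact ht2.symm
    · change 𝟙 X.V ≫ f.bot = (f.bot ≫ inv s.bot) ≫ s.bot
      rw [Category.id_comp, Category.assoc, IsIso.inv_hom_id, Category.comp_id]

theorem ext' [𝒮.p.IsFibered] [HasEqualizers C] [PreservesLimitsOfShape WalkingParallelPair u]
    {X Y Y' : UppObj u 𝒮} (f₁ f₂ : X ⟶ Y) (s : Y ⟶ Y') (hs : uppR u 𝒮 s)
    (h : f₁ ≫ s = f₂ ≫ s) :
    ∃ (X' : UppObj u 𝒮) (t : X' ⟶ X), uppR u 𝒮 t ∧ t ≫ f₁ = t ≫ f₂ := by
  obtain ⟨hs1, hs2⟩ := hs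
  haveI := hs2
  have htop : f₁.top ≫ s.top = f₂.top ≫ s.top := congrArg UppObj.Hom.top h
  have hbot : f₁.bot = f₂.bot := by
    have : f₁.bot ≫ s.bot = f₂.bot ≫ s.bot := congrArg UppObj.Hom.bot h
    exact (cancel_mono s.bot).1 this
  obtain ⟨x', c, hc⟩ := Functor.IsPreFibered.exists_isCartesian' (p := 𝒮.p) (a := X.x)
    (equalizer.ι (𝒮.p.map f₁.top) (𝒮.p.map f₂.top))
  haveI := hc
  haveI hsc : 𝒮.p.IsStronglyCartesian (equalizer.ι (𝒮.p.map f₁.top) (𝒮.p.map f₂.top)) c :=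
    inferInstance
  have hx' : 𝒮.p.obj x' = equalizer (𝒮.p.map f₁.top) (𝒮.p.map f₂.top) :=
    IsHomLift.domain_eq 𝒮.p (equalizer.ι (𝒮.p.map f₁.top) (𝒮.p.map f₂.top)) c
  haveI hl1 : 𝒮.p.IsHomLift
      (equalizer.ι (𝒮.p.map f₁.top) (𝒮.p.map f₂.top) ≫ 𝒮.p.map f₁.top) (c ≫ f₁.top) :=
    inferInstance
  haveI hl2 : 𝒮.p.IsHomLift
      (equalizer.ι (𝒮.p.map f₁.top) (𝒮.p.map f₂.top) ≫ 𝒮.p.map f₁.top) (c ≫ f₂.top) := by
    rw [equalizer.condition]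
    infer_instance
  have hctop : c ≫ f₁.top = c ≫ f₂.top := by
    refine IsStronglyCartesian.ext 𝒮.p (𝒮.p.map s.top) s.top
      (equalizer.ι (𝒮.p.map f₁.top) (𝒮.p.map f₂.top) ≫ 𝒮.p.map f₁.top) ?_
    rw [Category.assoc, Category.assoc, htop]
  have hq : X.φ ≫ u.map (𝒮.p.map f₁.top) = X.φ ≫ u.map (𝒮.p.map f₂.top) := by
    rw [f₁.w, f₂.w, hbot]
  obtain ⟨φE, hφ'⟩ : ∃ φE : X.V ⟶ u.obj (equalizer (𝒮.p.map f₁.top) (𝒮.p.map f₂.top)),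
      φE ≫ u.map (equalizer.ι (𝒮.p.map f₁.top) (𝒮.p.map f₂.top)) = X.φ := by
    obtain ⟨l, h1⟩ := Fork.IsLimit.lift'
      (isLimitOfHasEqualizerOfPreservesLimit u (𝒮.p.map f₁.top) (𝒮.p.map f₂.top)) X.φ hq
    exact ⟨l, h1⟩
  have e1 : eqToHom hx'.symm ≫ 𝒮.p.map c = equalizer.ι (𝒮.p.map f₁.top) (𝒮.p.map f₂.top) := by
    rw [IsHomLift.fac' 𝒮.p (equalizer.ι (𝒮.p.map f₁.top) (𝒮.p.map f₂.top)) c]
    simp
  let X' : UppObj u 𝒮 := ⟨x', X.V, φE ≫ u.map (eqToHom hx'.symm)⟩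
  let t : X' ⟶ X := ⟨c, 𝟙 X.V, by
    change (φE ≫ u.map (eqToHom hx'.symm)) ≫ u.map (𝒮.p.map c) = 𝟙 X.V ≫ X.φ
    rw [Category.assoc, ← u.map_comp, e1, hφ', Category.id_comp]⟩
  refine ⟨X', t, ⟨?_, ?_⟩, ?_⟩
  · change 𝒮.p.IsStronglyCartesian (𝒮.p.map c) c
    exact sc_map 𝒮.p (equalizer.ι (𝒮.p.map f₁.top) (𝒮.p.map f₂.top)) c
  · change IsIso (𝟙 X.V)
    infer_instance
  · apply UppObj.hom_ext
    · exact hctop
    · change 𝟙 X.V ≫ f₁.bot = 𝟙 X.V ≫ f₂.bot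
      rw [hbot]

theorem hasRCF [𝒮.p.IsFibered]
    (hC : ∀ (I : Type) [SmallCategory I] [FinCategory I], Nonempty I → HasLimitsOfShape I C)
    (hu : ∀ (I : Type) [SmallCategory I] [FinCategory I], Nonempty I →
      PreservesLimitsOfShape I u) :
    (uppR u 𝒮).HasRightCalculusOfFractions := by
  haveI : HasPullbacks C := hC WalkingCospan ⟨WalkingCospan.one⟩
  haveI : HasEqualizers C := hC WalkingParallelPair ⟨WalkingParallelPair.zero⟩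
  haveI : PreservesLimitsOfShape WalkingCospan u := hu WalkingCospan ⟨WalkingCospan.one⟩
  haveI : PreservesLimitsOfShape WalkingParallelPair u :=
    hu WalkingParallelPair ⟨WalkingParallelPair.zero⟩
  exact
    { toIsMultiplicative := uppR_mult u 𝒮
      exists_rightFraction := fun X Y φ => by
        obtain ⟨X', s', f', hs', e⟩ := ore u 𝒮 φ.f φ.s φ.hs
        exact ⟨⟨s', hs', f'⟩, e⟩
      ext := fun X Y Y' f₁ f₂ s hs h => by
        obtain ⟨X', t, ht, e⟩ := ext' u 𝒮 f₁ f₂ s hs h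
        exact ⟨X', t, ht, e⟩ }

end Groth.Agent.Helper6.UppFrac
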