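import Mathlib
import Groth.Agent.Helper6.UppFrac
import Groth.Agent.Helper3.FibGrpd

/-!
# Helper6: the localised category `u_p 𝒮` is fibred over `D`
-/

set_option autoImplicit false
set_option linter.style.haveILetI false
set_option linter.unusedVariables false
universe v₃ u₃ v₂ u₂ v u w₁ w₂ w₃ w₄

namespace Groth.Agent.Helper6.UppFrac
open CategoryTheory Limits Stk Functor

theorem homlift_of_eq {𝒳 : Type w₁} [Category.{w₂} 𝒳] {ℬ : Type w₃} [Category.{w₄} ℬ]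
    (p : 𝒳 ⥤ ℬ) {a b : 𝒳} (f : p.obj a ⟶ p.obj b) (φ : a ⟶ b) (h : p.map φ = f) :
    p.IsHomLift f φ := by
  subst h
  infer_instance

theorem sc_map' {𝒳 : Type w₁} [Category.{w₂} 𝒳] {ℬ : Type w₃} [Category.{w₄} ℬ]
    (p : 𝒳 ⥤ ℬ) {R S : ℬ} (f : R ⟶ S) {a b : 𝒳}
    (φ : a ⟶ b) [hφ : p.IsStronglyCartesian f φ] : p.IsStronglyCartesian (p.map φ) φ := by
  subst_hom_lift p f φ
  exact hφ

theorem sc_comp3 {𝒳 : Type w₁} [Category.{w₂} 𝒳] {ℬ : Type w₃} [Category.{w₄} ℬ]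
    (p : 𝒳 ⥤ ℬ) {a b c d : 𝒳} (α : a ⟶ b) (β : b ⟶ c) (γ : c ⟶ d) [IsIso α] [IsIso β]
    [p.IsStronglyCartesian (p.map γ) γ] :
    p.IsStronglyCartesian (p.map (α ≫ β ≫ γ)) (α ≫ β ≫ γ) := by
  rw [CategoryTheory.Functor.map_comp, CategoryTheory.Functor.map_comp]
  infer_instance

variable {C : Type u} [Category.{v} C] {D : Type u₂} [Category.{v₂} D] (u : C ⥤ D)
  (𝒮 : BasedCategory.{v₃, u₃} C)

/-- the structure functor of `up` -/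
noncomputable abbrev pbar : (uppR u 𝒮).Localization ⥤ D :=
  Localization.Construction.lift (UppObj.forget u 𝒮) (uppR_isInvertedBy u 𝒮)

theorem up_p : (Stk.up u 𝒮).p = pbar u 𝒮 := rfl

theorem pbar_map_Q {X Y : UppObj u 𝒮} (f : X ⟶ Y) :
    (pbar u 𝒮).map ((uppR u 𝒮).Q.map f) = f.bot := by
  have h := Functor.congr_hom
    (Localization.Construction.fac (UppObj.forget u 𝒮) (uppR_isInvertedBy u 𝒮)) f
  refine h.trans ?_
  change 𝟙 X.V ≫ f.bot ≫ 𝟙 Y.V = f.bot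
  simp

variable {u 𝒮}

/-- the base-changed object -/
abbrev Yg (Y : UppObj u 𝒮) {V : D} (g : V ⟶ Y.V) : UppObj u 𝒮 := ⟨Y.x, V, g ≫ Y.φ⟩

/-- the candidate cartesian lift -/
def γ₀ (Y : UppObj u 𝒮) {V : D} (g : V ⟶ Y.V) : Yg Y g ⟶ Y := ⟨𝟙 Y.x, g, by
  change (g ≫ Y.φ) ≫ u.map (𝒮.p.map (𝟙 Y.x)) = g ≫ Y.φ
  rw [CategoryTheory.Functor.map_id, CategoryTheory.Functor.map_id, Category.comp_id]⟩

theorem pbar_map_frac {X Y : UppObj u 𝒮} (φ : (uppR u 𝒮).RightFraction X Y) :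
    φ.s.bot ≫ (pbar u 𝒮).map (φ.map (uppR u 𝒮).Q (Localization.inverts _ _)) = φ.f.bot := by
  have h2 : (pbar u 𝒮).map ((uppR u 𝒮).Q.map φ.s) ≫
      (pbar u 𝒮).map (φ.map (uppR u 𝒮).Q (Localization.inverts _ _)) =
      (pbar u 𝒮).map ((uppR u 𝒮).Q.map φ.f) := by
    rw [← CategoryTheory.Functor.map_comp, MorphismProperty.RightFraction.map_s_comp_map]
  have e1 := pbar_map_Q u 𝒮 φ.s
  have e2 := pbar_map_Q u 𝒮 φ.f
  exact (congrArg (fun z => z ≫ (pbar u 𝒮).map (φ.map (uppR u 𝒮).Q (Localization.inverts _ _)))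
    e1).symm.trans (h2.trans e2)

theorem frac_comp_map {X Y Y' Z : UppObj u 𝒮} (s : Z ⟶ X) (hs : uppR u 𝒮 s) (f : Z ⟶ Y)
    (k : Y ⟶ Y') :
    (MorphismProperty.RightFraction.mk s hs f).map (uppR u 𝒮).Q (Localization.inverts _ _) ≫
      (uppR u 𝒮).Q.map k =
    (MorphismProperty.RightFraction.mk s hs (f ≫ k)).map (uppR u 𝒮).Q
      (Localization.inverts _ _) := by
  simp [MorphismProperty.RightFraction.map]

section

variable [hW : (uppR u 𝒮).HasRightCalculusOfFractions]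

theorem lift_univ (X' Y : UppObj u 𝒮) {V : D} (g : V ⟶ Y.V) (h : X'.V ⟶ V)
    (m : (uppR u 𝒮).Q.obj X' ⟶ (uppR u 𝒮).Q.obj Y) (hm : (pbar u 𝒮).map m = h ≫ g) :
    ∃! χ : (uppR u 𝒮).Q.obj X' ⟶ (uppR u 𝒮).Q.obj (Yg Y g),
      (pbar u 𝒮).map χ = h ∧ χ ≫ (uppR u 𝒮).Q.map (γ₀ Y g) = m := by
  obtain ⟨φ, rfl⟩ := Localization.exists_rightFraction (uppR u 𝒮).Q (uppR u 𝒮) m
  obtain ⟨Z, s, hs, f, rfl⟩ := φ.cases
  haveI : IsIso s.bot := hs.2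
  have e0 : f.bot = s.bot ≫ h ≫ g := by
    have := pbar_map_frac (MorphismProperty.RightFraction.mk s hs f)
    rw [hm] at this
    exact this.symm
  let f' : Z ⟶ Yg Y g := ⟨f.top, s.bot ≫ h, by
    change Z.φ ≫ u.map (𝒮.p.map f.top) = (s.bot ≫ h) ≫ g ≫ Y.φ
    rw [f.w, e0]
    simp only [Category.assoc]⟩
  have hf' : f' ≫ γ₀ Y g = f := by
    apply UppObj.hom_ext
    · change f.top ≫ 𝟙 _ = f.top
      rw [Category.comp_id]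
    · change (s.bot ≫ h) ≫ g = f.bot
      rw [e0, Category.assoc]
  refine ⟨(MorphismProperty.RightFraction.mk s hs f').map (uppR u 𝒮).Q
    (Localization.inverts _ _), ⟨?_, ?_⟩, ?_⟩
  · have := pbar_map_frac (MorphismProperty.RightFraction.mk s hs f')
    exact (cancel_epi s.bot).1 this
  · rw [frac_comp_map, hf']
  · rintro χ' ⟨h1, h2⟩
    obtain ⟨ψ, rfl⟩ := Localization.exists_rightFraction (uppR u 𝒮).Q (uppR u 𝒮) χ'
    obtain ⟨Z₂, s₂, hs₂, f₂, rfl⟩ := ψ.cases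
    haveI : IsIso s₂.bot := hs₂.2
    rw [frac_comp_map] at h2
    have rel := (MorphismProperty.RightFraction.map_eq_iff (uppR u 𝒮).Q (uppR u 𝒮) _ _).1 h2
    refine (MorphismProperty.RightFraction.map_eq_iff (uppR u 𝒮).Q (uppR u 𝒮) _ _).2 ?_
    obtain ⟨Z', t₁, t₂, hst, hft, ht⟩ := rel
    have e2 : f₂.bot = s₂.bot ≫ h := by
      have := pbar_map_frac (MorphismProperty.RightFraction.mk s₂ hs₂ f₂)
      rw [h1] at this
      exact this.symm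
    refine ⟨Z', t₁, t₂, hst, ?_, ht⟩
    apply UppObj.hom_ext
    · have := congrArg UppObj.Hom.top hft
      change t₁.top ≫ f₂.top ≫ 𝟙 _ = t₂.top ≫ f.top at this
      rw [Category.comp_id] at this
      exact this
    · change t₁.bot ≫ f₂.bot = t₂.bot ≫ s.bot ≫ h
      have hb : t₁.bot ≫ s₂.bot = t₂.bot ≫ s.bot := congrArg UppObj.Hom.bot hst
      calc t₁.bot ≫ f₂.bot = t₁.bot ≫ s₂.bot ≫ h := by rw [e2]
        _ = (t₁.bot ≫ s₂.bot) ≫ h := (Category.assoc _ _ _).symm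
        _ = (t₂.bot ≫ s.bot) ≫ h := by rw [hb]
        _ = t₂.bot ≫ s.bot ≫ h := Category.assoc _ _ _

theorem isSC_lift (Y : UppObj u 𝒮) {V : D} (g : V ⟶ Y.V) :
    (pbar u 𝒮).IsStronglyCartesian g ((uppR u 𝒮).Q.map (γ₀ Y g)) := by
  have hl : (pbar u 𝒮).IsHomLift g ((uppR u 𝒮).Q.map (γ₀ Y g)) :=
    homlift_of_eq (pbar u 𝒮) (a := (uppR u 𝒮).Q.obj (Yg Y g)) (b := (uppR u 𝒮).Q.obj Y) g _
      (pbar_map_Q u 𝒮 (γ₀ Y g))
  refine { toIsHomLift := hl, universal_property' := ?_ }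
  intro a' h m hm
  obtain ⟨⟨X'⟩⟩ := a'
  have e : (pbar u 𝒮).map m = h ≫ g :=
    (@IsHomLift.eq_of_isHomLift _ _ _ _ (pbar u 𝒮) ((uppR u 𝒮).Q.obj X') ((uppR u 𝒮).Q.obj Y)
      (h ≫ g) m hm).symm
  obtain ⟨χ, ⟨hχ1, hχ2⟩, huniq⟩ := lift_univ X' Y g h m e
  refine ⟨χ, ⟨homlift_of_eq (pbar u 𝒮) (a := (uppR u 𝒮).Q.obj X')
    (b := (uppR u 𝒮).Q.obj (Yg Y g)) h χ hχ1, hχ2⟩, ?_⟩
  rintro χ' ⟨h1, h2⟩
  exact huniq χ' ⟨(@IsHomLift.eq_of_isHomLift _ _ _ _ (pbar u 𝒮) ((uppR u 𝒮).Q.obj X')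
    ((uppR u 𝒮).Q.obj (Yg Y g)) h χ' h1).symm, h2⟩

variable (u 𝒮) in
theorem up_isFibered : (Stk.up u 𝒮).p.IsFibered := by
  apply Functor.IsFibered.of_exists_isStronglyCartesian
  intro a R f
  obtain ⟨⟨Y⟩⟩ := a
  exact ⟨(uppR u 𝒮).Q.obj (Yg Y f), (uppR u 𝒮).Q.map (γ₀ Y f), isSC_lift Y f⟩

theorem sc_all (h𝒮 : FibCat.IsFibGrpd 𝒮.p) (Y' Y : UppObj u 𝒮)
    (m : (uppR u 𝒮).Q.obj Y' ⟶ (uppR u 𝒮).Q.obj Y) :
    (pbar u 𝒮).IsStronglyCartesian ((pbar u 𝒮).map m) m := by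
  obtain ⟨φ, rfl⟩ := Localization.exists_rightFraction (uppR u 𝒮).Q (uppR u 𝒮) m
  obtain ⟨Z, s, hs, f, rfl⟩ := φ.cases
  haveI : IsIso ((uppR u 𝒮).Q.map s) := Localization.inverts _ _ s hs
  have e : (MorphismProperty.RightFraction.mk s hs f).map (uppR u 𝒮).Q
      (Localization.inverts _ _) = inv ((uppR u 𝒮).Q.map s) ≫ (uppR u 𝒮).Q.map f := rfl
  rw [e]
  let f' : Z ⟶ Yg Y f.bot := ⟨f.top, 𝟙 Z.V, by
    change Z.φ ≫ u.map (𝒮.p.map f.top) = 𝟙 Z.V ≫ f.bot ≫ Y.φ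
    rw [f.w, Category.id_comp]⟩
  have hf'W : uppR u 𝒮 f' := ⟨h𝒮.isStronglyCartesian f.top, by
    change IsIso (𝟙 Z.V)
    infer_instance⟩
  have hf' : f' ≫ γ₀ Y f.bot = f := by
    apply UppObj.hom_ext
    · change f.top ≫ 𝟙 _ = f.top
      rw [Category.comp_id]
    · change 𝟙 Z.V ≫ f.bot = f.bot
      rw [Category.id_comp]
  haveI : IsIso ((uppR u 𝒮).Q.map f') := Localization.inverts _ _ f' hf'W
  haveI h1 : (pbar u 𝒮).IsStronglyCartesian ((pbar u 𝒮).map ((uppR u 𝒮).Q.map (γ₀ Y f.bot)))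
      ((uppR u 𝒮).Q.map (γ₀ Y f.bot)) := by
    haveI := isSC_lift Y f.bot
    exact sc_map' (pbar u 𝒮) f.bot _
  have key := sc_comp3 (pbar u 𝒮) (inv ((uppR u 𝒮).Q.map s)) ((uppR u 𝒮).Q.map f')
    ((uppR u 𝒮).Q.map (γ₀ Y f.bot))
  rw [← CategoryTheory.Functor.map_comp (uppR u 𝒮).Q f' (γ₀ Y f.bot), hf'] at key
  exact key

variable (u 𝒮) in
theorem up_isFibGrpd (h𝒮 : FibCat.IsFibGrpd 𝒮.p) : FibCat.IsFibGrpd (Stk.up u 𝒮).p where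
  exists_lift := by
    intro x V f
    obtain ⟨⟨Y⟩⟩ := x
    exact ⟨(uppR u 𝒮).Q.obj (Yg Y f), (uppR u 𝒮).Q.map (γ₀ Y f), (isSC_lift Y f).toIsHomLift⟩
  isStronglyCartesian := by
    intro y x φ
    obtain ⟨⟨Y'⟩⟩ := y
    obtain ⟨⟨Y⟩⟩ := x
    exact sc_all h𝒮 Y' Y φ

end

end Groth.Agent.Helper6.UppFrac
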