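import Mathlib
import Groth.Agent.Helper6.LocQ13
import Groth.Agent.Helper6.StTop2
import Groth.Agent.Helper6.StUniv
import Groth.Agent.S2121

/-!
# Helper6: valuation ring witnesses for points in the closure of the image of a quasi-compact
morphism of algebraic stacks
-/

set_option autoImplicit false
set_option linter.style.haveILetI false
set_option linter.unusedVariables false
universe u

namespace Groth.Agent.Helper6.ValClos
open CategoryTheory Functor FibCat Limits AlgebraicGeometry Opposite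
open Groth.Agent.Helper3 Stk Groth.Agent.Helper6.OfPsh Groth.Agent.Helper6.OfPshHom
open Groth.Agent.Helper6.FpTools Groth.Agent.Helper6.OfPshFp Groth.Agent.Helper6.AlgStRep
open Groth.Agent.Helper6.AlgStEquiv Groth.Agent.Helper6.AlgStInv Groth.Agent.Helper6.AlgStPsh
open Groth.Agent.Helper6.DiagRed Groth.Agent.Helper6.RepDiag Groth.Agent.Helper6.RepComp
open Groth.Agent.Helper6.DiagRep Groth.Agent.Helper6.AlgStPts Groth.Agent.Helper6.StPts
open Groth.Agent.Helper6.SmLoc Groth.Agent.Helper6.ChartOver Groth.Agent.Helper6.StTop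
open Groth.Agent.Helper6.QcMor2 Groth.Agent.Helper6.SpAtlas Groth.Agent.Helper4.SDClasses
open Groth.Agent.Helper6.Descent1 Groth.Agent.Helper6.Descent2 Groth.Agent.Helper6.LocQ0
open Groth.Agent.Helper6.LocQ1 Groth.Agent.Helper6.LocQ2 Groth.Agent.Helper6.AlgStBC
open Groth.Agent.Helper6.OverRep Groth.Agent.Helper6.LocQ3 Groth.Agent.Helper6.LocQ4
open Groth.Agent.Helper6.FlatST Groth.Agent.Helper6.DiagLft Groth.Agent.Helper6.ToSpace
open Groth.Agent.Helper6.LocQ5 Groth.Agent.Helper6.LocQ6 Groth.Agent.Helper6.LocQ7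
open AlgSp Groth.Agent.Helper4.AlgSpQC2 Groth.Agent.Helper6.StUniv

variable {S : Scheme.{u}} {𝒳 𝒴 𝒵 : AlgSt.Cat S}

theorem ofChart_overMap_comp {U' U : Over S} (c : U' ⟶ U) (p : overCat U ⥤ᵇ 𝒳) (t : ↥U'.left) :
    AlgSt.Points.ofChart (BasedFunctor.comp (AlgSt.overMap c) p) t =
      AlgSt.Points.ofChart p (c.left t) := by
  rw [ofChart_eq, points_map_comp, points_map_overMap, ← ofChart_eq]

/-- the image of a surjective chart of `U ×_𝒴 𝒳` in `U` -/
theorem mem_range_of_chart' (h𝒳 : IsFibGrpd 𝒳.p) (h𝒴 : IsFibGrpd 𝒴.p) (f : 𝒳 ⥤ᵇ 𝒴) {U : Over S}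
    (y : overCat U ⥤ᵇ 𝒴) (hA : IsFibGrpd (fp y f).p)
    {V₀ : Over S} (h₀ : V₀ ⟶ U) (m : overCat V₀ ⥤ᵇ fp y f)
    (hm : AlgSt.RepByAlgSpWith IsSurjectiveMor m)
    (ι : BasedFunctor.comp m (fpFst y f) ≅ AlgSt.overMap h₀) (u : U.left)
    (hu : AlgSt.Points.ofChart y u ∈ Set.range (AlgSt.Points.map f)) :
    u ∈ Set.range h₀.left := by
  obtain ⟨p', hp'⟩ := hu
  obtain ⟨w, hw1, hw2⟩ := fp_points_exists (isFibGrpd_overCat U) h𝒳 h𝒴 y f (BasedFunctor.id _)
    (isEquivOver_id _) (chartPt U u) p' hp'.symm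
  obtain ⟨v', hv'⟩ := isSurjective_of_rep_surj (isFibGrpd_overCat V₀) hA m hm w
  obtain ⟨v, rfl⟩ := (chartPt_bijective V₀).2 v'
  refine ⟨v, (chartPt_bijective U).1 ?_⟩
  rw [← points_map_overMap, ← points_map_congr ι, points_map_comp, hv']
  exact hw1

set_option backward.isDefEq.respectTransparency.types false in
/-- S13036 -/
theorem exists_valuationRing_witness
    (h𝒳 : AlgSt.IsAlgStack Scheme.fppfPrecoverage 𝒳)
    (h𝒴 : AlgSt.IsAlgStack Scheme.fppfPrecoverage 𝒴)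
    (f : 𝒳 ⥤ᵇ 𝒴)
    (hf : AlgSt.IsQuasiCompactMor Scheme.fppfPrecoverage f)
    (y : AlgSt.Points 𝒴) (hy : y ∈ closure (Set.range (AlgSt.Points.map f))) :
    ∃ (A : Type u) (_ : CommRing A) (_ : IsDomain A) (_ : ValuationRing A)
      (sA : Spec (CommRingCat.of A) ⟶ S)
      (a : FibCat.overCat (Over.mk sA) ⥤ᵇ 𝒴)
      (x : FibCat.overCat (Over.mk (Spec.map (CommRingCat.ofHom (algebraMap A (FractionRing A))) ≫ sA)) ⥤ᵇ 𝒳),
      Nonempty (BasedFunctor.comp x f ≅
        BasedFunctor.comp (AlgSt.overMap (Over.homMk (Spec.map (CommRingCat.ofHom (algebraMap A (FractionRing A)))) rfl :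
          Over.mk (Spec.map (CommRingCat.ofHom (algebraMap A (FractionRing A))) ≫ sA) ⟶ Over.mk sA)) a) ∧
      AlgSt.Points.ofChart a (IsLocalRing.closedPoint A) = y := by
  obtain ⟨V, p, hp₁, hp₂⟩ := h𝒴.atlas
  obtain ⟨v, rfl⟩ := ofChart_surjective h𝒴.isStack.1 p hp₂ y
  obtain ⟨hc, ho⟩ := ofChart_continuous_isOpenMap h𝒴 V p (repByAlgSpWith_mono smooth_le_flat hp₁)
    (repByAlgSpWith_mono smooth_le_lfp hp₁)
  obtain ⟨V', hV'aff, hvV', -⟩ :=
    exists_isAffineOpen_mem_and_subset (X := V.left) (x := v) (U := ⊤) trivial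
  let V'' : Over S := opOver V V'
  let j : V'' ⟶ V := opι V V'
  let p' : overCat V'' ⥤ᵇ 𝒴 := BasedFunctor.comp (AlgSt.overMap j) p
  have hp'eq : ∀ t, AlgSt.Points.ofChart p' t = AlgSt.Points.ofChart p (j.left t) :=
    ofChart_overMap_comp j p
  haveI : IsAffine V''.left := (hV'aff : IsAffine V'.toScheme)
  have hq : AlgSt.IsQuasiCompact (fp p' f) :=
    hf (overCat V'') (isAlgStack_overCat V'') (isQuasiCompact_overCat V'') p'
  obtain ⟨W, w, hWaff, hw₁, hw₂⟩ := hq
  obtain ⟨g, ⟨ι⟩⟩ := exists_overMap_iso (BasedFunctor.comp w (fpFst p' f))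
  haveI : IsAffine W.left := hWaff
  haveI : QuasiCompact g.left := HasAffineProperty.iff_of_isAffine.mpr (by infer_instance)
  have hA : AlgSt.IsAlgStack Scheme.fppfPrecoverage (fp p' f) :=
    Groth.Agent.Helper6.FpAlg.isAlgStack_fp h𝒴.isStack h𝒴.diag (isAlgStack_overCat V'') h𝒳 p' f
  let v' : V''.left := (⟨v, hvV'⟩ : V')
  have hv' : v' ∈ closure (Set.range g.left.base) := by
    have hopen : IsOpenMap (fun t : V''.left => AlgSt.Points.ofChart p' t) := by
      have : (fun t : V''.left => AlgSt.Points.ofChart p' t) = AlgSt.Points.ofChart p ∘ j.left :=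
        funext hp'eq
      rw [this]
      exact ho.comp V'.ι.isOpenEmbedding.isOpenMap
    have h1 : v' ∈ (fun t : V''.left => AlgSt.Points.ofChart p' t) ⁻¹'
        closure (Set.range (AlgSt.Points.map f)) := by
      rw [Set.mem_preimage, hp'eq]
      exact hy
    have h2 := hopen.preimage_closure_subset_closure_preimage h1
    refine closure_mono ?_ h2
    intro t ht
    exact mem_range_of_chart' h𝒳.isStack.1 h𝒴.isStack.1 f p' hA.isStack.1 g w hw₂ ι t ht
  obtain ⟨A, i1, i2, i3, x', y', hxy, hy'⟩ := Groth.Agent.S2121.aux g.left v' hv'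
  let yo : Over.mk (y' ≫ V''.hom) ⟶ V'' := Over.homMk y' rfl
  have hx'w : x' ≫ W.hom =
      Spec.map (CommRingCat.ofHom (algebraMap A (FractionRing A))) ≫ y' ≫ V''.hom := by
    rw [← Over.w g, ← Category.assoc, hxy, Category.assoc]
  let xo : Over.mk (Spec.map (CommRingCat.ofHom (algebraMap A (FractionRing A))) ≫ y' ≫ V''.hom) ⟶ W :=
    Over.homMk x' hx'w
  refine ⟨A, i1, i2, i3, y' ≫ V''.hom, BasedFunctor.comp (AlgSt.overMap yo) p',
    BasedFunctor.comp (AlgSt.overMap xo) (BasedFunctor.comp w (fpSnd p' f)), ⟨?_⟩, ?_⟩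
  · have hk : xo ≫ g = (Over.homMk (Spec.map (CommRingCat.ofHom (algebraMap A (FractionRing A)))) rfl :
        Over.mk (Spec.map (CommRingCat.ofHom (algebraMap A (FractionRing A))) ≫ y' ≫ V''.hom) ⟶
          Over.mk (y' ≫ V''.hom)) ≫ yo := by
      ext
      exact hxy
    have κ₀ : BasedFunctor.comp (BasedFunctor.comp w (fpSnd p' f)) f ≅
        BasedFunctor.comp (AlgSt.overMap g) p' :=
      (whiskerLeftIso' w (fpIso p' f)).symm ≪≫ whiskerRightIso' ι p'
    have κ₁ := whiskerLeftIso' (AlgSt.overMap xo) κ₀ ≪≫ whiskerRightIso' (overMapComp xo g) p'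
    rw [hk] at κ₁
    exact κ₁ ≪≫ (whiskerRightIso' (overMapComp _ yo) p').symm
  · rw [ofChart_overMap_comp, hp'eq]
    change AlgSt.Points.ofChart p (j.left (y' (IsLocalRing.closedPoint A))) = _
    rw [hy']
    rfl

end Groth.Agent.Helper6.ValClos
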