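import Mathlib
import Groth.Agent.Helper5.Decent1
import Groth.Agent.Helper5.Decent2
import Groth.Agent.Helper5.Decent3
import Groth.Agent.Helper4.AlgSpPB
import Groth.Agent.Helper4.AlgSpPts
import Groth.Agent.Helper4.AlgSpQC2
import Groth.Agent.Helper4.AlgSpPtsDesc
import Groth.Prelude.Def_AlgSpMor5

/-!
# Helper6: the existence part of the valuative criterion for universally closed morphisms
-/

set_option autoImplicit false
set_option linter.style.haveILetI false
set_option linter.unusedVariables false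
universe u

namespace Groth.Agent.Helper6.ValEx
open CategoryTheory Limits AlgebraicGeometry Opposite AlgSp IsLocalRing
open Groth.Agent.Helper4.AlgSpQC2 Groth.Agent.Helper4.AlgSpPtsDesc

variable {S : Scheme.{u}}

set_option backward.isDefEq.respectTransparency.types false in
/-- a valuation ring of a field `L` centred at a specialization of the image of `Spec L` -/
theorem exists_valuationSubring_center {U : Scheme.{u}} (L : Type u) [Field L]
    (m : Spec (CommRingCat.of L) ⟶ U) (u : U) (h : m (closedPoint L) ⤳ u) :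
    ∃ (B : ValuationSubring L) (l₀ : Spec (CommRingCat.of B) ⟶ U),
      l₀ (closedPoint B) = u ∧ Spec.map (CommRingCat.ofHom (algebraMap B L)) ≫ l₀ = m := by
  let ψ : U.presheaf.stalk u ⟶ CommRingCat.of L :=
    U.presheaf.stalkSpecializes h ≫ Scheme.stalkClosedPointTo m
  obtain ⟨B, hB, hB_local⟩ := exists_factor_valuationRing ψ.hom
  let ψB : U.presheaf.stalk u ⟶ .of B := CommRingCat.ofHom (ψ.hom.codRestrict _ hB)
  refine ⟨B, Spec.map ψB ≫ U.fromSpecStalk u, ?_, ?_⟩
  · simp only [Scheme.Hom.comp_base, TopCat.coe_comp, Function.comp_apply]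
    have : Spec.map ψB (closedPoint B) = closedPoint (U.presheaf.stalk u) :=
      comap_closedPoint (S := B) (ψ.hom.codRestrict B.toSubring hB)
    rw [this, U.fromSpecStalk_closedPoint]
  · conv_rhs => rw [← Scheme.Spec_stalkClosedPointTo_fromSpecStalk m,
      ← Scheme.SpecMap_stalkSpecializes_fromSpecStalk h]
    simp_rw [← Spec.map_comp_assoc]
    rfl


set_option backward.isDefEq.respectTransparency.types false in
/-- the core: a square over a universally closed morphism has a lift after extension, as soon as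
the point of the base change `X ×_Y Spec A` defined by `Spec K` is represented by a quasi-compact
field point -/
theorem hasLiftExt_of_point {X Y : Sp S} (hX : IsAlgSpace X) (hY : IsAlgSpace Y) (f : X ⟶ Y)
    (hc : IsUnivClosedMor f) (sq : ValSq f) {P : Sp S} (fst : P ⟶ X)
    (snd : P ⟶ (yon S).obj sq.ptA) (sqP : IsPullback fst snd f sq.bot)
    (σ : (yon S).obj sq.ptK ⟶ P) (hσ₁ : σ ≫ fst = sq.top) (hσ₂ : σ ≫ snd = (yon S).map sq.j)
    (p : FieldPt P) (hp : Points.mk p = Points.ofPt σ (closedPoint sq.K))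
    (hpq : RepWith @QuasiCompact p.toHom) : sq.HasLiftExt := by
  have hP : IsAlgSpace P :=
    Groth.Agent.Helper4.AlgSpPB.isAlgSpace_of_isPullback hY.diag hX (IsAlgSpace.yon_obj _) f sq.bot
      fst snd sqP
  have hcl : IsClosedMap (Points.map snd) := hc (IsAlgSpace.yon_obj sq.ptA) sq.bot fst snd sqP
  set ξ : Points P := Points.ofPt σ (closedPoint sq.K) with hξ
  -- the closed point of `Spec A` is in the image of the closure of `ξ`
  have himg : Points.schemeHomeo sq.ptA (closedPoint sq.A) ∈ Points.map snd '' closure {ξ} := by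
    have h1 : IsClosed (Points.map snd '' closure {ξ}) := hcl _ isClosed_closure
    have h2 : Points.map snd ξ ∈ Points.map snd '' closure {ξ} := ⟨ξ, subset_closure rfl, rfl⟩
    have h3 : Points.map snd ξ = Points.schemeHomeo sq.ptA (sq.j.left (closedPoint sq.K)) := by
      rw [hξ, Points.map_ofPt, hσ₂, ← ofPt_eq_map_schemeHomeo, Points.map_yon_map_apply]
    have h4 : sq.j.left (closedPoint sq.K) ⤳ (closedPoint sq.A : ↥sq.ptA.left) :=
      specializes_closedPoint (R := sq.A) _
    have h5 := h4.map (Points.schemeHomeo sq.ptA).continuous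
    rw [h3] at h2
    exact h5.mem_closed h1 h2
  obtain ⟨t, ht, hts⟩ := himg
  have hsp : ξ ⤳ t := specializes_iff_mem_closure.2 ht
  -- a chart through `t`
  obtain ⟨U, a, hae, has⟩ := hP.atlas
  obtain ⟨r₀, hr₀⟩ := Groth.Agent.Helper4.AlgSpPts.isSurjectiveMor_of_repWith a has t
  obtain ⟨u, rfl⟩ := (Points.schemeHomeo U).surjective r₀
  rw [ofPt_eq_map_schemeHomeo] at hr₀
  obtain ⟨u', hu'u, hu'⟩ := Groth.Agent.Helper5.Decent3.exists_generization_in_chart hP t ξ hsp p hp
    hpq a hae u hr₀
  -- the fibre product `U ×_P Spec K`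
  have sqR := hae.rep.isPullback σ
  obtain ⟨p1, hp1⟩ := (yon S).map_surjective (hae.rep.fst σ)
  rw [← hp1] at sqR
  clear hp1
  generalize hae.rep.snd σ = p2 at sqR
  generalize hae.rep.pullback σ = R at p1 p2 sqR
  obtain ⟨r, hr1, hr2⟩ := Groth.Agent.Helper5.Decent2.exists_scheme_point_of_isPullback sqR u'
    (closedPoint sq.K) hu'
  subst hr1
  let L := R.left.residueField r
  let m : Spec (CommRingCat.of L) ⟶ U.left := R.left.fromSpecResidueField r ≫ p1.left
  have hm : m (closedPoint L) = p1.left r := by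
    simp only [m, Scheme.Hom.comp_apply]
    rw [Scheme.fromSpecResidueField_apply]
  obtain ⟨B, l₀, hl₀c, hl₀⟩ := exists_valuationSubring_center L m u (by rw [hm]; exact hu'u)
  -- the map `U ⟶ Spec A`
  obtain ⟨gU, hgU⟩ := (yon S).map_surjective (a ≫ snd)
  let φc : CommRingCat.of sq.A ⟶ CommRingCat.of B := Spec.preimage (l₀ ≫ gU.left)
  have hφc : Spec.map φc = l₀ ≫ gU.left := Spec.map_preimage _
  let ψc : CommRingCat.of sq.K ⟶ CommRingCat.of L :=
    Spec.preimage (R.left.fromSpecResidueField r ≫ p2.left)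
  have hψc : Spec.map ψc = R.left.fromSpecResidueField r ≫ p2.left := Spec.map_preimage _
  have hR : p1 ≫ gU = p2 ≫ sq.j := by
    apply (yon S).map_injective
    rw [Functor.map_comp, Functor.map_comp, hgU, ← Category.assoc, sqR.w, Category.assoc, hσ₂]
  have hRl : p1.left ≫ gU.left = p2.left ≫ sq.j.left := congrArg CommaMorphism.left hR
  have hcomm : (algebraMap B L).comp φc.hom = ψc.hom.comp (algebraMap sq.A sq.K) := by
    have h1 : Spec.map (CommRingCat.ofHom (algebraMap B L)) ≫ Spec.map φc =
        Spec.map ψc ≫ Spec.map (CommRingCat.ofHom (algebraMap sq.A sq.K)) := by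
      rw [hφc, hψc, ← Category.assoc, hl₀]
      simp only [m, Category.assoc]
      rw [hRl]
      rfl
    rw [← Spec.map_comp, ← Spec.map_comp] at h1
    have h2 := Spec.map_injective h1
    exact congrArg CommRingCat.Hom.hom h2
  have hgu : gU.left u = closedPoint sq.A := by
    apply (Points.schemeHomeo sq.ptA).injective
    rw [← hts, ← hr₀, Points.map_ofPt, ← hgU, ← ofPt_eq_map_schemeHomeo, Points.map_yon_map_apply]
  have hloc : IsLocalHom φc.hom := by
    have : (Spec.map φc) (closedPoint B) = closedPoint sq.A := by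
      rw [hφc, Scheme.Hom.comp_apply, hl₀c, hgu]
    exact (isLocalHom_iff_comap_closedPoint φc.hom).mpr this
  let e : sq.DomExt :=
    { A' := B, K' := L, φ := φc.hom, ψ := ψc.hom, comm := hcomm, isLocalHom := hloc }
  have hstr : l₀ ≫ U.hom = Spec.map (CommRingCat.ofHom e.φ) ≫ sq.str := by
    have h1 : gU.left ≫ sq.str = U.hom := Over.w gU
    change _ = Spec.map φc ≫ sq.str
    rw [hφc, Category.assoc, h1]
  let l₀o : e.ptA' ⟶ U := Over.homMk l₀ hstr
  have hRstr : R.left.fromSpecResidueField r ≫ R.hom = e.ptK'.hom := by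
    have h1 : p1.left ≫ U.hom = R.hom := Over.w p1
    change _ = Spec.map (CommRingCat.ofHom (algebraMap B L)) ≫ Spec.map (CommRingCat.ofHom e.φ) ≫ sq.str
    rw [← hstr, ← Category.assoc, hl₀, ← h1]
    simp only [m, Category.assoc]
  let ro : e.ptK' ⟶ R := Over.homMk (R.left.fromSpecResidueField r) hRstr
  let kA : e.ptK' ⟶ e.ptA' := Over.homMk (Spec.map (CommRingCat.ofHom (algebraMap e.A' e.K'))) rfl
  have hk1 : kA ≫ l₀o = ro ≫ p1 := by
    apply Over.OverMorphism.ext
    exact hl₀
  refine ⟨e, (yon S).map l₀o ≫ a ≫ fst, ?_, ?_⟩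
  · have hk2 : (Over.homMk (Spec.map (CommRingCat.ofHom e.ψ)) (by
          change Spec.map _ ≫ Spec.map _ ≫ _ = Spec.map _ ≫ Spec.map _ ≫ _
          rw [← Spec.map_comp_assoc, ← Spec.map_comp_assoc, ← CommRingCat.ofHom_comp,
            ← CommRingCat.ofHom_comp, e.comm]) : e.ptK' ⟶ sq.ptK) = ro ≫ p2 := by
      apply Over.OverMorphism.ext
      exact hψc
    rw [hk2]
    calc (yon S).map kA ≫ (yon S).map l₀o ≫ a ≫ fst
        = (yon S).map (kA ≫ l₀o) ≫ a ≫ fst := by rw [Functor.map_comp, Category.assoc]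
      _ = (yon S).map ro ≫ ((yon S).map p1 ≫ a) ≫ fst := by
          rw [hk1, Functor.map_comp]; simp only [Category.assoc]
      _ = (yon S).map ro ≫ ((yon S).map p2 ≫ σ) ≫ fst := by rw [sqR.w]
      _ = (yon S).map (ro ≫ p2) ≫ sq.top := by
          rw [Functor.map_comp, ← hσ₁]; simp only [Category.assoc]
  · have hk3 : l₀o ≫ gU =
        (Over.homMk (Spec.map (CommRingCat.ofHom e.φ)) rfl : e.ptA' ⟶ sq.ptA) := by
      apply Over.OverMorphism.ext
      exact hφc.symm
    calc ((yon S).map l₀o ≫ a ≫ fst) ≫ f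
        = (yon S).map l₀o ≫ a ≫ fst ≫ f := by simp only [Category.assoc]
      _ = (yon S).map l₀o ≫ (a ≫ snd) ≫ sq.bot := by rw [sqP.w]; simp only [Category.assoc]
      _ = (yon S).map (l₀o ≫ gU) ≫ sq.bot := by
          rw [← hgU, Functor.map_comp]; simp only [Category.assoc]
      _ = _ := by rw [hk3]


/-- the section of the base change defined by a square -/
noncomputable def sec {X Y : Sp S} {f : X ⟶ Y} (sq : ValSq f) :
    (yon S).obj sq.ptK ⟶ pullback f sq.bot :=
  pullback.lift sq.top ((yon S).map sq.j) sq.comm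

/-- lifts exist when the base change to `Spec A` is decent -/
theorem hasLiftExt_of_isDecent {X Y : Sp S} (hX : IsAlgSpace X) (hY : IsAlgSpace Y) (f : X ⟶ Y)
    (hc : IsUnivClosedMor f) (sq : ValSq f) (hPd : IsDecent (pullback f sq.bot)) :
    sq.HasLiftExt := by
  have sqP : IsPullback (pullback.fst f sq.bot) (pullback.snd f sq.bot) f sq.bot :=
    IsPullback.of_hasPullback _ _
  obtain ⟨p, hp, -, hpq⟩ := hPd (Points.ofPt (sec sq) (closedPoint sq.K))
  exact hasLiftExt_of_point hX hY f hc sq _ _ sqP (sec sq) (pullback.lift_fst _ _ _)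
    (pullback.lift_snd _ _ _) p hp hpq

/-- S10388 -/
theorem existVC_of_isDecentMor {X Y : Sp S} (hX : IsAlgSpace X) (hY : IsAlgSpace Y) (f : X ⟶ Y)
    (hd : IsDecentMor f) (hc : IsUnivClosedMor f) : ExistVC f := fun sq =>
  hasLiftExt_of_isDecent hX hY f hc sq (hd sq.bot _ _ (IsPullback.of_hasPullback _ _))

/-- S10379 -/
theorem existVC_of_isDecent {X Y : Sp S} (hX : IsAlgSpace X) (hY : IsAlgSpace Y) (f : X ⟶ Y)
    (hd : IsDecent X) (hc : IsUnivClosedMor f) : ExistVC f :=
  existVC_of_isDecentMor hX hY f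
    (Groth.Agent.Helper5.Decent1.isDecentMor_of_isDecent_source hY f hd) hc

/-- S10289 -/
theorem existVC_of_isQuasiSeparatedMor {X Y : Sp S} (hX : IsAlgSpace X) (hY : IsAlgSpace Y)
    (f : X ⟶ Y) (hqs : IsQuasiSeparatedMor f) (hc : IsUnivClosedMor f) : ExistVC f := by
  intro sq
  have sqP : IsPullback (pullback.fst f sq.bot) (pullback.snd f sq.bot) f sq.bot :=
    IsPullback.of_hasPullback _ _
  have hσ₂ : sec sq ≫ pullback.snd f sq.bot = (yon S).map sq.j := pullback.lift_snd _ _ _
  let p : FieldPt (pullback f sq.bot) := ⟨sq.K, sq.ptK.hom, (J S).uliftYonedaEquiv (sec sq)⟩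
  have hpσ : p.toHom = sec sq := Equiv.symm_apply_apply _ _
  have hp : Points.mk p = Points.ofPt (sec sq) (closedPoint sq.K) := by
    rw [← hpσ]
    exact (Points.ofPt_toHom p _).symm
  have hpq : RepWith @QuasiCompact p.toHom := by
    rw [hpσ]
    have i1 := repWith_isStableUnderBaseChange (S := S) @QuasiCompact
    have i2 := repWith_isMultiplicative (S := S) @QuasiCompact
    have hsnd : (RepWith (S := S) @QuasiCompact).diagonal (pullback.snd f sq.bot) :=
      MorphismProperty.of_isPullback (P := (RepWith (S := S) @QuasiCompact).diagonal) sqP hqs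
    have hcomp : RepWith @QuasiCompact (sec sq ≫ pullback.snd f sq.bot) := by
      rw [hσ₂]
      exact (repWith_yon_map_iff @QuasiCompact sq.j).2
        (inferInstance : QuasiCompact (Spec.map (CommRingCat.ofHom (algebraMap sq.A sq.K))))
    have hpost : (RepWith (S := S) @QuasiCompact).HasOfPostcompProperty
        (RepWith (S := S) @QuasiCompact).diagonal :=
      MorphismProperty.hasOfPostcompProperty_iff_le_diagonal.2 le_rfl
    exact hpost.of_postcomp (sec sq) (pullback.snd f sq.bot) hsnd hcomp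
  exact hasLiftExt_of_point hX hY f hc sq _ _ sqP (sec sq) (pullback.lift_fst _ _ _) hσ₂ p hp hpq

end Groth.Agent.Helper6.ValEx
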