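import Groth.Prelude.Def_W4c1liftfrobW2
import Mathlib

set_option autoImplicit false
universe u v

namespace Groth.Agent.Helper6.W2

open FrobAlg WittVector

variable (p : ℕ) [hp : Fact p.Prime]

section basics
variable {R : Type*} [CommRing R]

/-- The truncated Teichmüller representative `(a, 0)`. -/
noncomputable def tau (a : R) : W2 p R := truncate 2 (teichmuller p a)

/-- The element `(0, a)`. -/
noncomputable def V2 (a : R) : W2 p R := truncate 2 (verschiebung (teichmuller p a))

@[simp] lemma tau_coeff_zero (a : R) : (tau p a).coeff 0 = a := by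
  simp [tau, WittVector.coeff_truncate, teichmuller_coeff_zero]

@[simp] lemma tau_coeff_one (a : R) : (tau p a).coeff 1 = 0 := by
  have := teichmuller_coeff_pos p a 1 Nat.one_pos
  simpa [tau, WittVector.coeff_truncate] using this

@[simp] lemma V2_coeff_zero (a : R) : (V2 p a).coeff 0 = 0 := by
  simp [V2, WittVector.coeff_truncate, verschiebung_coeff_zero]

@[simp] lemma V2_coeff_one (a : R) : (V2 p a).coeff 1 = a := by
  have := verschiebung_coeff_succ (teichmuller p a) 0
  simpa [V2, WittVector.coeff_truncate, teichmuller_coeff_zero] using this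

lemma ext2 {x y : W2 p R} (h0 : x.coeff 0 = y.coeff 0) (h1 : x.coeff 1 = y.coeff 1) : x = y := by
  apply TruncatedWittVector.ext
  intro i
  fin_cases i
  · exact h0
  · exact h1

lemma trunc_verschiebung_eq (X : WittVector p R) : truncate 2 (verschiebung X) = V2 p (X.coeff 0) := by
  apply ext2
  · simp [WittVector.coeff_truncate, verschiebung_coeff_zero]
  · have := verschiebung_coeff_succ X 0
    simpa [WittVector.coeff_truncate] using this

lemma V2_add (a b : R) : V2 p (a + b) = V2 p a + V2 p b := by
  have h : V2 p a + V2 p b = truncate 2 (verschiebung (teichmuller p a + teichmuller p b)) := by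
    rw [map_add, map_add]; rfl
  rw [h, trunc_verschiebung_eq, WittVector.add_coeff_zero, teichmuller_coeff_zero,
    teichmuller_coeff_zero]

lemma V2_zero : V2 p (0 : R) = 0 := by
  apply ext2 <;> simp [TruncatedWittVector.coeff_zero]

/-- `V2` as an additive map. -/
noncomputable def V2hom : R →+ W2 p R where
  toFun := V2 p
  map_zero' := V2_zero p
  map_add' := V2_add p

lemma V2_neg (a : R) : V2 p (-a) = - V2 p a := (V2hom (R := R) p).map_neg a
lemma V2_sub (a b : R) : V2 p (a - b) = V2 p a - V2 p b := (V2hom (R := R) p).map_sub a b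

lemma coeff_zero_eq_res (x : W2 p R) : x.coeff 0 = res p R x := (res_apply p R x).symm

lemma coeff_zero_add (x y : W2 p R) : (x + y).coeff 0 = x.coeff 0 + y.coeff 0 := by
  simp only [coeff_zero_eq_res, map_add]

lemma coeff_zero_mul (x y : W2 p R) : (x * y).coeff 0 = x.coeff 0 * y.coeff 0 := by
  simp only [coeff_zero_eq_res, map_mul]

lemma coeff_zero_sub (x y : W2 p R) : (x - y).coeff 0 = x.coeff 0 - y.coeff 0 := by
  simp only [coeff_zero_eq_res, map_sub]

lemma coeff_zero_pow (x : W2 p R) (n : ℕ) : (x ^ n).coeff 0 = x.coeff 0 ^ n := by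
  simp only [coeff_zero_eq_res, map_pow]

lemma coeff_zero_one : (1 : W2 p R).coeff 0 = 1 := by
  simp only [coeff_zero_eq_res, map_one]

lemma coeff_tau_add_V2 (a b : R) :
    (tau p a + V2 p b).coeff 0 = a ∧ (tau p a + V2 p b).coeff 1 = b := by
  have hdis : ∀ n, (teichmuller p a).coeff n = 0 ∨ (verschiebung (teichmuller p b)).coeff n = 0 := by
    intro n
    rcases Nat.eq_zero_or_pos n with rfl | hn
    · right; exact verschiebung_coeff_zero _
    · left; exact teichmuller_coeff_pos p a n hn
  have h : tau p a + V2 p b = truncate 2 (teichmuller p a + verschiebung (teichmuller p b)) := by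
    rw [map_add]; rfl
  rw [h]
  constructor
  · have := WittVector.coeff_add_of_disjoint 0 _ _ hdis
    simp only [WittVector.coeff_truncate]
    simpa [teichmuller_coeff_zero, verschiebung_coeff_zero] using this
  · have := WittVector.coeff_add_of_disjoint 1 _ _ hdis
    have h1 := teichmuller_coeff_pos p a 1 Nat.one_pos
    have h2 := verschiebung_coeff_succ (teichmuller p b) 0
    simp only [WittVector.coeff_truncate]
    simp only [Fin.val_one] 
    rw [this, h1, zero_add]
    simpa [teichmuller_coeff_zero] using h2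

lemma eq_tau_add_V2 (x : W2 p R) : x = tau p (x.coeff 0) + V2 p (x.coeff 1) := by
  obtain ⟨h0, h1⟩ := coeff_tau_add_V2 p (x.coeff 0) (x.coeff 1)
  exact ext2 p h0.symm h1.symm

lemma coeff_one_add_V2 (x : W2 p R) (a : R) : (x + V2 p a).coeff 1 = x.coeff 1 + a := by
  conv_lhs => rw [eq_tau_add_V2 p x, add_assoc, ← V2_add]
  exact (coeff_tau_add_V2 p _ _).2

lemma eq_V2_of_coeff_zero {x : W2 p R} (h : x.coeff 0 = 0) : x = V2 p (x.coeff 1) := by
  apply ext2 <;> simp [h]

lemma tau_mul (a b : R) : tau p (a * b) = tau p a * tau p b := by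
  simp only [tau, map_mul]

lemma tau_pow (a : R) (n : ℕ) : tau p (a ^ n) = tau p a ^ n := by
  simp only [tau, map_pow]

lemma tau_one : tau p (1 : R) = 1 := by
  simp only [tau, map_one]

lemma tau_zero : tau p (0 : R) = 0 := by
  simp only [tau, teichmuller_zero, map_zero]

end basics

section charP
variable {R : Type*} [CommRing R] [CharP R p]

lemma mul_p (x : W2 p R) : x * (p : W2 p R) = V2 p (x.coeff 0 ^ p) := by
  obtain ⟨X, rfl⟩ := WittVector.truncate_surjective p 2 R x
  have : (p : W2 p R) = truncate 2 (p : WittVector p R) := (map_natCast (truncate 2) p).symm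
  rw [this, ← map_mul]
  apply ext2
  · simp only [WittVector.coeff_truncate]
    simpa using mul_charP_coeff_zero X
  · simp only [WittVector.coeff_truncate]
    simpa using mul_charP_coeff_succ X 0

lemma natCast_p : (p : W2 p R) = V2 p 1 := by
  have := mul_p p (1 : W2 p R)
  rwa [one_mul, coeff_zero_one, one_pow] at this

lemma p_mul_p : (p : W2 p R) * (p : W2 p R) = 0 := by
  rw [mul_p, natCast_p, V2_coeff_zero, zero_pow hp.out.ne_zero, V2_zero]

lemma mul_V2 (x : W2 p R) (a : R) : x * V2 p a = V2 p (x.coeff 0 ^ p * a) := by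
  obtain ⟨X, rfl⟩ := WittVector.truncate_surjective p 2 R x
  rw [V2, ← map_mul, mul_comm, ← verschiebung_mul_frobenius, trunc_verschiebung_eq,
    WittVector.mul_coeff_zero, coeff_frobenius_charP, teichmuller_coeff_zero,
    WittVector.coeff_truncate, mul_comm]
  rfl

lemma V2_mul_V2 (a b : R) : V2 p a * V2 p b = 0 := by
  rw [mul_V2, V2_coeff_zero, zero_pow hp.out.ne_zero, zero_mul, V2_zero]

lemma p_mul_V2 (a : R) : (p : W2 p R) * V2 p a = 0 := by
  rw [natCast_p, V2_mul_V2]

lemma res_p : res p R (p : W2 p R) = 0 := by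
  rw [res_apply, natCast_p, V2_coeff_zero]

/-- In `W₂(R)`, `R` of characteristic `p`, `x ^ p` is the Teichmüller representative of `x₀ ^ p`. -/
lemma pow_p (x : W2 p R) : x ^ p = tau p (x.coeff 0 ^ p) := by
  have hp2 : 2 ≤ p := hp.out.two_le
  conv_lhs => rw [eq_tau_add_V2 p x, add_comm]
  set t := tau p (x.coeff 0)
  set y := V2 p (x.coeff 1)
  have hy2 : y * y = 0 := V2_mul_V2 p _ _
  have hpy : (p : W2 p R) * y = 0 := p_mul_V2 p _
  rw [add_pow, tau_pow]
  rw [Finset.sum_eq_single 0]
  · simp [t]
  · intro m _ hm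
    rcases Nat.lt_or_ge m 2 with h | h
    · have hm1 : m = 1 := by omega
      subst hm1
      rw [Nat.choose_one_right, pow_one, mul_assoc, mul_comm y, mul_assoc, hpy, mul_zero]
    · have : y ^ m = 0 := by
        obtain ⟨j, rfl⟩ := Nat.exists_eq_add_of_le h
        rw [pow_add, pow_two, hy2, zero_mul]
      rw [this, zero_mul, zero_mul]
  · intro h; simp at h

end charP


section ghost
variable {B : Type*} [CommRing B]

/-- The first ghost component `W₂(B) → B`, `(b₀, b₁) ↦ b₀^p + p b₁`. -/
noncomputable def w1 : W2 p B →+* B :=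
  RingHom.liftOfSurjective (WittVector.truncate 2) (WittVector.truncate_surjective p 2 B)
    ⟨WittVector.ghostComponent 1, fun x hx => by
      rw [RingHom.mem_ker] at hx ⊢
      have h := (WittVector.mem_ker_truncate 2 x).1 (RingHom.mem_ker.2 hx)
      rw [WittVector.ghostComponent_apply, wittPolynomial_one]
      simp [h 0 (by omega), h 1 (by omega), zero_pow hp.out.ne_zero]⟩

lemma w1_truncate (X : WittVector p B) :
    w1 p (WittVector.truncate 2 X) = X.coeff 0 ^ p + (p : B) * X.coeff 1 := by
  have : w1 p (WittVector.truncate 2 X) = WittVector.ghostComponent 1 X :=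
    RingHom.liftOfRightInverse_comp_apply _ _ _ _ X
  rw [this, WittVector.ghostComponent_apply, wittPolynomial_one]
  simp [add_comm]

lemma w1_apply (x : W2 p B) : w1 p x = x.coeff 0 ^ p + (p : B) * x.coeff 1 := by
  obtain ⟨X, rfl⟩ := WittVector.truncate_surjective p 2 B x
  rw [w1_truncate, WittVector.coeff_truncate, WittVector.coeff_truncate]
  rfl

lemma w1_truncMap {B' : Type*} [CommRing B'] (f : B →+* B') (x : W2 p B) :
    w1 p (WittGrp.truncMap p 2 f x) = f (w1 p x) := by
  simp [w1_apply, WittGrp.coeff_truncMap]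

end ghost

section sigma
variable {R : Type*} [CommRing R] [CharP R p]

lemma sigma_eq (x : W2 p R) : sigma p R x = tau p (x.coeff 0 ^ p) + V2 p (x.coeff 1 ^ p) := by
  obtain ⟨h0, h1⟩ := coeff_tau_add_V2 p (x.coeff 0 ^ p) (x.coeff 1 ^ p)
  apply ext2
  · rw [h0, WittGrp.coeff_frob]
  · rw [h1, WittGrp.coeff_frob]

lemma sigma_eq_pow_add (x : W2 p R) : sigma p R x = x ^ p + V2 p (x.coeff 1 ^ p) := by
  rw [sigma_eq, pow_p]

end sigma

section field
variable {k : Type*} [Field k] [CharP k p] [PerfectRing k p]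

lemma exists_eq_mul_p {x : W2 p k} (h : x.coeff 0 = 0) : ∃ y : W2 p k, x = y * (p : W2 p k) := by
  obtain ⟨b, hb⟩ := (bijective_frobenius k p).2 (x.coeff 1)
  refine ⟨tau p b, ?_⟩
  rw [mul_p, tau_coeff_zero, ← frobenius_def, hb]
  exact eq_V2_of_coeff_zero p h

lemma ker_res : RingHom.ker (res p k) = Ideal.span {(p : W2 p k)} := by
  apply le_antisymm
  · intro x hx
    rw [RingHom.mem_ker, res_apply] at hx
    obtain ⟨y, rfl⟩ := exists_eq_mul_p p hx
    exact Ideal.mul_mem_left _ _ (Ideal.subset_span rfl)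
  · rw [Ideal.span_le, Set.singleton_subset_iff]
    exact res_p p

lemma mul_p_eq_zero_iff {R : Type*} [CommRing R] [CharP R p] [IsReduced R] (x : W2 p R) :
    x * (p : W2 p R) = 0 ↔ x.coeff 0 = 0 := by
  rw [mul_p]
  constructor
  · intro h
    have := congrArg (fun z => TruncatedWittVector.coeff (1 : Fin 2) z) h
    simp only [V2_coeff_one, TruncatedWittVector.coeff_zero] at this
    exact pow_eq_zero_iff (hp.out.ne_zero) |>.mp this
  · intro h
    rw [h, zero_pow hp.out.ne_zero, V2_zero]

lemma isUnit_iff (x : W2 p k) : IsUnit x ↔ x.coeff 0 ≠ 0 := by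
  constructor
  · intro h
    have := h.map (res p k)
    rw [res_apply] at this
    exact this.ne_zero
  · intro h
    -- x = tau x₀ + V2 x₁, tau x₀ unit, V2 x₁ nilpotent
    have hu : IsUnit (tau p (x.coeff 0)) := by
      have : tau p (x.coeff 0) * tau p (x.coeff 0)⁻¹ = 1 := by
        rw [← tau_mul, mul_inv_cancel₀ h, tau_one]
      exact IsUnit.of_mul_eq_one _ this
    have hn : IsNilpotent (V2 p (x.coeff 1)) := ⟨2, by rw [pow_two, V2_mul_V2]⟩
    rw [eq_tau_add_V2 p x]
    exact hn.isUnit_add_left_of_commute hu (Commute.all _ _)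

lemma eq_unit_or_mem (x : W2 p k) : IsUnit x ∨ ∃ y, x = y * (p : W2 p k) := by
  by_cases h : x.coeff 0 = 0
  · exact Or.inr (exists_eq_mul_p p h)
  · exact Or.inl ((isUnit_iff p x).mpr h)

lemma ideal_cases (I : Ideal (W2 p k)) : I = ⊥ ∨ I = Ideal.span {(p : W2 p k)} ∨ I = ⊤ := by
  by_cases h1 : ∃ x ∈ I, IsUnit x
  · obtain ⟨x, hx, hu⟩ := h1
    exact Or.inr (Or.inr (Ideal.eq_top_of_isUnit_mem _ hx hu))
  · push_neg at h1
    have hle : I ≤ Ideal.span {(p : W2 p k)} := by
      intro x hx
      rcases eq_unit_or_mem p x with hu | ⟨y, rfl⟩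
      · exact absurd hu (h1 x hx)
      · exact Ideal.mul_mem_left _ _ (Ideal.subset_span rfl)
    by_cases h0 : I = ⊥
    · exact Or.inl h0
    · right; left
      apply le_antisymm hle
      obtain ⟨x, hx, hx0⟩ := Submodule.exists_mem_ne_zero_of_ne_bot h0
      rcases eq_unit_or_mem p x with hu | ⟨y, rfl⟩
      · exact absurd hu (h1 x hx)
      · rcases eq_unit_or_mem p y with hy | ⟨z, rfl⟩
        · rw [Ideal.span_le, Set.singleton_subset_iff]
          have : (p : W2 p k) = ↑(hy.unit⁻¹) * (y * p) := by
            rw [← mul_assoc, IsUnit.val_inv_mul, one_mul]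
          rw [this]
          exact Ideal.mul_mem_left _ _ hx
        · exfalso; apply hx0
          rw [mul_assoc, p_mul_p, mul_zero]

end field

section flat
variable {k : Type u} [Field k] [CharP k p] [PerfectRing k p]
variable {M : Type v} [AddCommGroup M] [Module (W2 p k) M]

lemma flat_imp (hM : Module.Flat (W2 p k) M) (m : M) (h : (p : W2 p k) • m = 0) :
    ∃ m' : M, m = (p : W2 p k) • m' := by
  have := Module.Flat.isTrivialRelation_of_sum_smul_eq_zero (R := W2 p k) (M := M)
    (ι := Unit) (f := fun _ => (p : W2 p k)) (x := fun _ => m) (by simpa using h)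
  obtain ⟨κ, a, y, h1, h2⟩ := this
  have h1' : m = ∑ j, a () j • y j := h1 ()
  have h2' : ∀ j, ∃ c, a () j = c * (p : W2 p k) := by
    intro j
    have := h2 j
    simp only [Finset.univ_unique, Finset.sum_singleton] at this
    rw [mul_comm, mul_p_eq_zero_iff] at this
    exact exists_eq_mul_p p this
  choose c hc using h2'
  refine ⟨∑ j, c j • y j, ?_⟩
  rw [h1', Finset.smul_sum]
  refine Finset.sum_congr rfl fun j _ => ?_
  rw [hc j, smul_smul, mul_comm]

open TensorProduct in
lemma flat_of (h : ∀ m : M, (p : W2 p k) • m = 0 → ∃ m' : M, m = (p : W2 p k) • m') :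
    Module.Flat (W2 p k) M := by
  rw [Module.Flat.iff_lift_lsmul_comp_subtype_injective]
  intro I _
  rcases ideal_cases p I with rfl | rfl | rfl
  · intro a b _
    have : Subsingleton ((⊥ : Ideal (W2 p k)) ⊗[W2 p k] M) := by
      have : Subsingleton (⊥ : Ideal (W2 p k)) := by
        constructor
        intro a b
        apply Subtype.ext
        rw [(Submodule.mem_bot _).mp a.2, (Submodule.mem_bot _).mp b.2]
      infer_instance
    exact Subsingleton.elim _ _
  · rw [injective_iff_map_eq_zero]
    let P : (Ideal.span {(p : W2 p k)} : Ideal (W2 p k)) := ⟨p, Ideal.subset_span rfl⟩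
    have key : ∀ t : (Ideal.span {(p : W2 p k)} : Ideal (W2 p k)) ⊗[W2 p k] M,
        ∃ m : M, t = P ⊗ₜ[W2 p k] m := by
      intro t
      induction t using TensorProduct.induction_on with
      | zero => exact ⟨0, by rw [tmul_zero]⟩
      | tmul x m =>
        obtain ⟨x, hx⟩ := x
        obtain ⟨w, rfl⟩ := Ideal.mem_span_singleton'.mp hx
        refine ⟨w • m, ?_⟩
        rw [← smul_tmul]
        congr 1
      | add a b ha hb =>
        obtain ⟨m1, rfl⟩ := ha
        obtain ⟨m2, rfl⟩ := hb
        exact ⟨m1 + m2, by rw [tmul_add]⟩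
    intro t ht
    obtain ⟨m, rfl⟩ := key t
    rw [TensorProduct.lift.tmul] at ht
    have ht' : (p : W2 p k) • m = 0 := ht
    obtain ⟨m', rfl⟩ := h m ht'
    rw [← smul_tmul]
    have : (p : W2 p k) • P = 0 := by
      apply Subtype.ext
      change (p : W2 p k) * (p : W2 p k) = 0
      exact p_mul_p p
    rw [this, zero_tmul]
  · -- top
    have hinj : Function.Injective
        (TensorProduct.lift ((LinearMap.lsmul (W2 p k) M).comp (⊤ : Ideal (W2 p k)).subtype)) := by
      have e : TensorProduct.lift ((LinearMap.lsmul (W2 p k) M).comp (⊤ : Ideal (W2 p k)).subtype)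
          = (TensorProduct.lid (W2 p k) M).toLinearMap ∘ₗ
            (LinearEquiv.rTensor M (Submodule.topEquiv (R := W2 p k) (M := W2 p k))).toLinearMap := by
        apply TensorProduct.ext'
        intro x m
        simp
      rw [e, LinearMap.coe_comp]
      exact (LinearEquiv.injective _).comp (LinearEquiv.injective _)
    exact hinj

theorem flat_iff : Module.Flat (W2 p k) M ↔
    ∀ m : M, (p : W2 p k) • m = 0 → ∃ m' : M, m = (p : W2 p k) • m' :=
  ⟨fun h => flat_imp p h, flat_of p⟩

end flat

end Groth.Agent.Helper6.W2
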