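import Groth.Agent.Helper6.W2Poly

set_option autoImplicit false
universe u

namespace Groth.Agent.Helper6.W2

open FrobAlg MvPolynomial

variable (p : ℕ) [hp : Fact p.Prime] (k : Type u) [Field k] [CharP k p] [PerfectRing k p]

lemma flat_of_ringHomFlat {R S : Type*} [CommRing R] [CommRing S] [inst : Algebra R S] (f : R →+* S)
    (h : ∀ r, f r = algebraMap R S r) (hf : f.Flat) : Module.Flat R S := by
  have e : f.toAlgebra = inst := Algebra.algebra_ext _ _ (fun r => h r)
  have hf' : @Module.Flat R S _ _ f.toAlgebra.toModule := hf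
  rw [e] at hf'
  exact hf'

section
variable {n : ℕ} (J' : Ideal (MvPolynomial (Fin n) (W2 p k)))

/-- the reduction map on quotients. -/
noncomputable abbrev qmap : (MvPolynomial (Fin n) (W2 p k) ⧸ J') →+*
    (MvPolynomial (Fin n) k ⧸ J'.map (MvPolynomial.map (res p k))) :=
  Ideal.quotientMap (J'.map (MvPolynomial.map (res p k))) (MvPolynomial.map (res p k))
    Ideal.le_comap_map

lemma qmap_mk (r : MvPolynomial (Fin n) (W2 p k)) :
    qmap p k J' (Ideal.Quotient.mk J' r) = Ideal.Quotient.mk _ (red p k n r) := rfl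

lemma qmap_eq_zero_iff (b : MvPolynomial (Fin n) (W2 p k) ⧸ J') :
    qmap p k J' b = 0 ↔ ∃ c, b = (p : MvPolynomial (Fin n) (W2 p k) ⧸ J') * c := by
  constructor
  · intro hb
    obtain ⟨r, rfl⟩ := Ideal.Quotient.mk_surjective b
    rw [qmap_mk, Ideal.Quotient.eq_zero_iff_mem] at hb
    obtain ⟨j, hj, hjr⟩ := (Ideal.mem_map_iff_of_surjective _ (surjective_red p k n)).mp hb
    have : r - j ∈ RingHom.ker (red p k n) := by
      rw [RingHom.mem_ker, map_sub]
      change red p k n r - red p k n j = 0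
      rw [sub_eq_zero]; exact hjr.symm
    rw [ker_red] at this
    obtain ⟨w, hw⟩ := Ideal.mem_span_singleton'.mp this
    refine ⟨Ideal.Quotient.mk J' w, ?_⟩
    rw [← map_natCast (Ideal.Quotient.mk J'), ← map_mul, Ideal.Quotient.eq, mul_comm, hw,
      sub_sub_cancel]
    exact hj
  · rintro ⟨c, rfl⟩
    rw [map_mul, map_natCast]
    have : ((p : ℕ) : MvPolynomial (Fin n) k ⧸ J'.map (MvPolynomial.map (res p k))) = 0 := by
      rw [← map_natCast (Ideal.Quotient.mk _), ← map_natCast (C : k →+* MvPolynomial (Fin n) k),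
        CharP.cast_eq_zero, map_zero, map_zero]
    rw [this, zero_mul]

variable (hflat : ((Ideal.Quotient.mk J').comp
      (MvPolynomial.C : W2 p k →+* MvPolynomial (Fin n) (W2 p k))).Flat)

include hflat in
lemma flat_quot (b : MvPolynomial (Fin n) (W2 p k) ⧸ J')
    (hb : (p : MvPolynomial (Fin n) (W2 p k) ⧸ J') * b = 0) :
    ∃ c, b = (p : MvPolynomial (Fin n) (W2 p k) ⧸ J') * c := by
  have hfl : Module.Flat (W2 p k) (MvPolynomial (Fin n) (W2 p k) ⧸ J') :=
    flat_of_ringHomFlat _ (fun r => rfl) hflat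
  have hsm : ∀ x : MvPolynomial (Fin n) (W2 p k) ⧸ J',
      (p : W2 p k) • x = (p : MvPolynomial (Fin n) (W2 p k) ⧸ J') * x := by
    intro x
    rw [← map_natCast (algebraMap (W2 p k) (MvPolynomial (Fin n) (W2 p k) ⧸ J'))]
    exact Algebra.smul_def (R := W2 p k) (A := MvPolynomial (Fin n) (W2 p k) ⧸ J') _ _
  have h0 : (p : W2 p k) • b = 0 := by
    rw [hsm]; exact hb
  obtain ⟨c, hc⟩ := flat_imp p hfl b h0
  refine ⟨c, ?_⟩
  rw [hc, hsm]

include hflat in
lemma inf_eq_mul : Ideal.span {(p : MvPolynomial (Fin n) (W2 p k))} ⊓ J' =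
    Ideal.span {(p : MvPolynomial (Fin n) (W2 p k))} * J' := by
  apply le_antisymm
  · rintro x ⟨hx1, hx2⟩
    obtain ⟨r, rfl⟩ := Ideal.mem_span_singleton'.mp hx1
    have h0 : (p : MvPolynomial (Fin n) (W2 p k) ⧸ J') * Ideal.Quotient.mk J' r = 0 := by
      rw [← map_natCast (Ideal.Quotient.mk J'), ← map_mul, mul_comm]
      exact Ideal.Quotient.eq_zero_iff_mem.mpr hx2
    obtain ⟨c, hc⟩ := flat_quot p k J' hflat _ h0
    obtain ⟨c, rfl⟩ := Ideal.Quotient.mk_surjective c
    rw [← map_natCast (Ideal.Quotient.mk J'), ← map_mul, Ideal.Quotient.eq] at hc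
    have : r * (p : MvPolynomial (Fin n) (W2 p k)) =
        (p : MvPolynomial (Fin n) (W2 p k)) * (r - (p : MvPolynomial (Fin n) (W2 p k)) * c) := by
      rw [mul_sub, ← mul_assoc, pR_mul_pR, zero_mul, sub_zero, mul_comm]
    rw [this]
    exact Ideal.mul_mem_mul (Ideal.subset_span rfl) hc
  · exact Ideal.mul_le_inf

end

theorem frob_lifts_iff {n m : ℕ} (f' : Fin m → MvPolynomial (Fin n) (W2 p k))
    (hflat : ((Ideal.Quotient.mk (Ideal.span (Set.range f'))).comp
      (MvPolynomial.C : W2 p k →+* MvPolynomial (Fin n) (W2 p k))).Flat) :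
    (∃ Φ : (MvPolynomial (Fin n) (W2 p k) ⧸ Ideal.span (Set.range f')) →+*
        (MvPolynomial (Fin n) (W2 p k) ⧸ Ideal.span (Set.range f')),
      Φ.comp ((Ideal.Quotient.mk (Ideal.span (Set.range f'))).comp MvPolynomial.C) =
        ((Ideal.Quotient.mk (Ideal.span (Set.range f'))).comp MvPolynomial.C).comp (sigma p k) ∧
      ∀ b, Ideal.quotientMap ((Ideal.span (Set.range f')).map (MvPolynomial.map (res p k)))
          (MvPolynomial.map (res p k)) Ideal.le_comap_map (Φ b) =
        (Ideal.quotientMap ((Ideal.span (Set.range f')).map (MvPolynomial.map (res p k)))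
          (MvPolynomial.map (res p k)) Ideal.le_comap_map b) ^ p) ↔
    ∃ h : Fin n → MvPolynomial (Fin n) (W2 p k), ∀ i,
      polyFrob p k (Fin n) (f' i) - f' i ^ p
        - (p : MvPolynomial (Fin n) (W2 p k)) * ∑ j, MvPolynomial.pderiv j (f' i) ^ p * h j
        ∈ Ideal.span {(p : MvPolynomial (Fin n) (W2 p k))} * Ideal.span (Set.range f') := by
  set J' := Ideal.span (Set.range f') with hJ'
  have hfJ : ∀ i, f' i ∈ J' := fun i => Ideal.subset_span ⟨i, rfl⟩
  have hp1 : 1 ≤ p := hp.out.one_le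
  constructor
  · rintro ⟨Φ, hsemi, hred⟩
    have hX : ∀ j : Fin n, ∃ g : MvPolynomial (Fin n) (W2 p k),
        Φ (Ideal.Quotient.mk J' (X j)) = Ideal.Quotient.mk J' (X j ^ p + (p : MvPolynomial (Fin n) (W2 p k)) * g) := by
      intro j
      have h0 : qmap p k J' (Φ (Ideal.Quotient.mk J' (X j)) - Ideal.Quotient.mk J' (X j) ^ p) = 0 := by
        rw [map_sub, map_pow, sub_eq_zero]
        exact hred _
      obtain ⟨c, hc⟩ := (qmap_eq_zero_iff p k J' _).mp h0
      obtain ⟨g, rfl⟩ := Ideal.Quotient.mk_surjective c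
      refine ⟨g, ?_⟩
      rw [map_add, map_mul, map_natCast, map_pow, ← hc]; ring
    choose g hg using hX
    have hcomp : Φ.comp (Ideal.Quotient.mk J') = (Ideal.Quotient.mk J').comp (PhiG p k n g) := by
      apply MvPolynomial.ringHom_ext
      · intro w
        have := congrArg (fun F => F w) hsemi
        simp only [RingHom.comp_apply] at this
        rw [RingHom.comp_apply, this, RingHom.comp_apply, PhiG_C]
      · intro j
        rw [RingHom.comp_apply, hg, RingHom.comp_apply, PhiG_X]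
    have hmem : ∀ i, PhiG p k n g (f' i) ∈ J' := by
      intro i
      rw [← Ideal.Quotient.eq_zero_iff_mem]
      have := congrArg (fun F => F (f' i)) hcomp
      simp only [RingHom.comp_apply] at this
      rw [← this, Ideal.Quotient.eq_zero_iff_mem.mpr (hfJ i), map_zero]
    refine ⟨fun j => - g j, fun i => ?_⟩
    rw [← inf_eq_mul p k J' hflat]
    have hD : polyFrob p k (Fin n) (f' i) - f' i ^ p
        - (p : MvPolynomial (Fin n) (W2 p k)) * ∑ j, MvPolynomial.pderiv j (f' i) ^ p * (- g j) =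
        PhiG p k n g (f' i) - f' i ^ p := by
      rw [taylor]
      simp only [mul_neg, Finset.sum_neg_distrib]
      ring
    rw [hD]
    have hker : PhiG p k n g (f' i) - f' i ^ p ∈ Ideal.span {(p : MvPolynomial (Fin n) (W2 p k))} := by
      rw [← ker_red, RingHom.mem_ker, map_sub, red_PhiG, map_pow, sub_self]
    exact ⟨hker, Ideal.sub_mem _ (hmem i) (Ideal.pow_mem_of_mem _ (hfJ i) p hp.out.pos)⟩
  · rintro ⟨h, hh⟩
    let g : Fin n → MvPolynomial (Fin n) (W2 p k) := fun j => - h j
    have hmem : ∀ i, PhiG p k n g (f' i) ∈ J' := by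
      intro i
      have hD : PhiG p k n g (f' i) = f' i ^ p + (polyFrob p k (Fin n) (f' i) - f' i ^ p
        - (p : MvPolynomial (Fin n) (W2 p k)) * ∑ j, MvPolynomial.pderiv j (f' i) ^ p * h j) := by
        rw [taylor]
        simp only [g, mul_neg, Finset.sum_neg_distrib]
        ring
      rw [hD]
      exact Ideal.add_mem _ (Ideal.pow_mem_of_mem _ (hfJ i) p hp.out.pos)
        (Ideal.mul_le_inf (hh i)).2
    have hle : J' ≤ Ideal.comap (PhiG p k n g) J' := by
      rw [hJ', Ideal.span_le]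
      rintro _ ⟨i, rfl⟩
      exact hmem i
    refine ⟨Ideal.quotientMap J' (PhiG p k n g) hle, ?_, ?_⟩
    · apply RingHom.ext
      intro w
      rw [RingHom.comp_apply, RingHom.comp_apply, Ideal.quotientMap_mk, PhiG_C]
      rfl
    · intro b
      obtain ⟨r, rfl⟩ := Ideal.Quotient.mk_surjective b
      rw [Ideal.quotientMap_mk]
      change qmap p k J' (Ideal.Quotient.mk J' (PhiG p k n g r)) = qmap p k J' (Ideal.Quotient.mk J' r) ^ p
      rw [qmap_mk, qmap_mk, red_PhiG, map_pow]

end Groth.Agent.Helper6.W2
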