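import Groth.Agent.Helper6.W2

set_option autoImplicit false
universe u v

namespace Groth.Agent.Helper6.W2

open FrobAlg

variable (p : ℕ) [hp : Fact p.Prime]

section lift
variable {k : Type u} [Field k] [CharP k p] [PerfectRing k p]
variable {A : Type v} [CommRing A] [Algebra k A]
variable {B : Type v} [CommRing B] {ι : W2 p k →+* B} {π : B →+* A}

omit [PerfectRing k p] in
lemma natCast_p_eq_zero_alg (k : Type u) [Field k] [CharP k p] {A : Type v} [CommRing A] [Algebra k A] : (p : A) = 0 := by
  have : (p : A) = algebraMap k A (p : k) := (map_natCast (algebraMap k A) p).symm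
  rw [this, CharP.cast_eq_zero, map_zero]

lemma L_ker_pi (h : IsLift p k A B ι π) : RingHom.ker π = Ideal.span {(p : B)} := by
  rw [h.ker_eq, ker_res, Ideal.map_span, Set.image_singleton, map_natCast]

omit [PerfectRing k p] in
lemma L_p_mul_p (_h : IsLift p k A B ι π) : (p : B) * (p : B) = 0 := by
  have := congrArg ι (Groth.Agent.Helper6.W2.p_mul_p (R := k) p)
  simpa using this

lemma L_exists_of_pi_eq_zero (h : IsLift p k A B ι π) {b : B} (hb : π b = 0) :
    ∃ c, b = (p : B) * c := by
  have : b ∈ RingHom.ker π := hb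
  rw [L_ker_pi p h] at this
  obtain ⟨c, hc⟩ := Ideal.mem_span_singleton'.mp this
  exact ⟨c, by rw [← hc, mul_comm]⟩

lemma L_pi_p_mul (h : IsLift p k A B ι π) (b : B) : π ((p : B) * b) = 0 := by
  have : (p : B) * b ∈ RingHom.ker π := by
    rw [L_ker_pi p h]
    exact Ideal.mul_mem_right _ _ (Ideal.subset_span rfl)
  exact this

lemma L_exists_of_p_mul_eq_zero (h : IsLift p k A B ι π) {b : B} (hb : (p : B) * b = 0) :
    ∃ c, b = (p : B) * c := by
  letI := ι.toAlgebra
  have hfl : Module.Flat (W2 p k) B := h.flat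
  have h0 : (p : W2 p k) • b = 0 := by
    rw [Algebra.smul_def, map_natCast]; exact hb
  obtain ⟨c, hc⟩ := flat_imp p hfl b h0
  refine ⟨c, ?_⟩
  rw [hc, Algebra.smul_def, map_natCast]

lemma L_pi_eq_zero_of_p_mul (h : IsLift p k A B ι π) {b : B} (hb : (p : B) * b = 0) :
    π b = 0 := by
  obtain ⟨c, rfl⟩ := L_exists_of_p_mul_eq_zero p h hb
  exact L_pi_p_mul p h c

lemma L_pi_eq_of_p_mul_eq (h : IsLift p k A B ι π) {x y : B}
    (hxy : (p : B) * x = (p : B) * y) : π x = π y := by
  have : π (x - y) = 0 := L_pi_eq_zero_of_p_mul p h (by rw [mul_sub, hxy, sub_self])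
  rwa [map_sub, sub_eq_zero] at this

/-- A criterion for `IsLift`. -/
lemma isLift_of (ι : W2 p k →+* B) (π : B →+* A) (hsurj : Function.Surjective π)
    (hker : ∀ b, π b = 0 → ∃ c, b = (p : B) * c)
    (hflat : ∀ b, (p : B) * b = 0 → π b = 0)
    (hcomm : ∀ w, π (ι w) = algebraMap k A (res p k w)) : IsLift p k A B ι π where
  flat := by
    letI := ι.toAlgebra
    change Module.Flat (W2 p k) B
    apply flat_of p
    intro m hm
    rw [Algebra.smul_def, map_natCast] at hm
    obtain ⟨c, hc⟩ := hker m (hflat m hm)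
    exact ⟨c, by rw [Algebra.smul_def, map_natCast]; exact hc⟩
  surj := hsurj
  ker_eq := by
    rw [ker_res, Ideal.map_span, Set.image_singleton, map_natCast]
    apply le_antisymm
    · intro b hb
      obtain ⟨c, rfl⟩ := hker b hb
      exact Ideal.mul_mem_right _ _ (Ideal.subset_span rfl)
    · rw [Ideal.span_le, Set.singleton_subset_iff]
      change π (p : B) = 0
      rw [map_natCast]
      exact natCast_p_eq_zero_alg p k
  comm := RingHom.ext hcomm

end lift

end Groth.Agent.Helper6.W2
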