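import Mathlib
import Groth.Agent.Helper6.W2CI

set_option autoImplicit false
universe u

namespace Groth.Agent.Helper6.W2

open FrobAlg MvPolynomial

section general

variable {R : Type*} [CommRing R]

/-- the ideal generated by the first `i` members of a family -/
def prefixIdeal {m : ℕ} (f : Fin m → R) (i : ℕ) : Ideal R :=
  Ideal.span (f '' {j | j.val < i})

lemma prefixIdeal_zero {m : ℕ} (f : Fin m → R) : prefixIdeal f 0 = ⊥ := by
  unfold prefixIdeal
  have : {j : Fin m | j.val < 0} = ∅ := by ext j; simp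
  rw [this, Set.image_empty, Ideal.span_empty]

lemma prefixIdeal_top {m : ℕ} (f : Fin m → R) : prefixIdeal f m = Ideal.span (Set.range f) := by
  unfold prefixIdeal
  have : {j : Fin m | j.val < m} = Set.univ := by ext j; simp
  rw [this, Set.image_univ]

lemma prefixIdeal_succ {m : ℕ} (f : Fin m → R) (i : ℕ) (hi : i < m) :
    prefixIdeal f (i + 1) = Ideal.span (insert (f ⟨i, hi⟩) (f '' {j | j.val < i})) := by
  unfold prefixIdeal
  congr 1
  rw [← Set.image_insert_eq]
  congr 1
  ext j
  simp only [Set.mem_ofPred_eq, Set.mem_insert_iff]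
  constructor
  · intro h
    by_cases hj : j.val = i
    · left; exact Fin.ext hj
    · right; omega
  · rintro (h | h)
    · rw [h]; simp
    · omega

lemma ofList_take_ofFn {m : ℕ} (f : Fin m → R) (i : ℕ) (hi : i ≤ m) :
    Ideal.ofList ((List.ofFn f).take i) = prefixIdeal f i := by
  unfold prefixIdeal Ideal.ofList
  congr 1
  ext x
  simp only [Set.mem_ofPred_eq, Set.mem_image]
  rw [List.mem_take_iff_getElem]
  constructor
  · rintro ⟨j, hj, rfl⟩
    rw [List.length_ofFn] at hj
    refine ⟨⟨j, by omega⟩, by simp at hj ⊢; omega, ?_⟩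
    rw [List.getElem_ofFn]
  · rintro ⟨j, hj, rfl⟩
    refine ⟨j.val, by rw [List.length_ofFn]; simp; omega, ?_⟩
    rw [List.getElem_ofFn]

lemma regular_ofFn {m : ℕ} (f : Fin m → R)
    (h : RingTheory.Sequence.IsWeaklyRegular R (List.ofFn f)) (i : ℕ) (hi : i < m) (s : R)
    (hs : f ⟨i, hi⟩ * s ∈ prefixIdeal f i) : s ∈ prefixIdeal f i := by
  have h1 := h.regular_mod_prev i (by rw [List.length_ofFn]; exact hi)
  rw [List.getElem_ofFn, ofList_take_ofFn f i hi.le] at h1
  have h2 : (prefixIdeal f i • (⊤ : Submodule R R) : Submodule R R) = prefixIdeal f i := by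
    rw [Ideal.smul_eq_mul, Ideal.mul_top]
  rw [h2] at h1
  have h3 := h1 (a₁ := Submodule.Quotient.mk s) (a₂ := 0)
    (by
      show f ⟨i, hi⟩ • Submodule.Quotient.mk s = f ⟨i, hi⟩ • (0 : R ⧸ (prefixIdeal f i : Submodule R R))
      rw [smul_zero, ← Submodule.Quotient.mk_smul, Submodule.Quotient.mk_eq_zero]
      exact hs)
  rwa [Submodule.Quotient.mk_eq_zero] at h3

end general


section w2

variable (p : ℕ) [hp : Fact p.Prime] (k : Type u) [Field k] [CharP k p] [PerfectRing k p]
variable {n : ℕ}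

lemma exists_of_p_mul_eq_zero (r : MvPolynomial (Fin n) (W2 p k))
    (h : (p : MvPolynomial (Fin n) (W2 p k)) * r = 0) :
    ∃ z, r = (p : MvPolynomial (Fin n) (W2 p k)) * z := by
  have hr : r ∈ RingHom.ker (red p k n) := by
    rw [RingHom.mem_ker]
    ext d
    have h1 := congrArg (MvPolynomial.coeff d) h
    rw [natCast_eq_C, MvPolynomial.coeff_C_mul, MvPolynomial.coeff_zero, mul_comm] at h1
    have h2 := (mul_p_eq_zero_iff p (MvPolynomial.coeff d r)).1 h1
    show MvPolynomial.coeff d (MvPolynomial.map (res p k) r) = MvPolynomial.coeff d 0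
    rw [MvPolynomial.coeff_map, MvPolynomial.coeff_zero, res_apply]
    exact h2
  rw [ker_red] at hr
  obtain ⟨z, hz⟩ := Ideal.mem_span_singleton'.1 hr
  exact ⟨z, by rw [← hz, mul_comm]⟩

lemma map_prefixIdeal {m : ℕ} (f' : Fin m → MvPolynomial (Fin n) (W2 p k)) (i : ℕ) :
    (prefixIdeal f' i).map (red p k n) = prefixIdeal (fun j => red p k n (f' j)) i := by
  unfold prefixIdeal
  rw [Ideal.map_span, Set.image_image]

/-- the key flatness induction -/
lemma p_mul_mem_prefix {m : ℕ} (f' : Fin m → MvPolynomial (Fin n) (W2 p k))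
    (hreg : RingTheory.Sequence.IsWeaklyRegular (MvPolynomial (Fin n) k)
      (List.ofFn fun j => red p k n (f' j))) :
    ∀ i, i ≤ m → ∀ r : MvPolynomial (Fin n) (W2 p k),
      (p : MvPolynomial (Fin n) (W2 p k)) * r ∈ prefixIdeal f' i →
      ∃ j' ∈ prefixIdeal f' i, ∃ z, r = j' + (p : MvPolynomial (Fin n) (W2 p k)) * z := by
  intro i
  induction i with
  | zero =>
    intro _ r hr
    rw [prefixIdeal_zero, Ideal.mem_bot] at hr
    obtain ⟨z, hz⟩ := exists_of_p_mul_eq_zero p k r hr
    exact ⟨0, Ideal.zero_mem _, z, by rw [zero_add]; exact hz⟩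
  | succ i ih =>
    intro hi r hr
    have hi' : i < m := hi
    rw [prefixIdeal_succ f' i hi', Ideal.mem_span_insert] at hr
    obtain ⟨s, j, hj, hrj⟩ := hr
    have hj' : j ∈ prefixIdeal f' i := hj
    -- reduce mod p
    have h1 := congrArg (red p k n) hrj
    rw [map_mul, red_p, zero_mul, map_add, map_mul] at h1
    have hredj : red p k n j ∈ prefixIdeal (fun j => red p k n (f' j)) i := by
      rw [← map_prefixIdeal]
      exact Ideal.mem_map_of_mem _ hj'
    have h2 : red p k n (f' ⟨i, hi'⟩) * red p k n s ∈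
        prefixIdeal (fun j => red p k n (f' j)) i := by
      have : red p k n (f' ⟨i, hi'⟩) * red p k n s = -(red p k n j) := by
        linear_combination -h1
      rw [this]
      exact Ideal.neg_mem_iff _ |>.2 hredj
    have h3 := regular_ofFn (fun j => red p k n (f' j)) hreg i hi' _ h2
    rw [← map_prefixIdeal] at h3
    obtain ⟨j'', hj'', hjs⟩ := (Ideal.mem_map_iff_of_surjective _ (surjective_red p k n)).1 h3
    have h4 : s - j'' ∈ RingHom.ker (red p k n) := by
      rw [RingHom.mem_ker, map_sub, hjs, sub_self]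
    rw [ker_red] at h4
    obtain ⟨s', hs'⟩ := Ideal.mem_span_singleton'.1 h4
    -- p (r - s' f'_i) ∈ J_i'
    have h5 : (p : MvPolynomial (Fin n) (W2 p k)) * (r - s' * f' ⟨i, hi'⟩) ∈ prefixIdeal f' i := by
      have : (p : MvPolynomial (Fin n) (W2 p k)) * (r - s' * f' ⟨i, hi'⟩) =
          j'' * f' ⟨i, hi'⟩ + j := by
        have e : s = j'' + s' * (p : MvPolynomial (Fin n) (W2 p k)) := by
          rw [hs']; ring
        rw [mul_sub, hrj, e]; ring
      rw [this]
      exact Ideal.add_mem _ (Ideal.mul_mem_right _ _ hj'') hj'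
    obtain ⟨j1, hj1, z, hz⟩ := ih hi'.le _ h5
    refine ⟨j1 + s' * f' ⟨i, hi'⟩, ?_, z, ?_⟩
    · rw [prefixIdeal_succ f' i hi']
      apply Ideal.add_mem
      · exact Ideal.span_mono (Set.subset_insert _ _) hj1
      · exact Ideal.mul_mem_left _ _ (Ideal.subset_span (Set.mem_insert _ _))
    · linear_combination hz

lemma red_mem_of_p_mul_mem {m : ℕ} (f' : Fin m → MvPolynomial (Fin n) (W2 p k))
    (hreg : RingTheory.Sequence.IsWeaklyRegular (MvPolynomial (Fin n) k)
      (List.ofFn fun j => red p k n (f' j)))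
    (r : MvPolynomial (Fin n) (W2 p k))
    (hr : (p : MvPolynomial (Fin n) (W2 p k)) * r ∈ Ideal.span (Set.range f')) :
    red p k n r ∈ (Ideal.span (Set.range f')).map (red p k n) := by
  rw [← prefixIdeal_top] at hr ⊢
  obtain ⟨j', hj', z, rfl⟩ := p_mul_mem_prefix p k f' hreg m le_rfl r hr
  rw [map_add, map_mul, red_p, zero_mul, add_zero]
  exact Ideal.mem_map_of_mem _ hj'

end w2

end Groth.Agent.Helper6.W2
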