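import Mathlib
import Groth.Agent.Helper6.W2Reg
import Groth.Agent.Helper6.W2Lift

set_option autoImplicit false
universe u

namespace Groth.Agent.Helper6.W2

open FrobAlg MvPolynomial

variable (p : ℕ) [hp : Fact p.Prime] (k : Type u) [Field k] [CharP k p] [PerfectRing k p]

theorem isFLiftable_of {n m : ℕ} (f : Fin m → MvPolynomial (Fin n) k)
    (hreg : RingTheory.Sequence.IsWeaklyRegular (MvPolynomial (Fin n) k) (List.ofFn f))
    (f' : Fin m → MvPolynomial (Fin n) (W2 p k)) (h : Fin n → MvPolynomial (Fin n) (W2 p k))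
    (hf' : ∀ i, MvPolynomial.map (res p k) (f' i) = f i)
    (hcong : ∀ i, polyFrob p k (Fin n) (f' i) - f' i ^ p
        - (p : MvPolynomial (Fin n) (W2 p k)) * ∑ j, MvPolynomial.pderiv j (f' i) ^ p * h j
        ∈ Ideal.span {(p : MvPolynomial (Fin n) (W2 p k))} * Ideal.span (Set.range f')) :
    FrobAlg.IsFLiftable p k (MvPolynomial (Fin n) k ⧸ Ideal.span (Set.range f)) := by
  set J' := Ideal.span (Set.range f') with hJ'
  have hfeq : (fun j => red p k n (f' j)) = f := funext hf'
  have hJ : J'.map (MvPolynomial.map (res p k)) = Ideal.span (Set.range f) := by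
    rw [hJ', Ideal.map_span, ← Set.range_comp]
    congr 1
    exact congrArg Set.range hfeq
  let e := Ideal.quotEquivOfEq hJ
  let ι : W2 p k →+* (MvPolynomial (Fin n) (W2 p k) ⧸ J') := (Ideal.Quotient.mk J').comp C
  let π : (MvPolynomial (Fin n) (W2 p k) ⧸ J') →+* (MvPolynomial (Fin n) k ⧸ Ideal.span (Set.range f)) :=
    (e : _ →+* _).comp (qmap p k J')
  have hπmk : ∀ r, π (Ideal.Quotient.mk J' r) = Ideal.Quotient.mk _ (red p k n r) := by
    intro r
    show e (qmap p k J' (Ideal.Quotient.mk J' r)) = _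
    rw [qmap_mk]
    exact Ideal.quotEquivOfEq_mk hJ _
  have hlift : IsLift p k (MvPolynomial (Fin n) k ⧸ Ideal.span (Set.range f))
      (MvPolynomial (Fin n) (W2 p k) ⧸ J') ι π := by
    apply isLift_of p ι π
    · intro y
      obtain ⟨r0, rfl⟩ := Ideal.Quotient.mk_surjective y
      obtain ⟨r, rfl⟩ := surjective_red p k n r0
      exact ⟨Ideal.Quotient.mk J' r, hπmk r⟩
    · intro b hb
      have : qmap p k J' b = 0 := by
        have : e (qmap p k J' b) = 0 := hb
        exact (map_eq_zero_iff e e.injective).1 this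
      exact (qmap_eq_zero_iff p k J' b).1 this
    · intro b hb
      obtain ⟨r, rfl⟩ := Ideal.Quotient.mk_surjective b
      rw [hπmk, Ideal.Quotient.eq_zero_iff_mem, ← hJ]
      apply red_mem_of_p_mul_mem p k f' (by rw [hfeq]; exact hreg)
      rw [← map_natCast (Ideal.Quotient.mk J'), ← map_mul, Ideal.Quotient.eq_zero_iff_mem] at hb
      exact hb
    · intro w
      show π (Ideal.Quotient.mk J' (C w)) = _
      rw [hπmk]
      show Ideal.Quotient.mk _ (MvPolynomial.map (res p k) (C w)) = _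
      rw [MvPolynomial.map_C]
      rfl
  obtain ⟨Φ, hsemi, hred⟩ := (frob_lifts_iff p k f' hlift.flat).2 ⟨h, hcong⟩
  refine ⟨_, inferInstance, ι, π, Φ, { toIsLift := hlift, semi := hsemi, red := fun b => ?_ }⟩
  show e (qmap p k J' (Φ b)) = (e (qmap p k J' b)) ^ p
  rw [← map_pow]
  congr 1
  exact hred b


theorem exists_of_isFLiftable {n m : ℕ} (f : Fin m → MvPolynomial (Fin n) k)
    (hF : FrobAlg.IsFLiftable p k (MvPolynomial (Fin n) k ⧸ Ideal.span (Set.range f))) :
    ∃ (f' : Fin m → MvPolynomial (Fin n) (W2 p k)) (h : Fin n → MvPolynomial (Fin n) (W2 p k)),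
      (∀ i, MvPolynomial.map (res p k) (f' i) = f i) ∧
      ∀ i, polyFrob p k (Fin n) (f' i) - f' i ^ p
        - (p : MvPolynomial (Fin n) (W2 p k)) * ∑ j, MvPolynomial.pderiv j (f' i) ^ p * h j
        ∈ Ideal.span {(p : MvPolynomial (Fin n) (W2 p k))} * Ideal.span (Set.range f') := by
  obtain ⟨B, _, ι, π, Φ, hFL⟩ := hF
  have hL : IsLift p k _ B ι π := hFL.toIsLift
  -- lifts of the variables
  have hb : ∀ j : Fin n, ∃ b : B, π b = Ideal.Quotient.mk (Ideal.span (Set.range f)) (X j) := fun j => hL.surj _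
  choose b hbj using hb
  let ψ : MvPolynomial (Fin n) (W2 p k) →+* B := eval₂Hom ι b
  have hψC : ∀ w, ψ (C w) = ι w := fun w => by simp [ψ]
  have hψX : ∀ j, ψ (X j) = b j := fun j => by simp [ψ]
  have hψp : ψ (p : MvPolynomial (Fin n) (W2 p k)) = (p : B) := map_natCast ψ p
  have hπψ : ∀ r, π (ψ r) = Ideal.Quotient.mk (Ideal.span (Set.range f)) (red p k n r) := by
    have : π.comp ψ = (Ideal.Quotient.mk (Ideal.span (Set.range f))).comp (red p k n) := by
      apply MvPolynomial.ringHom_ext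
      · intro w
        rw [RingHom.comp_apply, hψC, RingHom.comp_apply]
        have := congrArg (fun F => F w) hL.comm
        simp only [RingHom.comp_apply] at this
        rw [this]
        show _ = Ideal.Quotient.mk (Ideal.span (Set.range f)) (MvPolynomial.map (res p k) (C w))
        rw [MvPolynomial.map_C]
        rfl
      · intro j
        rw [RingHom.comp_apply, hψX, hbj, RingHom.comp_apply]
        show _ = Ideal.Quotient.mk (Ideal.span (Set.range f)) (MvPolynomial.map (res p k) (X j))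
        rw [MvPolynomial.map_X]
    intro r
    exact congrArg (fun F => F r) this
  -- first-order surjectivity
  have hsurj1 : ∀ y : B, ∃ r c, y = ψ r + (p : B) * c := by
    intro y
    obtain ⟨r0, hr0⟩ := Ideal.Quotient.mk_surjective (π y)
    obtain ⟨r, rfl⟩ := surjective_red p k n r0
    have : π (y - ψ r) = 0 := by rw [map_sub, hπψ, hr0, sub_self]
    obtain ⟨c, hc⟩ := L_exists_of_pi_eq_zero p hL this
    exact ⟨r, c, by rw [← hc]; ring⟩
  have hsurj : Function.Surjective ψ := by
    intro y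
    obtain ⟨r, c, rfl⟩ := hsurj1 y
    obtain ⟨r', c', rfl⟩ := hsurj1 c
    refine ⟨r + (p : MvPolynomial (Fin n) (W2 p k)) * r', ?_⟩
    rw [map_add, map_mul, hψp, mul_add, ← mul_assoc, L_p_mul_p p hL, zero_mul, add_zero]
  -- elements of ψ killed by π
  have hkill : ∀ r, Ideal.Quotient.mk (Ideal.span (Set.range f)) (red p k n r) = 0 → ∃ s, ψ r = ψ ((p : MvPolynomial (Fin n) (W2 p k)) * s) := by
    intro r hr
    have : π (ψ r) = 0 := by rw [hπψ, hr]
    obtain ⟨c, hc⟩ := L_exists_of_pi_eq_zero p hL this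
    obtain ⟨s, rfl⟩ := hsurj c
    exact ⟨s, by rw [hc, map_mul, hψp]⟩
  -- the lifts f'
  have hf'ex : ∀ i, ∃ r : MvPolynomial (Fin n) (W2 p k), red p k n r = f i ∧ ψ r = 0 := by
    intro i
    obtain ⟨r, hr⟩ := surjective_red p k n (f i)
    obtain ⟨s, hs⟩ := hkill r (by
      rw [hr, Ideal.Quotient.eq_zero_iff_mem]; exact Ideal.subset_span ⟨i, rfl⟩)
    refine ⟨r - (p : MvPolynomial (Fin n) (W2 p k)) * s, ?_, ?_⟩
    · rw [map_sub, map_mul, red_p, zero_mul, sub_zero, hr]
    · rw [map_sub, hs, sub_self]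
  choose f' hf'red hf'ψ using hf'ex
  set J' := Ideal.span (Set.range f') with hJ'
  have hJmap : J'.map (red p k n) = (Ideal.span (Set.range f)) := by
    rw [hJ', Ideal.map_span, ← Set.range_comp]
    congr 1
    exact congrArg Set.range (funext hf'red)
  -- the g's
  have hgex : ∀ j, ∃ g : MvPolynomial (Fin n) (W2 p k),
      Φ (ψ (X j)) = ψ (X j ^ p + (p : MvPolynomial (Fin n) (W2 p k)) * g) := by
    intro j
    have h0 : π (Φ (ψ (X j)) - ψ (X j ^ p)) = 0 := by
      rw [map_sub, hFL.red, hπψ, hπψ, map_pow, map_pow, sub_self]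
    obtain ⟨c, hc⟩ := L_exists_of_pi_eq_zero p hL h0
    obtain ⟨g, rfl⟩ := hsurj c
    refine ⟨g, ?_⟩
    rw [map_add, map_mul, hψp, ← hc]; ring
  choose g hg using hgex
  have hcomp : Φ.comp ψ = ψ.comp (PhiG p k n g) := by
    apply MvPolynomial.ringHom_ext
    · intro w
      rw [RingHom.comp_apply, hψC, RingHom.comp_apply, PhiG_C, hψC]
      have := congrArg (fun F => F w) hFL.semi
      simpa only [RingHom.comp_apply] using this
    · intro j
      rw [RingHom.comp_apply, hg, RingHom.comp_apply, PhiG_X]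
  have hmem : ∀ i, ψ (PhiG p k n g (f' i)) = 0 := by
    intro i
    have := congrArg (fun F => F (f' i)) hcomp
    simp only [RingHom.comp_apply] at this
    rw [← this, hf'ψ, map_zero]
  refine ⟨f', fun j => - g j, hf'red, fun i => ?_⟩
  have hD : polyFrob p k (Fin n) (f' i) - f' i ^ p
      - (p : MvPolynomial (Fin n) (W2 p k)) * ∑ j, MvPolynomial.pderiv j (f' i) ^ p * (- g j) =
      PhiG p k n g (f' i) - f' i ^ p := by
    rw [taylor]
    simp only [mul_neg, Finset.sum_neg_distrib]
    ring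
  rw [hD]
  set E := PhiG p k n g (f' i) - f' i ^ p with hE
  have hEψ : ψ E = 0 := by rw [hE, map_sub, hmem, map_pow, hf'ψ, zero_pow hp.out.ne_zero, sub_zero]
  have hEred : E ∈ RingHom.ker (red p k n) := by
    rw [RingHom.mem_ker, hE, map_sub, red_PhiG, map_pow, sub_self]
  rw [ker_red] at hEred
  obtain ⟨y, hy⟩ := Ideal.mem_span_singleton'.1 hEred
  -- ψ y = p ψ s
  have h1 : (p : B) * ψ y = 0 := by
    rw [← hψp, ← map_mul, mul_comm, hy, hEψ]
  obtain ⟨c, hc⟩ := L_exists_of_p_mul_eq_zero p hL h1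
  obtain ⟨s, rfl⟩ := hsurj c
  set y' := y - (p : MvPolynomial (Fin n) (W2 p k)) * s with hy'
  have hy'ψ : ψ y' = 0 := by rw [hy', map_sub, map_mul, hψp, hc, sub_self]
  have hy'E : (p : MvPolynomial (Fin n) (W2 p k)) * y' = E := by
    rw [hy', mul_sub, ← mul_assoc, pR_mul_pR, zero_mul, sub_zero, mul_comm, hy]
  have hy'Jm : red p k n y' ∈ J'.map (red p k n) := by
    rw [hJmap, ← Ideal.Quotient.eq_zero_iff_mem, ← hπψ, hy'ψ, map_zero]
  obtain ⟨j', hj', hjy⟩ := (Ideal.mem_map_iff_of_surjective _ (surjective_red p k n)).1 hy'Jm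
  have h2 : y' - j' ∈ RingHom.ker (red p k n) := by
    rw [RingHom.mem_ker, map_sub, hjy, sub_self]
  rw [ker_red] at h2
  obtain ⟨z, hz⟩ := Ideal.mem_span_singleton'.1 h2
  have h3 : E = (p : MvPolynomial (Fin n) (W2 p k)) * j' := by
    have : y' = j' + z * (p : MvPolynomial (Fin n) (W2 p k)) := by rw [hz]; ring
    rw [← hy'E, this, mul_add, mul_comm z, ← mul_assoc, pR_mul_pR, zero_mul, add_zero]
  rw [h3]
  exact Ideal.mul_mem_mul (Ideal.subset_span rfl) hj'

end Groth.Agent.Helper6.W2
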