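import Groth.Agent.Helper6.W2Lift

set_option autoImplicit false
universe u

namespace Groth.Agent.Helper6.W2

open FrobAlg

variable (p : ℕ) [hp : Fact p.Prime]

section general
variable {R S : Type*} [CommRing R] [CommRing S]

lemma truncMap_surjective {f : R →+* S} (hf : Function.Surjective f) :
    Function.Surjective (WittGrp.truncMap p 2 f) := by
  intro y
  obtain ⟨a, ha⟩ := hf (y.coeff 0)
  obtain ⟨b, hb⟩ := hf (y.coeff 1)
  refine ⟨tau p a + V2 p b, ?_⟩
  obtain ⟨h0, h1⟩ := coeff_tau_add_V2 p a b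
  apply ext2
  · rw [WittGrp.coeff_truncMap, h0, ha]
  · rw [WittGrp.coeff_truncMap, h1, hb]

lemma truncMap_eq_zero_iff {f : R →+* S} (x : W2 p R) :
    WittGrp.truncMap p 2 f x = 0 ↔ f (x.coeff 0) = 0 ∧ f (x.coeff 1) = 0 := by
  constructor
  · intro h
    have h0 := congrArg (TruncatedWittVector.coeff (0 : Fin 2)) h
    have h1 := congrArg (TruncatedWittVector.coeff (1 : Fin 2)) h
    rw [WittGrp.coeff_truncMap, TruncatedWittVector.coeff_zero] at h0 h1
    exact ⟨h0, h1⟩
  · rintro ⟨h0, h1⟩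
    apply ext2
    · rw [WittGrp.coeff_truncMap, h0, TruncatedWittVector.coeff_zero]
    · rw [WittGrp.coeff_truncMap, h1, TruncatedWittVector.coeff_zero]

end general

section witt_of_witt
variable {k : Type u} [Field k] [CharP k p] [PerfectRing k p]

/-- The canonical element `(w, [w₁])` of `W₂(W₂(k))`. -/
noncomputable def dd (w : W2 p k) : W2 p (W2 p k) := tau p w + V2 p (tau p (w.coeff 1))

omit [PerfectRing k p] in
lemma truncMap_res_dd (w : W2 p k) : WittGrp.truncMap p 2 (res p k) (dd p w) = w := by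
  obtain ⟨h0, h1⟩ := coeff_tau_add_V2 p w (tau p (w.coeff 1))
  apply ext2
  · rw [WittGrp.coeff_truncMap, dd, h0, res_apply]
  · rw [WittGrp.coeff_truncMap, dd, h1, res_apply, tau_coeff_zero]

omit [PerfectRing k p] in
lemma res_dd (w : W2 p k) : res p (W2 p k) (dd p w) = w := by
  rw [res_apply, dd, (coeff_tau_add_V2 p _ _).1]

omit [PerfectRing k p] in
lemma w1_dd (w : W2 p k) : w1 p (dd p w) = sigma p k w := by
  obtain ⟨h0, h1⟩ := coeff_tau_add_V2 p w (tau p (w.coeff 1))
  rw [w1_apply, dd, h0, h1, sigma_eq_pow_add, mul_comm, mul_p, tau_coeff_zero]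

/-- The element `([w₀], [w₁])` of `W₂(W₂(k))`. -/
noncomputable def ee (w : W2 p k) : W2 p (W2 p k) :=
  tau p (tau p (w.coeff 0)) + V2 p (tau p (w.coeff 1))

omit [PerfectRing k p] in
lemma truncMap_res_ee (w : W2 p k) : WittGrp.truncMap p 2 (res p k) (ee p w) = w := by
  obtain ⟨h0, h1⟩ := coeff_tau_add_V2 p (tau p (w.coeff 0)) (tau p (w.coeff 1))
  apply ext2
  · rw [WittGrp.coeff_truncMap, ee, h0, res_apply, tau_coeff_zero]
  · rw [WittGrp.coeff_truncMap, ee, h1, res_apply, tau_coeff_zero]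

omit [PerfectRing k p] in
lemma w1_ee (w : W2 p k) : w1 p (ee p w) = sigma p k w := by
  obtain ⟨h0, h1⟩ := coeff_tau_add_V2 p (tau p (w.coeff 0)) (tau p (w.coeff 1))
  rw [w1_apply, ee, h0, h1, sigma_eq, mul_comm, mul_p, tau_coeff_zero, tau_pow]

end witt_of_witt

section frob
variable {k : Type u} [Field k] [CharP k p] [PerfectRing k p]
variable {A B : Type u} [CommRing A] [Algebra k A] [CommRing B]
variable {ι : W2 p k →+* B} {π : B →+* A}

theorem exists_theta_of_frobLift (Φ : B →+* B) (hΦ : IsFrobLift p k A B ι π Φ) :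
    ∃ θ : B →+* W2 p A, (res p A).comp θ = π ∧
      θ.comp ι = WittGrp.truncMap p 2 (algebraMap k A) := by
  have hB : IsLift p k A B ι π := hΦ.toIsLift
  let T : Subring (W2 p B) := (w1 p).eqLocus (Φ.comp (res p B))
  let ρ : T →+* B := (res p B).comp T.subtype
  have hρ : Function.Surjective ρ := by
    intro b
    have h0 : π (Φ b - b ^ p) = 0 := by rw [map_sub, hΦ.red, map_pow, sub_self]
    obtain ⟨c, hc⟩ := L_exists_of_pi_eq_zero p hB h0
    obtain ⟨e0, e1⟩ := coeff_tau_add_V2 p b c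
    refine ⟨⟨tau p b + V2 p c, ?_⟩, ?_⟩
    · change w1 p _ = Φ (res p B _)
      rw [w1_apply, res_apply, e0, e1, ← hc, add_sub_cancel]
    · change res p B (tau p b + V2 p c) = b
      rw [res_apply]; exact e0
  let g : T →+* W2 p A := (WittGrp.truncMap p 2 π).comp T.subtype
  have hg : RingHom.ker ρ ≤ RingHom.ker g := by
    intro x hx
    rw [RingHom.mem_ker] at hx ⊢
    have hx0 : (x : W2 p B).coeff 0 = 0 := by
      have : res p B (x : W2 p B) = 0 := hx
      rwa [res_apply] at this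
    have hxT : w1 p (x : W2 p B) = Φ (res p B (x : W2 p B)) := x.2
    rw [w1_apply, res_apply, hx0, zero_pow hp.out.ne_zero, zero_add, map_zero] at hxT
    have := L_pi_eq_zero_of_p_mul p hB hxT
    change WittGrp.truncMap p 2 π (x : W2 p B) = 0
    rw [truncMap_eq_zero_iff, hx0, map_zero]
    exact ⟨rfl, this⟩
  let θ : B →+* W2 p A := RingHom.liftOfSurjective ρ hρ ⟨g, hg⟩
  have hθ : ∀ x : T, θ (ρ x) = g x := fun x =>
    RingHom.liftOfRightInverse_comp_apply _ _ _ _ x
  refine ⟨θ, ?_, ?_⟩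
  · apply RingHom.ext
    intro b
    obtain ⟨x, rfl⟩ := hρ b
    rw [RingHom.comp_apply, hθ, res_apply]
    change (WittGrp.truncMap p 2 π (x : W2 p B)).coeff 0 = π (res p B (x : W2 p B))
    rw [WittGrp.coeff_truncMap, res_apply]
  · apply RingHom.ext
    intro w
    have hmem : WittGrp.truncMap p 2 ι (dd p w) ∈ T := by
      change w1 p _ = Φ (res p B _)
      rw [w1_truncMap, w1_dd, res_apply, WittGrp.coeff_truncMap, ← res_apply, res_dd]
      have := congrArg (fun f => f w) hΦ.semi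
      simp only [RingHom.comp_apply] at this
      exact this.symm
    have hρx : ρ ⟨_, hmem⟩ = ι w := by
      change res p B (WittGrp.truncMap p 2 ι (dd p w)) = ι w
      rw [res_apply, WittGrp.coeff_truncMap, ← res_apply, res_dd]
    rw [RingHom.comp_apply, ← hρx, hθ]
    change WittGrp.truncMap p 2 π (WittGrp.truncMap p 2 ι (dd p w)) = _
    rw [← RingHom.comp_apply, ← WittGrp.truncMap_comp, hB.comm, WittGrp.truncMap_comp,
      RingHom.comp_apply, truncMap_res_dd]

theorem exists_frobLift_of_theta (hB : IsLift p k A B ι π) (θ : B →+* W2 p A)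
    (h1 : (res p A).comp θ = π) (h2 : θ.comp ι = WittGrp.truncMap p 2 (algebraMap k A)) :
    ∃ Φ : B →+* B, IsFrobLift p k A B ι π Φ := by
  have hpA : (p : A) = 0 := natCast_p_eq_zero_alg p k
  have hsurj : Function.Surjective (WittGrp.truncMap p 2 π) := truncMap_surjective p hB.surj
  have hker : RingHom.ker (WittGrp.truncMap p 2 π) ≤ RingHom.ker (w1 (B := B) p) := by
    intro x hx
    rw [RingHom.mem_ker] at hx ⊢
    rw [truncMap_eq_zero_iff] at hx
    obtain ⟨c0, hc0⟩ := L_exists_of_pi_eq_zero p hB hx.1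
    obtain ⟨c1, hc1⟩ := L_exists_of_pi_eq_zero p hB hx.2
    rw [w1_apply, hc0, hc1, ← mul_assoc, L_p_mul_p p hB, zero_mul, add_zero, mul_pow]
    have hp2 : 2 ≤ p := hp.out.two_le
    have h2 : (p : B) ^ 2 = 0 := by rw [pow_two]; exact L_p_mul_p p hB
    rw [pow_eq_zero_of_le hp2 h2, zero_mul]
  let wt : W2 p A →+* B := RingHom.liftOfSurjective (WittGrp.truncMap p 2 π) hsurj ⟨w1 p, hker⟩
  have hwt : ∀ x : W2 p B, wt (WittGrp.truncMap p 2 π x) = w1 p x := fun x =>
    RingHom.liftOfRightInverse_comp_apply _ _ _ _ x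
  refine ⟨wt.comp θ, { toIsLift := hB, semi := ?_, red := ?_ }⟩
  · apply RingHom.ext
    intro w
    rw [RingHom.comp_apply, RingHom.comp_apply, RingHom.comp_apply]
    have := congrArg (fun f => f w) h2
    simp only [RingHom.comp_apply] at this
    rw [this]
    have e : WittGrp.truncMap p 2 (algebraMap k A) w =
        WittGrp.truncMap p 2 π (WittGrp.truncMap p 2 ι (ee p w)) := by
      rw [← RingHom.comp_apply, ← WittGrp.truncMap_comp, hB.comm, WittGrp.truncMap_comp,
        RingHom.comp_apply, truncMap_res_ee]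
    rw [e, hwt, w1_truncMap, w1_ee]
  · intro b
    obtain ⟨x, hx⟩ := hsurj (θ b)
    rw [RingHom.comp_apply, ← hx, hwt, w1_apply, map_add, map_mul, map_natCast, hpA, zero_mul,
      add_zero, map_pow]
    congr 1
    have := congrArg (fun f => f b) h1
    simp only [RingHom.comp_apply] at this
    rw [← this, ← hx, res_apply, WittGrp.coeff_truncMap]

theorem frobLift_iff_theta (hB : IsLift p k A B ι π) :
    (∃ Φ : B →+* B, IsFrobLift p k A B ι π Φ) ↔
      ∃ θ : B →+* W2 p A,
        (res p A).comp θ = π ∧ θ.comp ι = WittGrp.truncMap p 2 (algebraMap k A) :=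
  ⟨fun ⟨Φ, hΦ⟩ => exists_theta_of_frobLift p Φ hΦ,
   fun ⟨θ, h1, h2⟩ => exists_frobLift_of_theta p hB θ h1 h2⟩

end frob

end Groth.Agent.Helper6.W2
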