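import Groth.Agent.Helper6.W2Lift

set_option autoImplicit false
universe u

namespace Groth.Agent.Helper6.W2

open FrobAlg MvPolynomial

variable (p : ℕ) [hp : Fact p.Prime] (k : Type u) [Field k] [CharP k p] (n : ℕ)

/-- reduction mod `p` of polynomials. -/
noncomputable def red : MvPolynomial (Fin n) (W2 p k) →+* MvPolynomial (Fin n) k :=
  MvPolynomial.map (res p k)

lemma natCast_eq_C : (p : MvPolynomial (Fin n) (W2 p k)) = C (p : W2 p k) := by
  rw [map_natCast]

lemma ker_red [PerfectRing k p] : RingHom.ker (red p k n) = Ideal.span {(p : MvPolynomial (Fin n) (W2 p k))} := by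
  rw [red, MvPolynomial.ker_map, ker_res, Ideal.map_span, Set.image_singleton, natCast_eq_C]

lemma pR_mul_pR : (p : MvPolynomial (Fin n) (W2 p k)) * (p : MvPolynomial (Fin n) (W2 p k)) = 0 := by
  rw [natCast_eq_C, ← C_mul, p_mul_p, C_0]

lemma p_mul_eq_of_red_eq [PerfectRing k p] {u v : MvPolynomial (Fin n) (W2 p k)} (h : red p k n u = red p k n v) :
    (p : MvPolynomial (Fin n) (W2 p k)) * u = p * v := by
  have : u - v ∈ RingHom.ker (red p k n) := by
    rw [RingHom.mem_ker, map_sub, h, sub_self]
  rw [ker_red] at this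
  obtain ⟨w, hw⟩ := Ideal.mem_span_singleton'.mp this
  have h2 : (p : MvPolynomial (Fin n) (W2 p k)) * (u - v) = 0 := by
    rw [← hw, mul_comm w, ← mul_assoc, pR_mul_pR, zero_mul]
  rw [mul_sub, sub_eq_zero] at h2
  exact h2

lemma surjective_red : Function.Surjective (red p k n) :=
  MvPolynomial.map_surjective _ (fun a => ⟨tau p a, by rw [res_apply, tau_coeff_zero]⟩)

lemma red_p : red p k n (p : MvPolynomial (Fin n) (W2 p k)) = 0 := by
  rw [map_natCast]
  exact CharP.cast_eq_zero _ p

lemma polyFrob_C (w : W2 p k) : polyFrob p k (Fin n) (C w) = C (sigma p k w) := by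
  simp [polyFrob]

lemma polyFrob_X (j : Fin n) : polyFrob p k (Fin n) (X j) = X j ^ p := by
  simp [polyFrob]

lemma red_polyFrob (r : MvPolynomial (Fin n) (W2 p k)) :
    red p k n (polyFrob p k (Fin n) r) = red p k n r ^ p := by
  have : (red p k n).comp (polyFrob p k (Fin n)) =
      (frobenius (MvPolynomial (Fin n) k) p).comp (red p k n) := by
    apply MvPolynomial.ringHom_ext
    · intro w
      rw [RingHom.comp_apply, RingHom.comp_apply, polyFrob_C, frobenius_def, red, map_C, map_C,
        ← C_pow, res_apply, res_apply, WittGrp.coeff_frob]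
    · intro j
      rw [RingHom.comp_apply, RingHom.comp_apply, polyFrob_X, frobenius_def, map_pow]
  have := congrArg (fun f => f r) this
  simpa [frobenius_def] using this

/-- the `σ`-semilinear endomorphism with `x_j ↦ x_j^p + p g_j`. -/
noncomputable def PhiG (g : Fin n → MvPolynomial (Fin n) (W2 p k)) :
    MvPolynomial (Fin n) (W2 p k) →+* MvPolynomial (Fin n) (W2 p k) :=
  eval₂Hom (C.comp (sigma p k)) (fun j => X j ^ p + (p : MvPolynomial (Fin n) (W2 p k)) * g j)

lemma PhiG_C (g : Fin n → MvPolynomial (Fin n) (W2 p k)) (w : W2 p k) :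
    PhiG p k n g (C w) = C (sigma p k w) := by
  simp [PhiG]

lemma PhiG_X (g : Fin n → MvPolynomial (Fin n) (W2 p k)) (j : Fin n) :
    PhiG p k n g (X j) = X j ^ p + (p : MvPolynomial (Fin n) (W2 p k)) * g j := by
  simp [PhiG]

lemma red_PhiG (g : Fin n → MvPolynomial (Fin n) (W2 p k)) (r : MvPolynomial (Fin n) (W2 p k)) :
    red p k n (PhiG p k n g r) = red p k n r ^ p := by
  have : (red p k n).comp (PhiG p k n g) =
      (frobenius (MvPolynomial (Fin n) k) p).comp (red p k n) := by
    apply MvPolynomial.ringHom_ext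
    · intro w
      rw [RingHom.comp_apply, RingHom.comp_apply, PhiG_C, frobenius_def, red, map_C, map_C,
        ← C_pow, res_apply, res_apply, WittGrp.coeff_frob]
    · intro j
      rw [RingHom.comp_apply, PhiG_X, map_add, map_mul, red_p, zero_mul, add_zero,
        RingHom.comp_apply, frobenius_def, map_pow]
  have := congrArg (fun f => f r) this
  simpa [frobenius_def] using this

theorem taylor [PerfectRing k p] (g : Fin n → MvPolynomial (Fin n) (W2 p k)) (r : MvPolynomial (Fin n) (W2 p k)) :
    PhiG p k n g r = polyFrob p k (Fin n) r +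
      (p : MvPolynomial (Fin n) (W2 p k)) * ∑ j, pderiv j r ^ p * g j := by
  induction r using MvPolynomial.induction_on with
  | C w =>
    rw [PhiG_C, polyFrob_C]
    simp [zero_pow hp.out.ne_zero]
  | add r s hr hs =>
    rw [map_add, map_add, hr, hs]
    have : (p : MvPolynomial (Fin n) (W2 p k)) * ∑ j, pderiv j (r + s) ^ p * g j =
        p * ∑ j, pderiv j r ^ p * g j + p * ∑ j, pderiv j s ^ p * g j := by
      rw [← mul_add]
      apply p_mul_eq_of_red_eq
      rw [← Finset.sum_add_distrib]
      simp only [map_sum, map_mul, map_pow, map_add]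
      refine Finset.sum_congr rfl fun j _ => ?_
      rw [add_pow_char, add_mul]
    rw [this]; ring
  | mul_X r l hr =>
    rw [map_mul, map_mul, hr, PhiG_X, polyFrob_X]
    have e1 : (polyFrob p k (Fin n) r + (p : MvPolynomial (Fin n) (W2 p k)) * ∑ j, pderiv j r ^ p * g j) *
        (X l ^ p + (p : MvPolynomial (Fin n) (W2 p k)) * g l) =
        polyFrob p k (Fin n) r * X l ^ p + (p : MvPolynomial (Fin n) (W2 p k)) *
          (polyFrob p k (Fin n) r * g l + (∑ j, pderiv j r ^ p * g j) * X l ^ p) +
          ((p : MvPolynomial (Fin n) (W2 p k)) * (p : MvPolynomial (Fin n) (W2 p k))) *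
            ((∑ j, pderiv j r ^ p * g j) * g l) := by ring
    rw [e1, pR_mul_pR, zero_mul, add_zero]
    congr 1
    apply p_mul_eq_of_red_eq
    classical
    simp only [map_add, map_mul, map_sum, map_pow, red_polyFrob, pderiv_mul, pderiv_X]
    rw [Finset.sum_mul]
    have : ∀ j : Fin n, (red p k n (pderiv j r) * red p k n (X l) +
        red p k n r * red p k n (Pi.single (M := fun _ => MvPolynomial (Fin n) (W2 p k)) j 1 l)) ^ p
          * red p k n (g j) =
        red p k n (pderiv j r) ^ p * red p k n (g j) * red p k n (X l) ^ p +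
        (if j = l then red p k n r ^ p * red p k n (g l) else 0) := by
      intro j
      rw [add_pow_char, mul_pow, mul_pow]
      by_cases hjl : j = l
      · subst hjl
        simp; ring
      · rw [if_neg hjl, Pi.single_eq_of_ne' hjl]
        simp [zero_pow hp.out.ne_zero]; ring
    rw [Finset.sum_congr rfl (fun j _ => this j), Finset.sum_add_distrib, Finset.sum_ite_eq']
    simp only [Finset.mem_univ, if_true]
    ring

end Groth.Agent.Helper6.W2
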