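import Groth.Agent.Helper6.W2Lift

set_option autoImplicit false
universe u

namespace Groth.Agent.Helper6.W2

open FrobAlg MvPolynomial

section coeffs
variable {n : ℕ} {R : Type*} [CommRing R]

/-- `z_i = x_i y_i`. -/
noncomputable def zz (R : Type*) [CommRing R] {n : ℕ} (i : Fin n) : MvPolynomial (Fin n × Fin 2) R :=
  X (i, 0) * X (i, 1)

/-- The quadric `∑ x_i y_i`. -/
noncomputable def QQ (R : Type*) [CommRing R] (n : ℕ) : MvPolynomial (Fin n × Fin 2) R :=
  ∑ i : Fin n, zz R i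

/-- The exponent vector `(e_i, e_i)_i`. -/
noncomputable def Evec (e : Fin n → ℕ) : (Fin n × Fin 2) →₀ ℕ :=
  Finsupp.equivFunOnFinite.symm (fun v => e v.1)

@[simp] lemma Evec_apply (e : Fin n → ℕ) (v : Fin n × Fin 2) : Evec e v = e v.1 := rfl

lemma Evec_injective : Function.Injective (Evec (n := n)) := by
  intro e e' h
  funext i
  have := DFunLike.congr_fun h (i, 0)
  simpa using this

lemma prod_zz_pow (k : Fin n → ℕ) : ∏ i, zz R i ^ k i = monomial (Evec k) (1 : R) := by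
  rw [monomial_eq, C_1, one_mul, Finsupp.prod_fintype _ _ (fun _ => pow_zero _),
    Fintype.prod_prod_type]
  refine Finset.prod_congr rfl fun i _ => ?_
  rw [Fin.prod_univ_two, zz, mul_pow]
  rfl

lemma coeff_QQ_pow (e : Fin n → ℕ) (N : ℕ) (he : ∑ i, e i = N) :
    coeff (Evec e) (QQ R n ^ N) = (Nat.multinomial Finset.univ e : R) := by
  classical
  rw [QQ, Finset.sum_pow_eq_sum_piAntidiag, coeff_sum]
  rw [Finset.sum_eq_single e]
  · rw [prod_zz_pow, ← C_eq_coe_nat, coeff_C_mul, coeff_monomial, if_pos rfl, mul_one]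
  · intro k _ hk
    rw [prod_zz_pow, ← C_eq_coe_nat, coeff_C_mul, coeff_monomial,
      if_neg (fun h => hk (Evec_injective h)), mul_zero]
  · intro h
    exfalso; apply h
    rw [Finset.mem_piAntidiag]
    exact ⟨he, fun i _ => Finset.mem_univ i⟩

/-- The monomial ideal `(x_v^p)`. -/
lemma coeff_eq_zero_of_mem_span_pow (p : ℕ) (f : MvPolynomial (Fin n × Fin 2) R)
    (hf : f ∈ Ideal.span (Set.range fun v : Fin n × Fin 2 => (X v : MvPolynomial (Fin n × Fin 2) R) ^ p))
    (s : (Fin n × Fin 2) →₀ ℕ) (hs : ∀ v, s v < p) : coeff s f = 0 := by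
  have hset : (Set.range fun v : Fin n × Fin 2 => (X v : MvPolynomial (Fin n × Fin 2) R) ^ p) =
      (fun t => monomial t (1 : R)) '' (Set.range fun v : Fin n × Fin 2 => Finsupp.single v p) := by
    rw [← Set.range_comp]
    congr 1
    funext v
    simp [X_pow_eq_monomial]
  rw [hset, mem_ideal_span_monomial_image] at hf
  by_contra hne
  obtain ⟨si, ⟨v, rfl⟩, hle⟩ := hf s (mem_support_iff.mpr hne)
  have := hle v
  simp at this
  exact absurd (hs v) (not_lt.mpr this)

end coeffs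

section partA
variable (n : ℕ) (p : ℕ) [hp : Fact p.Prime]

lemma exists_PZ : ∃ P : MvPolynomial (Fin n × Fin 2) ℤ,
    QQ ℤ n ^ p = ∑ i : Fin n, zz ℤ i ^ p + C (p : ℤ) * P := by
  have hdvd : C (p : ℤ) ∣ QQ ℤ n ^ p - ∑ i : Fin n, zz ℤ i ^ p := by
    rw [C_dvd_iff_map_hom_eq_zero (Int.castRingHom (ZMod p)) (p : ℤ)
      (fun r => ZMod.intCast_zmod_eq_zero_iff_dvd r p)]
    rw [map_sub, map_pow, QQ, map_sum, sum_pow_char, map_sum, sub_eq_zero]
    refine Finset.sum_congr rfl fun i _ => ?_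
    rw [map_pow]
  obtain ⟨P, hP⟩ := hdvd
  exact ⟨P, by rw [← hP]; ring⟩

lemma not_sq_dvd_factorial : ¬ p ^ 2 ∣ (2 * p - 1).factorial := by
  have hp2 : 2 ≤ p := hp.out.two_le
  have hlt : 2 * p - 1 < p ^ 2 := by
    calc 2 * p - 1 < 2 * p := by omega
      _ ≤ p * p := by nlinarith
      _ = p ^ 2 := (sq p).symm
  have hlog : Nat.log p (2 * p - 1) < 2 := Nat.log_lt_of_lt_pow (by omega) hlt
  rw [hp.out.pow_dvd_factorial_iff hlog]
  have : (2 * p - 1) / p = 1 := Nat.div_eq_of_lt_le (by omega) (by omega)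
  simp [this]

/-- The special exponent `(p-1, p-1, 1, 0, …)`. -/
def especial (_hn : 3 ≤ n) : Fin n → ℕ := fun i =>
  if i.val = 0 then p - 1 else if i.val = 1 then p - 1
    else if i.val = 2 then 1 else 0

lemma especial_lt (hn : 3 ≤ n) (i : Fin n) : especial n p hn i < p := by
  have hp2 : 2 ≤ p := hp.out.two_le
  unfold especial
  split_ifs <;> omega

lemma sum_especial (hn : 3 ≤ n) : ∑ i, especial n p hn i = 2 * p - 1 := by
  have hp2 : 2 ≤ p := hp.out.two_le
  obtain ⟨m, rfl⟩ : ∃ m, n = m + 3 := ⟨n - 3, by omega⟩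
  rw [Fin.sum_univ_succ, Fin.sum_univ_succ, Fin.sum_univ_succ]
  have h0 : especial (m + 3) p hn 0 = p - 1 := by simp [especial]
  have h1 : especial (m + 3) p hn (Fin.succ 0) = p - 1 := by
    simp [especial]
  have h2 : especial (m + 3) p hn (Fin.succ (Fin.succ 0)) = 1 := by
    have : ((Fin.succ (Fin.succ 0) : Fin (m + 3))).val = 2 := by
      rw [Fin.val_succ, Fin.val_succ]; rfl
    unfold especial
    rw [this]; simp
  have h3 : ∀ i : Fin m, especial (m + 3) p hn (Fin.succ (Fin.succ (Fin.succ i))) = 0 := by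
    intro i
    simp [especial]
  rw [h0, h1, h2, Finset.sum_eq_zero (fun i _ => h3 i)]
  omega

end partA

section partD
variable (n : ℕ) (p : ℕ) [hp : Fact p.Prime] (k : Type u) [Field k] [CharP k p]

lemma map_zz {R S : Type*} [CommRing R] [CommRing S] (f : R →+* S) (i : Fin n) :
    map f (zz R i) = zz S i := by
  simp [zz]

lemma map_QQ {R S : Type*} [CommRing R] [CommRing S] (f : R →+* S) :
    map f (QQ R n) = QQ S n := by
  simp [QQ, map_zz]

lemma zz_pow_mem {R : Type*} [CommRing R] (i : Fin n) :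
    zz R i ^ p ∈ Ideal.span (Set.range fun v : Fin n × Fin 2 =>
      (X v : MvPolynomial (Fin n × Fin 2) R) ^ p) := by
  rw [zz, mul_pow]
  exact Ideal.mul_mem_right _ _ (Ideal.subset_span ⟨(i, 0), rfl⟩)

theorem PZ_not_mem (hn : 3 ≤ n) (P : MvPolynomial (Fin n × Fin 2) ℤ)
    (hP : QQ ℤ n ^ p = ∑ i : Fin n, zz ℤ i ^ p + C (p : ℤ) * P) :
    map (Int.castRingHom k) P ∉ Ideal.span
      (insert (∑ i : Fin n, (X (i, (0 : Fin 2)) * X (i, (1 : Fin 2)) : MvPolynomial (Fin n × Fin 2) k))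
        (Set.range fun v : Fin n × Fin 2 => (X v : MvPolynomial (Fin n × Fin 2) k) ^ p)) := by
  intro hmem
  have hp2 : 2 ≤ p := hp.out.two_le
  set e := especial n p hn with he
  have hes : ∀ v, Evec e v < p := fun v => especial_lt n p hn v.1
  -- integer computation
  set c := coeff (Evec e) (QQ ℤ n ^ (p - 1) * P) with hc
  have hM : (Nat.multinomial Finset.univ e : ℤ) = (p : ℤ) * c := by
    have h1 : QQ ℤ n ^ (2 * p - 1) = QQ ℤ n ^ (p - 1) * ∑ i : Fin n, zz ℤ i ^ p
        + C (p : ℤ) * (QQ ℤ n ^ (p - 1) * P) := by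
      have : 2 * p - 1 = (p - 1) + p := by omega
      rw [this, pow_add, hP]; ring
    have h2 := congrArg (coeff (Evec e)) h1
    rw [coeff_QQ_pow e (2 * p - 1) (sum_especial n p hn), coeff_add, coeff_C_mul] at h2
    have h3 : coeff (Evec e) (QQ ℤ n ^ (p - 1) * ∑ i : Fin n, zz ℤ i ^ p) = 0 := by
      apply coeff_eq_zero_of_mem_span_pow p _ _ _ hes
      apply Ideal.mul_mem_left
      exact Ideal.sum_mem _ fun i _ => zz_pow_mem n p i
    rw [h3, zero_add] at h2
    exact_mod_cast h2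
  have hcne : ((c : ℤ) : k) ≠ 0 := by
    intro h0
    rw [CharP.intCast_eq_zero_iff k p] at h0
    obtain ⟨d, hd⟩ := h0
    have hdvd : ((p ^ 2 : ℕ) : ℤ) ∣ (Nat.multinomial Finset.univ e : ℤ) := by
      rw [hM, hd]
      exact ⟨d, by push_cast; ring⟩
    have hdvd' : p ^ 2 ∣ Nat.multinomial Finset.univ e := by exact_mod_cast hdvd
    have hspec := Nat.multinomial_spec Finset.univ e
    rw [sum_especial n p hn] at hspec
    exact not_sq_dvd_factorial p (hspec ▸ Dvd.dvd.mul_left hdvd' _)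
  -- field computation
  obtain ⟨a, z, hz, hPk⟩ := Ideal.mem_span_insert.mp hmem
  have hQ : (∑ i : Fin n, (X (i, (0 : Fin 2)) * X (i, (1 : Fin 2)) :
      MvPolynomial (Fin n × Fin 2) k)) = QQ k n := rfl
  rw [hQ] at hPk
  have hmem2 : QQ k n ^ (p - 1) * map (Int.castRingHom k) P ∈ Ideal.span
      (Set.range fun v : Fin n × Fin 2 => (X v : MvPolynomial (Fin n × Fin 2) k) ^ p) := by
    rw [hPk, mul_add]
    apply Ideal.add_mem
    · have : QQ k n ^ (p - 1) * (a * QQ k n) = a * QQ k n ^ p := by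
        have : p = (p - 1) + 1 := by omega
        conv_rhs => rw [this, pow_succ]
        ring
      rw [this]
      apply Ideal.mul_mem_left
      rw [QQ, sum_pow_char]
      exact Ideal.sum_mem _ fun i _ => zz_pow_mem n p i
    · exact Ideal.mul_mem_left _ _ hz
  have h0 := coeff_eq_zero_of_mem_span_pow p _ hmem2 (Evec e) hes
  have hmap : QQ k n ^ (p - 1) * map (Int.castRingHom k) P =
      map (Int.castRingHom k) (QQ ℤ n ^ (p - 1) * P) := by
    rw [map_mul, map_pow, map_QQ]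
  rw [hmap, coeff_map] at h0
  exact hcne h0

end partD

section partB
variable (n : ℕ) (p : ℕ) [hp : Fact p.Prime] (k : Type u) [Field k] [CharP k p] [PerfectRing k p]

theorem map_PZ_mem_of_isLift (J : Ideal (MvPolynomial (Fin n × Fin 2) k)) (hQmem : QQ k n ∈ J)
    (hXmem : ∀ v : Fin n × Fin 2, (X v : MvPolynomial (Fin n × Fin 2) k) ^ p ∈ J)
    {B : Type u} [CommRing B] {ι : W2 p k →+* B} {π : B →+* MvPolynomial (Fin n × Fin 2) k ⧸ J}
    (hB : IsLift p k (MvPolynomial (Fin n × Fin 2) k ⧸ J) B ι π)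
    (P : MvPolynomial (Fin n × Fin 2) ℤ)
    (hP : QQ ℤ n ^ p = ∑ i : Fin n, zz ℤ i ^ p + C (p : ℤ) * P) :
    map (Int.castRingHom k) P ∈ J := by
  have hp2 : 2 ≤ p := hp.out.two_le
  have hpp : (p : B) ^ 2 = 0 := by rw [pow_two]; exact L_p_mul_p p hB
  choose Xv hXv using fun v => hB.surj (Ideal.Quotient.mk J (X v))
  let φ : MvPolynomial (Fin n × Fin 2) ℤ →+* B := eval₂Hom (Int.castRingHom B) Xv
  have hcomp : π.comp φ = (Ideal.Quotient.mk J).comp (map (Int.castRingHom k)) := by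
    apply MvPolynomial.ringHom_ext
    · intro r
      simp [φ]
    · intro v
      simp [φ, hXv]
  have hπφ : ∀ f, π (φ f) = Ideal.Quotient.mk J (map (Int.castRingHom k) f) := fun f =>
    congrArg (fun g => g f) hcomp
  have h1 : φ (QQ ℤ n) ^ p = 0 := by
    have : π (φ (QQ ℤ n)) = 0 := by
      rw [hπφ, map_QQ, Ideal.Quotient.eq_zero_iff_mem]; exact hQmem
    obtain ⟨a, ha⟩ := L_exists_of_pi_eq_zero p hB this
    rw [ha, mul_pow, pow_eq_zero_of_le hp2 hpp, zero_mul]
  have h2 : ∀ i : Fin n, φ (zz ℤ i) ^ p = 0 := by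
    intro i
    have hv : ∀ v : Fin n × Fin 2, ∃ b, Xv v ^ p = (p : B) * b := by
      intro v
      apply L_exists_of_pi_eq_zero p hB
      rw [map_pow, hXv, ← map_pow, Ideal.Quotient.eq_zero_iff_mem]
      exact hXmem v
    obtain ⟨b0, hb0⟩ := hv (i, 0)
    obtain ⟨b1, hb1⟩ := hv (i, 1)
    have : φ (zz ℤ i) = Xv (i, 0) * Xv (i, 1) := by simp [φ, zz]
    rw [this, mul_pow, hb0, hb1]
    calc (p : B) * b0 * ((p : B) * b1) = (p : B) ^ 2 * (b0 * b1) := by ring
      _ = 0 := by rw [hpp, zero_mul]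
  have h3 := congrArg φ hP
  rw [map_pow, h1, map_add, map_sum, map_mul] at h3
  have h4 : ∑ i : Fin n, φ (zz ℤ i ^ p) = 0 :=
    Finset.sum_eq_zero fun i _ => by rw [map_pow, h2]
  rw [h4, zero_add] at h3
  have h5 : φ (C (p : ℤ)) = (p : B) := by simp [φ]
  rw [h5] at h3
  have h6 := L_pi_eq_zero_of_p_mul p hB h3.symm
  rw [hπφ, Ideal.Quotient.eq_zero_iff_mem] at h6
  exact h6

theorem not_isW2Liftable_quadric (hn : 3 ≤ n) :
    ¬ IsW2Liftable p k
      (MvPolynomial (Fin n × Fin 2) k ⧸ Ideal.span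
        (insert (∑ i : Fin n, MvPolynomial.X (i, (0 : Fin 2)) * MvPolynomial.X (i, (1 : Fin 2)))
          (Set.range fun v : Fin n × Fin 2 => (MvPolynomial.X v : MvPolynomial (Fin n × Fin 2) k) ^ p))) := by
  rintro ⟨B, _, ι, π, hB⟩
  obtain ⟨P, hP⟩ := exists_PZ n p
  apply PZ_not_mem n p k hn P hP
  exact map_PZ_mem_of_isLift n p k _ (Ideal.subset_span (Set.mem_insert _ _))
    (fun v => Ideal.subset_span (Set.mem_insert_of_mem _ (Set.mem_range_self v))) hB P hP

end partB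

end Groth.Agent.Helper6.W2
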