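import Groth.Agent.Helper6.W2Lift

set_option autoImplicit false
universe u

namespace Groth.Agent.Helper6.W2

open FrobAlg

variable (p : ℕ) [hp : Fact p.Prime]

section retract
variable {k : Type u} [Field k] [CharP k p] [PerfectRing k p]
variable {A B : Type u} [CommRing A] [CommRing B] [Algebra k A] [Algebra k B]
  [Algebra A B] [IsScalarTower k A B]
variable (r : B →ₗ[A] A) (hr : ∀ a : A, r (algebraMap A B a) = a)
variable {B' : Type u} [CommRing B'] {ιB : W2 p k →+* B'} {πB : B' →+* B}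

/-- The pullback subring `B' ×_B A`. -/
def pullE (πB : B' →+* B) : Subring (B' × A) :=
  (πB.comp (RingHom.fst B' A)).eqLocus ((algebraMap A B).comp (RingHom.snd B' A))

lemma mem_pullE (πB : B' →+* B) (e : B' × A) :
    e ∈ pullE (A := A) πB ↔ πB e.1 = algebraMap A B e.2 := Iff.rfl

/-- The ideal `p · (lifts of ker r)` of the pullback. -/
def idealK (πB : B' →+* B) : Ideal (pullE (A := A) πB) where
  carrier := {e | e.1.2 = 0 ∧ ∃ c : B', e.1.1 = (p : B') * c ∧ r (πB c) = 0}
  add_mem' := by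
    rintro x y ⟨hx0, c1, hc1, hr1⟩ ⟨hy0, c2, hc2, hr2⟩
    refine ⟨?_, c1 + c2, ?_, ?_⟩
    · change x.1.2 + y.1.2 = 0
      rw [hx0, hy0, add_zero]
    · change x.1.1 + y.1.1 = _
      rw [hc1, hc2, mul_add]
    · rw [map_add, map_add, hr1, hr2, add_zero]
  zero_mem' := ⟨rfl, 0, by simp, by simp⟩
  smul_mem' := by
    rintro e x ⟨hx0, c, hc, hrc⟩
    refine ⟨?_, e.1.1 * c, ?_, ?_⟩
    · change e.1.2 * x.1.2 = 0
      rw [hx0, mul_zero]
    · change e.1.1 * x.1.1 = _
      rw [hc]; ring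
    · have he : πB e.1.1 = algebraMap A B e.1.2 := e.2
      rw [map_mul, he, ← Algebra.smul_def, map_smul, hrc, smul_zero]

theorem isW2Liftable_of_retraction (hr : ∀ a : A, r (algebraMap A B a) = a)
    (hB : IsLift p k B B' ιB πB) : IsW2Liftable p k A := by
  have hpA : (p : A) = 0 := natCast_p_eq_zero_alg p k
  let E := pullE (A := A) πB
  let K : Ideal E := idealK p r πB
  let ι0 : W2 p k →+* E :=
    (RingHom.prod ιB ((algebraMap k A).comp (res p k))).codRestrict E (by
      intro w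
      change πB (ιB w) = algebraMap A B (algebraMap k A (res p k w))
      have := congrArg (fun f => f w) hB.comm
      simp only [RingHom.comp_apply] at this
      rw [this, ← IsScalarTower.algebraMap_apply])
  let π0 : E →+* A := (RingHom.snd B' A).comp E.subtype
  have hK : ∀ e ∈ K, π0 e = 0 := fun e he => he.1
  let π' : E ⧸ K →+* A := Ideal.Quotient.lift K π0 hK
  let ι' : W2 p k →+* E ⧸ K := (Ideal.Quotient.mk K).comp ι0
  have hpE : ∀ e : E, (((p : E) * e : E) : B' × A).1 = (p : B') * e.1.1 := by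
    intro e
    simp
  refine ⟨E ⧸ K, inferInstance, ι', π', ?_⟩
  apply isLift_of p
  · -- surjective
    intro a
    obtain ⟨b', hb'⟩ := hB.surj (algebraMap A B a)
    exact ⟨Ideal.Quotient.mk K ⟨(b', a), hb'⟩, rfl⟩
  · -- kernel
    intro x hx
    obtain ⟨e, rfl⟩ := Ideal.Quotient.mk_surjective x
    have he2 : e.1.2 = 0 := hx
    have he : πB e.1.1 = algebraMap A B e.1.2 := e.2
    rw [he2, map_zero] at he
    obtain ⟨c, hc⟩ := L_exists_of_pi_eq_zero p hB he
    obtain ⟨c0, hc0⟩ := hB.surj (algebraMap A B (r (πB c)))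
    let e0 : E := ⟨(c0, r (πB c)), hc0⟩
    refine ⟨Ideal.Quotient.mk K e0, ?_⟩
    rw [← map_natCast (Ideal.Quotient.mk K), ← map_mul, Ideal.Quotient.eq]
    refine ⟨?_, c - c0, ?_, ?_⟩
    · change e.1.2 - ((p : E) * e0 : E).1.2 = 0
      have : ((p : E) * e0 : E).1.2 = (p : A) * r (πB c) := by simp [e0]
      rw [this, he2, hpA, zero_mul, sub_zero]
    · change e.1.1 - ((p : E) * e0 : E).1.1 = _
      rw [hpE, hc, mul_sub]
    · rw [map_sub, map_sub, hc0, hr, sub_self]
  · -- flatness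
    intro x hx
    obtain ⟨e, rfl⟩ := Ideal.Quotient.mk_surjective x
    rw [← map_natCast (Ideal.Quotient.mk K), ← map_mul, Ideal.Quotient.eq_zero_iff_mem] at hx
    obtain ⟨_, c, hc, hrc⟩ := hx
    rw [hpE] at hc
    have h1 := L_pi_eq_of_p_mul_eq p hB hc
    have he : πB e.1.1 = algebraMap A B e.1.2 := e.2
    change e.1.2 = 0
    rw [← hr e.1.2, ← he, h1, hrc]
  · intro w
    rfl

end retract

end Groth.Agent.Helper6.W2
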