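import Groth.Agent.Helper6.W2Frob

set_option autoImplicit false
universe u

namespace Groth.Agent.Helper6.W2

open FrobAlg

variable (p : ℕ) [hp : Fact p.Prime]

section general
variable {R S : Type*} [CommRing R] [CommRing S]

lemma truncMap_tau (f : R →+* S) (a : R) : WittGrp.truncMap p 2 f (tau p a) = tau p (f a) := by
  apply ext2 <;> simp [WittGrp.coeff_truncMap]

lemma truncMap_V2 (f : R →+* S) (a : R) : WittGrp.truncMap p 2 f (V2 p a) = V2 p (f a) := by
  apply ext2 <;> simp [WittGrp.coeff_truncMap]

end general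

section retract
variable {A B : Type u} [CommRing A] [CommRing B] [Algebra A B] [CharP B p]
variable (r : B →ₗ[A] A)

/-- The subring of `W₂(B)` of vectors whose zeroth component comes from `A`. -/
noncomputable def subS : Subring (W2 p B) := Subring.comap (res p B) (algebraMap A B).range

omit [CharP B p] in
lemma mem_subS (s : W2 p B) : s ∈ subS (A := A) p ↔ ∃ a : A, algebraMap A B a = s.coeff 0 := by
  rw [subS, Subring.mem_comap, res_apply]; rfl

/-- The ideal of `subS` of vectors `(0, b)` with `r b = 0`. -/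
noncomputable def idealIr : Ideal (subS (A := A) (B := B) p) where
  carrier := {s | (s : W2 p B).coeff 0 = 0 ∧ r ((s : W2 p B).coeff 1) = 0}
  add_mem' := by
    rintro s t ⟨hs0, hs1⟩ ⟨ht0, ht1⟩
    refine ⟨?_, ?_⟩
    · change ((s : W2 p B) + (t : W2 p B)).coeff 0 = 0
      rw [coeff_zero_add, hs0, ht0, add_zero]
    · change r (((s : W2 p B) + (t : W2 p B)).coeff 1) = 0
      rw [eq_V2_of_coeff_zero p ht0, coeff_one_add_V2, map_add, hs1, ht1, add_zero]
  zero_mem' := by
    refine ⟨?_, ?_⟩
    · change (0 : W2 p B).coeff 0 = 0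
      exact TruncatedWittVector.coeff_zero p 2 B 0
    · change r ((0 : W2 p B).coeff 1) = 0
      rw [TruncatedWittVector.coeff_zero, map_zero]
  smul_mem' := by
    rintro e s ⟨hs0, hs1⟩
    obtain ⟨a, ha⟩ := (mem_subS p (e : W2 p B)).mp e.2
    refine ⟨?_, ?_⟩
    · change ((e : W2 p B) * (s : W2 p B)).coeff 0 = 0
      rw [coeff_zero_mul, hs0, mul_zero]
    · change r (((e : W2 p B) * (s : W2 p B)).coeff 1) = 0
      rw [eq_V2_of_coeff_zero p hs0, mul_V2, V2_coeff_one, ← ha, ← map_pow, ← Algebra.smul_def,
        map_smul, hs1, smul_zero]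

variable (hr : ∀ a : A, r (algebraMap A B a) = a)

/-- `W₂(A) → subS`. -/
noncomputable def jS : W2 p A →+* subS (A := A) (B := B) p :=
  (WittGrp.truncMap p 2 (algebraMap A B)).codRestrict _ (by
    intro x
    rw [mem_subS]
    exact ⟨x.coeff 0, by rw [WittGrp.coeff_truncMap]⟩)

include hr in
lemma jS_bijective :
    Function.Bijective ((Ideal.Quotient.mk (idealIr p r)).comp (jS (A := A) (B := B) p)) := by
  have hinj : Function.Injective (algebraMap A B) := fun a b h => by rw [← hr a, ← hr b, h]
  constructor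
  · rw [injective_iff_map_eq_zero]
    intro x hx
    rw [RingHom.comp_apply, Ideal.Quotient.eq_zero_iff_mem] at hx
    obtain ⟨h0, h1⟩ := hx
    change (WittGrp.truncMap p 2 (algebraMap A B) x).coeff 0 = 0 at h0
    change r ((WittGrp.truncMap p 2 (algebraMap A B) x).coeff 1) = 0 at h1
    rw [WittGrp.coeff_truncMap] at h0 h1
    rw [hr] at h1
    have h0' : x.coeff 0 = 0 := hinj (by rw [h0, map_zero])
    apply ext2
    · rw [h0', TruncatedWittVector.coeff_zero]
    · rw [h1, TruncatedWittVector.coeff_zero]
  · intro y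
    obtain ⟨s, rfl⟩ := Ideal.Quotient.mk_surjective y
    obtain ⟨a, ha⟩ := (mem_subS p (s : W2 p B)).mp s.2
    refine ⟨tau p a + V2 p (r ((s : W2 p B).coeff 1)), ?_⟩
    rw [RingHom.comp_apply, Ideal.Quotient.eq]
    have e : ((jS (A := A) (B := B) p (tau p a + V2 p (r ((s : W2 p B).coeff 1))) - s :
        subS (A := A) (B := B) p) : W2 p B) =
        V2 p (algebraMap A B (r ((s : W2 p B).coeff 1)) - (s : W2 p B).coeff 1) := by
      change WittGrp.truncMap p 2 (algebraMap A B) (tau p a + V2 p (r ((s : W2 p B).coeff 1)))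
        - (s : W2 p B) = _
      rw [map_add, truncMap_tau, truncMap_V2, ha, V2_sub]
      have hs := eq_tau_add_V2 p (s : W2 p B)
      calc tau p ((s : W2 p B).coeff 0) + V2 p (algebraMap A B (r ((s : W2 p B).coeff 1)))
            - (s : W2 p B)
          = tau p ((s : W2 p B).coeff 0) + V2 p (algebraMap A B (r ((s : W2 p B).coeff 1)))
            - (tau p ((s : W2 p B).coeff 0) + V2 p ((s : W2 p B).coeff 1)) := by rw [← hs]
        _ = _ := by abel
    refine ⟨?_, ?_⟩
    · change ((jS (A := A) (B := B) p (tau p a + V2 p (r ((s : W2 p B).coeff 1))) - s :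
        subS (A := A) (B := B) p) : W2 p B).coeff 0 = 0
      rw [e, V2_coeff_zero]
    · change r (((jS (A := A) (B := B) p (tau p a + V2 p (r ((s : W2 p B).coeff 1))) - s :
        subS (A := A) (B := B) p) : W2 p B).coeff 1) = 0
      rw [e, V2_coeff_one, map_sub, hr, sub_self]

/-- The retraction `subS → W₂(A)` as a ring homomorphism. -/
noncomputable def psiS : subS (A := A) (B := B) p →+* W2 p A :=
  ((RingEquiv.ofBijective _ (jS_bijective p r hr)).symm : _ →+* W2 p A).comp
    (Ideal.Quotient.mk (idealIr p r))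

lemma psiS_jS (x : W2 p A) : psiS p r hr (jS (A := A) (B := B) p x) = x := by
  change (RingEquiv.ofBijective _ (jS_bijective p r hr)).symm
    (((Ideal.Quotient.mk (idealIr p r)).comp (jS (A := A) (B := B) p)) x) = x
  exact (RingEquiv.ofBijective _ (jS_bijective p r hr)).symm_apply_apply x

lemma jS_psiS_sub_mem (s : subS (A := A) (B := B) p) :
    jS (A := A) (B := B) p (psiS p r hr s) - s ∈ idealIr p r := by
  rw [← Ideal.Quotient.eq]
  change ((Ideal.Quotient.mk (idealIr p r)).comp (jS (A := A) (B := B) p))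
    ((RingEquiv.ofBijective _ (jS_bijective p r hr)).symm (Ideal.Quotient.mk (idealIr p r) s)) = _
  exact (RingEquiv.ofBijective _ (jS_bijective p r hr)).apply_symm_apply _

lemma algebraMap_coeff_zero_psiS (s : subS (A := A) (B := B) p) :
    algebraMap A B ((psiS p r hr s).coeff 0) = (s : W2 p B).coeff 0 := by
  obtain ⟨h0, _⟩ := jS_psiS_sub_mem p r hr s
  change (WittGrp.truncMap p 2 (algebraMap A B) (psiS p r hr s) - (s : W2 p B)).coeff 0 = 0 at h0
  rw [coeff_zero_sub, WittGrp.coeff_truncMap, sub_eq_zero] at h0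
  exact h0

end retract

section main
variable {k : Type u} [Field k] [CharP k p] [PerfectRing k p]
variable {A B : Type u} [CommRing A] [CommRing B] [Algebra k A] [Algebra k B]
  [Algebra A B] [IsScalarTower k A B]

theorem exists_frobLift_of_retraction
    (r : B →ₗ[A] A) (hr : ∀ a : A, r (algebraMap A B a) = a)
    {A' B' : Type u} [CommRing A'] [CommRing B']
    {ιA : W2 p k →+* A'} {πA : A' →+* A} (hA : IsLift p k A A' ιA πA)
    {ιB : W2 p k →+* B'} {πB : B' →+* B} (_hB : IsLift p k B B' ιB πB)
    (φ' : A' →+* B') (hφι : φ'.comp ιA = ιB) (hφπ : πB.comp φ' = (algebraMap A B).comp πA)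
    (ΦB : B' →+* B') (hΦB : IsFrobLift p k B B' ιB πB ΦB) :
    ∃ ΦA : A' →+* A', IsFrobLift p k A A' ιA πA ΦA := by
  have hinj : Function.Injective (algebraMap A B) := fun a b h => by rw [← hr a, ← hr b, h]
  rcases subsingleton_or_nontrivial A with hsub | hnt
  · -- degenerate case
    have h1 : (1 : A') ∈ RingHom.ker πA := Subsingleton.elim _ _
    rw [L_ker_pi p hA] at h1
    obtain ⟨c, hc⟩ := Ideal.mem_span_singleton'.mp h1
    have hp0 : (p : A') = 0 := by
      have := L_p_mul_p p hA
      calc (p : A') = (p : A') * 1 := (mul_one _).symm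
        _ = (p : A') * (c * p) := by rw [hc]
        _ = c * ((p : A') * p) := by ring
        _ = 0 := by rw [this, mul_zero]
    have : Subsingleton A' := by
      apply subsingleton_of_zero_eq_one
      rw [← hc, hp0, mul_zero]
    refine ⟨RingHom.id A', { toIsLift := hA, semi := ?_, red := ?_ }⟩
    · exact RingHom.ext (fun _ => Subsingleton.elim _ _)
    · exact fun _ => Subsingleton.elim _ _
  · have : Nontrivial B := hinj.nontrivial
    have : CharP B p := charP_of_injective_algebraMap (algebraMap k B).injective p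
    obtain ⟨θB, hθ1, hθ2⟩ := exists_theta_of_frobLift p ΦB hΦB
    suffices hθA : ∃ θ : A' →+* W2 p A, (res p A).comp θ = πA ∧
        θ.comp ιA = WittGrp.truncMap p 2 (algebraMap k A) by
      obtain ⟨θA, h1, h2⟩ := hθA
      exact exists_frobLift_of_theta p hA θA h1 h2
    have hmem : ∀ a' : A', θB (φ' a') ∈ subS (A := A) (B := B) p := by
      intro a'
      rw [mem_subS]
      refine ⟨πA a', ?_⟩
      have e1 := congrArg (fun f => f (φ' a')) hθ1
      have e2 := congrArg (fun f => f a') hφπ
      simp only [RingHom.comp_apply] at e1 e2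
      rw [← res_apply, e1, e2]
    let θ0 : A' →+* subS (A := A) (B := B) p := (θB.comp φ').codRestrict _ hmem
    refine ⟨(psiS p r hr).comp θ0, ?_, ?_⟩
    · apply RingHom.ext
      intro a'
      rw [RingHom.comp_apply, RingHom.comp_apply, res_apply]
      apply hinj
      rw [algebraMap_coeff_zero_psiS]
      change (θB (φ' a')).coeff 0 = _
      have e1 := congrArg (fun f => f (φ' a')) hθ1
      have e2 := congrArg (fun f => f a') hφπ
      simp only [RingHom.comp_apply] at e1 e2
      rw [← res_apply, e1, e2]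
    · apply RingHom.ext
      intro w
      rw [RingHom.comp_apply, RingHom.comp_apply]
      have : θ0 (ιA w) = jS (A := A) (B := B) p (WittGrp.truncMap p 2 (algebraMap k A) w) := by
        apply Subtype.ext
        change θB (φ' (ιA w)) = WittGrp.truncMap p 2 (algebraMap A B)
          (WittGrp.truncMap p 2 (algebraMap k A) w)
        have e1 := congrArg (fun f => f w) hφι
        have e2 := congrArg (fun f => f w) hθ2
        simp only [RingHom.comp_apply] at e1 e2
        rw [e1, e2, ← RingHom.comp_apply, ← WittGrp.truncMap_comp,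
          ← IsScalarTower.algebraMap_eq]
      rw [this, psiS_jS]

end main

end Groth.Agent.Helper6.W2
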