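import Groth.Agent.Helper6.W2Lift

set_option autoImplicit false
universe u

namespace Groth.Agent.Helper6.W2

open FrobAlg

variable (p : ℕ) [hp : Fact p.Prime]

section split
variable {A : Type u} [CommRing A] [CharP A p] (φ : A →+ A)
  (hφ : ∀ a b : A, φ (a ^ p * b) = a * φ b)

include hφ in
lemma mem_splitIdeal_iff (x : W2 p A) :
    x ∈ splitIdeal p A φ ↔ x.coeff 0 = 0 ∧ φ (x.coeff 1) = 0 := by
  constructor
  · intro hx
    induction hx using Submodule.span_induction with
    | mem y hy => exact ⟨by rw [← res_apply]; exact hy.1, hy.2⟩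
    | zero =>
      exact ⟨TruncatedWittVector.coeff_zero p 2 A 0, by
        rw [TruncatedWittVector.coeff_zero, map_zero]⟩
    | add y z _ _ hy hz =>
      refine ⟨by rw [coeff_zero_add, hy.1, hz.1, add_zero], ?_⟩
      rw [eq_V2_of_coeff_zero p hz.1, coeff_one_add_V2, map_add, hy.2, hz.2, add_zero]
    | smul a y _ hy =>
      rw [smul_eq_mul]
      refine ⟨by rw [coeff_zero_mul, hy.1, mul_zero], ?_⟩
      rw [eq_V2_of_coeff_zero p hy.1, mul_V2, V2_coeff_one, hφ, hy.2, mul_zero]
  · rintro ⟨h0, h1⟩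
    exact Ideal.subset_span ⟨by rw [res_apply]; exact h0, h1⟩

end split

section main
variable {k : Type u} [Field k] [CharP k p] [PerfectRing k p]
variable {A : Type u} [CommRing A] [Algebra k A]

theorem isLift_split (φ : A →+ A) (hφ : ∀ a b : A, φ (a ^ p * b) = a * φ b) (hφ1 : φ 1 = 1) :
    IsLift p k A (W2 p A ⧸ splitIdeal p A φ)
      ((Ideal.Quotient.mk (splitIdeal p A φ)).comp (WittGrp.truncMap p 2 (algebraMap k A)))
      (splitRes p A φ) := by
  have hπ : ∀ x : W2 p A, splitRes p A φ (Ideal.Quotient.mk _ x) = x.coeff 0 := by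
    intro x
    rw [← res_apply]; rfl
  rcases subsingleton_or_nontrivial A with hsub | hnt
  · have hW : Subsingleton (W2 p A) := ⟨fun x y => ext2 p (Subsingleton.elim _ _) (Subsingleton.elim _ _)⟩
    have hQ : Subsingleton (W2 p A ⧸ splitIdeal p A φ) :=
      ⟨fun x y => by
        obtain ⟨x, rfl⟩ := Ideal.Quotient.mk_surjective x
        obtain ⟨y, rfl⟩ := Ideal.Quotient.mk_surjective y
        rw [Subsingleton.elim x y]⟩
    apply isLift_of p
    · intro a; exact ⟨0, Subsingleton.elim _ _⟩
    · intro b _; exact ⟨0, Subsingleton.elim _ _⟩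
    · intro b _; exact Subsingleton.elim _ _
    · intro w; exact Subsingleton.elim _ _
  · have : CharP A p := charP_of_injective_algebraMap (algebraMap k A).injective p
    apply isLift_of p
    · intro a
      exact ⟨Ideal.Quotient.mk _ (tau p a), by rw [hπ, tau_coeff_zero]⟩
    · intro b hb
      obtain ⟨x, rfl⟩ := Ideal.Quotient.mk_surjective b
      rw [hπ] at hb
      refine ⟨Ideal.Quotient.mk _ (tau p (φ (x.coeff 1))), ?_⟩
      rw [← map_natCast (Ideal.Quotient.mk (splitIdeal p A φ)), ← map_mul, Ideal.Quotient.eq,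
        mem_splitIdeal_iff p φ hφ]
      have e : x - (p : W2 p A) * tau p (φ (x.coeff 1)) = V2 p (x.coeff 1 - φ (x.coeff 1) ^ p) := by
        rw [mul_comm, mul_p, tau_coeff_zero, V2_sub, ← eq_V2_of_coeff_zero p hb]
      rw [e, V2_coeff_zero, V2_coeff_one, map_sub]
      refine ⟨rfl, ?_⟩
      have := hφ (φ (x.coeff 1)) 1
      rw [mul_one, hφ1, mul_one] at this
      rw [this, sub_self]
    · intro b hb
      obtain ⟨x, rfl⟩ := Ideal.Quotient.mk_surjective b
      rw [← map_natCast (Ideal.Quotient.mk (splitIdeal p A φ)), ← map_mul,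
        Ideal.Quotient.eq_zero_iff_mem, mem_splitIdeal_iff p φ hφ, mul_comm, mul_p,
        V2_coeff_one] at hb
      have := hφ (x.coeff 0) 1
      rw [mul_one, hφ1, mul_one] at this
      rw [hπ, ← this, hb.2]
    · intro w
      rw [RingHom.comp_apply, hπ, WittGrp.coeff_truncMap, res_apply]

end main

end Groth.Agent.Helper6.W2
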