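import Groth.Agent.Helper5.WrFixPos
import Groth.Agent.Helper5.FGTransport
import Groth.Agent.Helper5.HasseSep
import Groth.Agent.Helper6.TateW2

set_option autoImplicit false
set_option linter.style.haveILetI false

/-!
# Global properties of the Weierstrass divisor `W_s(φ, τ)`: effectivity, degree,
multiplicity at strong fixed points
-/

namespace Groth.Agent.Helper6.WDivGlob

open FunFld LocRes
open Groth.Agent.Helper5 Groth.Agent.Helper5.Wr

universe u v
variable {k : Type u} {K : Type v} [Field k] [Field K] [Algebra k K]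

theorem deg_zsmul (z : ℤ) (D : Divisor k K) : (z • D).deg = z * D.deg := by
  rw [← FF.degHom_apply, ← FF.degHom_apply, map_zsmul]; simp

/-- reduction to a local parameter and a normalised tuple at `P` -/
theorem exists_local_normalisation [IsAlgClosed k] (hK : IsFunctionField k K) {n : ℕ}
    (φ : Fin (n + 1) → K) (hφ : LinearIndependent k φ) (τ : K →ₐ[k] K) (P : Place k K)
    {s : K} {H : K →ₐ[k] PowerSeries K} (hH : IsHasseFamily s H)
    (J : Fin n → ℕ) (hJ : IsOrders K (hcol τ H φ) J)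
    (Φ : Place k K → (K →ₐ[k] LaurentSeries k))
    (hΦ : ∀ P : Place k K, IsExpansionAt P.1 (Φ P)) :
    ∃ (t : K) (Ht : K →ₐ[k] PowerSeries K) (y : K), P.1 t = WithZero.exp (-1 : ℤ) ∧
      IsHasseFamily t Ht ∧ y ≠ 0 ∧ (1 : K) ∈ Submodule.span k (Set.range (y • φ)) ∧
      (∀ i, P.1 ((y • φ) i) ≤ 1) ∧ LinearIndependent k (y • φ) ∧
      IsOrders K (hcol τ Ht (y • φ)) J ∧ wDiv τ Ht Φ t (y • φ) J = wDiv τ H Φ s φ J := by
  have hP := FF.deg_eq_one_of_isAlgClosed hK P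
  obtain ⟨t, Ht, ht, hHt⟩ := exists_isHasseFamily_local hK P hP hH
  have hφ0 : ∀ i, φ i ≠ 0 := fun i => hφ.ne_zero i
  obtain ⟨y, hy, heff, hnorm⟩ := exists_normalizer (k := k) P φ hφ0
  have hψ := linearIndependent_smul φ hφ y hy
  have hinv := wDiv_eq_of_equiv hK φ hφ τ hH hHt J hJ (1 : Matrix (Fin (n + 1)) (Fin (n + 1)) k)
    (by rw [Matrix.det_one]; exact one_ne_zero) y hy (y • φ)
    (fun i => by simp [Matrix.one_apply]) Φ hΦ
  have hJψ : IsOrders K (hcol τ Ht (y • φ)) J := by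
    rw [(smul_change τ hHt φ y hy).1 J, (var_change hK τ hH hHt φ).1 J]
    exact hJ
  exact ⟨t, Ht, y, ht, hHt, hy, heff, hnorm, hψ, hJψ, hinv⟩

/-- effectivity at a place, for a normalised tuple and a local parameter -/
theorem wDiv_apply_nonneg_normalised (hK : IsFunctionField k K) (P : Place k K) (hP : P.deg = 1)
    (τ : K →ₐ[k] K) {n : ℕ} (ψ : Fin (n + 1) → K) (hψ : LinearIndependent k ψ)
    (heff : (1 : K) ∈ Submodule.span k (Set.range ψ)) (hnorm : ∀ i, P.1 (ψ i) ≤ 1)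
    {t : K} (ht : P.1 t = WithZero.exp (-1 : ℤ))
    {Ht : K →ₐ[k] PowerSeries K} (hHt : IsHasseFamily t Ht)
    (Φ : Place k K → (K →ₐ[k] LaurentSeries k)) (hΦ : IsExpansionAt P.1 (Φ P))
    (J : Fin n → ℕ) (hdet : (wrMat τ Ht ψ J).det ≠ 0) :
    0 ≤ wDiv τ Ht Φ t ψ J P := by
  unfold wDiv
  rw [Finsupp.add_apply, Finsupp.add_apply, Finsupp.add_apply, Finsupp.smul_apply,
    Finsupp.smul_apply, FF.div_apply hK,
    mapDiv_apply_eq_zero hK P ψ hnorm (exists_val_eq_one_of_eff P ψ heff hnorm),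
    divDiff_one_apply_eq_zero Φ P hΦ ht, smul_zero, smul_zero, add_zero, add_zero,
    FG.mapDiv_apply hK.1]
  obtain ⟨m, hm⟩ : ∃ m : ℤ, m = Finset.univ.inf' Finset.univ_nonempty
      (fun i => P.ord ((τ ∘ ψ) i)) := ⟨_, rfl⟩
  rw [← hm]
  have hτψ0 : ∀ i, τ (ψ i) ≠ 0 := fun i => (map_ne_zero τ).mpr (hψ.ne_zero i)
  have hcol0 : ∀ i, P.1 (τ (ψ i)) ≤ WithZero.exp (-m) := by
    intro i
    rw [FF.val_le_exp_iff P (hτψ0 i), neg_neg, hm]
    exact Finset.inf'_le _ (Finset.mem_univ i)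
  let a : Fin (n + 1) → ℤ := fun _ => 0
  let b : Fin (n + 1) → ℤ := Fin.cons (-m) (fun _ => 0)
  have hentry : ∀ l s, P.1 (wrMat τ Ht ψ J l s) ≤ WithZero.exp (-(a l - b s)) := by
    intro l s
    rcases Fin.eq_zero_or_eq_succ s with rfl | ⟨s', rfl⟩
    · simp only [wrMat, Matrix.of_apply, Fin.cases_zero, a, b, Fin.cons_zero, zero_sub, neg_neg]
      exact hcol0 l
    · simp only [wrMat, Matrix.of_apply, Fin.cases_succ, a, b, Fin.cons_succ, sub_zero, neg_zero,
        WithZero.exp_zero]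
      exact Hs.val_hasseD_le_one hK P hP ht hHt (ψ l) (hnorm l) (J s')
  obtain ⟨h1, -⟩ := det_weighted P ht (wrMat τ Ht ψ J) a b hentry
  have hsum : (∑ l, a l - ∑ s, b s) = m := by
    simp only [a, b, Fin.sum_univ_succ, Fin.cons_zero, Fin.cons_succ, Finset.sum_const_zero,
      add_zero, zero_sub, neg_neg]
  rw [hsum, FF.val_le_exp_iff P hdet, neg_neg] at h1
  omega

/-- the Weierstrass divisor is effective -/
theorem wDiv_apply_nonneg [IsAlgClosed k] (hK : IsFunctionField k K) {n : ℕ}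
    (φ : Fin (n + 1) → K) (hφ : LinearIndependent k φ) (τ : K →ₐ[k] K) (P : Place k K)
    {s : K} {H : K →ₐ[k] PowerSeries K} (hH : IsHasseFamily s H)
    (J : Fin n → ℕ) (hJ : IsOrders K (hcol τ H φ) J)
    (Φ : Place k K → (K →ₐ[k] LaurentSeries k))
    (hΦ : ∀ P : Place k K, IsExpansionAt P.1 (Φ P)) :
    0 ≤ wDiv τ H Φ s φ J P := by
  have hP := FF.deg_eq_one_of_isAlgClosed hK P
  obtain ⟨t, Ht, y, ht, hHt, hy, heff, hnorm, hψ, hJψ, hinv⟩ :=
    exists_local_normalisation hK φ hφ τ P hH J hJ Φ hΦ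
  rw [← hinv]
  exact wDiv_apply_nonneg_normalised hK P hP τ (y • φ) hψ heff hnorm ht hHt Φ (hΦ P) J
    (det_wrMat_ne_zero_of_isOrders hK hHt (y • φ) hψ τ J hJψ)

/-- at a strong fixed point the Weierstrass divisor has multiplicity at least `n` -/
theorem le_wDiv_apply_of_strong [IsAlgClosed k] (hK : IsFunctionField k K) {n : ℕ}
    (φ : Fin (n + 1) → K) (hφ : LinearIndependent k φ) (τ : K →ₐ[k] K) (P : Place k K)
    (hstrong : IsStrongFixedPt τ P)
    {s : K} {H : K →ₐ[k] PowerSeries K} (hH : IsHasseFamily s H)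
    (J : Fin n → ℕ) (hJ : IsOrders K (hcol τ H φ) J)
    (Φ : Place k K → (K →ₐ[k] LaurentSeries k))
    (hΦ : ∀ P : Place k K, IsExpansionAt P.1 (Φ P)) :
    (n : ℤ) ≤ wDiv τ H Φ s φ J P := by
  rcases Nat.eq_zero_or_pos n with hn0 | hn
  · subst hn0
    simpa using wDiv_apply_nonneg hK φ hφ τ P hH J hJ Φ hΦ
  have hP := FF.deg_eq_one_of_isAlgClosed hK P
  obtain ⟨t, Ht, y, ht, hHt, hy, heff, hnorm, hψ, hJψ, hinv⟩ :=
    exists_local_normalisation hK φ hφ τ P hH J hJ Φ hΦ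
  rw [← hinv]
  have hfix := isFixedPt_of_isStrongFixedPt hstrong
  obtain ⟨J', hJ'⟩ := exists_isOrdersAt hK P hP (y • φ) hψ heff hnorm ht hHt
  have hpos := one_le_ordersAt hK P hP (y • φ) hnorm ht hHt J' hJ'
  have hle := orders_add_le_of_strong hK P hP τ hstrong hn (y • φ) hψ heff hnorm ht hHt J hJψ
    J' hJ'
  obtain ⟨hsum, -⟩ := sum_sub_le_wDiv hK P hP τ hfix (y • φ) hψ heff hnorm ht hHt J hJψ J' hJ' Φ
    (hΦ P)
  refine le_trans ?_ hsum
  have h1 : ∀ l ∈ Finset.univ, (1 : ℤ) ≤ (J' l : ℤ) - J l := fun l _ => by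
    have h1 := hle l
    have h2 := hpos ⟨0, hn⟩
    omega
  calc (n : ℤ) = ∑ _l : Fin n, (1 : ℤ) := by simp
    _ ≤ _ := Finset.sum_le_sum h1

/-- the divisor of `ds` has degree `2g - 2` -/
theorem deg_divDiff_one [IsAlgClosed k] (hK : IsFunctionField k K) {s : K}
    {H : K →ₐ[k] PowerSeries K} (hH : IsHasseFamily s H)
    (Φ : Place k K → (K →ₐ[k] LaurentSeries k))
    (hΦ : ∀ P : Place k K, IsExpansionAt P.1 (Φ P)) :
    (divDiff Φ 1 s).deg = 2 * (genus k K : ℤ) - 2 := by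
  have hg := FF.isGeometric_of_perfectField k K hK
  have hC : IsCanonical k K (divDiff Φ 1 s) :=
    TateW2.isCanonical_ordDiff (F := fun _ => k) hK hg Φ hΦ one_ne_zero
      (Hs.D_ne_zero_of_isHasseFamily hH) _ (fun P => divDiff_one_apply hK hH Φ hΦ P)
  exact (FF.ell_canonical hK hC).2

/-- the degree of the Weierstrass divisor -/
theorem deg_wDiv [IsAlgClosed k] (hK : IsFunctionField k K) {n : ℕ}
    (φ : Fin (n + 1) → K) (τ : K →ₐ[k] K)
    {s : K} {H : K →ₐ[k] PowerSeries K} (hH : IsHasseFamily s H)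
    (J : Fin n → ℕ)
    (Φ : Place k K → (K →ₐ[k] LaurentSeries k))
    (hΦ : ∀ P : Place k K, IsExpansionAt P.1 (Φ P)) :
    (wDiv τ H Φ s φ J).deg =
      ((Module.finrank τ.fieldRange K : ℤ) + n) * (mapDiv k φ).deg +
        (2 * (genus k K : ℤ) - 2) * ∑ l, (J l : ℤ) := by
  unfold wDiv
  rw [FF.deg_add, FF.deg_add, FF.deg_add, deg_zsmul, deg_zsmul, FF.deg_div hK,
    FG.deg_mapDiv_comp_algHom hK τ φ, deg_divDiff_one hK hH Φ hΦ]
  ring

/-- the strong fixed points are finite in number, and `n` times their number is at most the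
degree of the Weierstrass divisor -/
theorem strong_finite_and_le [IsAlgClosed k] (hK : IsFunctionField k K) {n : ℕ} (hn : 0 < n)
    (φ : Fin (n + 1) → K) (hφ : LinearIndependent k φ) (τ : K →ₐ[k] K)
    {s : K} {H : K →ₐ[k] PowerSeries K} (hH : IsHasseFamily s H)
    (J : Fin n → ℕ) (hJ : IsOrders K (hcol τ H φ) J)
    (Φ : Place k K → (K →ₐ[k] LaurentSeries k))
    (hΦ : ∀ P : Place k K, IsExpansionAt P.1 (Φ P)) :
    {P : Place k K | IsStrongFixedPt τ P}.Finite ∧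
    (n : ℤ) * (Set.ncard {P : Place k K | IsStrongFixedPt τ P} : ℤ) ≤
      (wDiv τ H Φ s φ J).deg := by
  classical
  obtain ⟨W, hW⟩ : ∃ W : Divisor k K, W = wDiv τ H Φ s φ J := ⟨_, rfl⟩
  rw [← hW]
  have hnn : ∀ P, 0 ≤ W P := fun P => by
    rw [hW]; exact wDiv_apply_nonneg hK φ hφ τ P hH J hJ Φ hΦ
  have hst : ∀ P, IsStrongFixedPt τ P → (n : ℤ) ≤ W P := fun P hP => by
    rw [hW]; exact le_wDiv_apply_of_strong hK φ hφ τ P hP hH J hJ Φ hΦ
  have hsub : {P : Place k K | IsStrongFixedPt τ P} ⊆ (W.support : Set (Place k K)) := by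
    intro P hP
    rw [Finset.mem_coe, Finsupp.mem_support_iff]
    have := hst P hP
    have hn' : (0 : ℤ) < n := by exact_mod_cast hn
    omega
  have hfin : {P : Place k K | IsStrongFixedPt τ P}.Finite :=
    Set.Finite.subset W.support.finite_toSet hsub
  refine ⟨hfin, ?_⟩
  rw [Set.ncard_eq_toFinset_card _ hfin]
  have hsub' : hfin.toFinset ⊆ W.support := by
    intro P hP
    exact hsub ((Set.Finite.mem_toFinset hfin).mp hP)
  unfold Divisor.deg Finsupp.sum
  calc (n : ℤ) * (hfin.toFinset.card : ℤ) = ∑ _P ∈ hfin.toFinset, (n : ℤ) := by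
        rw [Finset.sum_const, nsmul_eq_mul]; ring
    _ ≤ ∑ P ∈ hfin.toFinset, W P * (P.deg : ℤ) := by
        apply Finset.sum_le_sum
        intro P hP
        rw [FF.deg_eq_one_of_isAlgClosed hK P, Nat.cast_one, mul_one]
        exact hst P ((Set.Finite.mem_toFinset hfin).mp hP)
    _ ≤ ∑ P ∈ W.support, W P * (P.deg : ℤ) := by
        apply Finset.sum_le_sum_of_subset_of_nonneg hsub'
        intro P _ _
        exact mul_nonneg (hnn P) (Nat.cast_nonneg _)

end Groth.Agent.Helper6.WDivGlob
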