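import Mathlib

set_option backward.isDefEq.respectTransparency false
set_option backward.isDefEq.respectTransparency.types false
set_option autoImplicit false

/-!
# Power series over a complete local ring: `A⟦X⟧` is finite free over itself along `X ↦ f`
iff `f` (with zero constant term) has a unit coefficient.
-/

namespace Groth.Agent.Helper6.WPrep

open PowerSeries IsLocalRing

variable {A : Type*} [CommRing A]

/-- coefficient of a finite sum of monomials indexed by `Fin n` -/
lemma coeff_sum_fin (n : ℕ) (a : Fin n → A) (j : ℕ) :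
    coeff j (∑ i : Fin n, C (a i) * X ^ (i : ℕ)) = if h : j < n then a ⟨j, h⟩ else 0 := by
  rw [map_sum]
  simp_rw [coeff_C_mul_X_pow]
  split_ifs with h
  · rw [Finset.sum_eq_single (⟨j, h⟩ : Fin n)]
    · simp
    · intro b _ hb
      rw [if_neg]
      intro hj
      exact hb (Fin.ext hj.symm)
    · intro hh
      exact absurd (Finset.mem_univ _) hh
  · apply Finset.sum_eq_zero
    intro i _
    rw [if_neg]
    intro hj
    exact h (hj ▸ i.isLt)

lemma poly_eq (r : Polynomial A) (n : ℕ) (h : r.degree < n) :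
    (r : A⟦X⟧) = ∑ i : Fin n, C (r.coeff i) * X ^ (i : ℕ) := by
  ext j
  rw [Polynomial.coeff_coe, coeff_sum_fin]
  split_ifs with hj
  · rfl
  · exact Polynomial.coeff_eq_zero_of_degree_lt (h.trans_le (by exact_mod_cast not_lt.mp hj))

lemma coe_sum_fin (n : ℕ) (a : Fin n → A) :
    ((∑ i : Fin n, Polynomial.C (a i) * Polynomial.X ^ (i : ℕ) : Polynomial A) : A⟦X⟧) =
      ∑ i : Fin n, C (a i) * X ^ (i : ℕ) := by
  rw [← Polynomial.coeToPowerSeries.ringHom_apply, map_sum]
  refine Finset.sum_congr rfl fun i _ => ?_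
  rw [Polynomial.coeToPowerSeries.ringHom_apply, Polynomial.coe_mul, Polynomial.coe_C,
    Polynomial.coe_pow, Polynomial.coe_X]

/-- the shift of a power series -/
noncomputable def shift (c : A⟦X⟧) : A⟦X⟧ := mk fun k => coeff (k + 1) c

lemma coeff_shift (c : A⟦X⟧) (k : ℕ) : coeff k (shift c) = coeff (k + 1) c := coeff_mk _ _

/-- the map `c ↦ ∑ c_i(f) X^i` -/
noncomputable def Phi (f : A⟦X⟧) (n : ℕ) (c : Fin n → A⟦X⟧) : A⟦X⟧ :=
  ∑ i : Fin n, subst f (c i) * X ^ (i : ℕ)

section
variable (f : A⟦X⟧) (hf0 : constantCoeff f = 0)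
include hf0

lemma subst_decomp (c : A⟦X⟧) :
    subst f c = C (constantCoeff c) + f * subst f (shift c) := by
  have hS : HasSubst f := HasSubst.of_constantCoeff_zero' hf0
  conv_lhs => rw [eq_X_mul_shift_add_const c]
  rw [subst_add hS, subst_mul hS, subst_X hS, subst_C, add_comm]
  rfl

lemma Phi_decomp (n : ℕ) (c : Fin n → A⟦X⟧) :
    Phi f n c = (∑ i : Fin n, C (constantCoeff (c i)) * X ^ (i : ℕ)) +
      f * Phi f n (fun i => shift (c i)) := by
  unfold Phi
  rw [Finset.mul_sum, ← Finset.sum_add_distrib]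
  refine Finset.sum_congr rfl fun i _ => ?_
  rw [subst_decomp f hf0 (c i)]
  ring

lemma Phi_expand (n : ℕ) : ∀ (N : ℕ) (c : Fin n → A⟦X⟧), ∃ d : A⟦X⟧,
    Phi f n c = (∑ k ∈ Finset.range N, f ^ k * ∑ i : Fin n, C (coeff k (c i)) * X ^ (i : ℕ)) +
      f ^ N * d := by
  intro N
  induction N with
  | zero => intro c; exact ⟨Phi f n c, by simp⟩
  | succ N ih =>
    intro c
    obtain ⟨d, hd⟩ := ih (fun i => shift (c i))
    refine ⟨d, ?_⟩
    simp only [coeff_shift] at hd
    rw [Phi_decomp f hf0 n c, hd, Finset.sum_range_succ', mul_add, Finset.mul_sum]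
    have h1 : ∀ k ∈ Finset.range N,
        f * (f ^ k * ∑ i : Fin n, C (coeff (k + 1) (c i)) * X ^ (i : ℕ)) =
          f ^ (k + 1) * ∑ i : Fin n, C (coeff (k + 1) (c i)) * X ^ (i : ℕ) := by
      intro k _; ring
    rw [Finset.sum_congr rfl h1]
    simp only [coeff_zero_eq_constantCoeff_apply, pow_zero, one_mul]
    ring

end

variable [IsLocalRing A]

section inj
variable (f : A⟦X⟧) (hf0 : constantCoeff f = 0) (hres : f.map (residue A) ≠ 0)
include hf0 hres

lemma Phi_zero_step [IsHausdorff (maximalIdeal A) A]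
    (c : Fin (f.map (residue A)).order.toNat → A⟦X⟧) (hc : Phi f _ c = 0) :
    (∀ i, constantCoeff (c i) = 0) ∧ Phi f _ (fun i => shift (c i)) = 0 := by
  have hrc := coe_sum_fin (f.map (residue A)).order.toNat (fun i => constantCoeff (c i))
  have H : IsWeierstrassDivision 0 f (Phi f _ (fun i => shift (c i)))
      (∑ i : Fin (f.map (residue A)).order.toNat,
        Polynomial.C (constantCoeff (c i)) * Polynomial.X ^ (i : ℕ)) := by
    refine ⟨Polynomial.degree_sum_fin_lt _, ?_⟩
    rw [hrc, add_comm, ← Phi_decomp f hf0 _ c, hc]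
  obtain ⟨hq, hr0⟩ := IsWeierstrassDivision.eq_zero hres H
  refine ⟨fun i => ?_, hq⟩
  have h1 := coeff_sum_fin _ (fun i => constantCoeff (c i)) i
  rw [dif_pos i.isLt, ← hrc, hr0] at h1
  simpa using h1.symm

lemma Phi_injective [IsHausdorff (maximalIdeal A) A] :
    ∀ (k : ℕ) (c : Fin (f.map (residue A)).order.toNat → A⟦X⟧),
      Phi f _ c = 0 → ∀ i, coeff k (c i) = 0 := by
  intro k
  induction k with
  | zero =>
    intro c hc i
    rw [coeff_zero_eq_constantCoeff_apply]
    exact (Phi_zero_step f hf0 hres c hc).1 i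
  | succ k ih =>
    intro c hc i
    have := ih _ (Phi_zero_step f hf0 hres c hc).2 i
    rwa [coeff_shift] at this

end inj

section surj
variable [IsAdicComplete (maximalIdeal A) A] (f : A⟦X⟧)

/-- iterated Weierstrass quotients -/
noncomputable def qs (g : A⟦X⟧) : ℕ → A⟦X⟧
  | 0 => g
  | k + 1 => weierstrassDiv (qs g k) f

variable (hf0 : constantCoeff f = 0) (hres : f.map (residue A) ≠ 0)
include hres

lemma qs_expand (g : A⟦X⟧) (N : ℕ) :
    g = (∑ k ∈ Finset.range N, f ^ k * ((weierstrassMod (qs f g k) f : Polynomial A) : A⟦X⟧)) +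
      f ^ N * qs f g N := by
  induction N with
  | zero => simp [qs]
  | succ N ih =>
    have e := eq_mul_weierstrassDiv_add_weierstrassMod (qs f g N) hres
    have h2 : qs f g (N + 1) = weierstrassDiv (qs f g N) f := rfl
    rw [Finset.sum_range_succ, h2]
    linear_combination ih + f ^ N * e

include hf0

lemma Phi_surjective (g : A⟦X⟧) :
    ∃ c : Fin (f.map (residue A)).order.toNat → A⟦X⟧, g = Phi f _ c := by
  set n := (f.map (residue A)).order.toNat with hn
  refine ⟨fun i => mk fun k => (weierstrassMod (qs f g k) f).coeff i, ?_⟩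
  set c : Fin n → A⟦X⟧ := fun i => mk fun k => (weierstrassMod (qs f g k) f).coeff i with hc
  have hXf : (X : A⟦X⟧) ∣ f := X_dvd_iff.mpr hf0
  rw [← sub_eq_zero]
  ext j
  rw [map_zero]
  obtain ⟨d, hd⟩ := Phi_expand f hf0 n (j + 1) c
  have hg := qs_expand f hres g (j + 1)
  have hsum : ∀ k, (∑ i : Fin n, C (coeff k (c i)) * X ^ (i : ℕ)) =
      ((weierstrassMod (qs f g k) f : Polynomial A) : A⟦X⟧) := by
    intro k
    rw [poly_eq _ n (degree_weierstrassMod_lt (qs f g k) f)]
    refine Finset.sum_congr rfl fun i _ => ?_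
    rw [hc, coeff_mk]
  simp only [hsum] at hd
  have hdiff : g - Phi f n c = f ^ (j + 1) * (qs f g (j + 1) - d) := by
    linear_combination hg - hd
  rw [hdiff]
  exact (X_pow_dvd_iff.mp ((pow_dvd_pow_of_dvd hXf (j + 1)).trans (Dvd.intro _ rfl))) j
    (Nat.lt_succ_self j)

end surj

/-- if all coefficients of `f` are in the maximal ideal, `A⟦X⟧` is not finitely generated along `f`. -/
lemma not_finite_of_coeff_mem (f : A⟦X⟧) (hf0 : constantCoeff f = 0)
    (hm : ∀ k, coeff k f ∈ maximalIdeal A) (n : ℕ) (b : Fin n → A⟦X⟧)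
    (h : ∀ g : A⟦X⟧, ∃ c : Fin n → A⟦X⟧, g = ∑ i, subst f (c i) * b i) : False := by
  classical
  have hS : HasSubst f := HasSubst.of_constantCoeff_zero' hf0
  have hfρ : PowerSeries.map (residue A) f = 0 := by
    ext j
    rw [coeff_map, map_zero]
    exact (residue_eq_zero_iff _).mpr (hm j)
  have hsub : ∀ c : A⟦X⟧, PowerSeries.map (residue A) (subst f c) =
      C (constantCoeff (PowerSeries.map (residue A) c)) := by
    intro c
    have h1 := map_subst hS (h := residue A) c
    have h2 : MvPowerSeries.map (residue A) f = 0 := hfρ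
    rw [h2, subst_zero_eq_C_constantCoeff] at h1
    show MvPowerSeries.map (residue A) (subst f c) = _
    rw [h1]
    simp
    rfl
  have hspan : Submodule.span (ResidueField A)
      (Set.range fun i => PowerSeries.map (residue A) (b i)) = ⊤ := by
    rw [eq_top_iff]
    rintro y -
    obtain ⟨g, rfl⟩ := map_surjective (residue A) residue_surjective y
    obtain ⟨c, hc⟩ := h g
    rw [hc, map_sum]
    refine Submodule.sum_mem _ fun i _ => ?_
    rw [map_mul, hsub, ← smul_eq_C_mul]
    exact Submodule.smul_mem _ _ (Submodule.subset_span ⟨i, rfl⟩)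
  haveI : Module.Finite (ResidueField A) (ResidueField A)⟦X⟧ :=
    ⟨⟨Finset.univ.image (fun i => PowerSeries.map (residue A) (b i)), by
      rw [Finset.coe_image, Finset.coe_univ, Set.image_univ]; exact hspan⟩⟩
  haveI : IsArtinianRing (ResidueField A)⟦X⟧ :=
    IsArtinianRing.of_finite (ResidueField A) (ResidueField A)⟦X⟧
  have hfield := IsArtinianRing.isField_of_isDomain (ResidueField A)⟦X⟧
  obtain ⟨y, hy⟩ := hfield.mul_inv_cancel (X_ne_zero : (X : (ResidueField A)⟦X⟧) ≠ 0)
  have := congrArg constantCoeff hy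
  simp at this

theorem main [IsAdicComplete (maximalIdeal A) A] (f : A⟦X⟧) (hf0 : constantCoeff f = 0) :
    (∃ n, coeff n f ∉ maximalIdeal A) ↔
    ∃ (n : ℕ) (b : Fin n → A⟦X⟧), ∀ g : A⟦X⟧, ∃! c : Fin n → A⟦X⟧,
      g = ∑ i, subst f (c i) * b i := by
  constructor
  · rintro ⟨n₀, hn₀⟩
    have hres : f.map (residue A) ≠ 0 := by
      intro h0
      apply hn₀
      rw [← residue_eq_zero_iff, ← coeff_map, h0, map_zero]
    refine ⟨(f.map (residue A)).order.toNat, fun i => X ^ (i : ℕ), fun g => ?_⟩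
    obtain ⟨c, hc⟩ := Phi_surjective f hf0 hres g
    refine ⟨c, hc, fun c' hc' => ?_⟩
    have hS := HasSubst.of_constantCoeff_zero' hf0
    have h0 : Phi f _ (fun i => c' i - c i) = 0 := by
      have e1 : Phi f _ (fun i => c' i - c i) = Phi f _ c' - Phi f _ c := by
        unfold Phi
        simp only [subst_sub hS, sub_mul, Finset.sum_sub_distrib]
      have e2 : g = Phi f _ c' := hc'
      rw [e1, ← e2, ← hc, sub_self]
    funext i
    ext k
    have := Phi_injective f hf0 hres k _ h0 i
    rwa [map_sub, sub_eq_zero] at this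
  · rintro ⟨n, b, h⟩
    by_contra hcon
    push Not at hcon
    exact not_finite_of_coeff_mem f hf0 hcon n b (fun g => (h g).exists)

end Groth.Agent.Helper6.WPrep
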