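import Mathlib
import Groth.Agent.Helper5.FFKp2
import Groth.Agent.Helper5.FFKaehler

set_option autoImplicit false
set_option linter.style.haveILetI false
set_option linter.unusedSectionVars false

/-!
# Weakly separable extensions of function fields are separable over the compositum
-/

namespace Groth.Agent.Helper6.WeakSep

open FunFld
open Groth.Agent.Helper5
open scoped IntermediateField

universe u v

theorem s11026 (k k' : Type u) (K K' : Type v) [Field k] [Field k'] [Field K] [Field K']
    [Algebra k k'] [Algebra k K] [Algebra K K'] [Algebra k' K'] [Algebra k K']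
    [IsScalarTower k k' K'] [IsScalarTower k K K']
    (hK : FunFld.IsFunctionField k K) (hg : FunFld.IsGeometric k K)
    (hK' : FunFld.IsFunctionField k' K') (hg' : FunFld.IsGeometric k' K')
    (hw : Function.Injective (KaehlerDifferential.map k k' K K')) :
    Algebra.IsSeparable (IntermediateField.adjoin K (Set.range (algebraMap k' K'))) K' := by
  classical
  have hrank := FF.finrank_kaehler_eq_one hK hg
  obtain ⟨x, hx⟩ : ∃ x : K, KaehlerDifferential.D k K x ≠ 0 := by
    by_contra hno
    push Not at hno
    have hspan := KaehlerDifferential.span_range_derivation k K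
    have hle : Submodule.span K (Set.range (KaehlerDifferential.D k K)) ≤ ⊥ := by
      rw [Submodule.span_le]
      rintro _ ⟨z, rfl⟩
      rw [SetLike.mem_coe, Submodule.mem_bot]
      exact hno z
    rw [hspan] at hle
    have hsub : Subsingleton (Ω[K⁄k]) := by
      refine ⟨fun a b => ?_⟩
      have ha : a = 0 := (Submodule.mem_bot K).1 (hle trivial)
      have hb : b = 0 := (Submodule.mem_bot K).1 (hle trivial)
      rw [ha, hb]
    have := Module.finrank_zero_of_subsingleton (R := K) (M := Ω[K⁄k])
    omega
  have hx' : KaehlerDifferential.D k' K' (algebraMap K K' x) ≠ 0 := by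
    rw [← KaehlerDifferential.map_D k k' K K' x]
    exact (map_ne_zero_iff _ hw).mpr hx
  haveI hsep := FF.isSeparable_of_D_ne_zero hK' hg' hx'
  obtain ⟨K₁, hK₁⟩ : ∃ K₁ : IntermediateField K K',
      K₁ = IntermediateField.adjoin K (Set.range (algebraMap k' K')) := ⟨_, rfl⟩
  rw [← hK₁]
  have hk'mem : ∀ c : k', algebraMap k' K' c ∈ K₁ := by
    intro c
    rw [hK₁]
    exact IntermediateField.subset_adjoin K _ ⟨c, rfl⟩
  have hxmem : algebraMap K K' x ∈ K₁ := K₁.algebraMap_mem x
  obtain ⟨K₁', hK₁'⟩ : ∃ K₁' : IntermediateField k' K', ∀ z : K', z ∈ K₁' ↔ z ∈ K₁ :=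
    ⟨K₁.toSubfield.toIntermediateField hk'mem, fun z => Iff.rfl⟩
  have hle : k'⟮algebraMap K K' x⟯ ≤ K₁' := by
    rw [IntermediateField.adjoin_le_iff]
    intro z hz
    rw [Set.mem_singleton_iff] at hz
    rw [hz]
    exact (hK₁' _).2 hxmem
  letI : Algebra k'⟮algebraMap K K' x⟯ K₁ :=
    RingHom.toAlgebra
      { toFun := fun z => ⟨(z : K'), (hK₁' _).1 (hle z.2)⟩
        map_one' := rfl
        map_mul' := fun _ _ => rfl
        map_zero' := rfl
        map_add' := fun _ _ => rfl }
  haveI : IsScalarTower k'⟮algebraMap K K' x⟯ K₁ K' :=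
    IsScalarTower.of_algebraMap_eq (fun _ => rfl)
  exact Algebra.isSeparable_tower_top_of_isSeparable k'⟮algebraMap K K' x⟯ K₁ K'

end Groth.Agent.Helper6.WeakSep
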