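import Groth.Agent.Helper6.StrongBound
import Groth.Agent.Helper5.WrCanon
import Groth.Agent.Helper5.BinomDet

set_option autoImplicit false
set_option linter.style.haveILetI false

/-!
# Weierstrass points of the canonical system: weights, count
-/

namespace Groth.Agent.Helper6.WeierPts

open FunFld LocRes
open Groth.Agent.Helper5 Groth.Agent.Helper5.Wr
open scoped IntermediateField

universe u v
variable {k : Type u} {K : Type v} [Field k] [Field K] [Algebra k K]

/-- the number of basis elements of `L(C)` is the genus -/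
theorem n_add_one_eq (hK : IsFunctionField k K) (C : Divisor k K) (hC : IsCanonical k K C)
    {n : ℕ} (φ : Fin (n + 1) → K) (hφ : LinearIndependent k φ)
    (hspan : Submodule.span k (Set.range φ) = L C) : n + 1 = genus k K := by
  have h1 := finrank_span_eq_card hφ
  rw [hspan, Fintype.card_fin] at h1
  have h2 := (FF.ell_canonical hK hC).1
  unfold ell at h2
  omega

/-- the canonical system has no base points -/
theorem mapDiv_eq [IsAlgClosed k] (hK : IsFunctionField k K) (hg : 0 < genus k K)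
    (C : Divisor k K) (hC : IsCanonical k K C)
    {n : ℕ} (φ : Fin (n + 1) → K) (hφ : LinearIndependent k φ)
    (hspan : Submodule.span k (Set.range φ) = L C) : mapDiv k φ = C := by
  have hφ0 : ∀ i, φ i ≠ 0 := fun i => hφ.ne_zero i
  ext P
  have hP := FF.deg_eq_one_of_isAlgClosed hK P
  apply le_antisymm
  · rw [mapDiv_apply_le_iff hK φ hφ0 P (C P), hspan]
    intro f hf
    exact hf P
  · have h1 := FF.ell_sub_single_lt_ell hK hg C (Or.inr hC) P hP
    have h2 := (ell_sub_lt_iff hK C P 0).mp (by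
      rw [zero_add, Finsupp.single_zero, sub_zero]; exact h1)
    obtain ⟨f, hf0, hfL, hford⟩ := h2
    rw [Finsupp.single_zero, sub_zero] at hfL
    have h3 := (mapDiv_apply_le_iff hK φ hφ0 P (mapDiv k φ P)).mp le_rfl
    rw [hspan] at h3
    have h4 : P.1 f ≤ WithZero.exp (mapDiv k φ P) := h3 hfL
    rw [FF.val_le_exp_iff P hf0] at h4
    omega

theorem finrank_fieldRange_id : Module.finrank (AlgHom.id k K).fieldRange K = 1 := by
  have h : (AlgHom.id k K).fieldRange = ⊤ :=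
    AlgHom.fieldRange_eq_top.mpr Function.surjective_id
  rw [FF.finrank_congr h]
  exact IntermediateField.finrank_top

theorem sum_succ_fin (n : ℕ) : 2 * ∑ l : Fin n, ((((l : ℕ) + 1 : ℕ)) : ℤ) = (n : ℤ) * (n + 1) := by
  have h1 : ∑ l : Fin n, ((l : ℕ) + 1) = ∑ i ∈ Finset.range n, (i + 1) :=
    Fin.sum_univ_eq_sum_range (fun i => i + 1) n
  have h2 : ∑ i ∈ Finset.range (n + 1), i = ∑ i ∈ Finset.range n, (i + 1) := by
    rw [Finset.sum_range_succ']; simp
  have h3 := Finset.sum_range_id_mul_two (n + 1)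
  rw [h2, ← h1, Nat.add_sub_cancel] at h3
  have h4 : ((∑ l : Fin n, ((l : ℕ) + 1) : ℕ) : ℤ) * 2 = ((n + 1 : ℕ) : ℤ) * n := by
    exact_mod_cast h3
  push_cast at h4 ⊢
  linarith

/-- local orders, gaps and the coefficient of the Weierstrass divisor -/
theorem local_data [IsAlgClosed k] (hK : IsFunctionField k K) (C : Divisor k K)
    (hC : IsCanonical k K C) {n : ℕ} (φ : Fin (n + 1) → K) (hφ : LinearIndependent k φ)
    (hspan : Submodule.span k (Set.range φ) = L C)
    (p : ℕ) [CharP k p] (hchar : p = 0 ∨ (mapDiv k φ).deg < p)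
    {s : K} {H : K →ₐ[k] PowerSeries K} (hH : IsHasseFamily s H)
    (hJ : IsOrders K (hcol (AlgHom.id k K) H φ) (fun l : Fin n => (l : ℕ) + 1))
    (Φ : Place k K → (K →ₐ[k] LaurentSeries k))
    (hΦ : ∀ P : Place k K, IsExpansionAt P.1 (Φ P)) (P : Place k K) :
    ∃ J' : Fin n → ℕ, StrictMono J' ∧ (∀ l, 0 < J' l) ∧
      (∀ j : ℕ, 1 ≤ j → (j ∈ Set.range J' ↔ FF.IsGap P (j + 1))) ∧
      wDiv (AlgHom.id k K) H Φ s φ (fun l : Fin n => (l : ℕ) + 1) P =
        ∑ l : Fin n, ((J' l : ℤ) - ((((l : ℕ) + 1 : ℕ)) : ℤ)) := by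
  have hP := FF.deg_eq_one_of_isAlgClosed hK P
  have hφ0 : ∀ i, φ i ≠ 0 := fun i => hφ.ne_zero i
  obtain ⟨t, Ht, y, ht, hHt, hy, heff, hnorm, hψ, hJψ, hinv⟩ :=
    WDivGlob.exists_local_normalisation hK φ hφ (AlgHom.id k K) P hH _ hJ Φ hΦ
  rw [← hinv]
  obtain ⟨J', hJ'⟩ := exists_isOrdersAt hK P hP (y • φ) hψ heff hnorm ht hHt
  have hpos := one_le_ordersAt hK P hP (y • φ) hnorm ht hHt J' hJ'
  refine ⟨J', hJ'.1, hpos, ?_, ?_⟩
  · intro j hj
    rw [hJ'.2 j, isJump_canonical_iff_gap hK C hC φ hφ hspan P hP y hy heff (fun i => hnorm i) ht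
      hHt j hj]
    unfold FF.IsGap
    push_cast
    rw [add_sub_cancel_right]
  · have hle : ∀ l, J' l < p ∨ p = 0 := by
      intro l
      rcases hchar with h0 | hlt
      · exact Or.inr h0
      · left
        have h1 := ordersAt_le_deg hK P hP (y • φ) heff hnorm ht hHt J' hJ' l
        rw [deg_mapDiv_smul hK φ hφ0 y hy] at h1
        have : (J' l : ℤ) < p := lt_of_le_of_lt h1 hlt
        exact_mod_cast this
    have hdet : (binomMat k J' (fun l : Fin n => (l : ℕ) + 1)).det ≠ 0 := by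
      apply BinomDet.det_choose_succ_ne_zero (k := k) J'
      apply BinomDet.natCast_injective_of_lt p
      · rw [Fin.cons_injective_iff]
        refine ⟨?_, hJ'.1.injective⟩
        rintro ⟨l, hl⟩
        have := hpos l
        omega
      · rcases Nat.eq_zero_or_pos p with hp0 | hp0
        · exact Or.inl hp0
        · right
          intro i
          refine Fin.cases ?_ (fun a => ?_) i
          · simpa using hp0
          · rcases hle a with h | h
            · simpa using h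
            · omega
    exact ((sum_sub_le_wDiv hK P hP (AlgHom.id k K) (isFixedPt_id P) (y • φ) hψ heff hnorm ht hHt _
      hJψ J' hJ' Φ (hΦ P)).2 (Or.inl rfl)).mpr hdet

/-- the `l`-th order at a point is at most `2(l+1)` -/
theorem order_le (P : Place k K) {n : ℕ} (J' : Fin n → ℕ) (hmono : StrictMono J')
    (hpos : ∀ l, 0 < J' l)
    (hgap : ∀ j : ℕ, 1 ≤ j → (j ∈ Set.range J' ↔ FF.IsGap P (j + 1))) (l : Fin n) :
    J' l ≤ 2 * ((l : ℕ) + 1) := by
  classical
  have h1 : 1 ≤ J' l := hpos l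
  have hex : ∃ γ, J' l < γ ∧ FF.IsGap P γ :=
    ⟨J' l + 1, Nat.lt_succ_self _, (hgap (J' l) h1).mp ⟨l, rfl⟩⟩
  have h2 := FF.le_two_mul_gapCount_of_gap_above P (J' l) hex
  have h3 : FF.gapCount P (J' l) ≤ (l : ℕ) + 1 := by
    unfold FF.gapCount
    have hsub : (Finset.Ico 1 (J' l + 1)).filter (FF.IsGap P) ⊆
        insert 1 ((Finset.univ.filter (fun l' : Fin n => l' < l)).image
          (fun l' => J' l' + 1)) := by
      intro m hm
      rw [Finset.mem_filter, Finset.mem_Ico] at hm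
      obtain ⟨⟨hm1, hm2⟩, hmg⟩ := hm
      rw [Finset.mem_insert]
      by_cases hm1' : m = 1
      · exact Or.inl hm1'
      · right
        have hj : 1 ≤ m - 1 := by omega
        have hg' : FF.IsGap P (m - 1 + 1) := by rwa [Nat.sub_add_cancel hm1]
        obtain ⟨l', hl'⟩ := (hgap (m - 1) hj).mpr hg'
        rw [Finset.mem_image]
        refine ⟨l', ?_, by omega⟩
        rw [Finset.mem_filter]
        refine ⟨Finset.mem_univ _, ?_⟩
        rw [← hmono.lt_iff_lt]
        omega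
    have hc1 := Finset.card_le_card hsub
    have hc2 := Finset.card_insert_le 1 ((Finset.univ.filter (fun l' : Fin n => l' < l)).image
      (fun l' => J' l' + 1))
    have hc3 := Finset.card_image_le (s := Finset.univ.filter (fun l' : Fin n => l' < l))
      (f := fun l' => J' l' + 1)
    have hc4 : (Finset.univ.filter (fun l' : Fin n => l' < l)).card ≤ (l : ℕ) := by
      have := Finset.card_le_card_of_injOn (s := Finset.univ.filter (fun l' : Fin n => l' < l))
        (t := Finset.range l) (fun l' => (l' : ℕ)) (by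
          intro l' hl'
          rw [Finset.mem_coe, Finset.mem_filter] at hl'
          rw [Finset.mem_coe, Finset.mem_range]
          exact Fin.lt_def.mp hl'.2) (Fin.val_injective.injOn)
      rwa [Finset.card_range] at this
    omega
  omega

theorem order_ge {n : ℕ} (J' : Fin n → ℕ) (hmono : StrictMono J') (hpos : ∀ l, 0 < J' l)
    (l : Fin n) : (l : ℕ) + 1 ≤ J' l := by
  have hn : 0 < n := Fin.pos l
  have h2 := StrongBound.strictMono_add_le J' hmono ⟨0, hn⟩ l (Fin.le_def.mpr (Nat.zero_le _))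
  have h3 := hpos ⟨0, hn⟩
  simp only [Nat.sub_zero] at h2
  omega

theorem two_mul_sum_le {n : ℕ} (J' : Fin n → ℕ) (hle : ∀ l, J' l ≤ 2 * ((l : ℕ) + 1)) :
    2 * ∑ l : Fin n, ((J' l : ℤ) - ((((l : ℕ) + 1 : ℕ)) : ℤ)) ≤ (n : ℤ) * (n + 1) := by
  have h1 : ∑ l : Fin n, ((J' l : ℤ) - ((((l : ℕ) + 1 : ℕ)) : ℤ)) ≤
      ∑ l : Fin n, ((((l : ℕ) + 1 : ℕ)) : ℤ) :=
    Finset.sum_le_sum (fun l _ => by have := hle l; push_cast; omega)
  have h2 := sum_succ_fin n
  linarith

theorem eq_of_two_mul_sum_eq {n : ℕ} (J' : Fin n → ℕ) (hle : ∀ l, J' l ≤ 2 * ((l : ℕ) + 1))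
    (h : 2 * ∑ l : Fin n, ((J' l : ℤ) - ((((l : ℕ) + 1 : ℕ)) : ℤ)) = (n : ℤ) * (n + 1)) :
    ∀ l, J' l = 2 * ((l : ℕ) + 1) := by
  have h2 := sum_succ_fin n
  have hnn : ∀ l ∈ Finset.univ, (0 : ℤ) ≤ ((((l : Fin n) : ℕ) + 1 : ℕ) : ℤ) -
      ((J' l : ℤ) - ((((l : ℕ) + 1 : ℕ)) : ℤ)) := fun l _ => by
    have := hle l; push_cast; omega
  have hsum : ∑ l : Fin n, (((((l : Fin n) : ℕ) + 1 : ℕ) : ℤ) -
      ((J' l : ℤ) - ((((l : ℕ) + 1 : ℕ)) : ℤ))) = 0 := by
    rw [Finset.sum_sub_distrib]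
    linarith
  intro l
  have := (Finset.sum_eq_zero_iff_of_nonneg hnn).mp hsum l (Finset.mem_univ l)
  push_cast at this
  omega

theorem sum_ne_zero_iff (P : Place k K) {n : ℕ} (J' : Fin n → ℕ) (hmono : StrictMono J')
    (hpos : ∀ l, 0 < J' l)
    (hgap : ∀ j : ℕ, 1 ≤ j → (j ∈ Set.range J' ↔ FF.IsGap P (j + 1))) :
    (∑ l : Fin n, ((J' l : ℤ) - ((((l : ℕ) + 1 : ℕ)) : ℤ))) ≠ 0 ↔
      ∃ m, n + 1 < m ∧ FF.IsGap P m := by
  have hge := order_ge J' hmono hpos
  have hnn : ∀ l ∈ Finset.univ, (0 : ℤ) ≤ (J' l : ℤ) - (((((l : Fin n) : ℕ) + 1 : ℕ)) : ℤ) :=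
    fun l _ => by have := hge l; push_cast; omega
  constructor
  · intro hne
    rw [Ne, Finset.sum_eq_zero_iff_of_nonneg hnn] at hne
    push Not at hne
    obtain ⟨l, -, hl⟩ := hne
    have h1 : (l : ℕ) + 1 < J' l := by
      have h0 := hge l
      have : (J' l : ℤ) ≠ ((((l : ℕ) + 1 : ℕ)) : ℤ) := fun h => hl (by rw [h, sub_self])
      have : J' l ≠ (l : ℕ) + 1 := fun h => this (by rw [h])
      omega
    have hn : 0 < n := Fin.pos l
    have h2 := StrongBound.strictMono_add_le J' hmono l ⟨n - 1, by omega⟩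
      (Fin.le_def.mpr (by have := l.2; simp only []; omega))
    simp only [] at h2
    have hl2 := l.2
    refine ⟨J' ⟨n - 1, by omega⟩ + 1, by omega, (hgap _ (by omega)).mp ⟨_, rfl⟩⟩
  · rintro ⟨m, hm, hmg⟩
    have hj : 1 ≤ m - 1 := by omega
    obtain ⟨l, hl⟩ := (hgap (m - 1) hj).mpr (by rwa [Nat.sub_add_cancel (by omega)])
    intro h0
    rw [Finset.sum_eq_zero_iff_of_nonneg hnn] at h0
    have h1 := h0 l (Finset.mem_univ l)
    have h2 := l.2
    push_cast at h1
    omega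

/-- counting lemma -/
theorem card_bound [IsAlgClosed k] (hK : IsFunctionField k K) (W : Divisor k K) (c M : ℤ)
    (hc : 0 < c) (hle : ∀ P, 2 * W P ≤ c) (hdeg : 2 * W.deg = c * M) :
    M ≤ W.support.card ∧ ((W.support.card : ℤ) = M → ∀ P ∈ W.support, 2 * W P = c) := by
  have hsum : W.deg = ∑ P ∈ W.support, W P := by
    unfold Divisor.deg Finsupp.sum
    refine Finset.sum_congr rfl fun P _ => ?_
    show W P * (P.deg : ℤ) = W P
    rw [FF.deg_eq_one_of_isAlgClosed hK P]; simp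
  have h1 : 2 * W.deg = ∑ P ∈ W.support, 2 * W P := by rw [hsum, Finset.mul_sum]
  have h2 : ∑ P ∈ W.support, 2 * W P ≤ ∑ _P ∈ W.support, c :=
    Finset.sum_le_sum fun P _ => hle P
  rw [Finset.sum_const, nsmul_eq_mul] at h2
  constructor
  · have : c * M ≤ c * W.support.card := by rw [← hdeg, h1, mul_comm c]; exact h2
    exact le_of_mul_le_mul_left this hc
  · intro hcard P hP
    by_contra hne
    have hlt : 2 * W P < c := lt_of_le_of_ne (hle P) hne
    have h3 : ∑ P ∈ W.support, 2 * W P < ∑ _P ∈ W.support, c :=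
      Finset.sum_lt_sum (fun P _ => hle P) ⟨P, hP, hlt⟩
    rw [Finset.sum_const, nsmul_eq_mul, ← h1, hdeg, hcard] at h3
    linarith

/-- the characteristic hypothesis in the form used by the Wronskian library -/
theorem char_cond [IsAlgClosed k] (hK : IsFunctionField k K) (hg : 1 < genus k K)
    (hchar : ringChar k = 0 ∨ 2 * genus k K - 2 < ringChar k)
    (C : Divisor k K) (hC : IsCanonical k K C)
    {n : ℕ} (φ : Fin (n + 1) → K) (hφ : LinearIndependent k φ)
    (hspan : Submodule.span k (Set.range φ) = L C) :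
    (mapDiv k φ).deg = 2 * (genus k K : ℤ) - 2 ∧
      (ringChar k = 0 ∨ (mapDiv k φ).deg < (ringChar k : ℤ)) := by
  have hg0 : 0 < genus k K := by omega
  have hM := mapDiv_eq hK hg0 C hC φ hφ hspan
  have hdeg : (mapDiv k φ).deg = 2 * (genus k K : ℤ) - 2 := by
    rw [hM]; exact (FF.ell_canonical hK hC).2
  refine ⟨hdeg, ?_⟩
  rcases hchar with h | h
  · exact Or.inl h
  · right
    rw [hdeg]
    have h1 : ((2 * genus k K - 2 : ℕ) : ℤ) < ringChar k := by exact_mod_cast h
    rw [Nat.cast_sub (by omega)] at h1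
    push_cast at h1
    exact h1

theorem J_eq [IsAlgClosed k] (hK : IsFunctionField k K) (hg : 1 < genus k K)
    (hchar : ringChar k = 0 ∨ 2 * genus k K - 2 < ringChar k)
    (C : Divisor k K) (hC : IsCanonical k K C)
    {n : ℕ} (φ : Fin (n + 1) → K) (hφ : LinearIndependent k φ)
    (hspan : Submodule.span k (Set.range φ) = L C)
    {s : K} {H : K →ₐ[k] PowerSeries K} (hH : IsHasseFamily s H)
    (J : Fin n → ℕ) (hJ : IsOrders K (hcol (AlgHom.id k K) H φ) J) :
    J = fun l : Fin n => (l : ℕ) + 1 := by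
  haveI : CharP k (ringChar k) := ringChar.charP k
  have hc := (char_cond hK hg hchar C hC φ hφ hspan).2
  have h1 := (isOrders_classical hK φ hφ (ringChar k) hc (AlgHom.id k K) hH).1 rfl
  exact isOrders_unique _ J _ hJ h1

theorem deg_wDiv_eq [IsAlgClosed k] (hK : IsFunctionField k K) (hg : 1 < genus k K)
    (hchar : ringChar k = 0 ∨ 2 * genus k K - 2 < ringChar k)
    (C : Divisor k K) (hC : IsCanonical k K C)
    {n : ℕ} (φ : Fin (n + 1) → K) (hφ : LinearIndependent k φ)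
    (hspan : Submodule.span k (Set.range φ) = L C)
    {s : K} {H : K →ₐ[k] PowerSeries K} (hH : IsHasseFamily s H)
    (Φ : Place k K → (K →ₐ[k] LaurentSeries k))
    (hΦ : ∀ P : Place k K, IsExpansionAt P.1 (Φ P)) :
    (wDiv (AlgHom.id k K) H Φ s φ (fun l : Fin n => (l : ℕ) + 1)).deg =
      (n : ℤ) * (n + 1) * (n + 2) := by
  have hdeg := (char_cond hK hg hchar C hC φ hφ hspan).1
  have hn := n_add_one_eq hK C hC φ hφ hspan
  have hgz : (genus k K : ℤ) = n + 1 := by exact_mod_cast hn.symm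
  have hs := sum_succ_fin n
  rw [WDivGlob.deg_wDiv hK φ (AlgHom.id k K) hH _ Φ hΦ, finrank_fieldRange_id, hdeg, hgz]
  obtain ⟨S, hS⟩ : ∃ S : ℤ, S = ∑ l : Fin n, ((((l : ℕ) + 1 : ℕ)) : ℤ) := ⟨_, rfl⟩
  rw [← hS] at hs ⊢
  have e : (((1 : ℕ) : ℤ) + n) * (2 * ((n : ℤ) + 1) - 2) + (2 * ((n : ℤ) + 1) - 2) * S =
      2 * n * (n + 1) + n * (2 * S) := by push_cast; ring
  rw [e, hs]
  ring

/-- all the information on the Weierstrass divisor of the canonical system -/
theorem main [IsAlgClosed k] (hK : IsFunctionField k K) (hg : 1 < genus k K)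
    (hchar : ringChar k = 0 ∨ 2 * genus k K - 2 < ringChar k)
    (C : Divisor k K) (hC : IsCanonical k K C)
    {n : ℕ} (φ : Fin (n + 1) → K) (hφ : LinearIndependent k φ)
    (hspan : Submodule.span k (Set.range φ) = L C)
    {s : K} {H : K →ₐ[k] PowerSeries K} (hH : IsHasseFamily s H)
    (J : Fin n → ℕ) (hJ : IsOrders K (hcol (AlgHom.id k K) H φ) J)
    (Φ : Place k K → (K →ₐ[k] LaurentSeries k))
    (hΦ : ∀ P : Place k K, IsExpansionAt P.1 (Φ P)) :
    (∀ P, wDiv (AlgHom.id k K) H Φ s φ J P ≠ 0 ↔ ∃ m, genus k K < m ∧ FF.IsGap P m) ∧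
    2 * genus k K + 2 ≤ (wDiv (AlgHom.id k K) H Φ s φ J).support.card ∧
    ((wDiv (AlgHom.id k K) H Φ s φ J).support.card = 2 * genus k K + 2 →
      ∀ P, wDiv (AlgHom.id k K) H Φ s φ J P ≠ 0 → ¬ FF.IsGap P 2) := by
  have hJeq := J_eq hK hg hchar C hC φ hφ hspan hH J hJ
  subst hJeq
  haveI : CharP k (ringChar k) := ringChar.charP k
  have hc := (char_cond hK hg hchar C hC φ hφ hspan).2
  have hn := n_add_one_eq hK C hC φ hφ hspan
  have hn1 : 1 ≤ n := by omega
  have hloc := local_data hK C hC φ hφ hspan (ringChar k) hc hH hJ Φ hΦ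
  have hdegW := deg_wDiv_eq hK hg hchar C hC φ hφ hspan hH Φ hΦ
  obtain ⟨W, hW⟩ : ∃ W : Divisor k K,
      W = wDiv (AlgHom.id k K) H Φ s φ (fun l : Fin n => (l : ℕ) + 1) := ⟨_, rfl⟩
  rw [← hW] at hloc hdegW ⊢
  have hle : ∀ P, 2 * W P ≤ (n : ℤ) * (n + 1) := by
    intro P
    obtain ⟨J', hmono, hpos, hgap, hWP⟩ := hloc P
    rw [hWP]
    exact two_mul_sum_le J' (order_le P J' hmono hpos hgap)
  have hmax : ∀ P, 2 * W P = (n : ℤ) * (n + 1) → ¬ FF.IsGap P 2 := by
    intro P hP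
    obtain ⟨J', hmono, hpos, hgap, hWP⟩ := hloc P
    rw [hWP] at hP
    have h1 := eq_of_two_mul_sum_eq J' (order_le P J' hmono hpos hgap) hP
    intro hg2
    obtain ⟨l', hl'⟩ := (hgap 1 le_rfl).mpr hg2
    have := h1 l'
    omega
  have hc0 : (0 : ℤ) < (n : ℤ) * (n + 1) := by
    have : (1 : ℤ) ≤ n := by exact_mod_cast hn1
    positivity
  obtain ⟨hcard1, hcard2⟩ := card_bound hK W ((n : ℤ) * (n + 1)) (2 * ((n : ℤ) + 2)) hc0 hle
    (by rw [hdegW]; ring)
  refine ⟨?_, ?_, ?_⟩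
  · intro P
    obtain ⟨J', hmono, hpos, hgap, hWP⟩ := hloc P
    rw [hWP, sum_ne_zero_iff P J' hmono hpos hgap, hn]
  · have : ((2 * genus k K + 2 : ℕ) : ℤ) ≤ (W.support.card : ℤ) := by
      rw [← hn]; push_cast; linarith
    exact_mod_cast this
  · intro hcard P hP
    apply hmax P
    apply hcard2 _ P (Finsupp.mem_support_iff.mpr hP)
    rw [hcard, ← hn]; push_cast; ring

end Groth.Agent.Helper6.WeierPts
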