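import Mathlib
import Groth.Agent.S18589

/-! Witt vector addition is componentwise on vectors whose coefficients lie in an ideal with
vanishing `p`-th power (helper6). -/

set_option autoImplicit false
set_option linter.style.haveILetI false
set_option linter.unusedSectionVars false

namespace Groth.Agent.Helper6.WittAddNil

open MvPolynomial

variable (p : ℕ) [hp : Fact p.Prime]

theorem support_cases (n : ℕ) (d : Fin 2 × ℕ →₀ ℕ)
    (hd : d ∈ (WittVector.wittAdd p n).support) :
    (d = Finsupp.single ((0 : Fin 2), n) 1 ∨ d = Finsupp.single ((1 : Fin 2), n) 1) ∨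
    ((∀ v ∈ d.support, v.2 < n) ∧ d.support.Nonempty ∧ p ≤ ∑ v ∈ d.support, d v) := by
  classical
  have hpp : 0 < p := hp.out.pos
  have hwt : Finsupp.weight (fun i : Fin 2 × ℕ => p ^ i.2) d = p ^ n :=
    Groth.Agent.S18589.result p n (mem_support_iff.mp hd)
  rw [Finsupp.weight_apply, Finsupp.sum] at hwt
  simp only [smul_eq_mul] at hwt
  have hle : ∀ v ∈ d.support, v.2 ≤ n := by
    intro v hv
    have hmem : v ∈ (WittVector.wittAdd p n).vars :=
      (mem_vars_iff_mem_support v).mpr ⟨d, hd, hv⟩
    have := WittVector.wittAdd_vars p n hmem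
    simp only [Finset.mem_product, Finset.mem_univ, true_and, Finset.mem_range] at this
    omega
  by_cases hA : ∀ v ∈ d.support, v.2 < n
  · right
    refine ⟨hA, ?_, ?_⟩
    · by_contra hne
      rw [Finset.not_nonempty_iff_eq_empty] at hne
      rw [hne, Finset.sum_empty] at hwt
      exact absurd hwt (pow_pos hpp n).ne
    · rcases n with _ | n'
      · exfalso
        have hemp : d.support = ∅ := by
          rw [Finset.eq_empty_iff_forall_notMem]
          intro v hv
          exact absurd (hA v hv) (by omega)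
        rw [hemp, Finset.sum_empty] at hwt
        simp at hwt
      · have h1 : p ^ (n' + 1) ≤ (∑ v ∈ d.support, d v) * p ^ n' := by
          rw [← hwt, Finset.sum_mul]
          apply Finset.sum_le_sum
          intro v hv
          exact Nat.mul_le_mul_left _ (Nat.pow_le_pow_right hpp (by have := hA v hv; omega))
        rw [pow_succ, mul_comm] at h1
        exact Nat.le_of_mul_le_mul_right h1 (pow_pos hpp n')
  · left
    push Not at hA
    obtain ⟨v, hv, hvn⟩ := hA
    have hv2 : v.2 = n := le_antisymm (hle v hv) hvn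
    rw [← Finset.add_sum_erase _ _ hv, hv2] at hwt
    have hdv : d v ≠ 0 := Finsupp.mem_support_iff.mp hv
    have hpn : 0 < p ^ n := pow_pos hpp n
    have hdv1 : d v = 1 := by
      by_contra hne
      have h2 : 2 ≤ d v := by omega
      have h3 : 2 * p ^ n ≤ d v * p ^ n := Nat.mul_le_mul_right _ h2
      omega
    have hrest : ∑ u ∈ d.support.erase v, d u * p ^ u.2 = 0 := by
      rw [hdv1, one_mul] at hwt
      omega
    have hsupp : d.support.erase v = ∅ := by
      rw [Finset.eq_empty_iff_forall_notMem]
      intro u hu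
      have h0 := (Finset.sum_eq_zero_iff.mp hrest) u hu
      have hdu : d u ≠ 0 := Finsupp.mem_support_iff.mp (Finset.mem_of_mem_erase hu)
      rcases Nat.mul_eq_zero.mp h0 with h | h
      · exact hdu h
      · exact absurd h (pow_pos hpp _).ne'
    have hd_eq : d = Finsupp.single v 1 := by
      ext u
      by_cases huv : u = v
      · rw [huv, Finsupp.single_eq_same, hdv1]
      · rw [Finsupp.single_apply, if_neg (fun h => huv h.symm)]
        by_contra hne
        have hmem : u ∈ d.support.erase v :=
          Finset.mem_erase.mpr ⟨huv, Finsupp.mem_support_iff.mpr hne⟩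
        rw [hsupp] at hmem
        exact absurd hmem (Finset.notMem_empty u)
    obtain ⟨i, j⟩ := v
    simp only at hv2
    subst hv2
    fin_cases i
    · left
      exact hd_eq
    · right
      exact hd_eq

theorem aeval_wittAdd {A : Type*} [CommRing A] (n : ℕ) (g : Fin 2 × ℕ → A)
    (hvan : ∀ d ∈ (WittVector.wittAdd p n).support, (∀ v ∈ d.support, v.2 < n) →
      d.support.Nonempty → p ≤ ∑ v ∈ d.support, d v → ∏ v ∈ d.support, g v ^ d v = 0) :
    aeval g (WittVector.wittAdd p n) =
      ((coeff (Finsupp.single ((0 : Fin 2), n) 1) (WittVector.wittAdd p n) : ℤ) : A) * g (0, n) +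
      ((coeff (Finsupp.single ((1 : Fin 2), n) 1) (WittVector.wittAdd p n) : ℤ) : A) * g (1, n) := by
  classical
  obtain ⟨f, hf⟩ : ∃ f : (Fin 2 × ℕ →₀ ℕ) → A, f = fun d =>
      ((coeff d (WittVector.wittAdd p n) : ℤ) : A) * ∏ v ∈ d.support, g v ^ d v := ⟨_, rfl⟩
  have hexp : aeval g (WittVector.wittAdd p n) = ∑ d ∈ (WittVector.wittAdd p n).support, f d := by
    rw [aeval_def, eval₂_eq, hf]
    apply Finset.sum_congr rfl
    intro d _
    simp only [eq_intCast]
  have hs01 : (Finsupp.single ((0 : Fin 2), n) 1 : Fin 2 × ℕ →₀ ℕ) ≠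
      Finsupp.single ((1 : Fin 2), n) 1 := by
    intro h
    have h1 := Finsupp.single_left_injective (one_ne_zero) h
    simp at h1
  obtain ⟨T, hT⟩ : ∃ T : Finset (Fin 2 × ℕ →₀ ℕ),
      T = {Finsupp.single ((0 : Fin 2), n) 1, Finsupp.single ((1 : Fin 2), n) 1} := ⟨_, rfl⟩
  have h1 : ∑ d ∈ (WittVector.wittAdd p n).support, f d =
      ∑ d ∈ (WittVector.wittAdd p n).support ∪ T, f d := by
    apply Finset.sum_subset Finset.subset_union_left
    intro d _ hd
    rw [hf]
    simp only
    rw [notMem_support_iff.mp hd, Int.cast_zero, zero_mul]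
  have h2 : ∑ d ∈ T, f d = ∑ d ∈ (WittVector.wittAdd p n).support ∪ T, f d := by
    apply Finset.sum_subset Finset.subset_union_right
    intro d hdU hdT
    have hdS : d ∈ (WittVector.wittAdd p n).support := by
      rcases Finset.mem_union.mp hdU with h | h
      · exact h
      · exact absurd h hdT
    rcases support_cases p n d hdS with h | ⟨hA, hne, hsum⟩
    · exfalso
      apply hdT
      rw [hT]
      simp only [Finset.mem_insert, Finset.mem_singleton]
      exact h
    · rw [hf]
      simp only
      rw [hvan d hdS hA hne hsum, mul_zero]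
  rw [hexp, h1, ← h2, hT, Finset.sum_pair hs01, hf]
  simp only
  rw [Finsupp.support_single_ne_zero _ one_ne_zero, Finset.prod_singleton, Finsupp.single_eq_same,
    pow_one, Finsupp.support_single_ne_zero _ one_ne_zero, Finset.prod_singleton,
    Finsupp.single_eq_same, pow_one]

theorem add_coeff_of_lower_zero {A : Type*} [CommRing A] (n : ℕ) (x y : WittVector p A)
    (hx : ∀ j < n, x.coeff j = 0) (hy : ∀ j < n, y.coeff j = 0) :
    (x + y).coeff n =
      ((coeff (Finsupp.single ((0 : Fin 2), n) 1) (WittVector.wittAdd p n) : ℤ) : A) * x.coeff n +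
      ((coeff (Finsupp.single ((1 : Fin 2), n) 1) (WittVector.wittAdd p n) : ℤ) : A) * y.coeff n := by
  rw [WittVector.add_coeff]
  show aeval (Function.uncurry ![x.coeff, y.coeff]) (WittVector.wittAdd p n) = _
  rw [aeval_wittAdd p n _ ?_]
  · rfl
  · intro d _ hA hne _
    obtain ⟨v, hv⟩ := hne
    apply Finset.prod_eq_zero hv
    have hv2 := hA v hv
    have hg : Function.uncurry ![x.coeff, y.coeff] v = 0 := by
      obtain ⟨i, j⟩ := v
      fin_cases i
      · exact hx j hv2
      · exact hy j hv2
    rw [hg, zero_pow (Finsupp.mem_support_iff.mp hv)]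

theorem coeff_single_zero (n : ℕ) :
    coeff (Finsupp.single ((0 : Fin 2), n) 1) (WittVector.wittAdd p n) = 1 := by
  have h := add_coeff_of_lower_zero p (A := ℤ) n
    (WittVector.mk p (fun j => if j = n then 1 else 0)) 0
    (fun j hj => by rw [WittVector.coeff_mk, if_neg (by omega)])
    (fun j _ => WittVector.zero_coeff p ℤ j)
  rw [add_zero, WittVector.coeff_mk, if_pos rfl, WittVector.zero_coeff, mul_zero, add_zero,
    mul_one, Int.cast_id] at h
  exact h.symm

theorem coeff_single_one (n : ℕ) :
    coeff (Finsupp.single ((1 : Fin 2), n) 1) (WittVector.wittAdd p n) = 1 := by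
  have h := add_coeff_of_lower_zero p (A := ℤ) n 0
    (WittVector.mk p (fun j => if j = n then 1 else 0))
    (fun j _ => WittVector.zero_coeff p ℤ j)
    (fun j hj => by rw [WittVector.coeff_mk, if_neg (by omega)])
  rw [zero_add, WittVector.coeff_mk, if_pos rfl, WittVector.zero_coeff, mul_zero, zero_add,
    mul_one, Int.cast_id] at h
  exact h.symm

theorem add_coeff_of_nil {A : Type*} [CommRing A] (I : Ideal A) (hI : I ^ p = ⊥) (n : ℕ)
    (x y : WittVector p A) (hx : ∀ j, x.coeff j ∈ I) (hy : ∀ j, y.coeff j ∈ I) :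
    (x + y).coeff n = x.coeff n + y.coeff n := by
  rw [WittVector.add_coeff]
  show aeval (Function.uncurry ![x.coeff, y.coeff]) (WittVector.wittAdd p n) = _
  rw [aeval_wittAdd p n _ ?_, coeff_single_zero, coeff_single_one, Int.cast_one, one_mul, one_mul]
  · rfl
  · intro d _ _ _ hsum
    have hg : ∀ v, Function.uncurry ![x.coeff, y.coeff] v ∈ I := by
      rintro ⟨i, j⟩
      fin_cases i
      · exact hx j
      · exact hy j
    have hmem : ∏ v ∈ d.support, Function.uncurry ![x.coeff, y.coeff] v ^ d v ∈
        I ^ (∑ v ∈ d.support, d v) := by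
      rw [← Finset.prod_pow_eq_pow_sum]
      exact Ideal.prod_mem_prod (fun v _ => Ideal.pow_mem_pow (hg v) _)
    have h3 := Ideal.pow_le_pow_right hsum hmem
    rw [hI] at h3
    exact h3

theorem s13160 (R : Type*) [CommRing R] [IsDomain R] [IsDiscreteValuationRing R] (lam : R)
    (hlam : lam ∣ (p : R)) (a b : WittVector p (R ⧸ Ideal.span {lam}))
    (ha : WittVector.frobenius a = 0) (hb : WittVector.frobenius b = 0) (n : ℕ) :
    (a + b).coeff n = a.coeff n + b.coeff n := by
  rcases subsingleton_or_nontrivial (R ⧸ Ideal.span {lam}) with h | h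
  · exact Subsingleton.elim _ _
  · have hp0 : ((p : ℕ) : R ⧸ Ideal.span {lam}) = 0 := by
      have h1 : (p : R) ∈ Ideal.span {lam} := Ideal.mem_span_singleton.mpr hlam
      have h2 := Ideal.Quotient.eq_zero_iff_mem.mpr h1
      rwa [map_natCast] at h2
    haveI : CharP (R ⧸ Ideal.span {lam}) p :=
      (CharP.charP_iff_prime_eq_zero hp.out).mpr hp0
    haveI : IsPrincipalIdealRing (R ⧸ Ideal.span {lam}) :=
      IsPrincipalIdealRing.of_surjective (Ideal.Quotient.mk (Ideal.span {lam}))
        Ideal.Quotient.mk_surjective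
    obtain ⟨I, hI⟩ : ∃ I : Ideal (R ⧸ Ideal.span {lam}),
        I = RingHom.ker (frobenius (R ⧸ Ideal.span {lam}) p) := ⟨_, rfl⟩
    have hcoeff : ∀ z : WittVector p (R ⧸ Ideal.span {lam}), WittVector.frobenius z = 0 →
        ∀ j, z.coeff j ∈ I := by
      intro z hz j
      rw [hI, RingHom.mem_ker, frobenius_def, ← WittVector.coeff_frobenius_charP, hz,
        WittVector.zero_coeff]
    have hIp : I ^ p = ⊥ := by
      obtain ⟨g, hg⟩ := (IsPrincipalIdealRing.principal I).principal
      have hg' : I = Ideal.span {g} := hg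
      have hgI : g ∈ I := by
        rw [hg']
        exact Ideal.mem_span_singleton_self g
      have hgp : g ^ p = 0 := by
        rw [hI, RingHom.mem_ker, frobenius_def] at hgI
        exact hgI
      rw [hg', Ideal.span_singleton_pow, hgp]
      exact Ideal.span_singleton_eq_bot.mpr rfl
    exact add_coeff_of_nil p I hIp n a b (hcoeff a ha) (hcoeff b hb)

end Groth.Agent.Helper6.WittAddNil
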