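import Mathlib
import Groth.Prelude.Def_BigSite
import Groth.Agent.Helper6.ZarEpsA
import Groth.Agent.Helper6.ZarEpsC
import Groth.Agent.Helper9.BigSmallEt
import Groth.Agent.Helper1.ExtLES

set_option autoImplicit false
set_option linter.style.haveILetI false
set_option linter.unusedSectionVars false
set_option linter.unusedVariables false

/-!
# Cohomology on the big Zariski site and on the small Zariski site
-/

open CategoryTheory CategoryTheory.Limits Opposite AlgebraicGeometry Abelian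

universe u

namespace Groth.Agent.Helper6.ZarBigA

open Groth.Agent.Helper6.ZarEpsA

variable (X : Scheme.{u})

lemma hom_ext_open {Y : Over X} {U : X.Opens} (f g : Y ⟶ (BigSite.zarIncl X).obj U) : f = g := by
  apply Over.OverMorphism.ext
  have hf : f.left ≫ U.ι = Y.hom := Over.w f
  have hg : g.left ≫ U.ι = Y.hom := Over.w g
  exact (cancel_mono U.ι).1 (hf.trans hg.symm)

/-- the image of the top open is terminal -/
noncomputable def isTerminalInclTop : IsTerminal ((BigSite.zarIncl X).obj ⊤) :=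
  IsTerminal.ofIso Over.mkIdTerminal
    (Over.isoMk X.topIso.symm (X.toIso_inv_ι))

instance flat_zarIncl : RepresentablyFlat (BigSite.zarIncl X) :=
  inferInstanceAs (RepresentablyFlat (EtZar.zarToEt X ⋙ EtFppf.a X))

section

variable (K : Precoverage Scheme.{u}) [BigSite.ZarCont K X]

instance preservesFiniteLimits_piZarPull : PreservesFiniteLimits (BigSite.piZarPull K X) :=
  sheafPullback_preservesFiniteLimits _ _ _

theorem injective_resZar (I : BigSite.Ab K X) [Injective I] :
    Injective ((BigSite.resZar K X).obj I) :=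
  Injective.injective_of_adjoint (BigSite.piZarAdj K X) I

instance : (BigSite.resZar K X).IsRightAdjoint := (BigSite.piZarAdj K X).isRightAdjoint

instance : PreservesFiniteLimits (BigSite.resZar K X) :=
  have : PreservesLimitsOfSize.{0, 0} (BigSite.resZar K X) :=
    (BigSite.piZarAdj K X).rightAdjoint_preservesLimits
  PreservesLimitsOfSize.preservesFiniteLimits _

end

section Zar

abbrev Kz : Precoverage Scheme.{u} := Scheme.zariskiPrecoverage

variable [BigSite.ZarCont Kz.{u} X]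

lemma exists_local_lift {F Q : BigSite.Ab Kz.{u} X} (g : F ⟶ Q) [Epi g] (U : X.Opens)
    (s : Q.obj.obj (op ((BigSite.zarIncl X).obj U))) (x : X) (hx : x ∈ U) :
    ∃ (V : X.Opens) (hVU : V ≤ U), x ∈ V ∧
      ∃ t : F.obj.obj (op ((BigSite.zarIncl X).obj V)),
        g.hom.app _ t = Q.obj.map ((BigSite.zarIncl X).map (homOfLE hVU)).op s := by
  haveI : Sheaf.IsLocallySurjective g := (Sheaf.isLocallySurjective_iff_epi' _ _).2 inferInstance
  have hmem := Presheaf.imageSieve_mem (QuotSh.J Kz.{u} X) g.hom s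
  rw [GrothendieckTopology.mem_over_iff] at hmem
  obtain ⟨𝒰, h𝒰⟩ := Scheme.exists_cover_of_mem_grothendieckTopology hmem
  obtain ⟨i, y, hy⟩ := 𝒰.exists_eq ⟨x, hx⟩
  let f0 : 𝒰.X i ⟶ (U : Scheme.{u}) := 𝒰.f i
  haveI : IsOpenImmersion f0 := 𝒰.map_prop i
  let fi : 𝒰.X i ⟶ X := f0 ≫ U.ι
  haveI : IsOpenImmersion fi := inferInstanceAs (IsOpenImmersion (f0 ≫ U.ι))
  let V : X.Opens := fi.opensRange
  have hVU : V ≤ U := by
    intro z hz
    obtain ⟨w, rfl⟩ : ∃ w, fi.base w = z := hz
    exact ((𝒰.f i).base w).2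
  have hxV : x ∈ V := by
    refine (show ∃ w, fi.base w = x from ⟨y, ?_⟩)
    change U.ι.base ((𝒰.f i).base y) = x
    rw [hy]
    rfl
  refine ⟨V, hVU, hxV, ?_⟩
  have hsieve := h𝒰 _ _ (Presieve.ofArrows.mk i)
  rw [Sieve.overEquiv_iff] at hsieve
  obtain ⟨t, ht⟩ := hsieve
  let k : (BigSite.zarIncl X).obj V ⟶ Over.mk (𝒰.f i ≫ ((BigSite.zarIncl X).obj U).hom) :=
    Over.homMk fi.isoOpensRange.inv (fi.isoOpensRange_inv_comp)
  refine ⟨F.obj.map k.op t, ?_⟩
  have h1 := NatTrans.naturality_apply g.hom k.op t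
  have h2 : Q.obj.map (Over.homMk (𝒰.f i) :
        Over.mk (𝒰.f i ≫ ((BigSite.zarIncl X).obj U).hom) ⟶ (BigSite.zarIncl X).obj U).op ≫
      Q.obj.map k.op = Q.obj.map ((BigSite.zarIncl X).map (homOfLE hVU)).op := by
    rw [← Functor.map_comp, ← op_comp]
    congr 2
    exact hom_ext_open X _ _
  have h3 := ConcreteCategory.congr_hom h2 s
  rw [ConcreteCategory.comp_apply] at h3
  exact h1.trans ((congrArg _ ht).trans h3)

theorem epi_resZar {F Q : BigSite.Ab Kz.{u} X} (g : F ⟶ Q) [Epi g] :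
    Epi ((BigSite.resZar Kz.{u} X).map g) := by
  refine (Sheaf.isLocallySurjective_iff_epi' _ _).1 ?_
  refine ⟨fun {U} s => ?_⟩
  intro x hx
  obtain ⟨V, hVU, hxV, t, ht⟩ := exists_local_lift X g U s x hx
  exact ⟨V, homOfLE hVU, ⟨t, ht⟩, hxV⟩

instance : PreservesFiniteColimits (BigSite.resZar Kz.{u} X) :=
  ((Functor.preservesFiniteColimits_tfae (BigSite.resZar Kz.{u} X)).out 0 3).1 (fun S hS => by
    haveI := hS.epi_g
    haveI : Mono S.f := hS.mono_f
    exact ⟨hS.exact.map_of_mono_of_preservesKernel _ hS.mono_f inferInstance,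
      epi_resZar X S.g⟩)

open Groth.Agent.Helper1.DeltaCmp

/-- the constant sheaf `ℤ` on the big site -/
noncomputable abbrev ZD : BigSite.Ab Kz.{u} X :=
  (constantSheaf (QuotSh.J Kz.{u} X) AddCommGrpCat.{u + 1}).obj (AddCommGrpCat.of (ULift ℤ))

/-- the constant sheaf `ℤ` on the small site -/
noncomputable abbrev ZC : EtZar.Ab X :=
  (constantSheaf (Opens.grothendieckTopology X) AddCommGrpCat.{u + 1}).obj
    (AddCommGrpCat.of (ULift ℤ))

/-- `F ↦ H^n(big, F)` -/
noncomputable abbrev T (n : ℕ) : BigSite.Ab Kz.{u} X ⥤ AddCommGrpCat.{u + 1} :=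
  extSeq (𝟭 (BigSite.Ab Kz.{u} X)) (ZD X) n

/-- `F ↦ H^n(small, F|)` -/
noncomputable abbrev T' (n : ℕ) : BigSite.Ab Kz.{u} X ⥤ AddCommGrpCat.{u + 1} :=
  extSeq (BigSite.resZar Kz.{u} X) (ZC X) n

/-- global sections -/
noncomputable abbrev Γ : BigSite.Ab Kz.{u} X ⥤ AddCommGrpCat.{u + 1} :=
  sheafToPresheaf (QuotSh.J Kz.{u} X) AddCommGrpCat.{u + 1} ⋙
    (evaluation (Over X)ᵒᵖ AddCommGrpCat.{u + 1}).obj (op ((BigSite.zarIncl X).obj ⊤))

noncomputable def e₀ : T X 0 ≅ Γ X :=
  NatIso.ofComponents (fun F => (Sheaf.H.equiv₀ F (isTerminalInclTop X)).toAddCommGrpIso)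
    (by
      intro F G φ
      apply AddCommGrpCat.hom_ext
      apply AddMonoidHom.ext
      intro x
      exact (Sheaf.H.equiv₀_naturality (isTerminalInclTop X) φ x).symm)

noncomputable def e₀' : T' X 0 ≅ Γ X :=
  NatIso.ofComponents
    (fun F => (Sheaf.H.equiv₀ ((BigSite.resZar Kz.{u} X).obj F)
      (isTerminalTop : IsTerminal (⊤ : X.Opens))).toAddCommGrpIso)
    (by
      intro F G φ
      apply AddCommGrpCat.hom_ext
      apply AddMonoidHom.ext
      intro x
      exact (Sheaf.H.equiv₀_naturality (isTerminalTop : IsTerminal (⊤ : X.Opens))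
        ((BigSite.resZar Kz.{u} X).map φ) x).symm)

theorem nonempty_iso (n : ℕ) (F : BigSite.Ab Kz.{u} X) :
    Nonempty ((T X n).obj F ≅ (T' X n).obj F) := by
  refine Groth.Agent.Helper1.DeltaCmp.nonempty_iso (T := T X) (T' := T' X) (fun _ => True)
    ((e₀ X).trans (e₀' X).symm) ?_ n F trivial
  intro F _
  let S : ShortComplex (BigSite.Ab Kz.{u} X) :=
    ShortComplex.mk (Injective.ι F) (cokernel.π (Injective.ι F)) (cokernel.condition _)
  have hS : S.ShortExact :=
    { exact := ShortComplex.exact_cokernel _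
      mono_f := by dsimp [S]; infer_instance
      epi_g := by dsimp [S]; infer_instance }
  haveI : Injective S.X₂ := by dsimp [S]; infer_instance
  haveI : Injective ((BigSite.resZar Kz.{u} X).obj S.X₂) := injective_resZar X Kz.{u} S.X₂
  refine ⟨{ S := S, iso := rfl, mem := trivial, zero := ?_, zero' := ?_,
            les := hasLES_extSeq _ _ S hS, les' := hasLES_extSeq _ _ S hS }⟩
  · intro n
    have : Subsingleton ((T X (n + 1)).obj S.X₂) :=
      subsingleton_of_forall_eq 0 fun (x : Ext.{u + 1} (ZD X) S.X₂ (n + 1)) =>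
        Ext.eq_zero_of_injective x
    exact AddCommGrpCat.isZero_of_subsingleton _
  · intro n
    have : Subsingleton ((T' X (n + 1)).obj S.X₂) :=
      subsingleton_of_forall_eq 0
        fun (x : Ext.{u + 1} (ZC X) ((BigSite.resZar Kz.{u} X).obj S.X₂) (n + 1)) =>
          Ext.eq_zero_of_injective x
    exact AddCommGrpCat.isZero_of_subsingleton _

theorem main (F : BigSite.Ab Kz.{u} X) (p : ℕ) :
    Nonempty (EtZar.H ((BigSite.resZar Kz.{u} X).obj F) p ≃+ BigSite.H Kz.{u} X F p) := by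
  obtain ⟨i⟩ := nonempty_iso X p F
  exact ⟨i.symm.addCommGroupIsoToAddEquiv⟩

end Zar

end Groth.Agent.Helper6.ZarBigA
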