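import Mathlib
import Groth.Prelude.Def_BigSite2
import Groth.Prelude.Def_Adeq
import Groth.Agent.Helper6.ZarBigA
import Groth.Agent.Helper6.ZarEpsB
import Groth.Agent.Helper9.BigBC
import Groth.Agent.Helper1.ExtLES
import Groth.Agent.Helper6.CartanGenD

/-!
# Zariski cohomology of the restriction of a big-site sheaf acyclic on affine objects

For a precoverage `K` on schemes and an abelian sheaf `F` on the big `K`-site of `S` whose higher
cohomology vanishes over all affine objects, the Zariski cohomology of the restriction of `F` to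
the opens of `S` is the cohomology of `F`.
-/

set_option autoImplicit false
set_option linter.style.haveILetI false
set_option linter.unusedSectionVars false
set_option linter.unusedVariables false
set_option linter.unusedSimpArgs false

open CategoryTheory CategoryTheory.Limits Opposite AlgebraicGeometry Abelian

universe u

namespace Groth.Agent.Helper6.ZarFppfA

open Groth.Agent.Helper6.ZarEpsB Groth.Agent.Helper1.DeltaCmp

variable (S : Scheme.{u}) (K : Precoverage Scheme.{u})

/-- acyclic over all affine objects of the big site -/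
def Acyc (F : BigSite.Ab K S) : Prop :=
  ∀ U : Over S, IsAffine U.left → ∀ q : ℕ, 1 ≤ q → Subsingleton (BigSite.HU K F q U)

variable {S K}

/-- an object of the big site is the image of the terminal object of its own big site -/
noncomputable def iU (U : Over S) : (Over.map U.hom).obj (Over.mk (𝟙 U.left)) ≅ U :=
  Over.isoMk (Iso.refl _) (by simp)

theorem surj (U : Over S) {S' : ShortComplex (BigSite.Ab K S)} (hS : S'.ShortExact)
    (h : Subsingleton (BigSite.HU K S'.X₁ 1 U)) :
    Function.Surjective (S'.g.hom.app (op U)) := by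
  have hp : (S'.map (BigSite.pullBig K U.hom AddCommGrpCat.{u + 1})).ShortExact :=
    hS.map_of_exact _
  have h1 := surjective_of_H1 (Over.mkIdTerminal : IsTerminal (Over.mk (𝟙 U.left))) hp
    (fun x => @Subsingleton.elim _ h x 0)
  intro s
  obtain ⟨t', ht'⟩ := h1 (S'.X₃.obj.map (iU U).hom.op s)
  have ht'' : S'.g.hom.app (op ((Over.map U.hom).obj (Over.mk (𝟙 U.left)))) t' =
      S'.X₃.obj.map (iU U).hom.op s := ht'
  refine ⟨S'.X₂.obj.map (iU U).inv.op t', ?_⟩
  rw [NatTrans.naturality_apply, ht'', ← ConcreteCategory.comp_apply, ← S'.X₃.obj.map_comp,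
    ← op_comp, Iso.inv_hom_id, op_id, S'.X₃.obj.map_id]
  rfl

theorem acyc_X₃ {S' : ShortComplex (BigSite.Ab K S)} (hS : S'.ShortExact) [Injective S'.X₂]
    (h : Acyc S K S'.X₁) : Acyc S K S'.X₃ := by
  intro U hU i hi
  have hp : (S'.map (BigSite.pullBig K U.hom AddCommGrpCat.{u + 1})).ShortExact :=
    hS.map_of_exact _
  haveI : Injective (S'.map (BigSite.pullBig K U.hom AddCommGrpCat.{u + 1})).X₂ :=
    Groth.Agent.Helper9.BigBC.injective_pullBig K U.hom S'.X₂
  obtain ⟨n, rfl⟩ : ∃ n, i = n + 1 := ⟨i - 1, by omega⟩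
  refine subsingleton_of_forall_eq 0 (fun x => ?_)
  exact ext_X₃_eq_zero hp _ (n + 1) (fun x₂ => Ext.eq_zero_of_injective x₂)
    (fun x₁ => @Subsingleton.elim _ (h U hU (n + 1 + 1) (by omega)) x₁ 0) x

variable [BigSite.ZarCont K S]

instance : (Opens.grothendieckTopology S).WEqualsLocallyBijective AddCommGrpCat.{u + 1} :=
  GrothendieckTopology.WEqualsLocallyBijective.ofEssentiallySmall.{u, u + 1, u, u + 2, u + 1, u + 1, u + 1} _

theorem epi_resZar {S' : ShortComplex (BigSite.Ab K S)} (hS : S'.ShortExact)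
    (h : Acyc S K S'.X₁) : Epi ((BigSite.resZar K S).map S'.g) := by
  refine (Sheaf.isLocallySurjective_iff_epi' _ _).1 ?_
  refine ⟨fun {U} s => ?_⟩
  intro x hx
  obtain ⟨V, hV, hxV, hVU⟩ := TopologicalSpace.Opens.isBasis_iff_nbhd.mp S.isBasis_affineOpens hx
  refine ⟨V, homOfLE hVU, ?_, hxV⟩
  have haff : IsAffine ((BigSite.zarIncl S).obj V).left := hV
  obtain ⟨t, ht⟩ := surj ((BigSite.zarIncl S).obj V) hS (h _ haff 1 le_rfl)
    (S'.X₃.obj.map ((BigSite.zarIncl S).map (homOfLE hVU)).op s)
  exact ⟨t, ht⟩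

theorem shortExact_resZar {S' : ShortComplex (BigSite.Ab K S)} (hS : S'.ShortExact)
    (h : Acyc S K S'.X₁) : (S'.map (BigSite.resZar K S)).ShortExact := by
  haveI : Mono S'.f := hS.mono_f
  exact
    { exact := hS.exact.map_of_mono_of_preservesKernel _ hS.mono_f inferInstance
      mono_f := (inferInstance : Mono ((BigSite.resZar K S).map S'.f))
      epi_g := epi_resZar hS h }

section LES

universe w v₁ v₂ u₁ u₂

variable {A : Type u₁} [Category.{v₁} A] [Abelian A] {B : Type u₂} [Category.{v₂} B] [Abelian B]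
  [HasExt.{w} B]

lemma hasLES_of_shortExact (G : A ⥤ B) [G.Additive] (P : B) (S₁ : ShortComplex A)
    (hS' : (S₁.map G).ShortExact) : HasLES (extSeq G P) S₁ := by
  intro n
  obtain ⟨w₁, h₁⟩ := exists_of_exact (Ext.covariant_sequence_exact₃' P hS' n (n + 1) rfl)
  obtain ⟨w₂, h₂⟩ := exists_of_exact (Ext.covariant_sequence_exact₁' P hS' n (n + 1) rfl)
  exact ⟨AddCommGrpCat.ofHom (hS'.extClass.postcomp P rfl), w₁, w₂, h₁, h₂⟩

end LES

variable (S K)

/-- the constant sheaf `ℤ` on the big site -/
noncomputable abbrev ZD : BigSite.Ab K S :=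
  (constantSheaf (QuotSh.J K S) AddCommGrpCat.{u + 1}).obj (AddCommGrpCat.of (ULift ℤ))

/-- the constant sheaf `ℤ` on the small site -/
noncomputable abbrev ZC : EtZar.Ab S :=
  (constantSheaf (Opens.grothendieckTopology S) AddCommGrpCat.{u + 1}).obj
    (AddCommGrpCat.of (ULift ℤ))

/-- `F ↦ H^n(big, F)` -/
noncomputable abbrev T (n : ℕ) : BigSite.Ab K S ⥤ AddCommGrpCat.{u + 1} :=
  extSeq (𝟭 (BigSite.Ab K S)) (ZD S K) n

/-- `F ↦ H^n(small, F|)` -/
noncomputable abbrev T' (n : ℕ) : BigSite.Ab K S ⥤ AddCommGrpCat.{u + 1} :=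
  extSeq (BigSite.resZar K S) (ZC S) n

/-- global sections -/
noncomputable abbrev Γ : BigSite.Ab K S ⥤ AddCommGrpCat.{u + 1} :=
  sheafToPresheaf (QuotSh.J K S) AddCommGrpCat.{u + 1} ⋙
    (evaluation (Over S)ᵒᵖ AddCommGrpCat.{u + 1}).obj (op ((BigSite.zarIncl S).obj ⊤))

noncomputable def e₀ : T S K 0 ≅ Γ S K :=
  NatIso.ofComponents
    (fun F => (Sheaf.H.equiv₀ F (Groth.Agent.Helper6.ZarBigA.isTerminalInclTop S)).toAddCommGrpIso)
    (by
      intro F G φ
      apply AddCommGrpCat.hom_ext
      apply AddMonoidHom.ext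
      intro x
      exact (Sheaf.H.equiv₀_naturality (Groth.Agent.Helper6.ZarBigA.isTerminalInclTop S) φ x).symm)

noncomputable def e₀' : T' S K 0 ≅ Γ S K :=
  NatIso.ofComponents
    (fun F => (Sheaf.H.equiv₀ ((BigSite.resZar K S).obj F)
      (isTerminalTop : IsTerminal (⊤ : S.Opens))).toAddCommGrpIso)
    (by
      intro F G φ
      apply AddCommGrpCat.hom_ext
      apply AddMonoidHom.ext
      intro x
      exact (Sheaf.H.equiv₀_naturality (isTerminalTop : IsTerminal (⊤ : S.Opens))
        ((BigSite.resZar K S).map φ) x).symm)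

theorem nonempty_iso (n : ℕ) (F : BigSite.Ab K S) (hF : Acyc S K F) :
    Nonempty ((T S K n).obj F ≅ (T' S K n).obj F) := by
  refine Groth.Agent.Helper1.DeltaCmp.nonempty_iso (T := T S K) (T' := T' S K) (Acyc S K)
    ((e₀ S K).trans (e₀' S K).symm) ?_ n F hF
  intro F hF
  let S' : ShortComplex (BigSite.Ab K S) :=
    ShortComplex.mk (Injective.ι F) (cokernel.π (Injective.ι F)) (cokernel.condition _)
  have hS : S'.ShortExact :=
    { exact := ShortComplex.exact_cokernel _
      mono_f := by dsimp [S']; infer_instance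
      epi_g := by dsimp [S']; infer_instance }
  haveI : Injective S'.X₂ := by dsimp [S']; infer_instance
  haveI : Injective ((BigSite.resZar K S).obj S'.X₂) :=
    Groth.Agent.Helper6.ZarBigA.injective_resZar S K S'.X₂
  refine ⟨{ S := S', iso := rfl, mem := acyc_X₃ hS hF, zero := ?_, zero' := ?_,
            les := hasLES_extSeq _ _ S' hS,
            les' := hasLES_of_shortExact _ _ S' (shortExact_resZar hS hF) }⟩
  · intro n
    have : Subsingleton ((T S K (n + 1)).obj S'.X₂) :=
      subsingleton_of_forall_eq 0 fun (x : Ext.{u + 1} (ZD S K) S'.X₂ (n + 1)) =>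
        Ext.eq_zero_of_injective x
    exact AddCommGrpCat.isZero_of_subsingleton _
  · intro n
    have : Subsingleton ((T' S K (n + 1)).obj S'.X₂) :=
      subsingleton_of_forall_eq 0
        fun (x : Ext.{u + 1} (ZC S) ((BigSite.resZar K S).obj S'.X₂) (n + 1)) =>
          Ext.eq_zero_of_injective x
    exact AddCommGrpCat.isZero_of_subsingleton _

/-- Zariski cohomology of the restriction of a sheaf acyclic on affine objects -/
theorem main (F : BigSite.Ab K S) (hF : Acyc S K F) (p : ℕ) :
    Nonempty (EtZar.H ((BigSite.resZar K S).obj F) p ≃+ BigSite.H K S F p) := by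
  obtain ⟨i⟩ := nonempty_iso S K p F hF
  exact ⟨i.symm.addCommGroupIsoToAddEquiv⟩

/-- adequate modules are acyclic on affine objects of the big fppf site -/
theorem acyc_of_adequate (M : BigSite.Mod Scheme.fppfPrecoverage S)
    (hM : Adeq.adequateMod Scheme.fppfPrecoverage S M) :
    Acyc S Scheme.fppfPrecoverage ((BigSite.toAbMod Scheme.fppfPrecoverage S).obj M) := by
  intro U hU q hq
  haveI : IsAffine U.left := hU
  obtain ⟨p, rfl⟩ : ∃ p, q = p + 1 := Nat.exists_eq_succ_of_ne_zero (by omega)
  exact Groth.Agent.Helper6.CartanGenD.main M U hM p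

end Groth.Agent.Helper6.ZarFppfA
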