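import Mathlib
import Groth.Agent.Helper6.LogDeriv

set_option autoImplicit false

namespace Groth.Agent.Helper6.ZetaPS

open PowerSeries Groth.Agent.Helper6.LogDeriv

section geom

variable (R : Type*) [CommRing R]

/-- `Σ_j X^{r j}`. -/
noncomputable def gr (r : ℕ) : PowerSeries R := PowerSeries.mk fun m => if r ∣ m then 1 else 0

/-- `Σ_m c^m X^m`. -/
noncomputable def geom (c : R) : PowerSeries R := PowerSeries.mk fun m => c ^ m

variable {R}

theorem one_sub_X_pow_mul_gr (r : ℕ) (hr : 0 < r) : (1 - (X : PowerSeries R) ^ r) * gr R r = 1 := by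
  ext m
  rw [sub_mul, one_mul, map_sub, PowerSeries.coeff_X_pow_mul', PowerSeries.coeff_one]
  simp only [gr, PowerSeries.coeff_mk]
  by_cases hm : r ≤ m
  · rw [if_pos hm]
    have h1 : r ∣ m - r ↔ r ∣ m := by
      conv_rhs => rw [← Nat.sub_add_cancel hm]
      exact (Nat.dvd_add_self_right).symm
    have h2 : m ≠ 0 := by omega
    rw [if_neg h2]
    by_cases h3 : r ∣ m
    · rw [if_pos h3, if_pos (h1.2 h3), sub_self]
    · rw [if_neg h3, if_neg (fun h => h3 (h1.1 h)), sub_self]
  · rw [if_neg hm, sub_zero]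
    by_cases h2 : m = 0
    · subst h2; simp
    · rw [if_neg h2, if_neg]
      intro h3
      exact hm (Nat.le_of_dvd (Nat.pos_of_ne_zero h2) h3)

theorem one_sub_C_mul_X_mul_geom (c : R) : (1 - PowerSeries.C c * X) * geom R c = 1 := by
  ext m
  rw [sub_mul, one_mul, map_sub, mul_assoc, PowerSeries.coeff_C_mul, PowerSeries.coeff_one]
  cases m with
  | zero => simp [geom]
  | succ m =>
    rw [PowerSeries.coeff_succ_X_mul, if_neg (Nat.succ_ne_zero m)]
    simp only [geom, PowerSeries.coeff_mk]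
    ring

theorem map_gr {S : Type*} [CommRing S] (f : R →+* S) (r : ℕ) :
    PowerSeries.map f (gr R r) = gr S r := by
  ext m
  simp only [gr, PowerSeries.coeff_map, PowerSeries.coeff_mk]
  split_ifs <;> simp

end geom

variable {K : Type*} [Field K] [CharZero K]

omit [CharZero K] in
theorem hasLD_one_sub_X_pow (r : ℕ) (hr : 0 < r) :
    HasLD (1 - (X : PowerSeries K) ^ r) (-((r : PowerSeries K) * X ^ (r - 1) * gr K r)) := by
  unfold HasLD
  rw [map_sub, Derivation.map_one_eq_zero, PowerSeries.derivative_pow, PowerSeries.derivative_X,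
    zero_sub, mul_one, mul_neg]
  congr 1
  calc (r : PowerSeries K) * X ^ (r - 1)
      = (r : PowerSeries K) * X ^ (r - 1) * ((1 - (X : PowerSeries K) ^ r) * gr K r) := by
        rw [one_sub_X_pow_mul_gr r hr, mul_one]
    _ = _ := by ring

omit [CharZero K] in
theorem hasLD_one_sub_C_mul_X (c : K) :
    HasLD (1 - PowerSeries.C c * (X : PowerSeries K)) (-(PowerSeries.C c * geom K c)) := by
  unfold HasLD
  rw [map_sub, Derivation.map_one_eq_zero, Derivation.leibniz, PowerSeries.derivative_X,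
    PowerSeries.derivative_C, smul_zero, add_zero, zero_sub, smul_eq_mul, mul_one, mul_neg]
  congr 1
  calc PowerSeries.C c = PowerSeries.C c * ((1 - PowerSeries.C c * X) * geom K c) := by
        rw [one_sub_C_mul_X_mul_geom, mul_one]
    _ = _ := by ring


/-- The log-zeta series attached to a sequence of counts. -/
noncomputable def LZ (a : ℕ → ℕ) : PowerSeries ℚ :=
  PowerSeries.mk fun m => ((∑ e ∈ m.divisors, e * a e : ℕ) : ℚ) / m

theorem constantCoeff_LZ (a : ℕ → ℕ) : PowerSeries.constantCoeff (LZ a) = 0 := by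
  rw [← PowerSeries.coeff_zero_eq_constantCoeff_apply, LZ, PowerSeries.coeff_mk]
  simp

theorem coeff_derivative_LZ (a : ℕ → ℕ) (j : ℕ) :
    PowerSeries.coeff j (PowerSeries.derivative ℚ (LZ a)) =
      ((∑ e ∈ (j + 1).divisors, e * a e : ℕ) : ℚ) := by
  rw [PowerSeries.coeff_derivative, LZ, PowerSeries.coeff_mk]
  have : ((j : ℚ) + 1) ≠ 0 := Nat.cast_add_one_ne_zero j
  push_cast
  field_simp

/-- The product `∏_{r=1}^n (1 - X^r)^{a r}`. -/
noncomputable def PP (a : ℕ → ℕ) (n : ℕ) : PowerSeries ℚ :=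
  ∏ r ∈ Finset.Icc 1 n, (1 - (X : PowerSeries ℚ) ^ r) ^ a r

/-- Its log-derivative. -/
noncomputable def TT (a : ℕ → ℕ) (n : ℕ) : PowerSeries ℚ :=
  ∑ r ∈ Finset.Icc 1 n, (a r : PowerSeries ℚ) * (-((r : PowerSeries ℚ) * X ^ (r - 1) * gr ℚ r))

theorem hasLD_PP (a : ℕ → ℕ) (n : ℕ) : HasLD (PP a n) (TT a n) := by
  unfold PP TT
  refine HasLD.prod _ _ _ fun r hr => ?_
  exact (hasLD_one_sub_X_pow r (Finset.mem_Icc.1 hr).1).pow (a r)

theorem coeff_TT (a : ℕ → ℕ) (n j : ℕ) (hj : j < n) :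
    PowerSeries.coeff j (TT a n) = -((∑ e ∈ (j + 1).divisors, e * a e : ℕ) : ℚ) := by
  unfold TT
  rw [map_sum]
  have h1 : ∀ r ∈ Finset.Icc 1 n, PowerSeries.coeff j
      ((a r : PowerSeries ℚ) * (-((r : PowerSeries ℚ) * X ^ (r - 1) * gr ℚ r))) =
      if r ∣ j + 1 then -((r * a r : ℕ) : ℚ) else 0 := by
    intro r hr
    have hr1 : 1 ≤ r := (Finset.mem_Icc.1 hr).1
    have e1 : (a r : PowerSeries ℚ) * (-((r : PowerSeries ℚ) * X ^ (r - 1) * gr ℚ r)) =
        PowerSeries.C (-((r * a r : ℕ) : ℚ)) * (X ^ (r - 1) * gr ℚ r) := by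
      have : (PowerSeries.C (-((r * a r : ℕ) : ℚ)) : PowerSeries ℚ) =
          -((a r : PowerSeries ℚ) * (r : PowerSeries ℚ)) := by
        push_cast
        simp [mul_comm]
      rw [this]; ring
    rw [e1, PowerSeries.coeff_C_mul, PowerSeries.coeff_X_pow_mul']
    simp only [gr, PowerSeries.coeff_mk]
    by_cases h2 : r ∣ j + 1
    · have h3 : r ≤ j + 1 := Nat.le_of_dvd (Nat.succ_pos j) h2
      have h4 : r ∣ j - (r - 1) := by
        have : j - (r - 1) + r = j + 1 := by omega
        rw [← this] at h2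
        exact (Nat.dvd_add_self_right).1 h2
      rw [if_pos h2, if_pos (by omega), if_pos h4, mul_one]
    · rw [if_neg h2]
      by_cases h3 : r - 1 ≤ j
      · rw [if_pos h3, if_neg, mul_zero]
        intro h4
        apply h2
        have : j - (r - 1) + r = j + 1 := by omega
        rw [← this]
        exact (Nat.dvd_add_self_right).2 h4
      · rw [if_neg h3, mul_zero]
  rw [Finset.sum_congr rfl h1, ← Finset.sum_filter]
  have h2 : (Finset.Icc 1 n).filter (fun r => r ∣ j + 1) = (j + 1).divisors := by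
    ext r
    rw [Finset.mem_filter, Finset.mem_Icc, Nat.mem_divisors]
    constructor
    · rintro ⟨_, h⟩
      exact ⟨h, Nat.succ_ne_zero j⟩
    · rintro ⟨h, _⟩
      have h3 : r ≤ j + 1 := Nat.le_of_dvd (Nat.succ_pos j) h
      have h4 : 0 < r := Nat.pos_of_dvd_of_pos h (Nat.succ_pos j)
      exact ⟨⟨h4, by omega⟩, h⟩
  rw [h2, Finset.sum_neg_distrib]
  push_cast
  rfl

theorem trunc_zeta_mul_PP (a : ℕ → ℕ) (n : ℕ) :
    PowerSeries.trunc (n + 1) (PowerSeries.subst (LZ a) (PowerSeries.exp ℚ) * PP a n) = 1 := by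
  have h1 : HasLD (PowerSeries.subst (LZ a) (PowerSeries.exp ℚ) * PP a n)
      (PowerSeries.derivative ℚ (LZ a) + TT a n) :=
    (HasLD.exp_subst (constantCoeff_LZ a)).mul (hasLD_PP a n)
  refine trunc_eq_one_of_HasLD h1 ?_ n ?_
  · rw [map_mul, constantCoeff_exp_subst (constantCoeff_LZ a), one_mul]
    unfold PP
    rw [map_prod]
    refine Finset.prod_eq_one fun r hr => ?_
    have hr1 : r ≠ 0 := by
      have := (Finset.mem_Icc.1 hr).1
      omega
    rw [map_pow, map_sub, map_one, map_pow, PowerSeries.constantCoeff_X, zero_pow hr1, sub_zero,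
      one_pow]
  · intro j hj
    rw [map_add, coeff_derivative_LZ, coeff_TT a n j hj, add_neg_cancel]


theorem coeff_zeta_int (a : ℕ → ℕ) (n : ℕ) :
    ∃ z : ℤ, PowerSeries.coeff n (PowerSeries.subst (LZ a) (PowerSeries.exp ℚ)) = (z : ℚ) := by
  set Z := PowerSeries.subst (LZ a) (PowerSeries.exp ℚ) with hZ
  set G : PowerSeries ℚ := ∏ r ∈ Finset.Icc 1 n, (gr ℚ r) ^ a r with hG
  set Gi : PowerSeries ℤ := ∏ r ∈ Finset.Icc 1 n, (gr ℤ r) ^ a r with hGi
  have hPG : PP a n * G = 1 := by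
    unfold PP
    rw [hG, ← Finset.prod_mul_distrib]
    refine Finset.prod_eq_one fun r hr => ?_
    rw [← mul_pow, one_sub_X_pow_mul_gr r (Finset.mem_Icc.1 hr).1, one_pow]
  have hmap : PowerSeries.map (Int.castRingHom ℚ) Gi = G := by
    rw [hGi, hG, map_prod]
    refine Finset.prod_congr rfl fun r _ => ?_
    rw [map_pow, map_gr]
  have hZ2 : Z = (Z * PP a n) * G := by
    rw [mul_assoc, hPG, mul_one]
  have htr := trunc_zeta_mul_PP a n
  have hco : ∀ i, i ≤ n → PowerSeries.coeff i (Z * PP a n) = if i = 0 then 1 else 0 := by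
    intro i hi
    have := congrArg (fun p : Polynomial ℚ => p.coeff i) htr
    simp only [PowerSeries.coeff_trunc, Polynomial.coeff_one] at this
    rw [if_pos (by omega)] at this
    rw [this]
  refine ⟨PowerSeries.coeff n Gi, ?_⟩
  rw [hZ2, PowerSeries.coeff_mul, Finset.sum_eq_single (0, n)]
  · rw [hco 0 (Nat.zero_le n), if_pos rfl, one_mul, ← hmap, PowerSeries.coeff_map]
    rfl
  · rintro ⟨i, j⟩ hij hne
    have hsum := Finset.HasAntidiagonal.mem_antidiagonal.1 hij
    simp only at hsum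
    have hi0 : i ≠ 0 := by
      intro h0
      apply hne
      subst h0
      simp only [zero_add] at hsum
      rw [hsum]
    rw [hco i (by omega), if_neg hi0, zero_mul]
  · intro h
    exact absurd (Finset.HasAntidiagonal.mem_antidiagonal.2 (by simp)) h

end Groth.Agent.Helper6.ZetaPS
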