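import Mathlib
import Groth.Agent.Helper6.ZetaPS

set_option autoImplicit false

namespace Groth.Agent.Helper6.ZetaPoly

open PowerSeries Groth.Agent.Helper6.LogDeriv Groth.Agent.Helper6.ZetaPS

theorem coeff_C_mul_geom (c : ℚ) (j : ℕ) :
    PowerSeries.coeff j (PowerSeries.C c * geom ℚ c) = c ^ (j + 1) := by
  rw [PowerSeries.coeff_C_mul, geom, PowerSeries.coeff_mk, pow_succ, mul_comm]

theorem constantCoeff_prod (s : Finset ℕ) (c : ℕ → ℚ) (e : ℕ → ℕ) :
    PowerSeries.constantCoeff (∏ i ∈ s, (1 - PowerSeries.C (c i) * (X : PowerSeries ℚ)) ^ e i) = 1 := by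
  rw [map_prod]
  refine Finset.prod_eq_one fun i _ => ?_
  rw [map_pow, map_sub, map_one, map_mul, PowerSeries.constantCoeff_X, mul_zero, sub_zero, one_pow]

theorem zeta_of_polycount (a : ℕ → ℕ) (q : ℕ) (P : Polynomial ℤ)
    (hP : ∀ m : ℕ, 1 ≤ m → ((∑ e ∈ m.divisors, e * a e : ℕ) : ℤ) = P.eval ((q : ℤ) ^ m)) :
    PowerSeries.subst (LZ a) (PowerSeries.exp ℚ) * ∏ i ∈ Finset.range (P.natDegree + 1),
        (1 - PowerSeries.C ((q : ℚ) ^ i) * PowerSeries.X) ^ (P.coeff i).toNat =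
      ∏ i ∈ Finset.range (P.natDegree + 1),
        (1 - PowerSeries.C ((q : ℚ) ^ i) * PowerSeries.X) ^ (-P.coeff i).toNat := by
  set TL : PowerSeries ℚ := PowerSeries.derivative ℚ (LZ a) +
    ∑ i ∈ Finset.range (P.natDegree + 1), ((P.coeff i).toNat : PowerSeries ℚ) *
      (-(PowerSeries.C ((q : ℚ) ^ i) * geom ℚ ((q : ℚ) ^ i))) with hTL
  set TR : PowerSeries ℚ :=
    ∑ i ∈ Finset.range (P.natDegree + 1), ((-P.coeff i).toNat : PowerSeries ℚ) *
      (-(PowerSeries.C ((q : ℚ) ^ i) * geom ℚ ((q : ℚ) ^ i))) with hTR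
  have hL : HasLD (PowerSeries.subst (LZ a) (PowerSeries.exp ℚ) *
      ∏ i ∈ Finset.range (P.natDegree + 1),
        (1 - PowerSeries.C ((q : ℚ) ^ i) * PowerSeries.X) ^ (P.coeff i).toNat) TL := by
    refine (HasLD.exp_subst (constantCoeff_LZ a)).mul (HasLD.prod _ _ _ fun i _ => ?_)
    exact (hasLD_one_sub_C_mul_X _).pow _
  have hR : HasLD (∏ i ∈ Finset.range (P.natDegree + 1),
        (1 - PowerSeries.C ((q : ℚ) ^ i) * (PowerSeries.X : PowerSeries ℚ)) ^ (-P.coeff i).toNat)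
      TR := by
    refine HasLD.prod _ _ _ fun i _ => ?_
    exact (hasLD_one_sub_C_mul_X _).pow _
  have hT : TL = TR := by
    ext j
    rw [hTL, hTR, map_add, coeff_derivative_LZ, map_sum, map_sum]
    have hc : ∀ (k : ℕ) (i : ℕ), PowerSeries.coeff j ((k : PowerSeries ℚ) *
        (-(PowerSeries.C ((q : ℚ) ^ i) * geom ℚ ((q : ℚ) ^ i)))) =
        -((k : ℚ) * ((q : ℚ) ^ i) ^ (j + 1)) := by
      intro k i
      have : (k : PowerSeries ℚ) = PowerSeries.C (k : ℚ) := by simp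
      rw [this, PowerSeries.coeff_C_mul, map_neg, coeff_C_mul_geom, mul_neg]
    simp only [hc]
    have h1 := hP (j + 1) (by omega)
    have h2 : ((∑ e ∈ (j + 1).divisors, e * a e : ℕ) : ℚ) =
        ((P.eval ((q : ℤ) ^ (j + 1)) : ℤ) : ℚ) := by
      rw [← h1]; push_cast; rfl
    rw [h2, Polynomial.eval_eq_sum_range]
    push_cast
    rw [Finset.sum_neg_distrib, Finset.sum_neg_distrib, ← sub_eq_add_neg, sub_eq_iff_eq_add,
      neg_add_eq_sub, ← Finset.sum_sub_distrib]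
    refine Finset.sum_congr rfl fun i _ => ?_
    have h3 : ((P.coeff i).toNat : ℚ) - ((-P.coeff i).toNat : ℚ) = ((P.coeff i : ℤ) : ℚ) := by
      have := Int.toNat_sub_toNat_neg (P.coeff i)
      have h4 : (((P.coeff i).toNat : ℤ) : ℚ) - (((-P.coeff i).toNat : ℤ) : ℚ) =
          ((P.coeff i : ℤ) : ℚ) := by
        rw [← Int.cast_sub, this]
      rw [← h4, Int.cast_natCast, Int.cast_natCast]
    rw [← sub_mul, h3, ← pow_mul, ← pow_mul, mul_comm i (j + 1)]
  rw [hT] at hL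
  refine eq_of_HasLD hL hR ?_
  rw [map_mul, constantCoeff_exp_subst (constantCoeff_LZ a), one_mul, constantCoeff_prod,
    constantCoeff_prod]

end Groth.Agent.Helper6.ZetaPoly
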