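import Groth.Prelude.Def_LocCohZ
import Groth.Agent.Lead.CohTopB
import Groth.Agent.Helper6.RelMVB

set_option autoImplicit false
set_option linter.style.haveILetI false
set_option linter.unusedSectionVars false
set_option linter.unusedVariables false

/-!
# Mayer–Vietoris short exact sequence `ℤ_X/ℤ_{U∩U'} → ℤ_X/ℤ_U ⊕ ℤ_X/ℤ_{U'} → ℤ_X/ℤ_{U∪U'}`
and the long exact sequence of cohomology with supports.
-/

namespace Groth.Agent.Helper6.ZqMV

open CategoryTheory Limits Opposite TopologicalSpace Abelian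

universe u

section abstract

variable {𝒜 : Type*} [Category 𝒜] [Abelian 𝒜] [EnoughInjectives 𝒜]

lemma mono_of_extend {A B : 𝒜} (f : A ⟶ B)
    (h : ∀ (I : 𝒜) [Injective I] (α : A ⟶ I), ∃ β : B ⟶ I, f ≫ β = α) : Mono f := by
  obtain ⟨β, hβ⟩ := h (Injective.under A) (Injective.ι A)
  exact mono_of_mono_fac hβ

lemma exact_of_hom_injective (S : ShortComplex 𝒜)
    (h : ∀ (I : 𝒜) [Injective I] (β : S.X₂ ⟶ I), S.f ≫ β = 0 → ∃ γ : S.X₃ ⟶ I, S.g ≫ γ = β) :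
    S.Exact := by
  rw [S.exact_iff_mono_cokernel_desc]
  refine mono_of_extend _ (fun I _ α => ?_)
  obtain ⟨γ, hγ⟩ := h I (cokernel.π S.f ≫ α) (by rw [cokernel.condition_assoc, zero_comp])
  refine ⟨γ, ?_⟩
  rw [← cancel_epi (cokernel.π S.f), cokernel.π_desc_assoc, hγ]

end abstract

variable {X : TopCat.{u}}

/-- `ℤ_X/ℤ_W` -/
noncomputable abbrev Q (W : Opens X) : CohTop.Ab X := LocCohZ.zq (le_top : W ≤ ⊤)

/-- the projection `ℤ_X ⟶ ℤ_X/ℤ_W` -/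
noncomputable abbrev pr (W : Opens X) :
    CohCx.freeSheaf (Opens.grothendieckTopology X) (⊤ : Opens X) ⟶ Q W :=
  cokernel.π (CohCx.freeSheafMap (Opens.grothendieckTopology X) (homOfLE (le_top : W ≤ ⊤)))

/-- the global section attached to a map out of `ℤ_X/ℤ_W` -/
noncomputable def secOf (W : Opens X) (F : CohTop.Ab X) :
    (Q W ⟶ F) →+ F.obj.obj (op (⊤ : Opens X)) :=
  AddMonoidHom.mk'
    (fun φ => CohFree.evalGen (Opens.grothendieckTopology X) (⊤ : Opens X) F (pr W ≫ φ))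
    (fun φ ψ => by rw [Preadditive.comp_add, map_add])

lemma secOf_apply (W : Opens X) (F : CohTop.Ab X) (φ : Q W ⟶ F) :
    secOf W F φ = CohFree.evalGen (Opens.grothendieckTopology X) (⊤ : Opens X) F (pr W ≫ φ) := rfl

lemma secOf_injective (W : Opens X) (F : CohTop.Ab X) : Function.Injective (secOf W F) := by
  intro φ ψ h
  have h' : CohFree.homEquivSect (Opens.grothendieckTopology X) (⊤ : Opens X) F (pr W ≫ φ) =
      CohFree.homEquivSect (Opens.grothendieckTopology X) (⊤ : Opens X) F (pr W ≫ ψ) := h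
  exact (cancel_epi (pr W)).1 ((CohFree.homEquivSect _ _ F).injective h')

lemma secOf_res (W : Opens X) (F : CohTop.Ab X) (φ : Q W ⟶ F) :
    (F.obj.map (homOfLE (le_top : W ≤ ⊤)).op).hom (secOf W F φ) = 0 := by
  rw [secOf_apply, ← CohFree.evalGen_freeSheafMap_comp, cokernel.condition_assoc, zero_comp,
    map_zero]

lemma exists_of_sec (W : Opens X) (F : CohTop.Ab X) (s : F.obj.obj (op (⊤ : Opens X)))
    (hs : (F.obj.map (homOfLE (le_top : W ≤ ⊤)).op).hom s = 0) :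
    ∃ φ : Q W ⟶ F, secOf W F φ = s := by
  refine ⟨cokernel.desc _
    (CohFree.ofSect (Opens.grothendieckTopology X) (⊤ : Opens X) F s) ?_, ?_⟩
  · have h1 : CohFree.evalGen (Opens.grothendieckTopology X) W F
        (CohCx.freeSheafMap (Opens.grothendieckTopology X) (homOfLE (le_top : W ≤ ⊤)) ≫
          CohFree.ofSect (Opens.grothendieckTopology X) (⊤ : Opens X) F s) = 0 := by
      rw [CohFree.evalGen_freeSheafMap_comp, CohFree.evalGen_ofSect]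
      exact hs
    rw [← CohFree.ofSect_evalGen (Opens.grothendieckTopology X) W F (_ ≫ _), h1,
      ← (CohFree.evalGen (Opens.grothendieckTopology X) W F).map_zero, CohFree.ofSect_evalGen]
  · rw [secOf_apply, cokernel.π_desc]
    exact CohFree.evalGen_ofSect _ _ _ _

lemma pr_zqMap {W W' : Opens X} (hW : W' ≤ W) :
    pr W' ≫ LocCohZ.zqMap (le_top : W ≤ ⊤) (le_top : W' ≤ ⊤) hW le_rfl = pr W := by
  unfold LocCohZ.zqMap
  rw [cokernel.π_desc]
  have e : (homOfLE (le_refl (⊤ : Opens X))) = 𝟙 (⊤ : Opens X) := rfl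
  rw [e, CohFree.freeSheafMap_id, Category.id_comp]

lemma secOf_zqMap (F : CohTop.Ab X) {W W' : Opens X} (hW : W' ≤ W) (φ : Q W ⟶ F) :
    secOf W' F (LocCohZ.zqMap (le_top : W ≤ ⊤) (le_top : W' ≤ ⊤) hW le_rfl ≫ φ) =
      secOf W F φ := by
  rw [secOf_apply, secOf_apply, ← Category.assoc, pr_zqMap]

instance epi_zqMap {W W' : Opens X} (hW : W' ≤ W) :
    Epi (LocCohZ.zqMap (le_top : W ≤ ⊤) (le_top : W' ≤ ⊤) hW le_rfl) :=
  epi_of_epi_fac (pr_zqMap hW)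

lemma res_res (F : CohTop.Ab X) {A B C : Opens X} (p : A ⟶ B) (q : B ⟶ C) (r : A ⟶ C)
    (x : F.obj.obj (op C)) :
    (F.obj.map p.op).hom ((F.obj.map q.op).hom x) = (F.obj.map r.op).hom x := by
  have : r = p ≫ q := Subsingleton.elim _ _
  subst this
  rw [op_comp, F.obj.map_comp]
  rfl

section seq

variable (U U' : Opens X)

noncomputable abbrev a₁ : Q (U ⊓ U') ⟶ Q U :=
  LocCohZ.zqMap (le_top : U ≤ ⊤) (le_top : U ⊓ U' ≤ ⊤) inf_le_left le_rfl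
noncomputable abbrev a₂ : Q (U ⊓ U') ⟶ Q U' :=
  LocCohZ.zqMap (le_top : U' ≤ ⊤) (le_top : U ⊓ U' ≤ ⊤) inf_le_right le_rfl
noncomputable abbrev c₁ : Q U ⟶ Q (U ⊔ U') :=
  LocCohZ.zqMap (le_top : U ⊔ U' ≤ ⊤) (le_top : U ≤ ⊤) le_sup_left le_rfl
noncomputable abbrev c₂ : Q U' ⟶ Q (U ⊔ U') :=
  LocCohZ.zqMap (le_top : U ⊔ U' ≤ ⊤) (le_top : U' ≤ ⊤) le_sup_right le_rfl

lemma pr_a₁ : pr (U ⊓ U') ≫ a₁ U U' = pr U := pr_zqMap _
lemma pr_a₂ : pr (U ⊓ U') ≫ a₂ U U' = pr U' := pr_zqMap _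
lemma pr_c₁ : pr U ≫ c₁ U U' = pr (U ⊔ U') := pr_zqMap _
lemma pr_c₂ : pr U' ≫ c₂ U U' = pr (U ⊔ U') := pr_zqMap _

lemma a_c : a₁ U U' ≫ c₁ U U' = a₂ U U' ≫ c₂ U U' := by
  rw [← cancel_epi (pr (U ⊓ U')), ← Category.assoc, pr_a₁, pr_c₁, ← Category.assoc, pr_a₂, pr_c₂]

/-- the Mayer–Vietoris short complex -/
noncomputable abbrev seq : ShortComplex (CohTop.Ab X) :=
  ShortComplex.mk (biprod.lift (a₁ U U') (-a₂ U U')) (biprod.desc (c₁ U U') (c₂ U U')) (by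
    rw [biprod.lift_desc, Preadditive.neg_comp, a_c, add_neg_cancel])

lemma inl_g : biprod.inl ≫ (seq U U').g = c₁ U U' := biprod.inl_desc _ _
lemma inr_g : biprod.inr ≫ (seq U U').g = c₂ U U' := biprod.inr_desc _ _

instance seq_epi : Epi (seq U U').g := epi_of_epi_fac (inl_g U U')

lemma seq_exact : (seq U U').Exact := by
  refine exact_of_hom_injective _ (fun I _ β hβ => ?_)
  have e : β = biprod.desc (biprod.inl ≫ β) (biprod.inr ≫ β) := by
    apply biprod.hom_ext'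
    · rw [biprod.inl_desc]
    · rw [biprod.inr_desc]
  have hβ' : a₁ U U' ≫ biprod.inl ≫ β = a₂ U U' ≫ biprod.inr ≫ β := by
    have h : biprod.lift (a₁ U U') (-a₂ U U') ≫ β = 0 := hβ
    rw [e, biprod.lift_desc, Preadditive.neg_comp, ← sub_eq_add_neg, sub_eq_zero] at h
    exact h
  have hs : secOf U I (biprod.inl ≫ β) = secOf U' I (biprod.inr ≫ β) := by
    rw [← secOf_zqMap I (inf_le_left : U ⊓ U' ≤ U) (biprod.inl ≫ β),
      ← secOf_zqMap I (inf_le_right : U ⊓ U' ≤ U') (biprod.inr ≫ β)]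
    exact congrArg (secOf (U ⊓ U') I) hβ'
  have h₁ := secOf_res U I (biprod.inl ≫ β)
  have h₂ := secOf_res U' I (biprod.inr ≫ β)
  rw [← hs] at h₂
  have h₀ : (I.obj.map (homOfLE (le_top : U ⊔ U' ≤ ⊤)).op).hom (secOf U I (biprod.inl ≫ β)) = 0 := by
    refine Groth.Agent.Helper6.RelMVB.sec_eq_zero I (homOfLE le_sup_left : U ⟶ U ⊔ U')
      (homOfLE le_sup_right : U' ⟶ U ⊔ U') le_rfl _ ?_ ?_
    · rw [res_res I _ _ (homOfLE (le_top : U ≤ ⊤))]
      exact h₁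
    · rw [res_res I _ _ (homOfLE (le_top : U' ≤ ⊤))]
      exact h₂
  obtain ⟨γ, hγ⟩ := exists_of_sec (U ⊔ U') I _ h₀
  refine ⟨γ, ?_⟩
  show biprod.desc (c₁ U U') (c₂ U U') ≫ γ = β
  apply biprod.hom_ext'
  · rw [biprod.inl_desc_assoc]
    apply secOf_injective U I
    rw [secOf_zqMap I (le_sup_left : U ≤ U ⊔ U') γ, hγ]
  · rw [biprod.inr_desc_assoc]
    apply secOf_injective U' I
    rw [secOf_zqMap I (le_sup_right : U' ≤ U ⊔ U') γ, hγ, hs]

instance seq_mono : Mono (seq U U').f := by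
  refine mono_of_extend _ (fun I _ α => ?_)
  haveI := Groth.Agent.Lead.CohTopB.isFlasque_of_injective I
  have hs0 := secOf_res (U ⊓ U') I α
  obtain ⟨t, ht₁, ht₂⟩ := Groth.Agent.Helper6.RelMVB.glue₂ I
    (homOfLE le_sup_left : U ⟶ U ⊔ U') (homOfLE le_sup_right : U' ⟶ U ⊔ U') le_rfl
    (homOfLE inf_le_left : U ⊓ U' ⟶ U) (homOfLE inf_le_right : U ⊓ U' ⟶ U') le_rfl
    (0 : I.obj.obj (op U))
    ((I.obj.map (homOfLE (le_top : U' ≤ ⊤)).op).hom (secOf (U ⊓ U') I α))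
    (by rw [map_zero, res_res I _ _ (homOfLE (le_top : U ⊓ U' ≤ ⊤)), hs0])
  obtain ⟨s₁, hs₁⟩ := (AddCommGrpCat.epi_iff_surjective _).1
    (TopCat.Presheaf.IsFlasque.epi (F := I.obj) (homOfLE (le_top : U ⊔ U' ≤ ⊤)).op) t
  have hs₁' : (I.obj.map (homOfLE (le_top : U ⊔ U' ≤ ⊤)).op).hom s₁ = t := hs₁
  have h₁ : (I.obj.map (homOfLE (le_top : U ≤ ⊤)).op).hom s₁ = 0 := by
    rw [← res_res I (homOfLE le_sup_left : U ⟶ U ⊔ U') (homOfLE le_top)
      (homOfLE (le_top : U ≤ ⊤)) s₁, hs₁', ht₁]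
  have h₂ : (I.obj.map (homOfLE (le_top : U' ≤ ⊤)).op).hom (s₁ - secOf (U ⊓ U') I α) = 0 := by
    rw [map_sub, ← res_res I (homOfLE le_sup_right : U' ⟶ U ⊔ U') (homOfLE le_top)
      (homOfLE (le_top : U' ≤ ⊤)) s₁, hs₁', ht₂, sub_self]
  obtain ⟨β₁, hβ₁⟩ := exists_of_sec U I s₁ h₁
  obtain ⟨β₂, hβ₂⟩ := exists_of_sec U' I _ h₂
  refine ⟨biprod.desc β₁ β₂, ?_⟩
  apply secOf_injective (U ⊓ U') I
  show secOf (U ⊓ U') I (biprod.lift (a₁ U U') (-a₂ U U') ≫ biprod.desc β₁ β₂) = _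
  rw [biprod.lift_desc, Preadditive.neg_comp, map_add, map_neg,
    secOf_zqMap I (inf_le_left : U ⊓ U' ≤ U) β₁, secOf_zqMap I (inf_le_right : U ⊓ U' ≤ U') β₂,
    hβ₁, hβ₂]
  abel

lemma seq_shortExact : (seq U U').ShortExact where
  exact := seq_exact U U'
  mono_f := seq_mono U U'
  epi_g := seq_epi U U'

variable {U U'} {F : CohTop.Ab X} {i : ℕ}

lemma f_comp (y₁ : Ext (Q U) F i) (y₂ : Ext (Q U') F i) :
    (Ext.mk₀ (seq U U').f).comp (Ext.biprodAddEquiv.symm (y₁, y₂)) (zero_add i) =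
      (Ext.mk₀ (a₁ U U')).comp y₁ (zero_add i) - (Ext.mk₀ (a₂ U U')).comp y₂ (zero_add i) := by
  have e1 : (seq U U').f ≫ biprod.fst = a₁ U U' := biprod.lift_fst _ _
  have e2 : (seq U U').f ≫ biprod.snd = -a₂ U U' := biprod.lift_snd _ _
  rw [Ext.biprodAddEquiv_symm_apply, Ext.comp_add, Ext.mk₀_comp_mk₀_assoc,
    Ext.mk₀_comp_mk₀_assoc, e1, e2, Ext.mk₀_neg, Ext.neg_comp, sub_eq_add_neg]

lemma c₁_comp (x : Ext (Q (U ⊔ U')) F i) :
    (Ext.mk₀ (c₁ U U')).comp x (zero_add i) =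
      (Ext.mk₀ biprod.inl).comp ((Ext.mk₀ (seq U U').g).comp x (zero_add i)) (zero_add i) := by
  rw [Ext.mk₀_comp_mk₀_assoc, inl_g]

lemma c₂_comp (x : Ext (Q (U ⊔ U')) F i) :
    (Ext.mk₀ (c₂ U U')).comp x (zero_add i) =
      (Ext.mk₀ biprod.inr).comp ((Ext.mk₀ (seq U U').g).comp x (zero_add i)) (zero_add i) := by
  rw [Ext.mk₀_comp_mk₀_assoc, inr_g]

end seq

/-- **Mayer–Vietoris for cohomology with supports.** -/
theorem main (F : CohTop.Ab X) (U U' : Opens X) :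
    Function.Injective (fun x : LocCohZ.HZc F 0 (U ⊔ U') =>
      (LocCohZ.resZ F 0 (le_top : U ⊔ U' ≤ ⊤) (le_top : U ≤ ⊤) le_sup_left le_rfl x,
       LocCohZ.resZ F 0 (le_top : U ⊔ U' ≤ ⊤) (le_top : U' ≤ ⊤) le_sup_right le_rfl x)) ∧
    ∃ δ : ∀ i : ℕ, LocCohZ.HZc F i (U ⊓ U') →+ LocCohZ.HZc F (i + 1) (U ⊔ U'),
      ∀ i : ℕ,
        (∀ y : LocCohZ.HZc F i U × LocCohZ.HZc F i U',
          LocCohZ.resZ F i (le_top : U ≤ ⊤) (le_top : U ⊓ U' ≤ ⊤) inf_le_left le_rfl y.1 -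
              LocCohZ.resZ F i (le_top : U' ≤ ⊤) (le_top : U ⊓ U' ≤ ⊤) inf_le_right le_rfl y.2 = 0 ↔
            ∃ x : LocCohZ.HZc F i (U ⊔ U'),
              LocCohZ.resZ F i (le_top : U ⊔ U' ≤ ⊤) (le_top : U ≤ ⊤) le_sup_left le_rfl x = y.1 ∧
              LocCohZ.resZ F i (le_top : U ⊔ U' ≤ ⊤) (le_top : U' ≤ ⊤) le_sup_right le_rfl x = y.2) ∧
        (∀ w : LocCohZ.HZc F i (U ⊓ U'),
          δ i w = 0 ↔ ∃ y : LocCohZ.HZc F i U × LocCohZ.HZc F i U',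
            LocCohZ.resZ F i (le_top : U ≤ ⊤) (le_top : U ⊓ U' ≤ ⊤) inf_le_left le_rfl y.1 -
              LocCohZ.resZ F i (le_top : U' ≤ ⊤) (le_top : U ⊓ U' ≤ ⊤) inf_le_right le_rfl y.2 = w) ∧
        (∀ x : LocCohZ.HZc F (i + 1) (U ⊔ U'),
          (LocCohZ.resZ F (i + 1) (le_top : U ⊔ U' ≤ ⊤) (le_top : U ≤ ⊤) le_sup_left le_rfl x = 0 ∧
            LocCohZ.resZ F (i + 1) (le_top : U ⊔ U' ≤ ⊤) (le_top : U' ≤ ⊤) le_sup_right le_rfl x = 0) ↔
            ∃ w : LocCohZ.HZc F i (U ⊓ U'), δ i w = x) := by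
  have hS := seq_shortExact U U'
  refine ⟨?_, fun i => hS.extClass.precomp F (show 1 + i = i + 1 by omega),
    fun i => ⟨?_, ?_, ?_⟩⟩
  · intro x x' h
    exact Ext.precomp_mk₀_injective_of_epi F (c₁ U U') (congrArg Prod.fst h)
  · rintro ⟨y₁, y₂⟩
    constructor
    · intro h
      have h' : (Ext.mk₀ (seq U U').f).comp (Ext.biprodAddEquiv.symm (y₁, y₂)) (zero_add i) = 0 := by
        rw [f_comp]
        exact h
      obtain ⟨x, hx⟩ := Ext.contravariant_sequence_exact₂ hS F _ h'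
      refine ⟨x, ?_, ?_⟩
      · show (Ext.mk₀ (c₁ U U')).comp x (zero_add i) = y₁
        rw [c₁_comp, hx, ← Ext.biprodAddEquiv_apply_fst, AddEquiv.apply_symm_apply]
      · show (Ext.mk₀ (c₂ U U')).comp x (zero_add i) = y₂
        rw [c₂_comp, hx, ← Ext.biprodAddEquiv_apply_snd, AddEquiv.apply_symm_apply]
    · rintro ⟨x, hx₁, hx₂⟩
      have hx₁' : (Ext.mk₀ (c₁ U U')).comp x (zero_add i) = y₁ := hx₁
      have hx₂' : (Ext.mk₀ (c₂ U U')).comp x (zero_add i) = y₂ := hx₂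
      show (Ext.mk₀ (a₁ U U')).comp y₁ (zero_add i) - (Ext.mk₀ (a₂ U U')).comp y₂ (zero_add i) = 0
      rw [← hx₁', ← hx₂', Ext.mk₀_comp_mk₀_assoc, Ext.mk₀_comp_mk₀_assoc, a_c, sub_self]
  · intro w
    constructor
    · intro h
      obtain ⟨x₂, hx₂⟩ := Ext.contravariant_sequence_exact₁ hS F w
        (show 1 + i = i + 1 by omega) h
      refine ⟨Ext.biprodAddEquiv x₂, ?_⟩
      have key := f_comp (U := U) (U' := U') (Ext.biprodAddEquiv x₂).1 (Ext.biprodAddEquiv x₂).2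
      rw [show ((Ext.biprodAddEquiv x₂).1, (Ext.biprodAddEquiv x₂).2) = Ext.biprodAddEquiv x₂
        from rfl, AddEquiv.symm_apply_apply, hx₂] at key
      exact key.symm
    · rintro ⟨⟨y₁, y₂⟩, rfl⟩
      show hS.extClass.comp ((Ext.mk₀ (a₁ U U')).comp y₁ (zero_add i) -
        (Ext.mk₀ (a₂ U U')).comp y₂ (zero_add i)) (show 1 + i = i + 1 by omega) = 0
      rw [← f_comp]
      exact hS.extClass_comp_assoc _
  · intro x
    constructor
    · rintro ⟨h₁, h₂⟩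
      have hx : (Ext.mk₀ (seq U U').g).comp x (zero_add (i + 1)) = 0 := by
        apply Ext.biprod_ext
        · rw [← c₁_comp, Ext.comp_zero]
          exact h₁
        · rw [← c₂_comp, Ext.comp_zero]
          exact h₂
      exact Ext.contravariant_sequence_exact₃ hS F x hx (show 1 + i = i + 1 by omega)
    · rintro ⟨w, rfl⟩
      constructor
      · show (Ext.mk₀ (c₁ U U')).comp (hS.extClass.comp w (show 1 + i = i + 1 by omega)) (zero_add (i + 1)) = 0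
        rw [c₁_comp, hS.comp_extClass_assoc, Ext.comp_zero]
      · show (Ext.mk₀ (c₂ U U')).comp (hS.extClass.comp w (show 1 + i = i + 1 by omega)) (zero_add (i + 1)) = 0
        rw [c₂_comp, hS.comp_extClass_assoc, Ext.comp_zero]

end Groth.Agent.Helper6.ZqMV
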